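import Cfsg.Agent.SylowSp4.Duo

/-!
# Commuting pairs and triples of `t`-type involutions

`pairs` : the commuting pairs of distinct conjugates of `t` are all conjugate to `(t, s)`.
`core_ts` : `O(C(t) ∩ C(s)) = O(C(t)) ∩ C(s)`, and the version `core_pair` for all commuting pairs.
-/

set_option autoImplicit false

namespace Cfsg.Agent.SylowSp4.Pairs

open QuaternionGroup Cfsg.Agent.SylowSp4.Coord Cfsg.Agent.SylowSp4.Pat Subgroup
open Cfsg.Agent.Walter.OddCoreIn Cfsg.Agent.SylowSp4.DuoFacts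

section General

variable {G : Type*} [Group G]

theorem mem_Cn {a x : G} : x ∈ Cn a ↔ x * a = a * x := mem_centralizer_singleton_iff

theorem mem_Cn_conj {a x g : G} (h : x ∈ Cn a) : g * x * g⁻¹ ∈ Cn (g * a * g⁻¹) := by
  rw [mem_Cn] at h ⊢
  have : g * x * g⁻¹ * (g * a * g⁻¹) = g * (x * a) * g⁻¹ := by group
  rw [this, h]
  group

theorem mem_Cn_conj_iff {a x g : G} : g * x * g⁻¹ ∈ Cn (g * a * g⁻¹) ↔ x ∈ Cn a := by
  refine ⟨fun h => ?_, mem_Cn_conj⟩
  have := mem_Cn_conj (g := g⁻¹) h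
  simpa [mul_assoc] using this

theorem Cn_conj (a g : G) : Cn (g * a * g⁻¹) = (Cn a).map (MulAut.conj g).toMonoidHom := by
  ext x
  rw [mem_map]
  constructor
  · intro h
    refine ⟨g⁻¹ * x * g, ?_, by simp [mul_assoc]⟩
    rw [← mem_Cn_conj_iff (g := g)]
    simpa [mul_assoc] using h
  · rintro ⟨y, hy, rfl⟩
    exact mem_Cn_conj hy

/-- The core of a conjugate subgroup. -/
theorem OO_conj (M : Subgroup G) (g : G) [Finite G] :
    OO (M.map (MulAut.conj g).toMonoidHom) = (OO M).map (MulAut.conj g).toMonoidHom := by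
  have key : ∀ (M : Subgroup G) (g : G), (OO M).map (MulAut.conj g).toMonoidHom ≤
      OO (M.map (MulAut.conj g).toMonoidHom) := by
    intro M g
    refine le_OO (map_mono (OO_le M)) ?_ ?_
    · rw [le_normalizer_iff']
      rintro _ ⟨a, ha, rfl⟩ _ ⟨x, hx, rfl⟩
      refine ⟨a * x * a⁻¹, conj_mem (le_normalizer_OO M) ha hx, ?_⟩
      simp [mul_assoc]
    · rw [card_map_of_injective (MulAut.conj g).injective]
      exact OO_odd M
  refine le_antisymm ?_ (key M g)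
  have h1 := key (M.map (MulAut.conj g).toMonoidHom) g⁻¹
  have h2 : (M.map (MulAut.conj g).toMonoidHom).map (MulAut.conj g⁻¹).toMonoidHom = M := by
    rw [Subgroup.map_map]
    convert Subgroup.map_id M
    ext x
    simp [mul_assoc]
  rw [h2] at h1
  intro x hx
  refine ⟨g⁻¹ * x * g, h1 ⟨x, hx, by simp⟩, by simp [mul_assoc]⟩

theorem mem_OO_conj [Finite G] {a x g : G} (h : x ∈ OO (Cn a)) : g * x * g⁻¹ ∈ OO (Cn (g * a * g⁻¹)) := by
  rw [Cn_conj, OO_conj]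
  exact ⟨x, h, rfl⟩

theorem mem_OO_conj_iff [Finite G] {a x g : G} : g * x * g⁻¹ ∈ OO (Cn (g * a * g⁻¹)) ↔ x ∈ OO (Cn a) := by
  refine ⟨fun h => ?_, mem_OO_conj⟩
  have := mem_OO_conj (g := g⁻¹) h
  simpa [mul_assoc] using this

/-- An odd order element which moves `y` at most by a central involution `z` fixes it. -/
theorem fix_of_odd {h y z : G} (hz : ∀ x, z * x = x * z) (hz1 : z ≠ 1) (hz2 : z * z = 1) (ho : Odd (orderOf h))
    (hy : h * y * h⁻¹ = y ∨ h * y * h⁻¹ = z * y) : h * y = y * h := by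
  rcases hy with hy | hy
  · rw [mul_inv_eq_iff_eq_mul] at hy; exact hy
  · exfalso
    have key : ∀ n : ℕ, h ^ n * y * (h ^ n)⁻¹ = z ^ n * y := by
      intro n
      induction n with
      | zero => simp
      | succ n ih =>
        have e : h ^ (n + 1) * y * (h ^ (n + 1))⁻¹ = h ^ n * (h * y * h⁻¹) * (h ^ n)⁻¹ := by rw [pow_succ]; group
        rw [e, hy, pow_succ', mul_assoc z]
        calc h ^ n * (z * y) * (h ^ n)⁻¹ = (h ^ n * z) * y * (h ^ n)⁻¹ := by group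
          _ = (z * h ^ n) * y * (h ^ n)⁻¹ := by rw [hz]
          _ = z * (h ^ n * y * (h ^ n)⁻¹) := by group
          _ = _ := by rw [ih]
    have h1 := key (orderOf h)
    rw [pow_orderOf_eq_one, one_mul, inv_one, mul_one] at h1
    obtain ⟨m, hm⟩ := ho
    rw [hm, pow_succ, pow_mul, pow_two, hz2, one_pow, one_mul] at h1
    exact hz1 (mul_eq_right.1 h1.symm)

/-- A 2-subgroup of `M ≥ P` is conjugate in `M` into `P`. -/
theorem conj_into [Finite G] (P : Sylow 2 G) {M T : Subgroup G} (hPM : (P : Subgroup G) ≤ M)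
    (hT : IsPGroup 2 T) (hTM : T ≤ M) : ∃ m ∈ M, ∀ x ∈ T, m * x * m⁻¹ ∈ P := by
  have hT' : IsPGroup 2 (T.subgroupOf M) := hT.of_equiv (subgroupOfEquivOfLe hTM).symm
  obtain ⟨R, hR⟩ := hT'.exists_le_sylow
  obtain ⟨g, hg⟩ := MulAction.exists_smul_eq M R (P.subtype hPM)
  refine ⟨g, g.2, fun x hx => ?_⟩
  have h1 : (⟨x, hTM hx⟩ : M) ∈ R := hR (mem_subgroupOf.2 hx)
  have h2 : g * ⟨x, hTM hx⟩ * g⁻¹ ∈ P.subtype hPM := by
    rw [← hg]
    have := Subgroup.smul_mem_pointwise_smul _ (MulAut.conj g) _ h1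
    change _ ∈ ((g • R : Sylow 2 M) : Subgroup M)
    rw [Sylow.coe_subgroup_smul]
    simpa using this
  exact h2

theorem isPGroup_zpowers_of_sq {x : G} (hx : x * x = 1) : IsPGroup 2 (zpowers x) := by
  rintro ⟨_, n, rfl⟩
  refine ⟨1, Subtype.ext ?_⟩
  change (x ^ n) ^ (2 ^ 1) = 1
  rw [← zpow_natCast, ← zpow_mul, mul_comm, zpow_mul]
  norm_num
  rw [pow_two, hx, one_zpow]

end General

section Pat

variable {G : Type*} [Group G] [Finite G] {P : Sylow 2 G} {k : ℕ} {f : Q k → Q k → G} {s : G} (p : Pat P k f s)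

include p

omit [Finite G] in
theorem s_ne_t : s ≠ tt f := p.h.s_ne _ _

omit [Finite G] in
theorem s_comm_t : s ∈ Cn (tt f) := s_mem p

omit [Finite G] in
theorem t_sq : tt f * tt f = 1 := p.h.t_sq

omit [Finite G] in
theorem s_sq : s * s = 1 := p.h.s_s

omit [Finite G] in
/-- Conjugates of `t` are involutions. -/
theorem sq_of_conj {a : G} (ha : IsConj (tt f) a) : a * a = 1 := by
  obtain ⟨g, rfl⟩ := isConj_iff.1 ha
  have : g * tt f * g⁻¹ * (g * tt f * g⁻¹) = g * (tt f * tt f) * g⁻¹ := by group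
  rw [this, t_sq p]; group

omit [Finite G] in
theorem ne_one_of_conj {a : G} (ha : IsConj (tt f) a) : a ≠ 1 := by
  rintro rfl
  obtain ⟨g, hg⟩ := isConj_iff.1 ha
  apply p.h.t_ne_one
  have : g * tt f * g⁻¹ = 1 := hg
  rwa [mul_inv_eq_one, mul_eq_left] at this

/-- A 2-subgroup of `C(t) ∩ C(s)` is conjugate, in `C(t) ∩ C(s)`, into `P`. -/
theorem conj_into_ts {T : Subgroup G} (hT : IsPGroup 2 T) (hTt : T ≤ Cn (tt f)) (hTs : T ≤ Cn s) :
    ∃ c ∈ Cn (tt f), c ∈ Cn s ∧ ∀ x ∈ T, c * x * c⁻¹ ∈ P := by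
  have h2 : IsPGroup 2 (T ⊔ zpowers s : Subgroup G) := by
    refine hT.to_sup_of_normal_right' (isPGroup_zpowers_of_sq (s_sq p)) ?_
    intro x hx
    rw [mem_normalizer_iff]
    have hc := mem_Cn.1 (hTs hx)
    intro y
    have e : x * y * x⁻¹ = MulAut.conj x y := rfl
    have hs : MulAut.conj x s = s := by
      change x * s * x⁻¹ = s
      rw [hc, mul_inv_cancel_right]
    constructor
    · rintro ⟨n, rfl⟩
      refine ⟨n, ?_⟩
      change s ^ n = x * s ^ n * x⁻¹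
      rw [e, map_zpow, hs]
    · rintro ⟨n, hn⟩
      refine ⟨n, ?_⟩
      apply (MulAut.conj x).injective
      change MulAut.conj x (s ^ n) = x * y * x⁻¹
      rw [map_zpow, hs]; exact hn
  have h3 : T ⊔ zpowers s ≤ Cn (tt f) := sup_le hTt ((zpowers_le).2 (s_comm_t p))
  obtain ⟨m, hm, hmT⟩ := conj_into P (P_le p) h2 h3
  have hms : m * s * m⁻¹ ∈ P := hmT s ((le_sup_right : zpowers s ≤ _) (mem_zpowers s))
  have hsq : (m * s * m⁻¹) * (m * s * m⁻¹) = 1 := by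
    have : (m * s * m⁻¹) * (m * s * m⁻¹) = m * (s * s) * m⁻¹ := by group
    rw [this, s_sq p]; group
  have hcj : IsConj (tt f) (m * s * m⁻¹) := p.ts.trans (isConj_iff.2 ⟨m, rfl⟩)
  have hmt := mem_Cn.1 hm
  rcases (p.t_iff hms hsq (ne_one_of_conj p hcj)).1 hcj with h | ⟨α, h⟩
  · exfalso
    apply s_ne_t p
    have : m * s = m * tt f := by
      rw [mul_inv_eq_iff_eq_mul] at h
      rw [h, hmt]
    exact mul_left_cancel this
  · have hα := Facts.conj_s p.h α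
    have hf : f α 1 ∈ (P : Subgroup G) := p.h.f_mem α 1
    refine ⟨(f α 1)⁻¹ * m, mul_mem (inv_mem (f_mem p α 1)) hm, ?_, ?_⟩
    · rw [mem_Cn]
      have h5 : m * s = f α 1 * s * (f α 1)⁻¹ * m := by
        rw [hα, ← h]; group
      rw [mul_assoc, h5]; group
    · intro x hx
      have h6 := mul_mem (mul_mem (inv_mem hf) (hmT x ((le_sup_left : T ≤ _) hx))) hf
      have : (f α 1)⁻¹ * m * x * ((f α 1)⁻¹ * m)⁻¹ = (f α 1)⁻¹ * (m * x * m⁻¹) * f α 1 := by group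
      rw [this]; exact h6

/-- All commuting pairs of distinct conjugates of `t` are conjugate. -/
theorem pairs {a b : G} (ha : IsConj (tt f) a) (hb : IsConj (tt f) b) (hab : a * b = b * a) (hne : a ≠ b) :
    ∃ g, g * a * g⁻¹ = tt f ∧ g * b * g⁻¹ = s := by
  obtain ⟨g, hg⟩ := isConj_iff.1 ha.symm
  set b1 := g * b * g⁻¹ with hb1
  have hb1t : b1 ∈ Cn (tt f) := by
    rw [← hg]
    exact mem_Cn_conj (mem_Cn.2 hab.symm)
  have hb1c : IsConj (tt f) b1 := hb.trans (isConj_iff.2 ⟨g, rfl⟩)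
  obtain ⟨m, hm, hmT⟩ := conj_into P (P_le p) (isPGroup_zpowers_of_sq (sq_of_conj p hb1c)) ((zpowers_le).2 hb1t)
  have hmb := hmT b1 (mem_zpowers b1)
  have hcj : IsConj (tt f) (m * b1 * m⁻¹) := hb1c.trans (isConj_iff.2 ⟨m, rfl⟩)
  have hmt := mem_Cn.1 hm
  rcases (p.t_iff hmb (sq_of_conj p hcj) (ne_one_of_conj p hcj)).1 hcj with h | ⟨α, h⟩
  · exfalso
    apply hne
    have h1 : b1 = tt f := by
      rw [mul_inv_eq_iff_eq_mul, ← hmt] at h
      exact mul_left_cancel h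
    have h2 : g * a * g⁻¹ = g * b * g⁻¹ := by rw [hg, ← h1]
    exact mul_left_cancel (mul_right_cancel h2)
  · have hα := Facts.conj_s p.h α
    have hft := mem_Cn.1 (f_mem p α 1)
    refine ⟨(f α 1)⁻¹ * m * g, ?_, ?_⟩
    · have e : (f α 1)⁻¹ * m * g * a * ((f α 1)⁻¹ * m * g)⁻¹ = (f α 1)⁻¹ * (m * (g * a * g⁻¹)) * m⁻¹ * f α 1 := by
        group
      rw [e, hg, hmt]
      have e2 : (f α 1)⁻¹ * (tt f * m) * m⁻¹ * f α 1 = (f α 1)⁻¹ * (tt f * f α 1) := by group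
      rw [e2, ← hft]; group
    · have e : (f α 1)⁻¹ * m * g * b * ((f α 1)⁻¹ * m * g)⁻¹ = (f α 1)⁻¹ * (m * b1 * m⁻¹) * f α 1 := by
        rw [hb1]; group
      rw [e, h, ← hα]; group

end Pat

section Core

variable {G : Type*} [Group G] [Finite G] {P : Sylow 2 G} {k : ℕ} {f : Q k → Q k → G} {s : G}
  {H L : Type*} [Group H] [Group L] {π : Cn (tt f) →* H} {D : Duo H L} {ι : Q k →* L} {Φ : Subgroup H}

/-- Elements of `H` commuting with `w` lift to `C(t) ∩ C(s)`. -/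
theorem lift_s (p : Pat P k f s) (c : Cent k f s π D ι Φ) {h : H} (hh : h * D.w = D.w * h) :
    ∃ x : Cn (tt f), π x = h ∧ (x : G) ∈ Cn s := by
  obtain ⟨x, rfl⟩ := c.surj h
  rw [← c.hw (s_mem p)] at hh
  obtain ⟨κ, hκ, -, hc⟩ := Lift.exists_comm_lift π (card_ker c) (w := ⟨s, s_mem p⟩) (x := x)
    (Subtype.ext (s_sq p)) hh
  refine ⟨κ * x, ?_, ?_⟩
  · rw [map_mul, hκ, one_mul]
  · rw [mem_Cn]
    exact congrArg Subtype.val hc

/-- `L` has no odd order normal subgroup modulo `⟨ζ⟩`. -/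
def NoOdd {L : Type*} [Group L] (ζ : L) : Prop :=
  ∀ M : Subgroup L, M.Normal → (∀ a ∈ M, ∃ m, Odd m ∧ (a ^ m = 1 ∨ a ^ m = ζ)) → ∀ a ∈ M, a = 1 ∨ a = ζ

omit [Finite G] in
theorem z_ne (D : Duo H L) : D.φ₁ D.ζ ≠ 1 := by
  intro h
  exact D.ζ_ne (inj₁ D (h.trans (map_one _).symm))

omit [Finite G] in
theorem z_sq (D : Duo H L) : D.φ₁ D.ζ * D.φ₁ D.ζ = 1 := by
  rw [← map_mul, D.ζζ, map_one]

/-- `O(C(t) ∩ C(s)) ≤ O(C(t))`. -/
theorem core_ts_le (p : Pat P k f s) (c : Cent k f s π D ι Φ) (hO : NoOdd D.ζ) :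
    OO (Cn (tt f) ⊓ Cn s) ≤ OO (Cn (tt f)) := by
  have hNle : OO (Cn (tt f) ⊓ Cn s) ≤ Cn (tt f) := (OO_le _).trans inf_le_left
  have : Finite H := Finite.of_surjective π c.surj
  -- the image of `N`
  set NH : Subgroup H := ((OO (Cn (tt f) ⊓ Cn s)).subgroupOf (Cn (tt f))).map π with hNH
  have hmem : ∀ (n : G) (hn : n ∈ OO (Cn (tt f) ⊓ Cn s)), π ⟨n, hNle hn⟩ ∈ NH := fun n hn =>
    ⟨⟨n, hNle hn⟩, mem_subgroupOf.2 hn, rfl⟩
  have hodd : ∀ h ∈ NH, Odd (orderOf h) := by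
    rintro _ ⟨x, hx, rfl⟩
    have h1 : orderOf (π x) ∣ orderOf (x : G) := by
      rw [Subgroup.orderOf_coe]; exact orderOf_map_dvd π x
    have h2 : orderOf (x : G) ∣ Nat.card (OO (Cn (tt f) ⊓ Cn s)) := by
      have h3 : orderOf (⟨(x : G), mem_subgroupOf.1 hx⟩ : OO (Cn (tt f) ⊓ Cn s)) ∣ _ := orderOf_dvd_natCard _
      rwa [Subgroup.orderOf_mk] at h3
    have h4 : Odd (Nat.card (OO (Cn (tt f) ⊓ Cn s))) :=
      Nat.not_even_iff_odd.1 fun h => OO_odd _ h.two_dvd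
    exact h4.of_dvd_nat (h1.trans h2)
  have hw : ∀ h ∈ NH, h * D.w = D.w * h := by
    rintro _ ⟨x, hx, rfl⟩
    rw [← c.hw (s_mem p), ← map_mul, ← map_mul]
    congr 1
    exact Subtype.ext (mem_Cn.1 ((OO_le _) (mem_subgroupOf.1 hx)).2)
  have hnorm : ∀ (x : Cn (tt f)), (x : G) ∈ Cn s → ∀ h ∈ NH, π x * h * (π x)⁻¹ ∈ NH := by
    rintro x hx _ ⟨y, hy, rfl⟩
    refine ⟨x * y * x⁻¹, ?_, by rw [map_mul, map_mul, map_inv]⟩
    exact conj_mem (le_normalizer_OO (Cn (tt f) ⊓ Cn s)) ⟨x.2, hx⟩ (mem_subgroupOf.1 hy)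
  have hnδ : ∀ b : L, ∀ h ∈ NH, δ D b * h * (δ D b)⁻¹ ∈ NH := by
    intro b h hh
    obtain ⟨x, hx, hxs⟩ := lift_s p c (h := δ D b) (w_δ D b).symm
    rw [← hx]
    exact hnorm x hxs h hh
  -- the intersection with the diagonal is trivial
  have hδ : ∀ a : L, δ D a ∈ NH → δ D a = 1 := by
    intro a ha
    rw [δ_eq_one_iff]
    refine hO (NH.comap (δ D)) ⟨fun x hx g => ?_⟩ ?_ a ha
    · rw [mem_comap, map_mul, map_mul, map_inv]
      exact hnδ g _ hx
    · intro x hx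
      refine ⟨orderOf (δ D x), hodd _ hx, ?_⟩
      rw [← δ_eq_one_iff D, map_pow, pow_orderOf_eq_one]
  -- `NH` centralises everything
  have hcen : ∀ h ∈ NH, h = 1 := by
    intro h hh
    have hho := hodd h hh
    have hhw := hw h hh
    have hwh : D.w * h * D.w = h := by rw [← hhw, mul_assoc, D.ww, mul_one]
    have hfix : ∀ b, h * D.φ₁ b = D.φ₁ b * h := by
      intro b
      obtain ⟨b', hb'⟩ := (norm_of_odd c hho).1 b
      have hb2 : h * D.φ₂ b * h⁻¹ = D.φ₂ b' := by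
        have hi : D.w * h⁻¹ * D.w = h⁻¹ := by
          have := congrArg (·⁻¹) hwh
          simp only [mul_inv_rev, w_inv] at this
          rw [mul_assoc]; exact this
        calc h * D.φ₂ b * h⁻¹ = h * (D.w * D.φ₁ b * D.w) * (D.w * h⁻¹ * D.w) := by rw [D.conj, hi]
          _ = h * D.w * D.φ₁ b * (D.w * D.w) * h⁻¹ * D.w := by group
          _ = D.w * (h * D.φ₁ b * h⁻¹) * D.w := by rw [D.ww, hhw]; group
          _ = _ := by rw [hb', D.conj]
      have h1 : h * δ D b * h⁻¹ = δ D b' := by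
        rw [δ_apply, δ_apply, ← hb', ← hb2]; group
      have h2 : δ D (b' * b⁻¹) ∈ NH := by
        rw [map_mul, map_inv, ← h1]
        have : h * δ D b * h⁻¹ * (δ D b)⁻¹ = h * (δ D b * h⁻¹ * (δ D b)⁻¹) := by group
        rw [this]
        exact mul_mem hh (hnδ b _ (inv_mem hh))
      have h3 := (δ_eq_one_iff D).1 (hδ _ h2)
      refine fix_of_odd (z := D.φ₁ D.ζ) (fun x => DuoFacts.z_comm c x) (z_ne D) (z_sq D) hho ?_
      rcases h3 with h3 | h3
      · left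
        rw [hb', mul_inv_eq_one.1 h3]
      · right
        rw [hb', mul_inv_eq_iff_eq_mul.1 h3, map_mul]
    have hfix2 : ∀ b, h * D.φ₂ b = D.φ₂ b * h := by
      intro b
      rw [← D.conj]
      calc h * (D.w * D.φ₁ b * D.w) = (h * D.w) * D.φ₁ b * D.w := by group
        _ = D.w * (h * D.φ₁ b) * D.w := by rw [hhw]; group
        _ = D.w * D.φ₁ b * (h * D.w) := by rw [hfix]; group
        _ = D.w * D.φ₁ b * D.w * h := by rw [hhw]; group
    rcases c.cen h hfix hfix2 with h1 | h1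
    · exact h1
    · exfalso
      have h2 : orderOf h = 2 := by
        rw [h1]
        exact orderOf_eq_prime (by rw [pow_two]; exact z_sq D) (z_ne D)
      rw [h2] at hho
      exact absurd hho (by decide)
  intro n hn
  have := hcen _ (hmem n hn)
  exact (c.ker _).1 this

/-- `O(C(t) ∩ C(s)) = O(C(t)) ∩ C(s)`. -/
theorem core_ts (p : Pat P k f s) (c : Cent k f s π D ι Φ) (hO : NoOdd D.ζ) :
    OO (Cn (tt f) ⊓ Cn s) = OO (Cn (tt f)) ⊓ Cn s := by
  refine le_antisymm (le_inf (core_ts_le p c hO) ((OO_le _).trans inf_le_right)) ?_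
  refine le_OO (inf_le_inf_right _ (OO_le _)) ?_ (not_dvd_of_le inf_le_left (OO_odd _))
  rw [le_normalizer_iff']
  intro a ha x hx
  exact ⟨conj_mem (le_normalizer_OO _) ha.1 hx.1, (Cn s).mul_mem ((Cn s).mul_mem ha.2 hx.2) ((Cn s).inv_mem ha.2)⟩

/-- **(A')** for all commuting pairs of conjugates of `t`. -/
theorem core_pair (p : Pat P k f s) (c : Cent k f s π D ι Φ) (hO : NoOdd D.ζ) {a b : G}
    (ha : IsConj (tt f) a) (hb : IsConj (tt f) b) (hab : a * b = b * a) (hne : a ≠ b) :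
    OO (Cn a ⊓ Cn b) = OO (Cn a) ⊓ Cn b := by
  obtain ⟨g, hga, hgb⟩ := pairs p ha hb hab hne
  have h1 := core_ts p c hO
  rw [← hga, ← hgb, Cn_conj, Cn_conj, ← Subgroup.map_inf _ _ _ (MulAut.conj g).injective, OO_conj, OO_conj,
    ← Subgroup.map_inf _ _ _ (MulAut.conj g).injective] at h1
  exact Subgroup.map_injective (MulAut.conj g).injective h1

/-- `O(C(a)) ∩ C(b) = O(C(b)) ∩ C(a)`. -/
theorem core_symm (p : Pat P k f s) (c : Cent k f s π D ι Φ) (hO : NoOdd D.ζ) {a b : G}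
    (ha : IsConj (tt f) a) (hb : IsConj (tt f) b) (hab : a * b = b * a) (hne : a ≠ b) :
    OO (Cn a) ⊓ Cn b = OO (Cn b) ⊓ Cn a := by
  rw [← core_pair p c hO ha hb hab hne, ← core_pair p c hO hb ha hab.symm hne.symm, inf_comm]

end Core

end Cfsg.Agent.SylowSp4.Pairs
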