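import Cfsg.Agent.Lib.AutSL2Out
import Cfsg.Agent.ClassicalGeometry.SLTwoFour
import Cfsg.Agent.ClassicalGeometry.PSL2Klein

/-!
# Facts on `SL(2,F)`, `F` a finite field of odd order

`x₀`, `y` in `SL(2,F)` with `x₀² = y² = -1`, `y x₀ y⁻¹ = x₀⁻¹`.

* `exists_ab` : the elements commuting with `x₀` are `a + b x₀`;
* `aut_eq_one` (T1): an automorphism fixing `y` and all elements commuting with `x₀` is trivial.
-/

set_option autoImplicit false

namespace Cfsg.Agent.SylowSp4.SLFacts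

open Matrix Subgroup
open Cfsg.Agent.ClassicalGeometry.SLTwoFour (ext2 det2 mul00 mul01 mul10 mul11 two_ne_zero_of_odd neg_ij
  one00 one01 one10 one11 trace_of_mul_self exists_conj_w)
open Cfsg.Agent.Lib.SL2Mat (conjGL conjGL_val fieldAut)

variable {F : Type*} [Field F]

local notation "SL2" => Matrix.SpecialLinearGroup (Fin 2)

omit [Field F] in
theorem mext {A B : Matrix (Fin 2) (Fin 2) F} (h00 : A 0 0 = B 0 0) (h01 : A 0 1 = B 0 1)
    (h10 : A 1 0 = B 1 0) (h11 : A 1 1 = B 1 1) : A = B := by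
  ext i j
  fin_cases i <;> fin_cases j <;> assumption

theorem mmul (A B : Matrix (Fin 2) (Fin 2) F) (i j : Fin 2) :
    (A * B) i j = A i 0 * B 0 j + A i 1 * B 1 j := by
  rw [Matrix.mul_apply, Fin.sum_univ_two]

theorem inv_eq_neg {x : SL2 F} (hx : x * x = -1) : x⁻¹ = -x := by
  rw [inv_eq_iff_mul_eq_one, mul_neg, hx, neg_neg]

/-- A matrix commuting with an element `X` of square `-1` is `a + b X`. -/
theorem exists_ab_mat (h2 : (2 : F) ≠ 0) {X : SL2 F} (hX : X * X = -1) {M : Matrix (Fin 2) (Fin 2) F}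
    (hc : X.1 * M = M * X.1) : ∃ a b : F, M = a • (1 : Matrix (Fin 2) (Fin 2) F) + b • X.1 := by
  have ht : X.1 0 0 + X.1 1 1 = 0 := trace_of_mul_self X hX
  have hd : X.1 0 0 * X.1 1 1 - X.1 0 1 * X.1 1 0 = 1 := det2 X
  have e00 := congrFun (congrFun hc 0) 0
  have e01 := congrFun (congrFun hc 0) 1
  have e10 := congrFun (congrFun hc 1) 0
  rw [mmul, mmul] at e00 e01 e10
  set p := X.1 0 0
  set q := X.1 0 1
  set r := X.1 1 0
  set s := X.1 1 1
  have hs : s = -p := by linear_combination ht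
  rw [hs] at hd e01 e10
  refine ⟨(M 0 0 + M 1 1) / 2, -(p * (M 0 0 - M 1 1) + q * M 1 0 + r * M 0 1) / 2, mext ?_ ?_ ?_ ?_⟩
  · change M 0 0 = (M 0 0 + M 1 1) / 2 * (1 : Matrix (Fin 2) (Fin 2) F) 0 0 + _ / 2 * p
    rw [Matrix.one_apply_eq]
    field_simp
    linear_combination (-(M 0 0 - M 1 1)) * hd + r * e01 + p * e00
  · change M 0 1 = (M 0 0 + M 1 1) / 2 * (1 : Matrix (Fin 2) (Fin 2) F) 0 1 + _ / 2 * q
    rw [Matrix.one_apply_ne (by decide)]
    field_simp
    linear_combination (-2 * M 0 1) * hd - p * e01 + q * e00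
  · change M 1 0 = (M 0 0 + M 1 1) / 2 * (1 : Matrix (Fin 2) (Fin 2) F) 1 0 + _ / 2 * r
    rw [Matrix.one_apply_ne (by decide)]
    field_simp
    linear_combination (-2 * M 1 0) * hd + p * e10 - r * e00
  · change M 1 1 = (M 0 0 + M 1 1) / 2 * (1 : Matrix (Fin 2) (Fin 2) F) 1 1 + _ / 2 * s
    rw [Matrix.one_apply_eq, hs]
    field_simp
    linear_combination (M 0 0 - M 1 1) * hd - r * e01 - p * e00


theorem det_ab {X : SL2 F} (hX : X * X = -1) (a b : F) :
    (a • (1 : Matrix (Fin 2) (Fin 2) F) + b • X.1).det = a ^ 2 + b ^ 2 := by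
  have ht : X.1 0 0 + X.1 1 1 = 0 := trace_of_mul_self X hX
  have hd : X.1 0 0 * X.1 1 1 - X.1 0 1 * X.1 1 0 = 1 := det2 X
  rw [Matrix.det_fin_two]
  simp only [Matrix.add_apply, Matrix.smul_apply, Matrix.one_apply_eq, smul_eq_mul, mul_one, ne_eq,
    zero_ne_one, one_ne_zero, not_false_eq_true, Matrix.one_apply_ne, mul_zero, zero_add]
  linear_combination b ^ 2 * hd + a * b * ht

/-- The element `a + b X` of `SL(2,F)`. -/
def ab {X : SL2 F} (hX : X * X = -1) (a b : F) (h : a ^ 2 + b ^ 2 = 1) : SL2 F :=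
  ⟨a • (1 : Matrix (Fin 2) (Fin 2) F) + b • X.1, (det_ab hX a b).trans h⟩

theorem ab_val {X : SL2 F} (hX : X * X = -1) (a b : F) (h : a ^ 2 + b ^ 2 = 1) :
    (ab hX a b h).1 = a • (1 : Matrix (Fin 2) (Fin 2) F) + b • X.1 := rfl

/-- The elements commuting with `X` are the `a + b X`. -/
theorem exists_ab (h2 : (2 : F) ≠ 0) {X : SL2 F} (hX : X * X = -1) {g : SL2 F} (hc : g * X = X * g) :
    ∃ (a b : F) (h : a ^ 2 + b ^ 2 = 1), g = ab hX a b h := by
  obtain ⟨a, b, hab⟩ := exists_ab_mat h2 hX (M := g.1) (by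
    have := congrArg Subtype.val hc
    exact this.symm)
  have h : a ^ 2 + b ^ 2 = 1 := by
    rw [← det_ab hX a b, ← hab]; exact g.2
  exact ⟨a, b, h, Subtype.ext hab⟩

theorem lin_comm (A : Matrix (Fin 2) (Fin 2) F) (a b c d : F) :
    (a • (1 : Matrix (Fin 2) (Fin 2) F) + b • A) * (c • (1 : Matrix (Fin 2) (Fin 2) F) + d • A) =
    (c • (1 : Matrix (Fin 2) (Fin 2) F) + d • A) * (a • (1 : Matrix (Fin 2) (Fin 2) F) + b • A) := by
  simp only [Matrix.mul_add, Matrix.add_mul, Matrix.smul_mul, Matrix.mul_smul, Matrix.one_mul, Matrix.mul_one]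
  module

theorem lin_inv {A : Matrix (Fin 2) (Fin 2) F} (hA : A * A = -1) {a b : F} (h : a ^ 2 + b ^ 2 = 1) :
    (a • (1 : Matrix (Fin 2) (Fin 2) F) + b • A) * (a • (1 : Matrix (Fin 2) (Fin 2) F) + (-b) • A) = 1 := by
  simp only [Matrix.mul_add, Matrix.add_mul, Matrix.smul_mul, Matrix.mul_smul, Matrix.one_mul, Matrix.mul_one, hA]
  have : (1 : Matrix (Fin 2) (Fin 2) F) = (a ^ 2 + b ^ 2) • (1 : Matrix (Fin 2) (Fin 2) F) := by rw [h, one_smul]
  conv_rhs => rw [this]
  module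

theorem ab_comm {X : SL2 F} (hX : X * X = -1) {a b c d : F} (h : a ^ 2 + b ^ 2 = 1) (h' : c ^ 2 + d ^ 2 = 1) :
    ab hX a b h * ab hX c d h' = ab hX c d h' * ab hX a b h := by
  apply Subtype.ext
  exact lin_comm X.1 a b c d

/-- (T5) elements commuting with `X` commute. -/
theorem comm_of_comm (h2 : (2 : F) ≠ 0) {X : SL2 F} (hX : X * X = -1) {g h : SL2 F} (hg : g * X = X * g)
    (hh : h * X = X * h) : g * h = h * g := by
  obtain ⟨a, b, h1, rfl⟩ := exists_ab h2 hX hg
  obtain ⟨c, d, h3, rfl⟩ := exists_ab h2 hX hh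
  exact ab_comm hX h1 h3

theorem ab_self {X : SL2 F} (hX : X * X = -1) : ab hX 0 1 (by ring) = X := by
  apply Subtype.ext
  rw [ab_val, zero_smul, one_smul, zero_add]

theorem ab_mul_X {X : SL2 F} (hX : X * X = -1) {a b : F} (h : a ^ 2 + b ^ 2 = 1) :
    ab hX a b h * X = X * ab hX a b h := by
  have := ab_comm hX h (c := 0) (d := 1) (by ring)
  rwa [ab_self] at this

theorem mulX_val {X : SL2 F} (hX : X * X = -1) : X.1 * X.1 = -1 := congrArg Subtype.val hX

/-- `(a + b X)(a - b X) = 1` -/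
theorem ab_inv {X : SL2 F} (hX : X * X = -1) {a b : F} (h : a ^ 2 + b ^ 2 = 1) :
    (ab hX a b h)⁻¹ = ab hX a (-b) (by rw [neg_sq]; exact h) := by
  rw [inv_eq_iff_mul_eq_one]
  apply Subtype.ext
  exact lin_inv (mulX_val hX) h

section Inv

variable {X y : SL2 F} (hX : X * X = -1) (hyX : y * X * y⁻¹ = X⁻¹)

include hX hyX

theorem y_mul_X : y * X = -X * y := by
  rw [← inv_eq_neg hX, ← hyX]
  group

theorem yX_val : y.1 * X.1 = -(X.1 * y.1) := by
  have h := congrArg Subtype.val (y_mul_X hX hyX)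
  rw [neg_mul] at h
  exact h

/-- (T5) `y` inverts the elements commuting with `X`. -/
theorem conj_eq_inv (h2 : (2 : F) ≠ 0) {g : SL2 F} (hg : g * X = X * g) : y * g * y⁻¹ = g⁻¹ := by
  obtain ⟨a, b, h, rfl⟩ := exists_ab h2 hX hg
  rw [ab_inv, mul_inv_eq_iff_eq_mul]
  apply Subtype.ext
  change y.1 * (a • (1 : Matrix (Fin 2) (Fin 2) F) + b • X.1) =
    (a • (1 : Matrix (Fin 2) (Fin 2) F) + (-b) • X.1) * y.1
  rw [Matrix.mul_add, Matrix.add_mul, Matrix.mul_smul, Matrix.mul_smul, Matrix.smul_mul, Matrix.smul_mul,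
    yX_val hX hyX, Matrix.mul_one, Matrix.one_mul, smul_neg, neg_smul]

/-- A matrix commuting with `X` and `y` is scalar. -/
theorem scalar_of_comm (h2 : (2 : F) ≠ 0) {M : Matrix (Fin 2) (Fin 2) F} (hc : X.1 * M = M * X.1)
    (hy : y.1 * M = M * y.1) : ∃ a : F, M = a • (1 : Matrix (Fin 2) (Fin 2) F) := by
  obtain ⟨a, b, rfl⟩ := exists_ab_mat h2 hX hc
  refine ⟨a, ?_⟩
  rw [Matrix.mul_add, Matrix.add_mul, Matrix.mul_smul, Matrix.mul_smul, Matrix.smul_mul, Matrix.smul_mul,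
    yX_val hX hyX, Matrix.mul_one, Matrix.one_mul, smul_neg] at hy
  have h1 : (2 * b) • (X.1 * y.1) = 0 := by
    have h3 := add_left_cancel hy
    rw [two_mul, add_smul]
    nth_rewrite 1 [← h3]
    exact neg_add_cancel _
  have h4 : (2 * b) • (1 : Matrix (Fin 2) (Fin 2) F) = 0 := by
    have h5 : (X * y).1 * (X * y)⁻¹.1 = 1 := congrArg Subtype.val (mul_inv_cancel (X * y))
    rw [← h5, ← Matrix.smul_mul]
    have h6 : (X * y).1 = X.1 * y.1 := rfl
    rw [h6, h1, Matrix.zero_mul]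
  have h7 : 2 * b = 0 := by
    have := congrFun (congrFun h4 0) 0
    simpa using this
  have hb : b = 0 := (mul_eq_zero.1 h7).resolve_left h2
  rw [hb, zero_smul, add_zero]

/-- Only `±1` commute with `X` and `y`. -/
theorem eq_one_or_neg_one_of_comm (h2 : (2 : F) ≠ 0) {g : SL2 F} (hg : g * X = X * g) (hy : g * y = y * g) :
    g = 1 ∨ g = -1 := by
  obtain ⟨a, ha⟩ := scalar_of_comm hX hyX h2 (M := g.1) (congrArg Subtype.val hg).symm (congrArg Subtype.val hy).symm
  have hd : (a • (1 : Matrix (Fin 2) (Fin 2) F)).det = 1 := by rw [← ha]; exact g.2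
  rw [Matrix.det_smul, Matrix.det_one, mul_one, Fintype.card_fin] at hd
  have : (a - 1) * (a + 1) = 0 := by linear_combination hd
  rcases mul_eq_zero.1 this with h | h
  · left
    apply Subtype.ext
    rw [ha, sub_eq_zero.1 h, one_smul]; rfl
  · right
    apply Subtype.ext
    rw [ha, eq_neg_of_add_eq_zero_left h, neg_smul, one_smul]; rfl

/-- `y² = -1` is automatic. -/
theorem y_sq (h2 : (2 : F) ≠ 0) : y * y = -1 := by
  have h1 : (y * y) * X = X * (y * y) := by
    rw [mul_assoc, y_mul_X hX hyX, neg_mul, mul_neg, ← mul_assoc, y_mul_X hX hyX, neg_mul, neg_mul, neg_neg, mul_assoc]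
  rcases eq_one_or_neg_one_of_comm hX hyX h2 h1 (mul_assoc y y y) with h | h
  · exfalso
    have h3 : X * X = 1 := by
      rw [mul_eq_one_iff_eq_inv]
      rcases Cfsg.Agent.ClassicalGeometry.SLTwoFour.eq_one_or_neg_one_of_mul_self h2 y h with h4 | h4
      · rw [h4] at hyX; simpa using hyX
      · rw [h4] at hyX
        simpa using hyX
    rw [hX] at h3
    exact Cfsg.Agent.ClassicalGeometry.SLTwoFour.neg_one_ne_one h2 h3
  · exact h

end Inv

/-- A field automorphism fixing the first coordinates of the points of the unit circle is trivial. -/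
theorem ringEquiv_eq_one (h2 : (2 : F) ≠ 0) (σ : F ≃+* F) (h : ∀ a b : F, a ^ 2 + b ^ 2 = 1 → σ a = a) : σ = 1 := by
  have hsq : ∀ r : F, σ (r ^ 2) = r ^ 2 := by
    intro r
    by_cases hr : 1 + r ^ 2 = 0
    · have : r ^ 2 = -1 := by linear_combination hr
      rw [this, map_neg, map_one]
    · have h1 := h ((1 - r ^ 2) / (1 + r ^ 2)) (2 * r / (1 + r ^ 2)) (by field_simp; ring)
      have hr' : 1 + σ (r ^ 2) ≠ 0 := by
        intro h3
        apply hr
        apply σ.injective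
        rw [map_add, map_one, map_zero, h3]
      rw [map_div₀, map_sub, map_add, map_one, div_eq_div_iff hr' hr] at h1
      have h4 : 2 * (σ (r ^ 2) - r ^ 2) = 0 := by linear_combination -h1
      exact sub_eq_zero.1 ((mul_eq_zero.1 h4).resolve_left h2)
  ext r
  have e : r = ((r + 1) / 2) ^ 2 - ((r - 1) / 2) ^ 2 := by field_simp; ring
  change σ r = r
  conv_lhs => rw [e]
  rw [map_sub, hsq, hsq, ← e]

/-- (T1) An automorphism of `SL(2,F)` fixing `y` and all elements commuting with `X` is trivial. -/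
theorem aut_eq_one [Finite F] (h2 : (2 : F) ≠ 0) {X y : SL2 F} (hX : X * X = -1) (hyX : y * X * y⁻¹ = X⁻¹)
    (φ : MulAut (SL2 F)) (hfix : ∀ g, g * X = X * g → φ g = g) (hy : φ y = y) : φ = 1 := by
  obtain ⟨g, σ, rfl⟩ := Cfsg.Agent.Lib.AutSL2Out.exists_eq φ
  have hval : ∀ x : SL2 F, ((conjGL g * fieldAut σ) x).1 = g.1 * (σ.toRingHom.mapMatrix x.1) * g⁻¹.1 := fun _ => rfl
  have hσ : σ = 1 := by
    refine ringEquiv_eq_one h2 σ fun a b hab => ?_
    have h1 := congrArg Subtype.val (hfix (ab hX a b hab) (ab_mul_X hX hab))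
    rw [hval] at h1
    have h3 := congrArg Matrix.trace h1
    rw [Matrix.trace_units_conj] at h3
    have ht : X.1 0 0 + X.1 1 1 = 0 := trace_of_mul_self X hX
    have h4 : (ab hX a b hab).1.trace = 2 * a := by
      rw [Matrix.trace_fin_two, ab_val]
      simp only [Matrix.add_apply, Matrix.smul_apply, Matrix.one_apply_eq, smul_eq_mul, mul_one]
      linear_combination b * ht
    have h5 : (σ.toRingHom.mapMatrix (ab hX a b hab).1).trace = σ ((ab hX a b hab).1.trace) := by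
      rw [Matrix.trace_fin_two, Matrix.trace_fin_two, map_add]
      rfl
    rw [h5, h4, map_mul, map_ofNat] at h3
    exact mul_left_cancel₀ h2 h3
  subst hσ
  have hval' : ∀ x : SL2 F, ((conjGL g * fieldAut (1 : F ≃+* F) : MulAut (SL2 F)) x).1 = g.1 * x.1 * g⁻¹.1 := by
    intro x
    rw [hval]
    congr 2
  have hcomm : ∀ x : SL2 F, (conjGL g * fieldAut (1 : F ≃+* F) : MulAut (SL2 F)) x = x → x.1 * g.1 = g.1 * x.1 := by
    intro x hx
    have h1 := congrArg Subtype.val hx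
    rw [hval'] at h1
    have h3 : g⁻¹.1 * g.1 = 1 := by rw [← Units.val_mul, inv_mul_cancel, Units.val_one]
    calc x.1 * g.1 = (g.1 * x.1 * g⁻¹.1) * g.1 := by rw [h1]
      _ = g.1 * x.1 := by rw [Matrix.mul_assoc, h3, Matrix.mul_one]
  obtain ⟨a, ha⟩ := scalar_of_comm hX hyX h2 (hcomm X (hfix X rfl)) (hcomm y hy)
  apply MulEquiv.ext
  intro x
  apply Subtype.ext
  rw [hval']
  have h4 : g.1 * x.1 = x.1 * g.1 := by
    rw [ha, Matrix.smul_mul, Matrix.mul_smul, Matrix.one_mul, Matrix.mul_one]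
  have h5 : g.1 * g⁻¹.1 = 1 := by rw [← Units.val_mul, mul_inv_cancel, Units.val_one]
  rw [h4, Matrix.mul_assoc, h5, Matrix.mul_one]
  rfl

/-! ### (T4), (T5): the order of `C(X)` -/

theorem mat_pow_card [Fintype F] (A : Matrix (Fin 2) (Fin 2) F) (a b : F) :
    (a • (1 : Matrix (Fin 2) (Fin 2) F) + b • A) ^ Fintype.card F =
      a • (1 : Matrix (Fin 2) (Fin 2) F) + b • A ^ Fintype.card F := by
  obtain ⟨p, n, hp, hq⟩ : ∃ (p : ℕ) (n : ℕ+), Nat.Prime p ∧ Fintype.card F = p ^ (n : ℕ) := by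
    obtain ⟨p, hpc⟩ := CharP.exists F
    obtain ⟨n, hp, hq⟩ := FiniteField.card F p
    exact ⟨p, n, hp, hq⟩
  have : Fact p.Prime := ⟨hp⟩
  have : CharP F p := by
    have h1 : (p : F) ^ (n : ℕ) = 0 := by
      have := Nat.cast_card_eq_zero F
      rw [hq, Nat.cast_pow] at this
      exact this
    have h3 : (p : F) = 0 := by
      simpa using h1
    exact (CharP.charP_iff_prime_eq_zero hp).2 h3
  have : CharP (Matrix (Fin 2) (Fin 2) F) p := inferInstance
  have hc : Commute (a • (1 : Matrix (Fin 2) (Fin 2) F)) (b • A) := by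
    change _ * _ = _ * _
    simp only [Matrix.smul_mul, Matrix.mul_smul, Matrix.one_mul, Matrix.mul_one]
    rw [smul_comm]
  have h1 : ∀ c : F, c ^ Fintype.card F = c := FiniteField.pow_card
  calc (a • (1 : Matrix (Fin 2) (Fin 2) F) + b • A) ^ Fintype.card F
      = (a • (1 : Matrix (Fin 2) (Fin 2) F)) ^ Fintype.card F + (b • A) ^ Fintype.card F := by
        rw [hq]; exact add_pow_char_pow_of_commute _ _ hc
    _ = _ := by rw [smul_pow, smul_pow, one_pow, h1, h1]

theorem pow_card_one [Fintype F] (hq : Fintype.card F % 4 = 1) {X : SL2 F} (hX : X * X = -1) {g : SL2 F}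
    (hg : g * X = X * g) : g ^ Fintype.card F = g := by
  have h2 : (2 : F) ≠ 0 := two_ne_zero_of_odd (Nat.odd_iff.2 (by omega))
  obtain ⟨a, b, h, rfl⟩ := exists_ab h2 hX hg
  have hX4 : X.1 ^ 4 = 1 := by
    rw [show X.1 ^ 4 = (X.1 * X.1) * (X.1 * X.1) by rw [pow_succ, pow_succ, pow_succ, pow_one]; simp only [Matrix.mul_assoc],
      mulX_val hX]
    simp
  apply Subtype.ext
  change (ab hX a b h).1 ^ Fintype.card F = _
  rw [ab_val, mat_pow_card]
  have : X.1 ^ Fintype.card F = X.1 := by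
    rw [← Nat.div_add_mod (Fintype.card F) 4, hq, pow_add, pow_mul, hX4, one_pow, one_mul, pow_one]
  rw [this]

theorem pow_card_three [Fintype F] (hq : Fintype.card F % 4 = 3) {X : SL2 F} (hX : X * X = -1) {g : SL2 F}
    (hg : g * X = X * g) : g ^ Fintype.card F = g⁻¹ := by
  have h2 : (2 : F) ≠ 0 := two_ne_zero_of_odd (Nat.odd_iff.2 (by omega))
  obtain ⟨a, b, h, rfl⟩ := exists_ab h2 hX hg
  have hX2 : X.1 * X.1 = -1 := mulX_val hX
  have hX3 : X.1 ^ 3 = -X.1 := by
    rw [pow_succ, pow_succ, pow_one, hX2, neg_mul, Matrix.one_mul]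
  have hX4 : X.1 ^ 4 = 1 := by
    rw [pow_succ, hX3, neg_mul, hX2, neg_neg]
  rw [ab_inv]
  apply Subtype.ext
  change (ab hX a b h).1 ^ Fintype.card F = _
  rw [ab_val, ab_val, mat_pow_card]
  have : X.1 ^ Fintype.card F = -X.1 := by
    rw [← Nat.div_add_mod (Fintype.card F) 4, hq, pow_add, pow_mul, hX4, one_pow, one_mul, hX3]
  rw [this, smul_neg, neg_smul]

/-- (T4) for `|F| ∈ {3,5,7,9}` the centraliser of `X` is a 2-group. -/
theorem pow_eight [Fintype F] (hq : Fintype.card F = 3 ∨ Fintype.card F = 5 ∨ Fintype.card F = 7 ∨ Fintype.card F = 9)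
    {X : SL2 F} (hX : X * X = -1) {g : SL2 F} (hg : g * X = X * g) : g ^ 8 = 1 := by
  rcases hq with hq | hq | hq | hq
  · have h := pow_card_three (by rw [hq]) hX hg
    rw [hq] at h
    have h4 : g ^ 4 = 1 := by rw [pow_succ, h, inv_mul_cancel]
    rw [show 8 = 4 * 2 by norm_num, pow_mul, h4, one_pow]
  · have h := pow_card_one (by rw [hq]) hX hg
    rw [hq] at h
    have h4 : g ^ 4 = 1 := by
      rw [pow_succ] at h
      exact mul_eq_right.1 h
    rw [show 8 = 4 * 2 by norm_num, pow_mul, h4, one_pow]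
  · have h := pow_card_three (by rw [hq]) hX hg
    rw [hq] at h
    rw [pow_succ, h, inv_mul_cancel]
  · have h := pow_card_one (by rw [hq]) hX hg
    rw [hq] at h
    rw [pow_succ] at h
    exact mul_eq_right.1 h

/-- (T4) no element of odd order `> 1` commutes with `X`. -/
theorem eq_one_of_odd [Fintype F]
    (hq : Fintype.card F = 3 ∨ Fintype.card F = 5 ∨ Fintype.card F = 7 ∨ Fintype.card F = 9)
    {X : SL2 F} (hX : X * X = -1) {g : SL2 F} (hg : g * X = X * g) (ho : Odd (orderOf g)) : g = 1 := by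
  have h1 : orderOf g ∣ 2 ^ 3 := orderOf_dvd_of_pow_eq_one (pow_eight hq hX hg)
  have h3 : Nat.Coprime (orderOf g) (2 ^ 3) := (Nat.coprime_pow_right_iff (by norm_num) _ _).2
    (Nat.coprime_two_right.2 ho)
  exact orderOf_eq_one_iff.1 (Nat.eq_one_of_dvd_coprimes h3 dvd_rfl h1)

end Cfsg.Agent.SylowSp4.SLFacts
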