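import Cfsg.Agent.SylowSp4.AltEnd
import Cfsg.Agent.AltType.Recognize

/-!
# The alternating branch of S0509
-/

set_option autoImplicit false

namespace Cfsg.Agent.SylowSp4.AltFin

universe u

/-- A finite simple group with fusion pattern `AltPat` is `A₈` or `A₉`. -/
theorem iso {G : Type u} [Group G] [Finite G] [IsSimpleGroup G] {P : Sylow 2 G} {F : AltModel.M64 →* G}
    (p : AltModel.AltPat P F) :
    Nonempty (G ≃* alternatingGroup (Fin 8)) ∨ Nonempty (G ≃* alternatingGroup (Fin 9)) := by
  obtain ⟨Q, z, i, j, k, l, w, s, h⟩ := AltEnd.caseF1 p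
  refine Cfsg.Agent.AltType.recognize ?_ h
  intro hc
  have h1 : F AltModel.i1 * F AltModel.j1 = F AltModel.j1 * F AltModel.i1 := hc.is_comm.comm _ _
  rw [← map_mul, ← map_mul] at h1
  have h2 := p.inj h1
  revert h2
  decide +kernel

end Cfsg.Agent.SylowSp4.AltFin
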