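import Cfsg.Agent.SylowSp4.IdOne

/-!
# The group `H = C(t) / O(C(t))` in the case `k = 1`, `N₁ = Q₁`

Then `L = C_K(Q₂) ≃* SL(2, 3)` and `H = (L * L^s) ⟨s⟩`.
-/

set_option autoImplicit false

namespace Cfsg.Agent.SylowSp4.IdSmall

open Subgroup QuaternionGroup Cfsg.Agent.SylowSp4.Coord Cfsg.Agent.SylowSp4.Facts Cfsg.Agent.SylowSp4.Base
open Cfsg.Agent.SylowSp4.CentG Cfsg.Agent.SylowSp4.Decomp Cfsg.Agent.SylowSp4.IdBase Cfsg.Agent.SylowSp4.AutOne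
open Cfsg.Agent.SylowSp4.IdOne
open Cfsg.Agent.Walter.OddCoreIn Cfsg.Agent.Walter.SylowIn

universe u

/-- the centralizer of the second factor in `K` -/
def LL {H : Type u} [Group H] (f : Q 1 → Q 1 → H) (K : Subgroup H) : Subgroup H :=
  K ⊓ centralizer {x : H | ∃ β, x = f 1 β}

theorem mem_LL {H : Type u} [Group H] {f : Q 1 → Q 1 → H} {K : Subgroup H} {x : H} :
    x ∈ LL f K ↔ x ∈ K ∧ ∀ β, x * f 1 β = f 1 β * x := by
  constructor
  · rintro ⟨h1, h2⟩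
    exact ⟨h1, fun β => (mem_centralizer_iff.1 h2 _ ⟨β, rfl⟩).symm⟩
  · rintro ⟨h1, h2⟩
    refine ⟨h1, mem_centralizer_iff.2 ?_⟩
    rintro _ ⟨β, rfl⟩
    exact (h2 β).symm

variable {H : Type u} [Group H] [Finite H] {P : Sylow 2 H} {f : Q 1 → Q 1 → H} {s : H}
  {K : Subgroup H} (c : Ctx P 1 f s K)

include c

theorem swap_comm {x y : H} (e : x * y = y * x) : (s * x * s) * (s * y * s) = (s * y * s) * (s * x * s) := by
  rw [← c.swap_mul, e, c.swap_mul]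

theorem mem_LL_f (α : Q 1) : f α 1 ∈ LL f K := by
  refine mem_LL.2 ⟨c.f_mem_K _ _, fun β => ?_⟩
  rw [c.h.f_mul, c.h.f_mul, one_mul, mul_one, one_mul, mul_one]

section small

variable (hN : ∀ x ∈ N₁ f K, ∃ α, x = f α 1)

include hN

theorem small_N₂ {x : H} (hx : x ∈ N₂ f K) : ∃ α, x = f 1 α := by
  obtain ⟨α, hα⟩ := hN _ (c.swap_N₂ hx)
  refine ⟨α, ?_⟩
  rw [← c.swap_swap x, hα, c.swap_f]

theorem small_YY {y : H} (hy : y ∈ YY f K) : y = 1 ∨ y = f (z 1) 1 := by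
  obtain ⟨-, hyc⟩ := mem_YY.1 hy
  apply c.cen
  · intro a ha
    obtain ⟨α, rfl⟩ := hN a ha
    exact hyc α 1
  · intro a ha
    obtain ⟨α, rfl⟩ := hN a ha
    rw [c.swap_f]
    exact hyc 1 α

theorem small_YY_odd {y : H} (hy : y ∈ YY f K) (ho : Odd (orderOf y)) : y = 1 := by
  rcases small_YY c hN hy with h1 | h1
  · exact h1
  · exfalso
    have h2 : orderOf y = 2 := by
      rw [h1]
      exact orderOf_eq_prime (by rw [sq, c.h.t_sq]) c.h.t_ne_one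
    rw [h2] at ho
    exact absurd ho (by decide)

theorem small_conj₁ {g : H} (hg : g ∈ K) (α : Q 1) : ∃ β, g * f α 1 * g⁻¹ = f β 1 :=
  hN _ (conj_N₁ hg (c.f_mem_N₁ α))

theorem small_conj₂ {g : H} (hg : g ∈ K) (α : Q 1) : ∃ β, g * f 1 α * g⁻¹ = f 1 β :=
  small_N₂ c hN (conj_N₂ hg (c.f_mem_N₂ α))

theorem small_mem_M {g : H} (hg : g ∈ K) : g ∈ (K ⊓ normalizer ((base c.h : Subgroup H) : Set H) : Subgroup H) :=
  mem_M c hg (norm_base c (small_conj₁ c hN hg) (small_conj₂ c hN hg))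

/-- `L` is normal in `K`. -/
theorem small_conj_LL {g x : H} (hg : g ∈ K) (hx : x ∈ LL f K) : g * x * g⁻¹ ∈ LL f K := by
  obtain ⟨h1, h2⟩ := mem_LL.1 hx
  refine mem_LL.2 ⟨c.conj_mem_K h1, fun β => ?_⟩
  obtain ⟨δ, hδ⟩ := small_conj₂ c hN (K.inv_mem hg) β
  rw [inv_inv] at hδ
  have h3 := h2 δ
  rw [← hδ] at h3
  calc g * x * g⁻¹ * f 1 β = g * (x * (g⁻¹ * f 1 β * g)) * g⁻¹ := by group
    _ = g * ((g⁻¹ * f 1 β * g) * x) * g⁻¹ := by rw [h3]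
    _ = f 1 β * (g * x * g⁻¹) := by group

theorem small_rho (uu : ∀ α β : Q 1, α * α = z 1 → β * β = z 1 →
      ∃ g, g * f (Facts.c 1) (Facts.c 1) * g⁻¹ = f α β) :
    ∃ ρ ∈ K, Odd (orderOf ρ) ∧ (∀ β, ρ * f 1 β = f 1 β * ρ) ∧ ¬ ∀ α, ρ * f α 1 = f α 1 * ρ := by
  have h := c.h
  have key : ∃ g ∈ K, g * f (Facts.c 1) (Facts.c 1) * g⁻¹ = f (xa 0) (Facts.c 1) := by
    obtain ⟨g, hg⟩ := uu (xa 0) (Facts.c 1) (by decide) (by decide)
    rcases c.hK.mem_or g (c.hZ g) with h1 | h1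
    · exact ⟨g, h1, hg⟩
    · refine ⟨g * s, h1, ?_⟩
      calc g * s * f (Facts.c 1) (Facts.c 1) * (g * s)⁻¹ = g * (s * f (Facts.c 1) (Facts.c 1) * s⁻¹) * g⁻¹ := by group
        _ = f (xa 0) (Facts.c 1) := by rw [h.s_conj, hg]
  obtain ⟨g, hgK, hg⟩ := key
  obtain ⟨a', ha, b', hb, n, hn, hno, hnb, rfl⟩ := c.exists_frattini hgK
  obtain ⟨α, rfl⟩ := hN _ ha
  obtain ⟨β, rfl⟩ := small_N₂ c hN hb
  obtain ⟨γ₁, γ₂, hγ₁, hγ₂⟩ := exists_act c
  have hnM := mem_M c hn hnb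
  let nM : (K ⊓ normalizer ((base c.h : Subgroup H) : Set H) : Subgroup H) := ⟨n, hnM⟩
  have hoM : Odd (orderOf nM) := by
    change Odd (orderOf (⟨n, hnM⟩ : (K ⊓ normalizer ((base c.h : Subgroup H) : Set H) : Subgroup H)))
    rwa [Subgroup.orderOf_mk]
  have h1 : f (γ₁ nM (Facts.c 1)) (γ₂ nM (Facts.c 1)) = f (α⁻¹ * xa 0 * α) (β⁻¹ * Facts.c 1 * β) := by
    have e1 : f (γ₁ nM (Facts.c 1)) (γ₂ nM (Facts.c 1)) =
        f (γ₁ nM (Facts.c 1)) 1 * f 1 (γ₂ nM (Facts.c 1)) := by rw [h.f_mul, mul_one, one_mul]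
    have e2 : f (Facts.c 1) (Facts.c 1) = f (Facts.c 1) 1 * f 1 (Facts.c 1) := by rw [h.f_mul, mul_one, one_mul]
    rw [e1, hγ₁, hγ₂]
    change n * f (Facts.c 1) 1 * n⁻¹ * (n * f 1 (Facts.c 1) * n⁻¹) = _
    have e3 : n * f (Facts.c 1) 1 * n⁻¹ * (n * f 1 (Facts.c 1) * n⁻¹) =
        (f α 1 * f 1 β)⁻¹ * (f α 1 * f 1 β * n * f (Facts.c 1) (Facts.c 1) * (f α 1 * f 1 β * n)⁻¹) *
          (f α 1 * f 1 β) := by
      rw [e2]; group
    rw [e3, hg, h.f_mul, mul_one, one_mul, h.f_inv, h.f_mul, h.f_mul]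
  have hβc : ∀ β : Q 1, (β⁻¹ * Facts.c 1 * β = a 1 ∨ β⁻¹ * Facts.c 1 * β = a 3) ∧
      (z 1 * (β⁻¹ * Facts.c 1 * β) = a 1 ∨ z 1 * (β⁻¹ * Facts.c 1 * β) = a 3) := by decide
  have hαc : ∀ α : Q 1, α⁻¹ * xa 0 * α ≠ Facts.c 1 ∧ z 1 * (α⁻¹ * xa 0 * α) ≠ Facts.c 1 := by decide
  have h2 : γ₂ nM = 1 := by
    apply eq_one_of_fix (Odd.of_dvd_nat hoM (orderOf_map_dvd γ₂ nM))
    have e : γ₂ nM (a 1) = γ₂ nM (Facts.c 1) := by rw [c_one]
    rw [e]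
    rcases h.f_inj _ _ _ _ h1 with ⟨-, h3⟩ | ⟨-, h3⟩
    · rw [h3]; exact (hβc β).1
    · rw [h3]; exact (hβc β).2
  refine ⟨n, hn, hno, ?_, ?_⟩
  · intro β'
    have h3 := hγ₂ nM β'
    rw [h2] at h3
    exact (mul_inv_eq_iff_eq_mul.1 h3.symm)
  · intro hc
    have h3 := hγ₁ nM (Facts.c 1)
    change _ = n * f (Facts.c 1) 1 * n⁻¹ at h3
    rw [hc, mul_inv_cancel_right] at h3
    have h4 := c.f_left_inj h3
    rcases h.f_inj _ _ _ _ h1 with ⟨h5, -⟩ | ⟨h5, -⟩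
    · rw [h4] at h5
      exact (hαc α).1 h5.symm
    · rw [h4] at h5
      exact (hαc α).2 h5.symm

variable {ρ : H} (hρK : ρ ∈ K) (hρo : Odd (orderOf ρ)) (hρ2 : ∀ β, ρ * f 1 β = f 1 β * ρ)
  (hρn : ¬ ∀ α, ρ * f α 1 = f α 1 * ρ)

include hρK hρo hρ2 hρn

omit hN hρo hρn in
theorem rho_mem : ρ ∈ LL f K := mem_LL.2 ⟨hρK, hρ2⟩

omit hN hρo hρn in
theorem zpow_mem_LL {p : H} (hp : p ∈ zpowers ρ) : p ∈ LL f K := (zpowers_le.2 (rho_mem c hρK hρ2)) hp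

omit c hN hρK hρ2 hρn in
theorem odd_of_mem_zpowers {p : H} (hp : p ∈ zpowers ρ) : Odd (orderOf p) :=
  Odd.of_dvd_nat hρo (orderOf_dvd_of_mem_zpowers hp)

theorem small_decomp {g : H} (hg : g ∈ K) : ∃ γ δ : Q 1, ∃ p ∈ zpowers ρ, ∃ q ∈ zpowers ρ,
    g = f γ δ * (s * q * s) * p := by
  have h := c.h
  obtain ⟨a', ha, b', hb, n, hn, hno, hnb, rfl⟩ := c.exists_frattini hg
  obtain ⟨α, rfl⟩ := hN _ ha
  obtain ⟨β, rfl⟩ := small_N₂ c hN hb
  obtain ⟨γ, δ, y, hy, p, hp, q, hq, rfl⟩ := gen_one c hρK hρo (small_conj₁ c hN hρK) hρ2 hρn hn hno hnb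
  rcases small_YY c hN hy with rfl | rfl
  · refine ⟨α * γ, β * δ, p, hp, q, hq, ?_⟩
    have e : f (α * γ) (β * δ) = f α 1 * f 1 β * f γ δ := by rw [h.f_mul, h.f_mul, mul_one, one_mul]
    rw [e, mul_one]
    group
  · refine ⟨α * γ * z 1, β * δ, p, hp, q, hq, ?_⟩
    have e : f (α * γ * z 1) (β * δ) = f α 1 * f 1 β * (f γ δ * f (z 1) 1) := by
      rw [h.f_mul, h.f_mul, h.f_mul, mul_one, one_mul, mul_one, mul_assoc]
    rw [e]
    group

theorem small_mem_LL {x : H} (hx : x ∈ LL f K) : ∃ γ : Q 1, ∃ p ∈ zpowers ρ, x = f γ 1 * p := by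
  have h := c.h
  obtain ⟨hxK, hxc⟩ := mem_LL.1 hx
  obtain ⟨γ, δ, p, hp, q, hq, rfl⟩ := small_decomp c hN hρK hρo hρ2 hρn hxK
  have hpL := zpow_mem_LL c hρK hρ2 hp
  have hqL := zpow_mem_LL c hρK hρ2 hq
  have hw : f 1 δ * (s * q * s) ∈ LL f K := by
    have h1 := mul_mem (inv_mem (mem_LL_f c γ)) (mul_mem hx (inv_mem hpL))
    have e : (f γ 1)⁻¹ * (f γ δ * (s * q * s) * p * p⁻¹) = f 1 δ * (s * q * s) := by
      have e2 : f γ δ = f γ 1 * f 1 δ := by rw [h.f_mul, mul_one, one_mul]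
      rw [e2]; group
    rwa [e] at h1
  -- `q` acts as an inner automorphism on the first factor
  have h1 : ∀ β : Q 1, q * f β 1 * q⁻¹ = f (δ⁻¹ * β * δ) 1 := by
    intro β
    have h2 := (mem_LL.1 hw).2 β
    have h3 := swap_comm c h2
    rw [c.swap_mul (f 1 δ), c.swap_f, c.swap_swap, c.swap_f] at h3
    -- `f δ 1 * q * f β 1 = f β 1 * (f δ 1 * q)`
    calc q * f β 1 * q⁻¹ = (f δ 1)⁻¹ * (f δ 1 * q * f β 1) * q⁻¹ := by group
      _ = (f δ 1)⁻¹ * (f β 1 * (f δ 1 * q)) * q⁻¹ := by rw [h3]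
      _ = (f δ 1)⁻¹ * f β 1 * f δ 1 := by group
      _ = f (δ⁻¹ * β * δ) 1 := by rw [h.f_inv, h.f_mul, h.f_mul, inv_one, mul_one, mul_one]
  have hqK := (mem_LL.1 hqL).1
  have hqo := odd_of_mem_zpowers hρo hq
  obtain ⟨γ₁, γ₂, hγ₁, -⟩ := exists_act c
  have hqM := small_mem_M c hN hqK
  have hoM : Odd (orderOf (⟨q, hqM⟩ : (K ⊓ normalizer ((base c.h : Subgroup H) : Set H) : Subgroup H))) := by
    rwa [Subgroup.orderOf_mk]
  have h2 : γ₁ ⟨q, hqM⟩ = 1 := by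
    apply eq_one_of_tr_odd _ (Odd.of_dvd_nat hoM (orderOf_map_dvd γ₁ _))
    apply tr_conj δ⁻¹
    intro x
    have h3 := hγ₁ ⟨q, hqM⟩ x
    change _ = q * f x 1 * q⁻¹ at h3
    rw [h1] at h3
    rw [inv_inv]
    exact c.f_left_inj h3
  have h3 : ∀ β : Q 1, q * f β 1 * q⁻¹ = f β 1 := by
    intro β
    have h4 := hγ₁ ⟨q, hqM⟩ β
    rw [h2] at h4
    exact h4.symm
  have hqY : q ∈ YY f K := by
    refine mem_YY.2 ⟨hqK, fun α β => ?_⟩
    have e : f α β = f α 1 * f 1 β := by rw [h.f_mul, mul_one, one_mul]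
    rw [e, ← mul_assoc, mul_inv_eq_iff_eq_mul.1 (h3 α), mul_assoc, (mem_LL.1 hqL).2, mul_assoc]
  have hq1 := small_YY_odd c hN hqY hqo
  subst hq1
  have h5 : ∀ β : Q 1, δ * β = β * δ := by
    intro β
    have h6 := h1 β
    rw [h3] at h6
    have h7 := c.f_left_inj h6
    calc δ * β = δ * (δ⁻¹ * β * δ) := by rw [← h7]
      _ = β * δ := by group
  have h6 : δ = 1 ∨ δ = z 1 := by
    have key : ∀ δ : Q 1, (∀ β : Q 1, δ * β = β * δ) → δ = 1 ∨ δ = z 1 := by decide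
    exact key δ h5
  have e1 : s * 1 * s = 1 := by rw [mul_one, c.s_s]
  rcases h6 with rfl | rfl
  · exact ⟨γ, p, hp, by rw [e1, mul_one]⟩
  · refine ⟨γ * z 1, p, hp, ?_⟩
    have e2 : f γ (z 1) = f (γ * z 1) 1 := by
      have h7 : f γ (z 1) * f (z 1) (z 1) = f (γ * z 1) 1 := by rw [h.f_mul, z_mul_z]
      rwa [h.f_zz, mul_one] at h7
    rw [e1, mul_one, e2]

theorem rho_cube : ρ ^ 3 = 1 := by
  obtain ⟨γ₁, γ₂, hγ₁, -⟩ := exists_act c
  have hρM := small_mem_M c hN hρK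
  have hoM : Odd (orderOf (⟨ρ, hρM⟩ : (K ⊓ normalizer ((base c.h : Subgroup H) : Set H) : Subgroup H))) := by
    rwa [Subgroup.orderOf_mk]
  have h3 := cube_of_odd (Odd.of_dvd_nat hoM (orderOf_map_dvd γ₁ _))
  apply small_YY_odd c hN
  · refine mem_YY.2 ⟨pow_mem hρK 3, fun α β => ?_⟩
    have h4 := hγ₁ (⟨ρ, hρM⟩ ^ 3) α
    rw [map_pow] at h4
    change f (γ₁ ⟨ρ, hρM⟩ (γ₁ ⟨ρ, hρM⟩ (γ₁ ⟨ρ, hρM⟩ α))) 1 = ρ ^ 3 * f α 1 * (ρ ^ 3)⁻¹ at h4
    rw [h3] at h4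
    have e : f α β = f α 1 * f 1 β := by rw [c.h.f_mul, mul_one, one_mul]
    have h5 := (mem_LL.1 (pow_mem (rho_mem c hρK hρ2) 3)).2 β
    rw [e, ← mul_assoc, mul_inv_eq_iff_eq_mul.1 h4.symm, mul_assoc, h5, mul_assoc]
  · exact Odd.of_dvd_nat hρo (orderOf_pow_dvd 3)

theorem orderOf_rho : orderOf ρ = 3 := by
  have : Fact (Nat.Prime 3) := ⟨Nat.prime_three⟩
  apply orderOf_eq_prime (rho_cube c hN hρK hρo hρ2 hρn)
  intro h1
  apply hρn
  intro α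
  rw [h1, one_mul, mul_one]

omit hN hρK hρo hρ2 hρn in
/-- the embedding of the quaternion group -/
theorem exists_iota : ∃ i : QuaternionGroup 2 →* LL f K, Function.Injective i ∧ ∀ x, ((i x : LL f K) : H) = f x 1 := by
  refine ⟨{ toFun := fun x => ⟨f x 1, mem_LL_f c x⟩, map_one' := Subtype.ext c.h.f_one, map_mul' := ?_ }, ?_, fun _ => rfl⟩
  · intro x y
    apply Subtype.ext
    change f (x * y) 1 = f x 1 * f y 1
    rw [c.h.f_mul, one_mul]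
  · intro x y hxy
    exact c.f_left_inj (congrArg Subtype.val hxy)

theorem card_LL : Nat.card (LL f K) = 24 := by
  obtain ⟨i, hi, hic⟩ := exists_iota c
  have h8 : Nat.card (QuaternionGroup 2) = 8 := by rw [Nat.card_eq_fintype_card, QuaternionGroup.card]
  have h3 := orderOf_rho c hN hρK hρo hρ2 hρn
  have hd8 : 8 ∣ Nat.card (LL f K) := by
    rw [← h8, Nat.card_congr (MonoidHom.ofInjective hi).toEquiv]
    exact Subgroup.card_subgroup_dvd_card _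
  have hd3 : 3 ∣ Nat.card (LL f K) := by
    have h4 := orderOf_dvd_natCard (⟨ρ, rho_mem c hρK hρ2⟩ : LL f K)
    rwa [Subgroup.orderOf_mk, h3] at h4
  have hd : 24 ∣ Nat.card (LL f K) := Nat.Coprime.mul_dvd_of_dvd_of_dvd (by norm_num : Nat.Coprime 8 3) hd8 hd3
  have hle : Nat.card (LL f K) ≤ 24 := by
    have h4 : Function.Surjective (fun w : QuaternionGroup 2 × zpowers ρ =>
        (⟨f w.1 1 * (w.2 : H), mul_mem (mem_LL_f c w.1) (zpow_mem_LL c hρK hρ2 w.2.2)⟩ : LL f K)) := by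
      rintro ⟨x, hx⟩
      obtain ⟨γ, p, hp, e⟩ := small_mem_LL c hN hρK hρo hρ2 hρn hx
      exact ⟨(γ, ⟨p, hp⟩), Subtype.ext e.symm⟩
    have h5 := Nat.card_le_card_of_surjective _ h4
    rw [Nat.card_prod, h8, Nat.card_zpowers, h3] at h5
    exact h5
  exact Nat.le_antisymm hle (Nat.le_of_dvd Nat.card_pos hd)

/-- `L ≃* SL(2, 3)` -/
theorem ident_LL : Nonempty (LL f K ≃* Matrix.SpecialLinearGroup (Fin 2) (ZMod 3)) := by
  obtain ⟨i, hi, hic⟩ := exists_iota c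
  refine Cfsg.Agent.SylowG2.SLTwoThreeRecog.mulEquiv_of_quaternion (card_LL c hN hρK hρo hρ2 hρn) i.range ?_
    ⟨(MonoidHom.ofInjective hi).symm⟩ ⟨ρ, rho_mem c hρK hρ2⟩ ?_ ?_
  · refine ⟨?_⟩
    rintro _ ⟨x, rfl⟩ g
    obtain ⟨β, hβ⟩ := small_conj₁ c hN (mem_LL.1 g.2).1 x
    refine ⟨β, Subtype.ext ?_⟩
    rw [hic, ← hβ]
    change _ = (g : H) * (i x : H) * (g : H)⁻¹
    rw [hic]
  · rw [Subgroup.orderOf_mk]
    exact orderOf_rho c hN hρK hρo hρ2 hρn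
  · intro hc
    apply hρn
    intro α
    have h1 := (mem_centralizer_iff.1 hc) (i α) ⟨α, rfl⟩
    have h2 := congrArg Subtype.val h1
    change (i α : H) * ρ = ρ * (i α : H) at h2
    rw [hic] at h2
    exact h2.symm

theorem comm_LL {x y : H} (hx : x ∈ LL f K) (hy : y ∈ LL f K) : x * (s * y * s) = (s * y * s) * x := by
  have h := c.h
  obtain ⟨γ, p, hp, rfl⟩ := small_mem_LL c hN hρK hρo hρ2 hρn hy
  have hpL := zpow_mem_LL c hρK hρ2 hp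
  have hxK := (mem_LL.1 hx).1
  have hpK := (mem_LL.1 hpL).1
  rw [c.swap_mul, c.swap_f]
  set w : H := s * p * s with hw
  have hwK : w ∈ K := c.swap_mem_K hpK
  have hsw : s * w * s = p := c.swap_swap p
  -- `w` centralises the first factor
  have key : x * w = w * x := by
    have h1 : x * w * x⁻¹ * w⁻¹ ∈ LL f K := by
      have h2 := mul_mem hx (small_conj_LL c hN hwK (inv_mem hx))
      have e : x * (w * x⁻¹ * w⁻¹) = x * w * x⁻¹ * w⁻¹ := by group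
      rwa [e] at h2
    have h2 : s * (x * w * x⁻¹ * w⁻¹) * s ∈ LL f K := by
      have h3 := mul_mem (small_conj_LL c hN (c.swap_mem_K hxK) hpL) (inv_mem hpL)
      have e : s * x * s * p * (s * x * s)⁻¹ * p⁻¹ = s * (x * w * x⁻¹ * w⁻¹) * s := by
        rw [c.swap_mul (x * w * x⁻¹), c.swap_mul (x * w), c.swap_mul x w, ← c.swap_inv, ← c.swap_inv w, hsw]
      rwa [e] at h3
    have h3 : x * w * x⁻¹ * w⁻¹ ∈ YY f K := by
      refine mem_YY.2 ⟨(mem_LL.1 h1).1, fun α β => ?_⟩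
      have e : f α β = f α 1 * f 1 β := by rw [h.f_mul, mul_one, one_mul]
      have h4 := (mem_LL.1 h2).2 α
      have h5 := swap_comm c h4
      rw [c.swap_swap, c.swap_f] at h5
      have h6 := (mem_LL.1 h1).2 β
      generalize x * w * x⁻¹ * w⁻¹ = v at h5 h6 ⊢
      rw [e, ← mul_assoc, h5, mul_assoc, h6, mul_assoc]
    rcases small_YY c hN h3 with h4 | h4
    · exact mul_inv_eq_iff_eq_mul.1 (mul_inv_eq_one.1 h4)
    · exfalso
      have h5 : x * w * x⁻¹ = f (z 1) 1 * w := mul_inv_eq_iff_eq_mul.1 h4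
      have hp3 : p ^ 3 = 1 := by
        have h6 : orderOf p ∣ 3 := by
          rw [← orderOf_rho c hN hρK hρo hρ2 hρn]
          exact orderOf_dvd_of_mem_zpowers hp
        exact orderOf_dvd_iff_pow_eq_one.1 h6
      have hw3 : w ^ 3 = 1 := by
        rw [hw, swap_pow c, hp3, mul_one, c.s_s]
      have h6 : (f (z 1) 1 * w) ^ 3 = 1 := by rw [← h5, conj_pow, hw3, mul_one, mul_inv_cancel]
      have h7 : Commute (f (z 1) 1) w := (c.hZ w).symm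
      rw [h7.mul_pow, hw3, mul_one, show (3 : ℕ) = 2 + 1 from rfl, pow_succ, sq, h.t_sq, one_mul] at h6
      exact h.t_ne_one h6
  have h8 := (mem_LL.1 hx).2 γ
  calc x * (f 1 γ * w) = (x * f 1 γ) * w := by group
    _ = f 1 γ * (x * w) := by rw [h8]; group
    _ = f 1 γ * w * x := by rw [key]; group

/-- The decomposition in the small case. -/
theorem dec_LL : Dec f s (LL f K) ⊥ where
  q1 := mem_LL_f c
  comm x hx y hy := comm_LL c hN hρK hρo hρ2 hρn hx hy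
  inf x hx hy := by
    have h := c.h
    apply small_YY c hN
    refine mem_YY.2 ⟨(mem_LL.1 hx).1, fun α β => ?_⟩
    have e : f α β = f α 1 * f 1 β := by rw [h.f_mul, mul_one, one_mul]
    have h4 := (mem_LL.1 hy).2 α
    have h5 := swap_comm c h4
    rw [c.swap_swap, c.swap_f] at h5
    rw [e, ← mul_assoc, h5, mul_assoc, (mem_LL.1 hx).2, mul_assoc]
  gen := by
    have h := c.h
    have key : ∀ g ∈ K, ∃ a ∈ LL f K, ∃ b ∈ LL f K, g = a * (s * b * s) := by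
      intro g hg
      obtain ⟨γ, δ, p, hp, q, hq, rfl⟩ := small_decomp c hN hρK hρo hρ2 hρn hg
      have hpL := zpow_mem_LL c hρK hρ2 hp
      have hqL := zpow_mem_LL c hρK hρ2 hq
      refine ⟨f γ 1 * p, mul_mem (mem_LL_f c γ) hpL, f δ 1 * q, mul_mem (mem_LL_f c δ) hqL, ?_⟩
      have e := comm_LL c hN hρK hρo hρ2 hρn hpL (mul_mem (mem_LL_f c δ) hqL)
      rw [mul_assoc (f γ 1) p, e, c.swap_mul, c.swap_f]
      have e2 : f γ δ = f γ 1 * f 1 δ := by rw [h.f_mul, mul_one, one_mul]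
      rw [e2]
      group
    intro g
    rcases c.hK.mem_or g (c.hZ g) with hg | hg
    · obtain ⟨a', ha, b', hb, e⟩ := key g hg
      exact ⟨a', ha, b', hb, 1, one_mem _, Or.inl (by rw [mul_one, ← e])⟩
    · obtain ⟨a', ha, b', hb, e⟩ := key _ hg
      refine ⟨a', ha, b', hb, 1, one_mem _, Or.inr ?_⟩
      rw [mul_one, ← e, mul_assoc, c.s_s, mul_one]
  odd := by rw [Subgroup.card_bot]; exact odd_one
  norm g hg x hx := by
    rw [mem_bot] at hg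
    rw [hg, one_mul, inv_one, mul_one]
    exact hx
  fix g hg α := by
    rw [mem_bot] at hg
    rw [hg, one_mul, mul_one]
  sΦ g hg := by
    rw [mem_bot] at hg ⊢
    rw [hg, mul_one, c.s_s]
  cen g h1 h2 := by
    have hle : ∀ x ∈ N₁ f K, x ∈ LL f K := by
      intro x hx
      obtain ⟨α, rfl⟩ := hN x hx
      exact mem_LL_f c α
    exact c.cen (fun x hx => h1 x (hle x hx)) (fun x hx => h2 x (hle x hx))

end small

/-- The case `k = 1`. -/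
theorem exists_dec_one (hGW : Hyps.GW.{u}) (uu : ∀ α β : Q 1, α * α = z 1 → β * β = z 1 →
      ∃ g, g * f (Facts.c 1) (Facts.c 1) * g⁻¹ = f α β) :
    ∃ L Φ : Subgroup H, Dec f s L Φ ∧ ∃ (F : Type) (_ : Field F) (_ : Fintype F), Odd (Fintype.card F) ∧
        Nonempty (L ≃* Matrix.SpecialLinearGroup (Fin 2) F) := by
  rcases dichotomy c with hN | ⟨ρ, hρN, hρo, hρ1, hρn⟩
  · obtain ⟨ρ, hρK, hρo, hρ2, hρn⟩ := small_rho c hN uu
    refine ⟨LL f K, ⊥, dec_LL c hN hρK hρo hρ2 hρn, ZMod 3, inferInstance, inferInstance, ?_,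
      ident_LL c hN hρK hρo hρ2 hρn⟩
    rw [ZMod.card]
    decide
  · refine ⟨N₁ f K, OO (YY f K), c.dec fun n hn hno hnb => gen_big c hρN hρo hρ1 hρn hn hno hnb, ?_⟩
    rcases c.ident hGW (c.perfect fun α hα => conj_big c hρN hρo hρ1 hρn hα) with h1 | ⟨h1, -⟩
    · exact h1
    · exact absurd h1 (by decide)

end Cfsg.Agent.SylowSp4.IdSmall
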