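import Cfsg.Agent.SylowSp4.CentT
import Cfsg.Agent.SylowSp4.IdSmall

/-!
# The identification of `C(t) / O(C(t))`, `k = 1`
-/

set_option autoImplicit false

namespace Cfsg.Agent.SylowSp4.CentOne

open Subgroup QuaternionGroup Cfsg.Agent.SylowSp4.Coord Cfsg.Agent.SylowSp4.Pat Cfsg.Agent.SylowSp4.CentT
open Cfsg.Agent.SylowSp4.CentG

universe u

/-- The identification of `C(t) / O(C(t))`, `k = 1`. -/
theorem centOne (hPT : Hyps.ProductThm.{u}) (hGW : Hyps.GW.{u}) :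
    ∀ (G : Type u) [Group G] [Finite G] (P : Sylow 2 G) (f : Q 1 → Q 1 → G) (s : G), Pat P 1 f s →
      ∃ (L : Type u) (_ : Group L) (_ : Finite L) (D : Duo (HH f) L) (ι : Q 1 →* L) (Φ : Subgroup (HH f)),
        Cent 1 f s (ππ f) D ι Φ ∧ ∃ (F : Type) (_ : Field F) (_ : Fintype F), Odd (Fintype.card F) ∧
          Nonempty (L ≃* Matrix.SpecialLinearGroup (Fin 2) F) := by
  intro G _ _ P f s p
  have h := p.h
  obtain ⟨P', h'⟩ := exists_P h
  have hsurj : Function.Surjective (ππ f) := QuotientGroup.mk'_surjective _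
  have hZ : ∀ g : HH f, g * ππ f ⟨f (z 1) 1, P_le h (h.f_mem _ _)⟩ = ππ f ⟨f (z 1) 1, P_le h (h.f_mem _ _)⟩ * g := by
    intro g
    obtain ⟨c, rfl⟩ := hsurj g
    rw [← map_mul, ← map_mul]
    congr 1
    exact Subtype.ext (mem_centralizer_singleton_iff.1 c.2)
  obtain ⟨K, hK⟩ := exists_centData h'
  have ctx : IdBase.Ctx P' 1 (fun a b => ππ f ⟨f a b, P_le h (h.f_mem a b)⟩) (ππ f ⟨s, P_le h h.s_mem⟩) K :=
    ⟨h', oddCore_HH, hZ, hK, hPT⟩
  have uu : ∀ α β : Q 1, α * α = z 1 → β * β = z 1 → ∃ g : HH f,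
      g * ππ f ⟨f (Facts.c 1) (Facts.c 1), P_le h (h.f_mem _ _)⟩ * g⁻¹ = ππ f ⟨f α β, P_le h (h.f_mem α β)⟩ := by
    intro α β hα hβ
    obtain ⟨c, hc, e⟩ := p.uu α β hα hβ
    refine ⟨ππ f ⟨c, hc⟩, ?_⟩
    rw [← map_inv, ← map_mul, ← map_mul]
    congr 1
    exact Subtype.ext e
  obtain ⟨L, Φ, d, hd⟩ := IdSmall.exists_dec_one ctx hGW uu
  exact ⟨_, inferInstance, inferInstance, duo h' hZ d, iota h' d, _, cent_of_dec h h' hZ d, hd⟩

end Cfsg.Agent.SylowSp4.CentOne
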