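import Cfsg.Agent.SylowSp4.CentUData
import Cfsg.Agent.TwoFusion.ClosedCommutator

/-!
# The centralizer of an involution of `u`-type: unconditional exports
-/

set_option autoImplicit false

namespace Cfsg.Agent.SylowSp4.CentUExport

open QuaternionGroup Cfsg.Agent.SylowSp4.Coord Cfsg.Agent.SylowSp4.Facts Cfsg.Agent.SylowSp4.Pat Subgroup
open Cfsg.Agent.Walter.OddCoreIn Cfsg.Agent.SylowSp4.Pairs Cfsg.Agent.SylowSp4.CentUCoord
open Cfsg.Agent.SylowSp4.CentULoc Cfsg.Agent.SylowSp4.CentUInst Cfsg.Agent.SylowSp4.CentUMain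
open Cfsg.Agent.SylowSp4.FieldPart Cfsg.Agent.SylowSp4.CentUData Cfsg.Agent.SylowSp4.CentUClosed

variable {G : Type*} [Group G] [Finite G] {P : Sylow 2 G} {k : ℕ} {f : Q k → Q k → G} {s : G} (p : Pat P k f s)

include p

/-- the product theorem in `C(e)` -/
theorem pd : PD p := by
  obtain ⟨R, hR⟩ := exists_PY p
  have L := loc p hR
  refine Cfsg.Agent.TwoFusion.ClosedCommutator.commutator_le R _ _ ?_ (strongly_closed_Dc L) (strongly_closed_DE L)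
  rw [eq_bot_iff]
  intro x hx
  exact L.disj x hx.2 hx.1

/-- **`UData`** -/
theorem uData : UData f := udata_of p (pd p)

/-- `C(e) = O(C(e)) (C(t₁) ∩ C(e)) (P ∩ C(e))` -/
theorem Y_gen {y : G} (hy : y ∈ Cn (ee f)) :
    ∃ o ∈ OO (Cn (ee f)), ∃ c ∈ Cn (t1 f s) ⊓ Cn (ee f), ∃ r ∈ (P : Subgroup G) ⊓ Cn (ee f), y = o * c * r :=
  Y_gen_of p (pd p) hy

/-- `C(e) = O(C(e)) C(Dc) (P ∩ C(e))` -/
theorem gen_e {y : G} (hy : y ∈ Cn (ee f)) :
    ∃ o ∈ OO (Cn (ee f)), ∃ c ∈ Cn (ee f), (∀ a ∈ Dc p.h, c * a = a * c) ∧ ∃ r ∈ (P : Subgroup G) ⊓ Cn (ee f),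
      y = o * c * r :=
  CentUData.gen_e p (pd p) hy

/-- elements of odd order of `C(e)` centralise `Dc` modulo `O(C(e))` -/
theorem star_e {y : G} (hy : y ∈ Cn (ee f)) (ho : Odd (orderOf y)) {a : G} (ha : a ∈ Dc p.h) :
    y * a * y⁻¹ * a⁻¹ ∈ OO (Cn (ee f)) :=
  CentUData.star_e p (pd p) hy ho ha

end Cfsg.Agent.SylowSp4.CentUExport
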