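import Cfsg.Agent.SylowSp4.CoreFrame

/-!
# The completion `W` of the cores of a quintuple

`W = ⟨O(C(a)) ...⟩` has odd order, `C_W(t i) = O(C(t i))`, `C_W(t i t j) = Wu t i j ⊴ O(C(t i t j))`; it is normalised by
`C(t k) ∩ C(t i t j)` (`i, j, k` distinct) and by the normaliser of `E`; if `O(C(t i t j)) ∩ C(t k) ≤ O(C(t k))` for all distinct
`i, j, k`, it is normalised by `C(t i) ∩ C(t j)`.
-/

set_option autoImplicit false

namespace Cfsg.Agent.SylowSp4.CoreW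

open Subgroup Cfsg.Agent.SylowSp4.Pat Cfsg.Agent.SylowSp4.Pairs Cfsg.Agent.SylowSp4.FrameTools
open Cfsg.Agent.SylowSp4.TwoBal Cfsg.Agent.SylowSp4.CoreFrame
open Cfsg.Agent.Walter.OddCoreIn

variable {G : Type*} [Group G]

/-- the completion -/
abbrev WW (t : Fin 5 → G) : Subgroup G := TwoBal.tt (EE t) OC

/-- `C_W(t i t j)` -/
abbrev Wu (t : Fin 5 → G) (i j : Fin 5) : Subgroup G := ww (EE t) OC (t i * t j)

/-- an element which normalises three subgroups generating `W` normalises `W`. -/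
theorem mem_normalizer_of_gen {W A B C : Subgroup G} (hA : A ≤ W) (hB : B ≤ W) (hC : C ≤ W)
    (hW : W ≤ A ⊔ B ⊔ C) {H : Subgroup G} (h1 : H ≤ normalizer (A : Set G)) (h2 : H ≤ normalizer (B : Set G))
    (h3 : H ≤ normalizer (C : Set G)) : H ≤ normalizer (W : Set G) := by
  rw [le_normalizer_iff']
  intro a ha x hx
  have h4 : A ⊔ B ⊔ C ≤ W.comap (MulAut.conj a).toMonoidHom := by
    refine sup_le (sup_le ?_ ?_) ?_
    · exact fun y hy => hA (conj_mem h1 ha hy)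
    · exact fun y hy => hB (conj_mem h2 ha hy)
    · exact fun y hy => hC (conj_mem h3 ha hy)
  exact h4 (hW hx)

variable [Finite G] {t : Fin 5 → G} (h : Data t)

omit [Finite G] in
theorem le_norm_inf {H A : Subgroup G} {a : G} (h1 : H ≤ normalizer (A : Set G)) (h2 : H ≤ Cn a) :
    H ≤ normalizer ((A ⊓ Cn a : Subgroup G) : Set G) := by
  rw [le_normalizer_iff']
  rintro b hb x ⟨hx1, hx2⟩
  exact ⟨conj_mem h1 hb hx1, Data.Cn_conj_mem (h2 hb) hx2⟩

omit [Finite G] in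
theorem le_norm_OC (a : G) : Cn a ≤ normalizer (OC a : Set G) := le_normalizer_OO (Cn a)

include h

/-- `O(C(t i)) ∩ C(x) = Δ(⟨t i, x⟩)` -/
theorem K_dl {i : Fin 5} {x : G} (hx : x ∈ EE t) (hx1 : x ≠ 1) (hxi : x ≠ t i) :
    OC (t i) ⊓ Cn x ≤ dl OC (t i) x := by
  rintro y ⟨hy1, hy2⟩
  refine ⟨⟨hy1, h.b0 i hx hx1 ⟨hy1, hy2⟩⟩, ?_⟩
  refine h.b0 i (mul_mem (Frame.t_mem t i) hx) (h.bal.mul_ne_one hx (Ne.symm hxi)) ⟨hy1, ?_⟩
  exact mem_Cn_mul (Data.OC_le hy1) hy2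

theorem ww_t (i : Fin 5) : ww (EE t) OC (t i) = OC (t i) := by
  refine le_antisymm Bal.ww_le ?_
  obtain ⟨j, k, l, m, hn⟩ := Frame.exists_compl1 i
  simp only [List.nodup_cons, List.mem_cons, List.not_mem_nil, or_false, not_or, not_false_eq_true,
              List.nodup_nil, and_true] at hn
  obtain ⟨⟨hij, hik, him, hin⟩, ⟨hjl, hjm, hjn⟩, ⟨hlm, hln⟩, hmn⟩ := hn
  have key : ∀ x ∈ EE t, x ≠ 1 → x ≠ t i → OC (t i) ⊓ Cn x ≤ ww (EE t) OC (t i) := fun x hx hx1 hxi =>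
    (K_dl h hx hx1 hxi).trans (Bal.dl_le_ww hx hx1 hxi)
  refine gen4 (a := t j) (b := t k) (h.sq j) (h.sq k) (h.comm j k) (OO_odd _) ?_ ?_ ?_ ?_ ?_
  · intro y hy
    exact Data.OC_conj (h.t_Cn j i) hy
  · intro y hy
    exact Data.OC_conj (h.t_Cn k i) hy
  · exact key _ (Frame.t_mem t j) (h.ne_one j) (h.inj j i (Ne.symm hij))
  · exact key _ (Frame.t_mem t k) (h.ne_one k) (h.inj k i (Ne.symm hik))
  · exact key _ (Frame.u_mem t j k) (h.u_ne_one hjl) (h.t_ne_u hjl).symm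

theorem W_odd : ¬ 2 ∣ Nat.card (WW t) := h.bal.tt_odd

/-- `C_W(t i) = O(C(t i))` -/
theorem W_inf_t (i : Fin 5) : WW t ⊓ Cn (t i) = OC (t i) := by
  rw [← ww_t h i]
  exact h.bal.tt_inf (Frame.t_mem t i) (h.ne_one i)

theorem OC_t_le (i : Fin 5) : OC (t i) ≤ WW t := by
  rw [← W_inf_t h i]; exact inf_le_left

/-- `C_W(t i t j)` -/
theorem W_inf_u {i j : Fin 5} (hij : i ≠ j) : WW t ⊓ Cn (t i * t j) = Wu t i j :=
  h.bal.tt_inf (Frame.u_mem t i j) (h.u_ne_one hij)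

theorem Wu_le_W {i j : Fin 5} (hij : i ≠ j) : Wu t i j ≤ WW t := by
  rw [← W_inf_u h hij]; exact inf_le_left

omit h [Finite G] in
theorem Wu_le (i j : Fin 5) : Wu t i j ≤ OC (t i * t j) := Bal.ww_le

omit [Finite G] in
theorem Wu_comm (i j : Fin 5) : Wu t i j = Wu t j i := by
  rw [Wu, Wu, h.comm]

theorem Wu_odd {i j : Fin 5} (hij : i ≠ j) : ¬ 2 ∣ Nat.card (Wu t i j) := h.bal.ww_odd (Frame.u_mem t i j) (h.u_ne_one hij)

/-- `O(C(t k)) ∩ C(t i t j) ≤ C_W(t i t j)` -/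
theorem Z_le {i j : Fin 5} (hij : i ≠ j) (k : Fin 5) : OC (t k) ⊓ Cn (t i * t j) ≤ Wu t i j := by
  rw [← W_inf_u h hij]
  exact inf_le_inf_right _ (OC_t_le h k)

/-- `C_W(t i t j) ∩ C(t k) = O(C(t k)) ∩ C(t i t j)` -/
theorem Wu_inf {i j : Fin 5} (hij : i ≠ j) (k : Fin 5) : Wu t i j ⊓ Cn (t k) = OC (t k) ⊓ Cn (t i * t j) := by
  rw [← W_inf_u h hij, ← W_inf_t h k, inf_right_comm]

/-- `C_W(t i t j) = ⟨O(C(t x)) ∩ C(t i t j) : x ≠ i, j⟩` -/
theorem Wu_le_sup {i j k l m : Fin 5} (hn : [i, j, k, l, m].Nodup) :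
    Wu t i j ≤ (OC (t k) ⊓ Cn (t i * t j)) ⊔ (OC (t l) ⊓ Cn (t i * t j)) ⊔ (OC (t m) ⊓ Cn (t i * t j)) := by
  have hn5 := hn
  simp only [List.nodup_cons, List.mem_cons, List.not_mem_nil, or_false, not_or, not_false_eq_true,
              List.nodup_nil, and_true] at hn5
  obtain ⟨⟨hij, hik, hil, him⟩, ⟨hjk, hjl, hjm⟩, ⟨hkl, hkm⟩, hlm⟩ := hn5
  refine gen4 (a := t k) (b := t l) (h.sq k) (h.sq l) (h.comm k l) (Wu_odd h hij) ?_ ?_ ?_ ?_ ?_
  · intro y hy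
    exact h.bal.ww_inv (Frame.u_mem t i j) (h.u_ne_one hij) (Frame.t_mem t k) hy
  · intro y hy
    exact h.bal.ww_inv (Frame.u_mem t i j) (h.u_ne_one hij) (Frame.t_mem t l) hy
  · rw [Wu_inf h hij k]; exact le_sup_left.trans le_sup_left
  · rw [Wu_inf h hij l]; exact le_sup_right.trans le_sup_left
  · refine le_trans ?_ (le_sup_right (b := OC (t m) ⊓ Cn (t i * t j)))
    rw [← Wu_inf h hij m]
    rintro y ⟨hy1, hy2⟩
    refine ⟨hy1, ?_⟩
    have hy3 : y ∈ Cn (t i * t j) := Data.OC_le (Wu_le i j hy1)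
    have := mem_Cn_mul hy3 hy2
    rwa [h.quadruple hn] at this

/-- `O(C(t i t j)) = C_W(t i t j) C`, where `C` centralises `E` -/
theorem O_le_sup {i j k l m : Fin 5} (hn : [i, j, k, l, m].Nodup) :
    OC (t i * t j) ≤ (OC (t i * t j) ⊓ Cn (t k) ⊓ Cn (t l) ⊓ Cn (t m)) ⊔ Wu t i j := by
  have hn5 := hn
  simp only [List.nodup_cons, List.mem_cons, List.not_mem_nil, or_false, not_or, not_false_eq_true,
              List.nodup_nil, and_true] at hn5
  obtain ⟨⟨hij, hik, hil, him⟩, ⟨hjk, hjl, hjm⟩, ⟨hkl, hkm⟩, hlm⟩ := hn5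
  -- one step
  have key : ∀ a b c : Fin 5, [i, j, a, b, c].Nodup → OC (t i * t j) ⊓ Cn (t a) ≤
      (OC (t i * t j) ⊓ Cn (t a) ⊓ Cn (t b) ⊓ Cn (t c)) ⊔ Wu t i j := by
    rintro a b c hn g ⟨hg1, hg2⟩
    have hn4 := hn
    simp only [List.nodup_cons, List.mem_cons, List.not_mem_nil, or_false, not_or, not_false_eq_true,
              List.nodup_nil, and_true] at hn
    obtain ⟨⟨hij, hia, hib, hic⟩, ⟨hja, hjb, hjc⟩, ⟨hab, hac⟩, hbc⟩ := hn
    have h1 := h.tor i j a b (Frame.nodup4 hij hia hib hja hjb hab) g hg1 hg2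
    have h2 : t b * g * (t b)⁻¹ * g⁻¹ ∈ OC (t a) ⊓ Cn (t i * t j) := by
      refine Subgroup.mem_inf.2 ⟨?_, ?_⟩
      · have e : t b * g * (t b)⁻¹ * g⁻¹ = (g * t b * g⁻¹ * (t b)⁻¹)⁻¹ := by group
        rw [e]; exact inv_mem h1
      · exact mul_mem (Data.Cn_conj_mem (h.t_Cnu b i j) (Data.OC_le hg1)) (inv_mem (Data.OC_le hg1))
    obtain ⟨v, hv, -, hvg⟩ := decomp (h.sq b) (Data.odd_of_mem h2.1)
    have hvZ := (zpowers_le.2 h2) hv
    have hvW := Z_le h hij a hvZ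
    have hvO := Wu_le i j hvW
    have e : g = v⁻¹ * (v * g) := by group
    rw [e]
    refine mul_mem (mem_sup_right (inv_mem hvW)) (mem_sup_left ?_)
    have h3 : v * g ∈ OC (t i * t j) := mul_mem hvO hg1
    have h4 : v * g ∈ Cn (t a) := mul_mem (Data.OC_le hvZ.1) hg2
    refine ⟨⟨⟨h3, h4⟩, hvg⟩, ?_⟩
    have := mem_Cn_mul (Data.OC_le h3) (mem_Cn_mul h4 hvg)
    rwa [h.quadruple hn4] at this
  refine gen4 (a := t k) (b := t l) (h.sq k) (h.sq l) (h.comm k l) (OO_odd _) ?_ ?_ ?_ ?_ ?_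
  · intro y hy
    exact Data.OC_conj (h.t_Cnu k i j) hy
  · intro y hy
    exact Data.OC_conj (h.t_Cnu l i j) hy
  · exact key k l m hn
  · refine (key l k m (by simp [*, Ne.symm hkl])).trans (sup_le_sup_right ?_ _)
    exact le_of_eq (by rw [inf_right_comm (OC (t i * t j)) (Cn (t l)) (Cn (t k))])
  · refine le_trans ?_ ((key m k l (by simp [*, Ne.symm hkm, Ne.symm hlm])).trans (sup_le_sup_right ?_ _))
    · rintro y ⟨hy1, hy2⟩
      refine ⟨hy1, ?_⟩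
      have := mem_Cn_mul (Data.OC_le hy1) hy2
      rwa [h.quadruple hn] at this
    · rintro y ⟨⟨⟨hy1, hy2⟩, hy3⟩, hy4⟩
      exact ⟨⟨⟨hy1, hy3⟩, hy4⟩, hy2⟩

/-- `C_W(t i t j)` is normal in `O(C(t i t j))` -/
theorem O_le_norm {i j : Fin 5} (hij : i ≠ j) : OC (t i * t j) ≤ normalizer (Wu t i j : Set G) := by
  obtain ⟨k, l, m, hn⟩ := Frame.exists_compl2 i j hij
  refine (O_le_sup h hn).trans (sup_le ?_ le_normalizer)
  have key : ∀ x, OC (t i * t j) ⊓ Cn (t k) ⊓ Cn (t l) ⊓ Cn (t m) ≤ Cn (t x) →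
      OC (t i * t j) ⊓ Cn (t k) ⊓ Cn (t l) ⊓ Cn (t m) ≤
        normalizer ((OC (t x) ⊓ Cn (t i * t j) : Subgroup G) : Set G) := by
    intro x hx
    refine le_norm_inf (hx.trans (le_norm_OC _)) ?_
    exact ((inf_le_left.trans inf_le_left).trans inf_le_left).trans (OO_le _)
  exact mem_normalizer_of_gen (Z_le h hij k) (Z_le h hij l) (Z_le h hij m) (Wu_le_sup h hn)
    (key k ((inf_le_left.trans inf_le_left).trans inf_le_right)) (key l (inf_le_left.trans inf_le_right))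
    (key m inf_le_right)

/-- `[O(C(t i t j)), t k] ≤ C_W(t i t j)` -/
theorem comm_mem {i j k : Fin 5} (hn : [i, j, k].Nodup) {g : G} (hg : g ∈ OC (t i * t j)) :
    t k * g * (t k)⁻¹ * g⁻¹ ∈ Wu t i j := by
  obtain ⟨l, m, hn5⟩ := Frame.exists_compl3 i j k hn
  have hij : i ≠ j := by
    simp only [List.nodup_cons, List.mem_cons, List.not_mem_nil, or_false, not_or, not_false_eq_true,
              List.nodup_nil, and_true] at hn
    exact hn.1.1
  have h1 := O_le_sup h hn5 hg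
  have hnorm : OC (t i * t j) ⊓ Cn (t k) ⊓ Cn (t l) ⊓ Cn (t m) ≤ normalizer (Wu t i j : Set G) :=
    ((inf_le_left.trans inf_le_left).trans inf_le_left).trans (O_le_norm h hij)
  rw [mem_sup_iff_mul hnorm] at h1
  obtain ⟨c, hc, w, hw, rfl⟩ := h1
  have hck := mem_Cn.1 (hc.1.1.2)
  have e : t k * (c * w) * (t k)⁻¹ * (c * w)⁻¹ = c * ((t k * w * (t k)⁻¹) * w⁻¹) * c⁻¹ := by
    have e1 : t k * (c * w) = c * (t k * w) := by rw [← mul_assoc, ← hck, mul_assoc]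
    rw [e1]; group
  rw [e]
  refine conj_mem hnorm hc (mul_mem ?_ (inv_mem hw))
  exact h.bal.ww_inv (Frame.u_mem t i j) (h.u_ne_one hij) (Frame.t_mem t k) hw

/-- `C(t k, t i t j)` normalises `C_W(t i t j)`. -/
theorem le_norm_Wu {i j k : Fin 5} (hn : [i, j, k].Nodup) :
    Cn (t k) ⊓ Cn (t i * t j) ≤ normalizer (Wu t i j : Set G) := by
  have hij : i ≠ j := by
    simp only [List.nodup_cons, List.mem_cons, List.not_mem_nil, or_false, not_or, not_false_eq_true,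
              List.nodup_nil, and_true] at hn
    exact hn.1.1
  rw [le_normalizer_iff']
  rintro c ⟨hck, hcu⟩ x hx
  -- the conjugate `N` of `C_W(t i t j)`
  have hcomm : t k * c = c * t k := (mem_Cn.1 hck).symm
  have hle : (Wu t i j).map (MulAut.conj c).toMonoidHom ≤ OC (t i * t j) := by
    rintro _ ⟨y, hy, rfl⟩
    exact Data.OC_conj hcu (Wu_le i j hy)
  refine mem_of_comm (X := (Wu t i j).map (MulAut.conj c).toMonoidHom) (a := t k) (h.sq k) ?_ ?_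
    ⟨x, hx, rfl⟩ ?_ ?_
  · rw [card_map_of_injective (MulAut.conj c).injective]
    exact Wu_odd h hij
  · rintro _ ⟨y, hy, rfl⟩
    refine ⟨t k * y * (t k)⁻¹, h.bal.ww_inv (Frame.u_mem t i j) (h.u_ne_one hij) (Frame.t_mem t k) hy, ?_⟩
    show c * (t k * y * (t k)⁻¹) * c⁻¹ = t k * (c * y * c⁻¹) * (t k)⁻¹
    have e1 : (t k)⁻¹ * c⁻¹ = c⁻¹ * (t k)⁻¹ := by rw [← mul_inv_rev, ← mul_inv_rev, hcomm]
    calc c * (t k * y * (t k)⁻¹) * c⁻¹ = (c * t k) * y * ((t k)⁻¹ * c⁻¹) := by group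
      _ = (t k * c) * y * (c⁻¹ * (t k)⁻¹) := by rw [← hcomm, e1]
      _ = _ := by group
  · exact comm_mem h hn (hle ⟨x, hx, rfl⟩)
  · rintro _ ⟨⟨y, hy, rfl⟩, hy2⟩
    have hy3 : y ∈ Cn (t k) := by
      rw [← mem_Cn_conj_iff (g := c)]
      have e : c * t k * c⁻¹ = t k := by rw [← hcomm]; group
      rw [e]; exact hy2
    have hy4 : y ∈ OC (t k) ⊓ Cn (t i * t j) := by
      rw [← Wu_inf h hij k]; exact ⟨hy, hy3⟩
    exact Z_le h hij k ⟨Data.OC_conj hck hy4.1, Data.Cn_conj_mem hcu hy4.2⟩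

omit h in
/-- generation of `W` by the centralizers in `W` of the elements of a four-group of `E` -/
theorem W_gen (h : Data t) {a b : G} (ha : a ∈ EE t) (hb : b ∈ EE t) {S : Subgroup G} (h1 : WW t ⊓ Cn a ≤ S)
    (h2 : WW t ⊓ Cn b ≤ S) (h3 : WW t ⊓ Cn (a * b) ≤ S) : WW t ≤ S :=
  gen4 (h.sq_E a ha) (h.sq_E b hb) (h.comm_E a ha b hb) (W_odd h) (fun _ hy => h.bal.tt_inv ha hy)
    (fun _ hy => h.bal.tt_inv hb hy) h1 h2 h3

/-- **`C(t k, t i t j)` normalises `W`.** -/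
theorem le_norm_W {i j k : Fin 5} (hn : [i, j, k].Nodup) :
    Cn (t k) ⊓ Cn (t i * t j) ≤ normalizer (WW t : Set G) := by
  obtain ⟨l, m, hn5⟩ := Frame.exists_compl3 i j k hn
  have hn5' := hn5
  simp only [List.nodup_cons, List.mem_cons, List.not_mem_nil, or_false, not_or, not_false_eq_true,
              List.nodup_nil, and_true] at hn5'
  obtain ⟨⟨hij, hik, hil, him⟩, ⟨hjk, hjl, hjm⟩, ⟨hkl, hkm⟩, hlm⟩ := hn5'
  have e : t k * (t i * t j) = t l * t m :=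
    (h.comm_E _ (Frame.t_mem t k) _ (Frame.u_mem t i j)).trans (h.triple hn5)
  refine mem_normalizer_of_gen (A := OC (t k)) (B := Wu t i j) (C := Wu t l m) (OC_t_le h k) (Wu_le_W h hij)
    (Wu_le_W h hlm) ?_ (inf_le_left.trans (le_norm_OC _)) (le_norm_Wu h hn) ?_
  · refine W_gen h (Frame.t_mem t k) (Frame.u_mem t i j) ?_ ?_ ?_
    · rw [W_inf_t h]; exact le_sup_left.trans le_sup_left
    · rw [W_inf_u h hij]; exact le_sup_right.trans le_sup_left
    · rw [e, W_inf_u h hlm]; exact le_sup_right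
  · refine le_trans ?_ (le_norm_Wu h (i := l) (j := m) (k := k) (by simp [*, Ne.symm hkl, Ne.symm hkm]))
    refine le_inf inf_le_left ?_
    rintro x ⟨hx1, hx2⟩
    rw [← e]
    exact mem_Cn_mul hx1 hx2

omit h in
/-- An element which normalises `E` normalises `W` (no hypothesis on the cores). -/
theorem conj_mem_W {E : Subgroup G} {g : G} (hg : ∀ x ∈ E, g * x * g⁻¹ ∈ E) {x : G} (hx : x ∈ TwoBal.tt E OC) :
    g * x * g⁻¹ ∈ TwoBal.tt E OC := by
  have h1 : (TwoBal.tt E OC).map (MulAut.conj g).toMonoidHom ≤ TwoBal.tt E OC := by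
    rw [TwoBal.tt, Subgroup.map_iSup]
    refine iSup_le ?_
    rintro ⟨a, ha, ha1⟩
    rw [ww, Subgroup.map_iSup]
    refine iSup_le ?_
    rintro ⟨b, hb, hb1, hba⟩
    have ha' : g * a * g⁻¹ ≠ 1 := by
      intro e
      rw [mul_inv_eq_one, mul_eq_left] at e
      exact ha1 e
    have hb' : g * b * g⁻¹ ≠ 1 := by
      intro e
      rw [mul_inv_eq_one, mul_eq_left] at e
      exact hb1 e
    have hba' : g * b * g⁻¹ ≠ g * a * g⁻¹ := fun e => hba (mul_left_cancel (mul_right_cancel e))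
    refine le_trans ?_ (le_iSup (fun a : {a : G // a ∈ E ∧ a ≠ 1} => ww E OC a)
      ⟨g * a * g⁻¹, hg a ha, ha'⟩)
    refine le_trans ?_ (Bal.dl_le_ww (E := E) (u := g * a * g⁻¹) (x := g * b * g⁻¹) (hg b hb) hb' hba')
    rintro _ ⟨y, hy, rfl⟩
    refine ⟨⟨mem_OO_conj hy.1.1, mem_OO_conj hy.1.2⟩, ?_⟩
    have h2 := mem_OO_conj (g := g) hy.2
    have e : g * a * g⁻¹ * (g * b * g⁻¹) = g * (a * b) * g⁻¹ := by group
    change g * y * g⁻¹ ∈ OC (g * a * g⁻¹ * (g * b * g⁻¹))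
    rw [e]
    exact h2
  exact h1 ⟨x, hx, rfl⟩

omit h in
/-- `N(E) ≤ N(W)` -/
theorem normalizer_E_le (E : Subgroup G) : normalizer (E : Set G) ≤ normalizer (TwoBal.tt E OC : Set G) := by
  rw [le_normalizer_iff']
  intro g hg x hx
  exact conj_mem_W (fun y hy => (mem_normalizer_iff.1 hg y).1 hy) hx

/-- In the `1`-balanced case `C_W(t i t j) = O(C(t i t j))`. -/
theorem Wu_eq_of_one (h1 : ∀ i j k, [i, j, k].Nodup → OC (t i * t j) ⊓ Cn (t k) ≤ OC (t k)) {i j : Fin 5}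
    (hij : i ≠ j) : Wu t i j = OC (t i * t j) := by
  refine le_antisymm (Wu_le i j) ?_
  obtain ⟨k, l, m, hn⟩ := Frame.exists_compl2 i j hij
  have hn5 := hn
  simp only [List.nodup_cons, List.mem_cons, List.not_mem_nil, or_false, not_or, not_false_eq_true,
              List.nodup_nil, and_true] at hn5
  obtain ⟨⟨-, hik, hil, him⟩, ⟨hjk, hjl, hjm⟩, ⟨hkl, hkm⟩, hlm⟩ := hn5
  have key : ∀ x, [i, j, x].Nodup → OC (t i * t j) ⊓ Cn (t x) ≤ Wu t i j := fun x hx =>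
    (le_inf (h1 i j x hx) (inf_le_left.trans (OO_le _))).trans (Z_le h hij x)
  refine gen4 (a := t k) (b := t l) (h.sq k) (h.sq l) (h.comm k l) (OO_odd _) ?_ ?_ ?_ ?_ ?_
  · intro y hy
    exact Data.OC_conj (h.t_Cnu k i j) hy
  · intro y hy
    exact Data.OC_conj (h.t_Cnu l i j) hy
  · exact key k (by simp [*])
  · exact key l (by simp [*])
  · refine le_trans ?_ (key m (by simp [*]))
    rintro y ⟨hy1, hy2⟩
    refine ⟨hy1, ?_⟩
    have := mem_Cn_mul (Data.OC_le hy1) hy2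
    rwa [h.quadruple hn] at this

/-- In the `1`-balanced case `C(t i, t j)` normalises `W`. -/
theorem le_norm_W_of_one (h1 : ∀ i j k, [i, j, k].Nodup → OC (t i * t j) ⊓ Cn (t k) ≤ OC (t k)) {i j : Fin 5}
    (hij : i ≠ j) : Cn (t i) ⊓ Cn (t j) ≤ normalizer (WW t : Set G) := by
  refine mem_normalizer_of_gen (A := OC (t i)) (B := OC (t j)) (C := OC (t i * t j)) (OC_t_le h i) (OC_t_le h j)
    ?_ ?_ (inf_le_left.trans (le_norm_OC _)) (inf_le_right.trans (le_norm_OC _)) ?_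
  · rw [← Wu_eq_of_one h h1 hij]
    exact Wu_le_W h hij
  · refine W_gen h (Frame.t_mem t i) (Frame.t_mem t j) ?_ ?_ ?_
    · rw [W_inf_t h]; exact le_sup_left.trans le_sup_left
    · rw [W_inf_t h]; exact le_sup_right.trans le_sup_left
    · rw [W_inf_u h hij, Wu_eq_of_one h h1 hij]; exact le_sup_right
  · refine le_trans ?_ (le_norm_OC _)
    rintro x ⟨hx1, hx2⟩
    exact mem_Cn_mul hx1 hx2

/-! ### The end: `W = 1` -/

/-- If `W = 1` then `O(C(t i)) = 1`. -/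
theorem OC_t_eq_bot (hW : WW t = ⊥) (i : Fin 5) : OC (t i) = ⊥ := by
  rw [eq_bot_iff, ← hW]
  exact OC_t_le h i

/-- If `W = 1` then `O(C(t i t j))` is centralised by `t k`, `k ≠ i, j`. -/
theorem OC_u_le (hW : WW t = ⊥) {i j k : Fin 5} (hn : [i, j, k].Nodup) : OC (t i * t j) ≤ Cn (t k) := by
  intro g hg
  have hij : i ≠ j := by
    simp only [List.nodup_cons, List.mem_cons, List.not_mem_nil, or_false, not_or, not_false_eq_true,
              List.nodup_nil, and_true] at hn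
    exact hn.1.1
  have h1 := Wu_le_W h hij (comm_mem h hn hg)
  rw [hW, mem_bot, mul_inv_eq_one, mul_inv_eq_iff_eq_mul] at h1
  exact mem_Cn.2 h1.symm

/-- If `W = 1` then `t i` inverts `O(C(t i t j))`. -/
theorem inv_u (hW : WW t = ⊥) {i j : Fin 5} (hij : i ≠ j) {g : G} (hg : g ∈ OC (t i * t j)) :
    t i * g * (t i)⁻¹ = g⁻¹ := by
  obtain ⟨k, l, m, hn⟩ := Frame.exists_compl2 i j hij
  have hn5 := hn
  simp only [List.nodup_cons, List.mem_cons, List.not_mem_nil, or_false, not_or, not_false_eq_true,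
              List.nodup_nil, and_true] at hn5
  obtain ⟨⟨-, hik, hil, him⟩, ⟨hjk, hjl, hjm⟩, ⟨hkl, hkm⟩, hlm⟩ := hn5
  have h1 := h.invert hij hik hg (OC_u_le h hW (i := i) (j := j) (k := k) (by simp [*]) hg)
  rw [OC_t_eq_bot h hW, mem_bot] at h1
  exact mul_eq_one_iff_eq_inv.1 h1

end Cfsg.Agent.SylowSp4.CoreW
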