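import Cfsg.Agent.SylowSp4.FieldPart
import Cfsg.Agent.SylowSp4.CoreW

/-!
# The standard quintuple

`q5 f s = (t₁, t₂, t, s, t s e)`, `t₁ = t s (y, y)`, `t₂ = t₁ e`. The completion `W0 f s` of the cores of the 15
involutions of `⟨t, s, e, (y, y)⟩`.
-/

set_option autoImplicit false

namespace Cfsg.Agent.SylowSp4.QuintData

open QuaternionGroup Cfsg.Agent.SylowSp4.Coord Cfsg.Agent.SylowSp4.Pat Subgroup
open Cfsg.Agent.Walter.OddCoreIn Cfsg.Agent.SylowSp4.DuoFacts Cfsg.Agent.SylowSp4.Pairs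
open Cfsg.Agent.SylowSp4.Triples Cfsg.Agent.SylowSp4.FieldPart Cfsg.Agent.SylowSp4.CoreFrame
open Cfsg.Agent.SylowSp4.CoreW Cfsg.Agent.SylowSp4.FrameTools

variable {G : Type*} [Group G]

section Gen

variable [Finite G] {P : Sylow 2 G} {k : ℕ} {f : Q k → Q k → G} {s : G}
  {H L : Type*} [Group H] [Group L] {π : Cn (tt f) →* H} {D : Duo H L} {ι : Q k →* L} {Φ : Subgroup H}

/-- The hypotheses of `CoreFrame` hold for all quintuples of conjugates of `t`. -/
theorem data_of_frame (p : Pat P k f s) (c : Cent k f s π D ι Φ) (U : UData f) (F : SLFact D.ζ ι) {t : Fin 5 → G}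
    (hfr : Frame t) (ht : ∀ i, IsConj (tt f) (t i)) : Data t where
  toFrame := hfr
  A := fun i j hij => by
    rw [core_symm p c F.noOdd (ht i) (ht j) (hfr.comm i j) (hfr.inj i j hij)]
    exact inf_le_left
  B₁ := fun i j hij => by
    rw [← core_pair p c F.noOdd (ht i) (ht j) (hfr.comm i j) (hfr.inj i j hij),
      ← U.core _ _ (ht i) (ht j) (hfr.comm i j) (hfr.inj i j hij)]
    exact inf_le_left
  B₂ := fun i j hij => by
    rw [U.core _ _ (ht i) (ht j) (hfr.comm i j) (hfr.inj i j hij),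
      core_pair p c F.noOdd (ht i) (ht j) (hfr.comm i j) (hfr.inj i j hij)]
    exact inf_le_left
  star := fun i j hij y hy ho => U.star _ _ (ht i) (ht j) (hfr.comm i j) (hfr.inj i j hij) y hy ho
  tor := fun i j a b hn g hg hga => by
    obtain ⟨m, hn5⟩ := Frame.exists_compl4 i j a b hn
    simp only [List.nodup_cons, List.mem_cons, List.not_mem_nil, or_false, not_or, not_false_eq_true,
              List.nodup_nil, and_true] at hn5
    obtain ⟨⟨hij, hia, hib, him⟩, ⟨hja, hjb, hjm⟩, ⟨hab, ham⟩, hbm⟩ := hn5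
    refine tor p c U F (d := t m) (ht a) (ht b) (ht m) (hfr.comm a b) (hfr.comm a m) (hfr.comm b m)
      (hfr.inj a b hab) (hfr.inj a m ham) (hfr.inj b m hbm) ?_ hga
    have e := hfr.triple (i := a) (j := b) (k := m) (l := i) (m := j)
      (by simp [*, Ne.symm hia, Ne.symm hja, Ne.symm hib, Ne.symm hjb, Ne.symm him, Ne.symm hjm])
    rw [e]; exact hg

end Gen

section Std

variable {P : Sylow 2 G} {k : ℕ} {f : Q k → Q k → G} {s : G}

/-- `(y, y)` -/
abbrev ff (f : Q k → Q k → G) : G := f (xa 0) (xa 0)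

/-- The standard quintuple `(t₁, t₂, t, s, t s e)`. -/
def q5 (f : Q k → Q k → G) (s : G) : Fin 5 → G := ![t1 f s, t1 f s * ee f, tt f, s, tt f * s * ee f]

variable (p : Pat P k f s)

include p

theorem conj_q5 (i : Fin 5) : IsConj (tt f) (q5 f s i) := by
  fin_cases i
  · exact t1_conj p
  · exact t2_conj p
  · exact IsConj.refl _
  · exact p.ts
  · exact conj_tsf p (Facts.c_sq p.h.hk)

theorem ts_comm : Commute (tt f) s := (mem_Cn.1 (s_comm_t p)).symm

theorem te_comm : Commute (tt f) (ee f) := (ee_comm_t p).symm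

theorem tf_comm : Commute (tt f) (ff f) := p.h.t_comm (p.h.f_mem _ _)

theorem se_comm : Commute s (ee f) := s_comm_diag p _

theorem sf_comm : Commute s (ff f) := s_comm_diag p _

theorem ef_comm : Commute (ee f) (ff f) := by
  have hk := p.h.hk
  refine (show f (xa 0) (xa 0) * ee f = ee f * f (xa 0) (xa 0) from ?_).symm
  rw [Facts.comm_iff p.h]
  exact Or.inr ⟨xc_eq hk, xc_eq hk⟩

theorem comm_q5 (i j : Fin 5) : q5 f s i * q5 f s j = q5 f s j * q5 f s i := by
  have hts := ts_comm p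
  have hte := te_comm p
  have htf := tf_comm p
  have hse := se_comm p
  have hsf := sf_comm p
  have hef := ef_comm p
  have key : ∀ x : G, Commute x (tt f) → Commute x s → Commute x (ee f) → Commute x (ff f) →
      ∀ i, Commute x (q5 f s i) := by
    intro x h1 h2 h3 h4 i
    fin_cases i
    · exact (h1.mul_right h2).mul_right h4
    · exact ((h1.mul_right h2).mul_right h4).mul_right h3
    · exact h1
    · exact h2
    · exact (h1.mul_right h2).mul_right h3
  have ht : ∀ i, Commute (tt f) (q5 f s i) := key _ (Commute.refl _) hts hte htf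
  have hs : ∀ i, Commute s (q5 f s i) := key _ hts.symm (Commute.refl _) hse hsf
  have he : ∀ i, Commute (ee f) (q5 f s i) := key _ hte.symm hse.symm (Commute.refl _) hef
  have hf : ∀ i, Commute (ff f) (q5 f s i) := key _ htf.symm hsf.symm hef.symm (Commute.refl _)
  exact (key _ (ht i).symm (hs i).symm (he i).symm (hf i).symm j).eq

/-- coordinates of the members of the quintuple outside the base group -/
theorem q5_coord : ∀ i : Fin 5, i ≠ 2 → q5 f s i =
    f ((![z k * xa 0, z k * (xa 0 * Facts.c k), 1, 1, z k * Facts.c k] : Fin 5 → Q k) i)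
      ((![xa 0, xa 0 * Facts.c k, 1, 1, Facts.c k] : Fin 5 → Q k) i) * s := by
  have h1 : ∀ α : Q k, tt f * s * f α α = f (z k * α) α * s := by
    intro α
    rw [mul_assoc, s_comm_diag p, ← mul_assoc, p.h.f_mul, one_mul]
  intro i hi
  fin_cases i
  · exact h1 _
  · show tt f * s * f (xa 0) (xa 0) * f (Facts.c k) (Facts.c k) = _
    rw [mul_assoc, p.h.f_mul]
    exact h1 _
  · exact absurd rfl hi
  · show s = f 1 1 * s
    rw [p.h.f_one, one_mul]
  · exact h1 _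

theorem inj_q5 (i j : Fin 5) (hij : i ≠ j) : q5 f s i ≠ q5 f s j := by
  have hk := p.h.hk
  have base : ∀ i : Fin 5, i ≠ 2 → q5 f s i ≠ tt f := by
    intro i hi h
    rw [q5_coord p i hi] at h
    apply p.h.s_ne ((((![z k * xa 0, z k * (xa 0 * Facts.c k), 1, 1, z k * Facts.c k] : Fin 5 → Q k) i))⁻¹ * z k)
      ((((![xa 0, xa 0 * Facts.c k, 1, 1, Facts.c k] : Fin 5 → Q k) i))⁻¹ * 1)
    rw [← p.h.f_mul, ← p.h.f_inv]
    exact eq_inv_mul_of_mul_eq h
  by_cases hi : i = 2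
  · subst hi
    exact fun h => base j (Ne.symm hij) h.symm
  by_cases hj : j = 2
  · subst hj
    exact fun h => base i hi h
  intro h
  rw [q5_coord p i hi, q5_coord p j hj] at h
  have h1 := mul_right_cancel h
  have c1 : Facts.c k ≠ 1 := Facts.ne_one_of_sq_z (Facts.c_sq hk)
  have c2 : Facts.c k ≠ z k := Facts.ne_z_of_sq_z (Facts.c_sq hk)
  have y1 : (xa 0 : Q k) ≠ 1 := Facts.ne_one_of_sq_z (xa_sq 0)
  have y2 : (xa 0 : Q k) ≠ z k := Facts.ne_z_of_sq_z (xa_sq 0)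
  have w0 : ((xa 0 : Q k) * Facts.c k) * (xa 0 * Facts.c k) = z k := by
    rw [Facts.c, xa_mul_a]; exact xa_sq _
  have w1 : (xa 0 : Q k) * Facts.c k ≠ 1 := Facts.ne_one_of_sq_z w0
  have w2 : (xa 0 : Q k) * Facts.c k ≠ z k := Facts.ne_z_of_sq_z w0
  have v1 : (xa 0 : Q k) ≠ Facts.c k := by
    rw [Facts.c]; exact fun h => by cases h
  have v2 : (xa 0 : Q k) ≠ z k * Facts.c k := by
    rw [Facts.c, Facts.z_mul_a]; exact fun h => by cases h
  have u1 : (xa 0 : Q k) * Facts.c k ≠ Facts.c k := fun h => y1 (mul_eq_right.1 h)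
  have u2 : (xa 0 : Q k) * Facts.c k ≠ z k * Facts.c k := fun h => y2 (mul_right_cancel h)
  have r1 : (xa 0 : Q k) * Facts.c k ≠ xa 0 := fun h => c1 (mul_eq_left.1 h)
  have r2 : (xa 0 : Q k) * Facts.c k ≠ z k * xa 0 := by
    rw [Coord.z_comm]; exact fun h => c2 (mul_left_cancel h)
  have m : ∀ a b : Q k, a ≠ b → a ≠ z k * b → ∀ c d : Q k, f c a ≠ f d b := by
    intro a b hab hab' c d h
    rcases p.h.f_inj _ _ _ _ h with ⟨-, h⟩ | ⟨-, h⟩
    · exact hab h
    · exact hab' h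
  have key : ∀ a b : Q k, a ≠ b → a ≠ z k * b → (∀ c d : Q k, f c a ≠ f d b) ∧ ∀ c d : Q k, f c b ≠ f d a := by
    intro a b h1 h2
    refine ⟨m a b h1 h2, m b a (Ne.symm h1) fun h => h2 ?_⟩
    rw [h, zz_mul]
  have n1 := key (xa 0) 1 y1 (by rw [mul_one]; exact y2)
  have n2 := key (xa 0 * Facts.c k) 1 w1 (by rw [mul_one]; exact w2)
  have n3 := key (Facts.c k) 1 c1 (by rw [mul_one]; exact c2)
  have n4 := key (xa 0) (Facts.c k) v1 v2
  have n5 := key (xa 0 * Facts.c k) (Facts.c k) u1 u2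
  have n6 := key (xa 0 * Facts.c k) (xa 0) r1 r2
  fin_cases i <;> fin_cases j <;> first
    | exact hij rfl
    | exact hi rfl
    | exact hj rfl
    | exact n1.1 _ _ h1
    | exact n1.2 _ _ h1
    | exact n2.1 _ _ h1
    | exact n2.2 _ _ h1
    | exact n3.1 _ _ h1
    | exact n3.2 _ _ h1
    | exact n4.1 _ _ h1
    | exact n4.2 _ _ h1
    | exact n5.1 _ _ h1
    | exact n5.2 _ _ h1
    | exact n6.1 _ _ h1
    | exact n6.2 _ _ h1

theorem frame_q5 : Frame (q5 f s) where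
  sq := fun i => sq_of_conj p (conj_q5 p i)
  comm := comm_q5 p
  ne_one := fun i => ne_one_of_conj p (conj_q5 p i)
  inj := inj_q5 p
  prod := by
    show t1 f s * (t1 f s * ee f) * tt f * s * (tt f * s * ee f) = 1
    rw [t1_mul_t2 p]
    have hts := (ts_comm p).eq
    have hte := (te_comm p).eq
    have hse := (se_comm p).eq
    calc ee f * tt f * s * (tt f * s * ee f) = ee f * tt f * (s * tt f) * s * ee f := by group
      _ = ee f * (tt f * tt f) * (s * s) * ee f := by rw [← hts]; group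
      _ = 1 := by rw [t_sq p, s_sq p, mul_one, mul_one, ee_sq p]

theorem q5_01 : q5 f s 0 * q5 f s 1 = ee f := t1_mul_t2 p

theorem q5_14 : q5 f s 1 * q5 f s 4 = ff f := by
  show t1 f s * ee f * (tt f * s * ee f) = ff f
  have hts := (ts_comm p).eq
  have hte := (te_comm p).eq
  have hse := (se_comm p).eq
  have htf := (tf_comm p).eq
  have hsf := (sf_comm p).eq
  calc t1 f s * ee f * (tt f * s * ee f) = tt f * s * ff f * (ee f * tt f) * s * ee f := by group
    _ = tt f * s * (ff f * tt f) * (ee f * s) * ee f := by rw [← hte]; group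
    _ = tt f * s * tt f * (ff f * s) * (ee f * ee f) := by rw [← htf, ← hse]; group
    _ = tt f * (s * tt f) * s * ff f := by rw [ee_sq p, mul_one, ← hsf]; group
    _ = (tt f * tt f) * (s * s) * ff f := by rw [← hts]; group
    _ = ff f := by rw [t_sq p, s_sq p, one_mul, one_mul]

theorem q5_04 : q5 f s 0 * q5 f s 4 = ff f * ee f := by
  have h1 := q5_14 p
  have h2 : q5 f s 1 = q5 f s 0 * ee f := rfl
  have h3 : ee f * q5 f s 4 = q5 f s 4 * ee f := by
    show ee f * (tt f * s * ee f) = tt f * s * ee f * ee f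
    have hte := (te_comm p).eq
    have hse := (se_comm p).eq
    calc ee f * (tt f * s * ee f) = (ee f * tt f) * s * ee f := by group
      _ = tt f * (ee f * s) * ee f := by rw [← hte]; group
      _ = _ := by rw [← hse]; group
  have h4 : q5 f s 0 * q5 f s 4 * ee f = ff f := by
    rw [← h1, h2, mul_assoc, mul_assoc, h3]
  have h5 : q5 f s 0 * q5 f s 4 = q5 f s 0 * q5 f s 4 * ee f * ee f := by
    rw [mul_assoc _ (ee f) (ee f), ee_sq p, mul_one]
  rw [h5, h4]

theorem e_mem_E : ee f ∈ EE (q5 f s) := by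
  rw [← q5_01 p]; exact Frame.u_mem _ _ _

theorem ff_mem_E : ff f ∈ EE (q5 f s) := by
  rw [← q5_14 p]; exact Frame.u_mem _ _ _

omit p in
theorem t_mem_E : tt f ∈ EE (q5 f s) := Frame.t_mem (q5 f s) 2

omit p in
theorem s_mem_E : s ∈ EE (q5 f s) := Frame.t_mem (q5 f s) 3

theorem E_eq : EE (q5 f s) = closure {tt f, s, ee f, ff f} := by
  apply le_antisymm
  · rw [closure_le]
    have ht : tt f ∈ closure {tt f, s, ee f, ff f} := subset_closure (by simp)
    have hs : s ∈ closure {tt f, s, ee f, ff f} := subset_closure (by simp)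
    have he : ee f ∈ closure {tt f, s, ee f, ff f} := subset_closure (by simp)
    have hf : ff f ∈ closure {tt f, s, ee f, ff f} := subset_closure (by simp)
    rintro _ ⟨i, rfl⟩
    fin_cases i
    · exact mul_mem (mul_mem ht hs) hf
    · exact mul_mem (mul_mem (mul_mem ht hs) hf) he
    · exact ht
    · exact hs
    · exact mul_mem (mul_mem ht hs) he
  · rw [closure_le]
    rintro x (rfl | rfl | rfl | rfl)
    · exact t_mem_E
    · exact s_mem_E
    · exact e_mem_E p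
    · exact ff_mem_E p

end Std

/-! ### The completion of the standard quintuple -/

section W0

variable [Finite G] {P : Sylow 2 G} {k : ℕ} {f : Q k → Q k → G} {s : G}
  {H L : Type*} [Group H] [Group L] {π : Cn (tt f) →* H} {D : Duo H L} {ι : Q k →* L} {Φ : Subgroup H}
  (p : Pat P k f s) (c : Cent k f s π D ι Φ) (U : UData f) (F : SLFact D.ζ ι)

/-- the completion -/
abbrev W0 (f : Q k → Q k → G) (s : G) : Subgroup G := WW (q5 f s)

include p c U F

theorem data_q5 : Data (q5 f s) := data_of_frame p c U F (frame_q5 p) (conj_q5 p)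

/-- (w1) -/
theorem W0_odd : ¬ 2 ∣ Nat.card (W0 f s) := W_odd (data_q5 p c U F)

/-- (w2) -/
theorem W0_t : W0 f s ⊓ Cn (tt f) = OO (Cn (tt f)) := W_inf_t (data_q5 p c U F) 2

theorem W0_s : W0 f s ⊓ Cn s = OO (Cn s) := W_inf_t (data_q5 p c U F) 3

theorem W0_t5 : W0 f s ⊓ Cn (tt f * s * ee f) = OO (Cn (tt f * s * ee f)) := W_inf_t (data_q5 p c U F) 4

theorem W0_t1 : W0 f s ⊓ Cn (t1 f s) = OO (Cn (t1 f s)) := W_inf_t (data_q5 p c U F) 0

theorem W0_t2 : W0 f s ⊓ Cn (t1 f s * ee f) = OO (Cn (t1 f s * ee f)) := W_inf_t (data_q5 p c U F) 1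

theorem OO_t_le : OO (Cn (tt f)) ≤ W0 f s := OC_t_le (data_q5 p c U F) 2

/-- (w3) -/
theorem norm_te : Cn (tt f) ⊓ Cn (ee f) ≤ normalizer (W0 f s : Set G) := by
  rw [← q5_01 p]
  exact le_norm_W (data_q5 p c U F) (i := 0) (j := 1) (k := 2) (by decide)

theorem norm_tf : Cn (tt f) ⊓ Cn (ff f) ≤ normalizer (W0 f s : Set G) := by
  rw [← q5_14 p]
  exact le_norm_W (data_q5 p c U F) (i := 1) (j := 4) (k := 2) (by decide)

theorem norm_tfe : Cn (tt f) ⊓ Cn (ff f * ee f) ≤ normalizer (W0 f s : Set G) := by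
  rw [← q5_04 p]
  exact le_norm_W (data_q5 p c U F) (i := 0) (j := 4) (k := 2) (by decide)

theorem norm_t5 : Cn (tt f * s * ee f) ⊓ Cn (tt f * s) ≤ normalizer (W0 f s : Set G) :=
  le_norm_W (data_q5 p c U F) (i := 2) (j := 3) (k := 4) (by decide)

omit U F c in
/-- the hypothesis of the case `m = 1`, for triples -/
theorem one_of_triples (h1 : ∀ a b d : G, IsConj (tt f) a → IsConj (tt f) b → IsConj (tt f) d → a * b = b * a →
    a * d = d * a → b * d = d * b → a ≠ b → a ≠ d → b ≠ d → OO (Cn (a * b * d)) ⊓ Cn a ≤ OO (Cn a)) :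
    ∀ i j k, [i, j, k].Nodup → OC (q5 f s i * q5 f s j) ⊓ Cn (q5 f s k) ≤ OC (q5 f s k) := by
  intro i j a hn
  obtain ⟨l, m, hn5⟩ := Frame.exists_compl3 i j a hn
  have hc := conj_q5 p
  have hfr := frame_q5 p
  simp only [List.nodup_cons, List.mem_cons, List.not_mem_nil, or_false, not_or, not_false_eq_true,
              List.nodup_nil, and_true] at hn5
  obtain ⟨⟨hij, hia, hil, him⟩, ⟨hja, hjl, hjm⟩, ⟨hal, ham⟩, hlm⟩ := hn5
  have h2 := h1 _ _ _ (hc a) (hc l) (hc m) (hfr.comm _ _) (hfr.comm _ _) (hfr.comm _ _) (hfr.inj _ _ hal)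
    (hfr.inj _ _ ham) (hfr.inj _ _ hlm)
  have e := hfr.triple (i := a) (j := l) (k := m) (l := i) (m := j)
      (by simp [*, Ne.symm hia, Ne.symm hja, Ne.symm hil, Ne.symm hjl, Ne.symm him, Ne.symm hjm])
  rw [e] at h2
  exact h2

/-- (w4) -/
theorem W0_inf_of_one (h1 : ∀ i j k, [i, j, k].Nodup → OC (q5 f s i * q5 f s j) ⊓ Cn (q5 f s k) ≤ OC (q5 f s k))
    {b : G} (hb : b ∈ EE (q5 f s)) (hb1 : b ≠ 1) : W0 f s ⊓ Cn b = OO (Cn b) := by
  have h := data_q5 p c U F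
  rcases h.mem_E hb with rfl | ⟨i, rfl⟩ | ⟨i, j, hij, rfl⟩
  · exact absurd rfl hb1
  · exact W_inf_t h i
  · exact (W_inf_u h hij).trans (Wu_eq_of_one h h1 hij)

theorem norm_ts_of_one (h1 : ∀ i j k, [i, j, k].Nodup → OC (q5 f s i * q5 f s j) ⊓ Cn (q5 f s k) ≤ OC (q5 f s k)) :
    Cn (tt f) ⊓ Cn s ≤ normalizer (W0 f s : Set G) :=
  le_norm_W_of_one (data_q5 p c U F) h1 (i := 2) (j := 3) (by decide)

theorem norm_tt5_of_one (h1 : ∀ i j k, [i, j, k].Nodup → OC (q5 f s i * q5 f s j) ⊓ Cn (q5 f s k) ≤ OC (q5 f s k)) :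
    Cn (tt f) ⊓ Cn (tt f * s * ee f) ≤ normalizer (W0 f s : Set G) :=
  le_norm_W_of_one (data_q5 p c U F) h1 (i := 2) (j := 4) (by decide)

/-- In the case `m = 1`, `W0` is generated by the cores of the centralizers of the involutions of any four-group of `E`. -/
theorem W0_le_of_one (h1 : ∀ i j k, [i, j, k].Nodup → OC (q5 f s i * q5 f s j) ⊓ Cn (q5 f s k) ≤ OC (q5 f s k))
    {a b : G} (ha : a ∈ EE (q5 f s)) (hb : b ∈ EE (q5 f s)) (ha1 : a ≠ 1) (hb1 : b ≠ 1) (hab : a * b ≠ 1)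
    {S : Subgroup G} (h2 : OO (Cn a) ≤ S) (h3 : OO (Cn b) ≤ S) (h4 : OO (Cn (a * b)) ≤ S) : W0 f s ≤ S := by
  refine W_gen (data_q5 p c U F) ha hb ?_ ?_ ?_
  · rw [W0_inf_of_one p c U F h1 ha ha1]; exact h2
  · rw [W0_inf_of_one p c U F h1 hb hb1]; exact h3
  · rw [W0_inf_of_one p c U F h1 (mul_mem ha hb) hab]; exact h4

omit c U F [Finite G] in
/-- All commuting pairs (`t`-type, `u`-type) are conjugate to `(t, e)` or `(t, t s)`. -/
theorem pairs_u [Finite G] {a b : G} (ha : IsConj (tt f) a) (hb : IsConj (ee f) b) (hab : a * b = b * a) :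
    ∃ g, g * a * g⁻¹ = tt f ∧ (g * b * g⁻¹ = ee f ∨ g * b * g⁻¹ = tt f * s) := by
  obtain ⟨g, hg⟩ := isConj_iff.1 ha.symm
  set b1 := g * b * g⁻¹ with hb1
  have hb1t : b1 ∈ Cn (tt f) := by
    rw [← hg]
    exact mem_Cn_conj (mem_Cn.2 hab.symm)
  have hb1c : IsConj (ee f) b1 := hb.trans (isConj_iff.2 ⟨g, rfl⟩)
  have hsq : ∀ x, IsConj (ee f) x → x * x = 1 := by
    intro x hx
    obtain ⟨g, rfl⟩ := isConj_iff.1 hx
    have : g * ee f * g⁻¹ * (g * ee f * g⁻¹) = g * (ee f * ee f) * g⁻¹ := by group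
    rw [this, ee_sq p]; group
  have hne : ∀ x, IsConj (ee f) x → x ≠ 1 := by
    rintro x hx rfl
    obtain ⟨g, hg⟩ := isConj_iff.1 hx
    apply ee_ne_one p
    rwa [mul_inv_eq_one, mul_eq_left] at hg
  obtain ⟨m, hm, hmT⟩ := conj_into P (P_le p) (isPGroup_zpowers_of_sq (hsq b1 hb1c)) ((zpowers_le).2 hb1t)
  have hmb := hmT b1 (mem_zpowers b1)
  have hcj : IsConj (ee f) (m * b1 * m⁻¹) := hb1c.trans (isConj_iff.2 ⟨m, rfl⟩)
  have hmt := mem_Cn.1 hm
  have emt : m * tt f * m⁻¹ = tt f := by rw [hmt, mul_inv_cancel_right]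
  rcases Facts.inv_cases p.h hmb (hsq _ hcj) with h | h | ⟨α, β, hα, hβ, h⟩ | ⟨α, h⟩ | ⟨α, h⟩
  · exact absurd h (hne _ hcj)
  · exact absurd (h ▸ hcj).symm p.tu
  · obtain ⟨x, hx, hxe⟩ := p.uu α β hα hβ
    have hxt : x⁻¹ * tt f * x = tt f := by
      rw [mul_assoc, ← mem_Cn.1 hx, inv_mul_cancel_left]
    refine ⟨x⁻¹ * m * g, ?_, Or.inl ?_⟩
    · calc x⁻¹ * m * g * a * (x⁻¹ * m * g)⁻¹ = x⁻¹ * (m * (g * a * g⁻¹) * m⁻¹) * x := by group
        _ = tt f := by rw [hg, emt, hxt]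
    · calc x⁻¹ * m * g * b * (x⁻¹ * m * g)⁻¹ = x⁻¹ * (m * (g * b * g⁻¹) * m⁻¹) * x := by group
        _ = x⁻¹ * f α β * x := by rw [← hb1, h]
        _ = ee f := by rw [← hxe]; group
  · exact absurd ((p.t_conj α).trans (h ▸ hcj).symm) p.tu
  · have hα := Facts.conj_ts p.h α
    have hft := mem_Cn.1 (f_mem p α 1)
    refine ⟨(f α 1)⁻¹ * m * g, ?_, Or.inr ?_⟩
    · calc (f α 1)⁻¹ * m * g * a * ((f α 1)⁻¹ * m * g)⁻¹ = (f α 1)⁻¹ * (m * (g * a * g⁻¹) * m⁻¹) * f α 1 := by group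
        _ = (f α 1)⁻¹ * (tt f * f α 1) := by rw [hg, emt]; group
        _ = tt f := by rw [← hft]; group
    · calc (f α 1)⁻¹ * m * g * b * ((f α 1)⁻¹ * m * g)⁻¹ = (f α 1)⁻¹ * (m * (g * b * g⁻¹) * m⁻¹) * f α 1 := by group
        _ = (f α 1)⁻¹ * (f (z k * α) α⁻¹ * s) * f α 1 := by rw [← hb1, h]
        _ = tt f * s := by rw [← hα]; group

/-- (w5) -/
theorem bal_tu {a b : G} (ha : IsConj (tt f) a) (hb : IsConj (ee f) b) (hab : a * b = b * a) :
    OO (Cn a) ⊓ Cn b ≤ OO (Cn b) := by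
  have h := data_q5 p c U F
  obtain ⟨g, hga, hgb⟩ := pairs_u p ha hb hab
  rintro x ⟨hx1, hx2⟩
  rw [← mem_OO_conj_iff (g := g)]
  have h1 : g * x * g⁻¹ ∈ OO (Cn (tt f)) := by rw [← hga]; exact mem_OO_conj hx1
  have h2 : g * x * g⁻¹ ∈ Cn (g * b * g⁻¹) := mem_Cn_conj hx2
  rcases hgb with hgb | hgb
  · rw [hgb] at h2 ⊢
    exact h.b0 2 (e_mem_E p) (ee_ne_one p) ⟨h1, h2⟩
  · rw [hgb] at h2 ⊢
    exact h.b0 2 (Frame.u_mem (q5 f s) 2 3) (h.u_ne_one (i := 2) (j := 3) (by decide)) ⟨h1, h2⟩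

end W0

end Cfsg.Agent.SylowSp4.QuintData
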