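import Cfsg.Agent.SylowSp4.Q3
import Cfsg.Agent.SylowSp4.QuintData

/-!
# (b4) for `|F| = 3`: `C(t) ≤ N(W)`; the case `m = 1` (`|F| = 3, 5, 7, 9`)
-/

set_option autoImplicit false

namespace Cfsg.Agent.SylowSp4.Q3Final

open QuaternionGroup Cfsg.Agent.SylowSp4.Coord Cfsg.Agent.SylowSp4.Pat Subgroup
open Cfsg.Agent.Walter.OddCoreIn Cfsg.Agent.SylowSp4.DuoFacts Cfsg.Agent.SylowSp4.Pairs
open Cfsg.Agent.SylowSp4.Triples Cfsg.Agent.SylowSp4.FieldPart Cfsg.Agent.SylowSp4.ThreeL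
open Cfsg.Agent.SylowSp4.CoreFrame Cfsg.Agent.SylowSp4.CoreW Cfsg.Agent.SylowSp4.QuintData

variable {G : Type*} [Group G] [Finite G] {P : Sylow 2 G} {k : ℕ} {f : Q k → Q k → G} {s : G}
  {H L : Type*} [Group H] [Group L] {π : Cn (tt f) →* H} {D : Duo H L} {ι : Q k →* L} {Φ : Subgroup H}
  (p : Pat P k f s) (c : Cent k f s π D ι Φ) (U : UData f) (F : SLFact D.ζ ι)

include p c U F

/-- `m = 1` : `O(C(e)) ∩ C(t) ≤ O(C(t))` if no element of odd order `≠ 1` of `L` commutes with `ι c`. -/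
theorem core_e_le (hm : ∀ a, a * ι (Facts.c k) = ι (Facts.c k) * a → Odd (orderOf a) → a = 1) :
    OO (Cn (ee f)) ⊓ Cn (tt f) ≤ OO (Cn (tt f)) := by
  rintro x ⟨hx, hxt⟩
  have h1 : π ⟨x, hxt⟩ ∈ TH p c := (mem_TH p c).2 ⟨⟨x, hxt⟩, hx, rfl⟩
  obtain ⟨a, ha, hh⟩ := theta_form p c U F h1
  refine (c.ker _).1 (Q3.one_of_two c (a := a) ?_ hh (TH_odd p c h1))
  obtain ⟨b, i, hbo, hb, rfl⟩ := F.decomp a ha
  rw [hm b hb hbo, one_mul]
  exact ⟨_, rfl⟩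

/-- `m = 1` for all triples of pairwise commuting distinct conjugates of `t`. -/
theorem one_triples (hm : ∀ a, a * ι (Facts.c k) = ι (Facts.c k) * a → Odd (orderOf a) → a = 1) (a b d : G)
    (ha : IsConj (tt f) a) (hb : IsConj (tt f) b) (hd : IsConj (tt f) d) (hab : a * b = b * a)
    (had : a * d = d * a) (hbd : b * d = d * b) (nab : a ≠ b) (nad : a ≠ d) (nbd : b ≠ d) :
    OO (Cn (a * b * d)) ⊓ Cn a ≤ OO (Cn a) := by
  obtain ⟨x, hxa, hxb, hxd⟩ := triples p c ha hb hd hab had hbd nab nad nbd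
  have hprod : x * (a * b * d) * x⁻¹ = ee f := by
    have h1 : x * (a * b * d) * x⁻¹ = (x * a * x⁻¹) * (x * b * x⁻¹) * (x * d * x⁻¹) := by group
    rw [h1, hxa, hxb, hxd]
    have hst : s * tt f = tt f * s := (mem_Cn.1 (s_mem p))
    calc tt f * s * (tt f * s * ee f) = tt f * (s * tt f) * s * ee f := by group
      _ = (tt f * tt f) * (s * s) * ee f := by rw [hst]; group
      _ = ee f := by rw [t_sq p, s_sq p, one_mul, one_mul]
  intro y hy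
  obtain ⟨hy1, hy2⟩ := mem_inf.1 hy
  rw [← mem_OO_conj_iff (g := x)]
  have h1 := mem_OO_conj (g := x) hy1
  have h2 := mem_Cn_conj (g := x) hy2
  rw [hprod] at h1
  rw [hxa] at h2 ⊢
  exact core_e_le p c U F hm ⟨h1, h2⟩

/-- `m = 1` for the standard quintuple. -/
theorem one_q5 (hm : ∀ a, a * ι (Facts.c k) = ι (Facts.c k) * a → Odd (orderOf a) → a = 1) :
    ∀ i j k, [i, j, k].Nodup → OC (q5 f s i * q5 f s j) ⊓ Cn (q5 f s k) ≤ OC (q5 f s k) :=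
  one_of_triples p (one_triples p c U F hm)

omit p c U F [Finite G] in
/-- For `|F| = 3` the hypothesis of `m = 1` holds. -/
theorem hm_of_three (T : Three ι) (F : SLFact D.ζ ι) (hk : 1 ≤ k) :
    ∀ a, a * ι (Facts.c k) = ι (Facts.c k) * a → Odd (orderOf a) → a = 1 := by
  intro a ha hao
  obtain ⟨q, rfl⟩ := T.cx a ha
  have h1 : (ι q) ^ 2 ^ (k + 2) = 1 := by
    rw [← map_pow]
    have : q ^ 2 ^ (k + 2) = 1 := by rw [← card_Q (k := k)]; exact pow_card_eq_one'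
    rw [this, map_one]
  have h3 : orderOf (ι q) ∣ 2 ^ (k + 2) := orderOf_dvd_of_pow_eq_one h1
  have h4 : Nat.Coprime (orderOf (ι q)) (2 ^ (k + 2)) := Nat.Coprime.pow_right _ (Nat.coprime_two_right.2 hao)
  exact orderOf_eq_one_iff.1 (Nat.eq_one_of_dvd_coprimes h4 dvd_rfl h3)

/-- **(b4) for `|F| = 3`.** -/
theorem norm_of_three (T : Three ι) : Cn (tt f) ≤ normalizer (W0 f s : Set G) := by
  have h1 := one_q5 p c U F (hm_of_three T F p.h.hk)
  have hk := p.h.hk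
  have hte : tt f * ee f ≠ 1 := by
    rw [Q3.t_mul_f p, ← p.h.f_one]
    intro h
    rcases p.h.f_inj _ _ _ _ h with ⟨-, h⟩ | ⟨-, h⟩
    · exact Facts.ne_one_of_sq_z (Facts.c_sq hk) h
    · rw [mul_one] at h
      exact Facts.ne_z_of_sq_z (Facts.c_sq hk) h
  have h3 : Q3.e3 f ≠ 1 := by
    rw [Q3.e3_eq p, ← p.h.f_one]
    intro h
    rcases p.h.f_inj _ _ _ _ h with ⟨h, -⟩ | ⟨h, -⟩
    · exact Facts.ne_one_of_sq_z (Q3.yc_sq hk) h
    · rw [mul_one] at h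
      exact Facts.ne_z_of_sq_z (Q3.yc_sq hk) h
  have ht3 : tt f * Q3.e3 f ≠ 1 := by
    rw [Q3.e3_eq p, Q3.t_mul_f p, ← p.h.f_one]
    intro h
    rcases p.h.f_inj _ _ _ _ h with ⟨-, h⟩ | ⟨-, h⟩
    · exact Facts.ne_one_of_sq_z (Q3.yc_sq hk) h
    · rw [mul_one] at h
      exact Facts.ne_z_of_sq_z (Q3.yc_sq hk) h
  have he3E : Q3.e3 f ∈ EE (q5 f s) := mul_mem (ff_mem_E p) (e_mem_E p)
  exact Q3.main p c U F T (W0_odd p c U F) (W0_t p c U F)
    (W0_inf_of_one p c U F h1 (e_mem_E p) (ee_ne_one p))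
    (W0_inf_of_one p c U F h1 (mul_mem t_mem_E (e_mem_E p)) hte)
    (W0_inf_of_one p c U F h1 he3E h3)
    (W0_inf_of_one p c U F h1 (mul_mem t_mem_E he3E) ht3)
    (norm_ts_of_one p c U F h1) (norm_te p c U F) (norm_tf p c U F)
    (fun a b ha hb hab => bal_tu p c U F ha hb hab)

end Cfsg.Agent.SylowSp4.Q3Final
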