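import Cfsg.Agent.SylowSp4.Triples

/-!
# The field part of `C(t) / O(C(t))`

`UData f` : what is needed from the structure of the centralizers of `u`-type involutions.
`SLFact ζ ι` : what is needed from `L = SL(2, q)`.
Results: `w_comm_Φ` (the involution `w` centralises the field part), `theta_form` (the image of
`O(C(e)) ∩ C(t)` in `C(t) / O(C(t))` lies in the diagonal torus), `tor`.
-/

set_option autoImplicit false

namespace Cfsg.Agent.SylowSp4.FieldPart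

open QuaternionGroup Cfsg.Agent.SylowSp4.Coord Cfsg.Agent.SylowSp4.Pat Subgroup
open Cfsg.Agent.Walter.OddCoreIn Cfsg.Agent.SylowSp4.DuoFacts Cfsg.Agent.SylowSp4.Pairs
open Cfsg.Agent.SylowSp4.Triples

/-- Facts on the centralizers of `u`-type involutions. -/
structure UData {G : Type*} [Group G] {k : ℕ} (f : Q k → Q k → G) : Prop where
  star : ∀ a b : G, IsConj (tt f) a → IsConj (tt f) b → a * b = b * a → a ≠ b → ∀ y ∈ Cn (a * b),
    Odd (orderOf y) → y * a * y⁻¹ * a⁻¹ ∈ OO (Cn (a * b))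
  core : ∀ a b : G, IsConj (tt f) a → IsConj (tt f) b → a * b = b * a → a ≠ b →
    OO (Cn (a * b)) ⊓ Cn a = OO (Cn a ⊓ Cn b)

/-- Facts on `L = SL(2, q)` with Sylow 2-subgroup `ι(Q)`. -/
structure SLFact {k : ℕ} {L : Type*} [Group L] (ζ : L) (ι : Q k →* L) : Prop where
  inv : ∀ a, a * ι (Facts.c k) = ι (Facts.c k) * a → ι (xa 0) * a * (ι (xa 0))⁻¹ = a⁻¹
  decomp : ∀ a, a * ι (Facts.c k) = ι (Facts.c k) * a → ∃ b i, Odd (orderOf b) ∧
    b * ι (Facts.c k) = ι (Facts.c k) * b ∧ a = b * ι (QuaternionGroup.a i)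
  aut : ∀ τ : MulAut L, (∃ m, Odd m ∧ τ ^ m = 1) → (∀ q, τ (ι q) = ι q) →
    (∀ a, a * ι (Facts.c k) = ι (Facts.c k) * a → τ a = a) → τ = 1
  cen : ∀ a, (∀ q, a * ι q = ι q * a) → a = 1 ∨ a = ζ
  noOdd : NoOdd ζ

section Gen

/-- A subgroup of odd order on which an involution acts without fixed points is inverted, and abelian. -/
theorem inverted {H : Type*} [Group H] [Finite H] (T : Subgroup H) (v : H) (hv : v * v = 1)
    (hT : ∀ x ∈ T, v * x * v ∈ T) (hfix : ∀ x ∈ T, v * x * v = x → x = 1) :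
    (∀ x ∈ T, v * x * v = x⁻¹) ∧ ∀ x ∈ T, ∀ y ∈ T, x * y = y * x := by
  let φ : T →* T :=
    { toFun := fun x => ⟨v * x * v, hT x x.2⟩
      map_one' := Subtype.ext (by simp [hv])
      map_mul' := fun x y => Subtype.ext (by
        change v * (x * y) * v = v * x * v * (v * y * v)
        calc v * ((x : H) * y) * v = v * x * 1 * y * v := by group
          _ = v * x * (v * v) * y * v := by rw [hv]
          _ = _ := by group) }
  have hφ : MonoidHom.FixedPointFree φ := by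
    intro x hx
    apply Subtype.ext
    exact hfix x x.2 (congrArg Subtype.val hx)
  have hinv : Function.Involutive φ := by
    intro x
    apply Subtype.ext
    change v * (v * x * v) * v = x
    calc v * (v * (x : H) * v) * v = (v * v) * x * (v * v) := by group
      _ = x := by rw [hv, one_mul, mul_one]
  constructor
  · intro x hx
    have := congrFun (hφ.coe_eq_inv_of_involutive hinv) ⟨x, hx⟩
    exact congrArg Subtype.val this
  · intro x hx y hy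
    have := hφ.commute_all_of_involutive hinv ⟨x, hx⟩ ⟨y, hy⟩
    exact congrArg Subtype.val this.eq

/-- A subgroup containing the square of an element of odd order contains the element. -/
theorem mem_of_sq_mem {H : Type*} [Group H] (T : Subgroup H) {x : H} (ho : Odd (orderOf x)) (h : x * x ∈ T) : x ∈ T := by
  obtain ⟨m, hm⟩ := ho
  have e : (x * x) ^ (m + 1) = x := by
    rw [← pow_two, ← pow_mul, show 2 * (m + 1) = orderOf x + 1 by omega, pow_succ, pow_orderOf_eq_one, one_mul]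
  rw [← e]
  exact pow_mem h _

end Gen

variable {G : Type*} [Group G] [Finite G] {P : Sylow 2 G} {k : ℕ} {f : Q k → Q k → G} {s : G}
  {H L : Type*} [Group H] [Group L] {π : Cn (tt f) →* H} {D : Duo H L} {ι : Q k →* L} {Φ : Subgroup H}
  (p : Pat P k f s) (c : Cent k f s π D ι Φ) (U : UData f) (F : SLFact D.ζ ι)

include p c

/-- Elements of odd order commuting with the image of `e` lift to elements of odd order of `C(t) ∩ C(e)`. -/
theorem lift_e {h : H} (ho : Odd (orderOf h)) (hh : h * δ D (ι (Facts.c k)) = δ D (ι (Facts.c k)) * h) :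
    ∃ x : Cn (tt f), π x = h ∧ (x : G) ∈ Cn (ee f) ∧ Odd (orderOf (x : G)) := by
  obtain ⟨x, rfl⟩ := c.surj h
  have hee : ee f ∈ Cn (tt f) := f_mem p _ _
  rw [δ_apply, ← π_f p c] at hh
  obtain ⟨κ, hκ, -, hc⟩ := Lift.exists_comm_lift π (card_ker c) (w := ⟨ee f, hee⟩) (x := x)
    (Subtype.ext (ee_sq p)) hh
  have h1 : π (κ * x) = π x := by rw [map_mul, hκ, one_mul]
  obtain ⟨N, hN, hNo⟩ := Lift.exists_odd_pow π (x := κ * x) (by rw [h1]; exact ho)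
  refine ⟨(κ * x) ^ N, by rw [hN, h1], ?_, ?_⟩
  · rw [mem_Cn]
    have h2 : Commute (κ * x) ⟨ee f, hee⟩ := hc
    exact congrArg Subtype.val (h2.pow_left N).eq
  · rw [Subgroup.orderOf_coe]; exact hNo

omit [Finite G] in
/-- An element of odd order lies in `φ₁(L) φ₂(L) Φ`. -/
theorem odd_form {h : H} (ho : Odd (orderOf h)) : ∃ a b, ∃ g ∈ Φ, h = D.φ₁ a * D.φ₂ b * g := by
  obtain ⟨a, b, g, hg, rfl | rfl⟩ := c.gen h
  · exact ⟨a, b, g, hg, rfl⟩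
  · exfalso
    obtain ⟨b', hb'⟩ := (norm_of_odd c ho).1 (ι (Facts.c k))
    have h4 : g * D.φ₁ (ι (Facts.c k)) * g⁻¹ = D.φ₁ (ι (Facts.c k)) := by
      rw [c.fix₁ g hg, mul_inv_cancel_right]
    have h5 : D.φ₁ a * D.φ₂ b * D.w * g * D.φ₁ (ι (Facts.c k)) * (D.φ₁ a * D.φ₂ b * D.w * g)⁻¹ =
        D.φ₂ (b * ι (Facts.c k) * b⁻¹) := by
      calc _ = D.φ₁ a * D.φ₂ b * (D.w * (g * D.φ₁ (ι (Facts.c k)) * g⁻¹) * D.w⁻¹) * (D.φ₂ b)⁻¹ * (D.φ₁ a)⁻¹ := by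
            group
        _ = D.φ₁ a * (D.φ₂ b * D.φ₂ (ι (Facts.c k)) * (D.φ₂ b)⁻¹) * (D.φ₁ a)⁻¹ := by
            rw [h4, w_inv, D.conj]; group
        _ = D.φ₁ a * D.φ₂ (b * ι (Facts.c k) * b⁻¹) * (D.φ₁ a)⁻¹ := by rw [map_mul, map_mul, map_inv]
        _ = _ := by rw [D.comm, mul_inv_cancel_right]
    rw [h5] at hb'
    have h6 : D.φ₁ b' * D.φ₂ (b * ι (Facts.c k) * b⁻¹)⁻¹ = 1 := by
      rw [← hb', map_inv, mul_inv_cancel]
    have h7 : (b * ι (Facts.c k) * b⁻¹) * (b * ι (Facts.c k) * b⁻¹) = 1 := by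
      rcases D.ker _ _ h6 with ⟨-, h8⟩ | ⟨-, h8⟩
      · rw [inv_eq_one] at h8
        rw [h8, one_mul]
      · rw [inv_eq_iff_eq_inv] at h8
        rw [h8, ← mul_inv_rev, D.ζζ, inv_one]
    have h9 : b * (ι (Facts.c k) * ι (Facts.c k)) * b⁻¹ = 1 := by rw [← h7]; group
    rw [← map_mul, Facts.c_sq p.h.hk, c.ι_z, ← ζ_comm c, mul_inv_cancel_right] at h9
    exact D.ζ_ne h9

/-- The image of `O(C(e)) ∩ C(t)`. -/
def TH (_p : Pat P k f s) (_c : Cent k f s π D ι Φ) : Subgroup H :=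
  ((OO (Cn (ee f)) ⊓ Cn (tt f)).subgroupOf (Cn (tt f))).map π

/-- `t₁ = t s (y, y)` -/
abbrev t1 (f : Q k → Q k → G) (s : G) : G := tt f * s * f (xa 0) (xa 0)

omit c [Finite G] in
theorem t1_mem : t1 f s ∈ P := mul_mem (mul_mem (p.h.f_mem _ _) p.h.s_mem) (p.h.f_mem _ _)

omit c [Finite G] in
theorem t1_conj : IsConj (tt f) (t1 f s) := conj_tsf p (xa_sq 0)

omit c [Finite G] in
theorem t1_memC : t1 f s ∈ Cn (tt f) := P_le p (t1_mem p)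

omit c [Finite G] in
theorem t1_sq : t1 f s * t1 f s = 1 := sq_of_conj p (t1_conj p)

omit p c [Finite G] in
theorem xc_eq (hk : 1 ≤ k) : (xa 0 : Q k) * Facts.c k = z k * (Facts.c k * xa 0) := by
  have h1 := Facts.c_add hk
  rw [Facts.c, xa_mul_a, a_mul_xa, Facts.z_mul_xa]
  congr 1
  linear_combination h1

omit c [Finite G] in
theorem t1_comm_e : t1 f s * ee f = ee f * t1 f s := by
  have hk := p.h.hk
  have h1 : f (xa 0) (xa 0) * ee f = ee f * f (xa 0) (xa 0) := by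
    rw [Facts.comm_iff p.h]
    exact Or.inr ⟨xc_eq hk, xc_eq hk⟩
  calc t1 f s * ee f = tt f * s * (f (xa 0) (xa 0) * ee f) := by group
    _ = tt f * (s * ee f) * f (xa 0) (xa 0) := by rw [h1]; group
    _ = (tt f * ee f) * s * f (xa 0) (xa 0) := by rw [s_comm_diag p]; group
    _ = _ := by rw [← ee_comm_t p]; group

omit c [Finite G] in
theorem t2_conj : IsConj (tt f) (t1 f s * ee f) := by
  have h1 : t1 f s * ee f = tt f * s * f (xa 0 * Facts.c k) (xa 0 * Facts.c k) := by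
    rw [t1, mul_assoc, p.h.f_mul]
  rw [h1]
  refine conj_tsf p ?_
  rw [Facts.c, xa_mul_a]
  exact xa_sq _

omit c [Finite G] in
theorem t1_mul_t2 : t1 f s * (t1 f s * ee f) = ee f := by
  rw [← mul_assoc, t1_sq p, one_mul]

omit c [Finite G] in
theorem t1_ne_t2 : t1 f s ≠ t1 f s * ee f := by
  intro h
  exact ee_ne_one p (mul_eq_left.1 h.symm)

omit c [Finite G] in
theorem t1_t2_comm : t1 f s * (t1 f s * ee f) = (t1 f s * ee f) * t1 f s := by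
  rw [mul_assoc (t1 f s) (ee f), ← t1_comm_e p]

omit c [Finite G] in
theorem t1_comm_t : t1 f s * tt f = tt f * t1 f s := (p.h.t_comm (t1_mem p)).symm

omit c [Finite G] in
theorem t1_ne_t : t1 f s ≠ tt f := by
  intro h
  rw [t1, mul_assoc, mul_eq_left, s_comm_diag p] at h
  apply p.h.s_ne (f := f) ((xa 0)⁻¹) ((xa 0)⁻¹)
  rw [← p.h.f_inv, eq_inv_iff_mul_eq_one, s_comm_diag p]
  exact h

omit [Finite G] in
/-- the image of `t₁` -/
theorem π_t1 : π ⟨t1 f s, t1_memC p⟩ = D.φ₁ D.ζ * D.w * δ D (ι (xa 0)) := by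
  have h1 : (⟨t1 f s, t1_memC p⟩ : Cn (tt f)) = ⟨tt f, t_mem⟩ * ⟨s, s_mem p⟩ * ⟨f (xa 0) (xa 0), f_mem p _ _⟩ := rfl
  rw [h1, map_mul, map_mul, π_t c, c.hw, π_f p c, δ_apply]

theorem t1_act (h : H) : π ⟨t1 f s, t1_memC p⟩ * h * π ⟨t1 f s, t1_memC p⟩ =
    D.w * (δ D (ι (xa 0)) * h * (δ D (ι (xa 0)))⁻¹) * D.w := by
  have h2 : π ⟨t1 f s, t1_memC p⟩ * π ⟨t1 f s, t1_memC p⟩ = 1 := by
    rw [← map_mul]
    have : (⟨t1 f s, t1_memC p⟩ * ⟨t1 f s, t1_memC p⟩ : Cn (tt f)) = 1 := Subtype.ext (t1_sq p)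
    rw [this, map_one]
  have h3 : π ⟨t1 f s, t1_memC p⟩ = (π ⟨t1 f s, t1_memC p⟩)⁻¹ := eq_inv_of_mul_eq_one_left h2
  have h4 : π ⟨t1 f s, t1_memC p⟩ * h * π ⟨t1 f s, t1_memC p⟩ =
      π ⟨t1 f s, t1_memC p⟩ * h * (π ⟨t1 f s, t1_memC p⟩)⁻¹ := by rw [← h3]
  rw [h4, π_t1 p c]
  calc D.φ₁ D.ζ * D.w * δ D (ι (xa 0)) * h * (D.φ₁ D.ζ * D.w * δ D (ι (xa 0)))⁻¹
      = D.φ₁ D.ζ * (D.w * (δ D (ι (xa 0)) * h * (δ D (ι (xa 0)))⁻¹) * D.w⁻¹) * (D.φ₁ D.ζ)⁻¹ := by group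
    _ = _ := by rw [DuoFacts.z_comm c, mul_inv_cancel_right, w_inv]

omit [Finite G] in
theorem mem_TH {h : H} : h ∈ TH p c ↔ ∃ x : Cn (tt f), (x : G) ∈ OO (Cn (ee f)) ∧ π x = h := by
  constructor
  · rintro ⟨x, hx, rfl⟩
    exact ⟨x, (mem_subgroupOf.1 hx).1, rfl⟩
  · rintro ⟨x, hx, rfl⟩
    exact ⟨x, mem_subgroupOf.2 ⟨hx, x.2⟩, rfl⟩

/-- `C_{O(C(e)) ∩ C(t)}(t₁) ≤ O(C(t))`. -/
theorem fix_mem (U : UData f) (hO : NoOdd D.ζ) {x : G} (hx : x ∈ OO (Cn (ee f))) (hxt : x ∈ Cn (tt f))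
    (hx1 : x ∈ Cn (t1 f s)) : x ∈ OO (Cn (tt f)) := by
  have h1 := U.core _ _ (t1_conj p) (t2_conj p) (t1_t2_comm p) (t1_ne_t2 p)
  rw [t1_mul_t2 p, core_pair p c hO (t1_conj p) (t2_conj p) (t1_t2_comm p) (t1_ne_t2 p)] at h1
  have h2 : x ∈ OO (Cn (t1 f s)) := by
    have : x ∈ OO (Cn (ee f)) ⊓ Cn (t1 f s) := ⟨hx, hx1⟩
    rw [h1] at this
    exact this.1
  have h3 := core_symm p c hO (t1_conj p) (IsConj.refl (tt f)) (t1_comm_t p) (t1_ne_t p)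
  have h4 : x ∈ OO (Cn (t1 f s)) ⊓ Cn (tt f) := ⟨h2, hxt⟩
  rw [h3] at h4
  exact h4.1

theorem TH_odd {h : H} (hh : h ∈ TH p c) : Odd (orderOf h) := by
  obtain ⟨x, hx, rfl⟩ := (mem_TH p c).1 hh
  have h1 : orderOf (π x) ∣ orderOf (x : G) := by
    rw [Subgroup.orderOf_coe]; exact orderOf_map_dvd π x
  have h2 : orderOf (⟨(x : G), hx⟩ : OO (Cn (ee f))) ∣ Nat.card (OO (Cn (ee f))) := orderOf_dvd_natCard _
  rw [Subgroup.orderOf_mk] at h2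
  have h4 : Odd (Nat.card (OO (Cn (ee f)))) := Nat.not_even_iff_odd.1 fun h => OO_odd _ h.two_dvd
  exact h4.of_dvd_nat (h1.trans h2)

/-- `t₁` inverts the image of `O(C(e)) ∩ C(t)`, which is abelian. -/
theorem TH_inv (U : UData f) (hO : NoOdd D.ζ) :
    (∀ h ∈ TH p c, π ⟨t1 f s, t1_memC p⟩ * h * π ⟨t1 f s, t1_memC p⟩ = h⁻¹) ∧
      ∀ x ∈ TH p c, ∀ y ∈ TH p c, x * y = y * x := by
  have : Finite H := Finite.of_surjective π c.surj
  have ht1e : t1 f s ∈ Cn (ee f) := mem_Cn.2 (t1_comm_e p)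
  have h11 : (⟨t1 f s, t1_memC p⟩ * ⟨t1 f s, t1_memC p⟩ : Cn (tt f)) = 1 := Subtype.ext (t1_sq p)
  refine inverted (TH p c) _ ?_ ?_ ?_
  · rw [← map_mul, h11, map_one]
  · intro h hh
    obtain ⟨x, hx, rfl⟩ := (mem_TH p c).1 hh
    rw [mem_TH]
    refine ⟨⟨t1 f s, t1_memC p⟩ * x * ⟨t1 f s, t1_memC p⟩, ?_, by rw [map_mul, map_mul]⟩
    have h3 : t1 f s * x * (t1 f s)⁻¹ ∈ OO (Cn (ee f)) := conj_mem (le_normalizer_OO _) ht1e hx
    rwa [inv_eq_of_mul_eq_one_left (t1_sq p)] at h3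
  · intro h hh hfix
    obtain ⟨x, hx, rfl⟩ := (mem_TH p c).1 hh
    -- lift to an element commuting with `t₁`
    have hcomm : π x * π ⟨t1 f s, t1_memC p⟩ = π ⟨t1 f s, t1_memC p⟩ * π x := by
      have h4 : π ⟨t1 f s, t1_memC p⟩ * π ⟨t1 f s, t1_memC p⟩ = 1 := by rw [← map_mul, h11, map_one]
      calc π x * π ⟨t1 f s, t1_memC p⟩ = (π ⟨t1 f s, t1_memC p⟩ * π x * π ⟨t1 f s, t1_memC p⟩) *
            π ⟨t1 f s, t1_memC p⟩ := by rw [hfix]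
        _ = π ⟨t1 f s, t1_memC p⟩ * π x * (π ⟨t1 f s, t1_memC p⟩ * π ⟨t1 f s, t1_memC p⟩) := by group
        _ = _ := by rw [h4, mul_one]
    obtain ⟨κ, hκ, hκ2, hc⟩ := Lift.exists_comm_lift π (card_ker c) (w := ⟨t1 f s, t1_memC p⟩) (x := x) h11 hcomm
    have hκe : (κ : G) ∈ OO (Cn (ee f)) := by
      have h5 : (⟨t1 f s, t1_memC p⟩ * x * ⟨t1 f s, t1_memC p⟩⁻¹ * x⁻¹ : Cn (tt f)) ∈
          (OO (Cn (ee f))).subgroupOf (Cn (tt f)) := by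
        rw [mem_subgroupOf]
        exact mul_mem (conj_mem (le_normalizer_OO _) ht1e hx) (inv_mem hx)
      exact mem_subgroupOf.1 ((zpowers_le.2 h5) hκ2)
    have h6 : ((κ * x : Cn (tt f)) : G) ∈ OO (Cn (tt f)) := by
      refine fix_mem p c U hO (mul_mem hκe hx) (κ * x).2 ?_
      rw [mem_Cn]
      exact congrArg Subtype.val hc
    have h7 := (c.ker (κ * x)).2 h6
    rwa [map_mul, hκ, one_mul] at h7

/-- commutators with `t₁` of elements of odd order commuting with `e` -/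
theorem comm_t1 (U : UData f) {h : H} (ho : Odd (orderOf h))
    (hh : h * δ D (ι (Facts.c k)) = δ D (ι (Facts.c k)) * h) :
    h * (π ⟨t1 f s, t1_memC p⟩ * h⁻¹ * π ⟨t1 f s, t1_memC p⟩) ∈ TH p c := by
  obtain ⟨x, rfl, hxe, hxo⟩ := lift_e p c ho hh
  have h1 := U.star _ _ (t1_conj p) (t2_conj p) (t1_t2_comm p) (t1_ne_t2 p) x (by rw [t1_mul_t2 p]; exact hxe) hxo
  rw [t1_mul_t2 p] at h1
  rw [mem_TH]
  refine ⟨x * ⟨t1 f s, t1_memC p⟩ * x⁻¹ * ⟨t1 f s, t1_memC p⟩, ?_, ?_⟩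
  · have h2 : (x : G) * t1 f s * (x : G)⁻¹ * t1 f s ∈ OO (Cn (ee f)) := by
      nth_rewrite 2 [← inv_eq_of_mul_eq_one_left (t1_sq p)]
      exact h1
    exact h2
  · rw [map_mul, map_mul, map_mul, map_inv]; group

omit p c [Finite G] in
theorem w_inv_act {x : H} (hx : D.w * x * D.w = x⁻¹) : D.w * x⁻¹ * D.w = x := by
  have h := congrArg (·⁻¹) hx
  simp only [mul_inv_rev, w_inv, inv_inv] at h
  rw [mul_assoc]; exact h

/-- Elements of the field part inverted by `w` lie in `TH`. -/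
theorem Φ_mem (U : UData f) {g : H} (hg : g ∈ Φ) (hgo : Odd (orderOf g)) (hw : D.w * g * D.w = g⁻¹) : g ∈ TH p c := by
  refine mem_of_sq_mem _ hgo ?_
  have h1 := comm_t1 p c U hgo (by rw [δ_apply]; exact Φ_comm_f p c hg _ _)
  have h2 : δ D (ι (xa 0)) * g⁻¹ * (δ D (ι (xa 0)))⁻¹ = g⁻¹ := by
    rw [δ_apply, ← Φ_comm_f p c (inv_mem hg), mul_inv_cancel_right]
  rw [t1_act p c, h2, w_inv_act hw] at h1
  exact h1

/-- Elements of the diagonal torus of odd order lie in `TH`. -/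
theorem δ_mem (U : UData f) (F : SLFact D.ζ ι) {a : L} (ha : a * ι (Facts.c k) = ι (Facts.c k) * a)
    (hao : Odd (orderOf a)) : δ D a ∈ TH p c := by
  have ho : Odd (orderOf (δ D a)) := hao.of_dvd_nat (orderOf_map_dvd (δ D) a)
  refine mem_of_sq_mem _ ho ?_
  have h1 := comm_t1 p c U ho (by rw [← map_mul, ← map_mul, ha])
  have h2 : δ D (ι (xa 0)) * (δ D a)⁻¹ * (δ D (ι (xa 0)))⁻¹ = δ D a := by
    have h3 := F.inv a⁻¹ (by
      rw [inv_mul_eq_iff_eq_mul, ← mul_assoc, ha, mul_assoc, mul_inv_cancel, mul_one])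
    rw [← map_inv, ← map_mul, ← map_inv, ← map_mul, h3, inv_inv]
  rw [t1_act p c, h2, w_δ, mul_assoc, D.ww, mul_one] at h1
  exact h1

omit p c [Finite G] in
/-- The automorphism induced on a factor. -/
theorem exists_aut (φ : L →* H) (hφ : Function.Injective φ) (g : H) (h1 : ∀ a, ∃ b, g * φ a * g⁻¹ = φ b)
    (h2 : ∀ a, ∃ b, g⁻¹ * φ a * g = φ b) : ∃ τ : MulAut L, ∀ a, g * φ a * g⁻¹ = φ (τ a) := by
  choose F1 hF1 using h1
  choose F2 hF2 using h2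
  refine ⟨{ toFun := F1, invFun := F2, left_inv := fun a => ?_, right_inv := fun a => ?_, map_mul' := fun a b => ?_ },
    hF1⟩
  · apply hφ
    rw [← hF2, ← hF1]; group
  · apply hφ
    rw [← hF1, ← hF2]; group
  · apply hφ
    rw [← hF1, map_mul, map_mul, ← hF1, ← hF1]; group

omit p c [Finite G] in
theorem aut_pow (φ : L →* H) (g : H) (τ : MulAut L) (h : ∀ a, g * φ a * g⁻¹ = φ (τ a)) (n : ℕ) (a : L) :
    g ^ n * φ a * (g ^ n)⁻¹ = φ ((τ ^ n) a) := by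
  induction n with
  | zero => simp
  | succ n ih =>
    rw [pow_succ' τ, MulAut.mul_apply, ← h, ← ih, pow_succ']
    group

/-- An element of the field part commuting with the diagonal torus elements of odd order is trivial. -/
theorem Φ_one_of_comm (F : SLFact D.ζ ι) {g : H} (hg : g ∈ Φ) (hgo : Odd (orderOf g))
    (hc : ∀ a, a * ι (Facts.c k) = ι (Facts.c k) * a → Odd (orderOf a) → g * δ D a = δ D a * g) : g = 1 := by
  have hz := DuoFacts.z_comm c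
  -- the first factor
  have key1 : ∀ a, a * ι (Facts.c k) = ι (Facts.c k) * a → Odd (orderOf a) → g * D.φ₁ a = D.φ₁ a * g := by
    intro a ha hao
    obtain ⟨b, hb⟩ := c.norm₁ g hg a
    obtain ⟨b', hb'⟩ := c.norm₂ g hg a
    have h1 := hc a ha hao
    have h2 : D.φ₁ b * D.φ₂ b' = D.φ₁ a * D.φ₂ a := by
      rw [← hb, ← hb']
      calc g * D.φ₁ a * g⁻¹ * (g * D.φ₂ a * g⁻¹) = (g * δ D a) * g⁻¹ := by rw [δ_apply]; group
        _ = _ := by rw [h1, mul_inv_cancel_right, δ_apply]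
    refine fix_of_odd hz (z_ne D) (z_sq D) hgo ?_
    rcases (mul_eq_iff D).1 h2 with ⟨h3, -⟩ | ⟨h3, -⟩
    · left; rw [hb, h3]
    · right; rw [hb, h3, map_mul]
  have key2 : ∀ a, a * ι (Facts.c k) = ι (Facts.c k) * a → Odd (orderOf a) → g * D.φ₂ a = D.φ₂ a * g := by
    intro a ha hao
    have h1 := hc a ha hao
    have h2 := key1 a ha hao
    rw [δ_apply, ← mul_assoc, h2, mul_assoc, mul_assoc] at h1
    exact mul_left_cancel h1
  have haut : ∀ (φ : L →* H), Function.Injective φ → (∀ a, ∃ b, g * φ a * g⁻¹ = φ b) →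
      (∀ a, ∃ b, g⁻¹ * φ a * g = φ b) → (∀ q, g * φ (ι q) = φ (ι q) * g) →
      (∀ a, a * ι (Facts.c k) = ι (Facts.c k) * a → Odd (orderOf a) → g * φ a = φ a * g) →
      ∀ a, g * φ a = φ a * g := by
    intro φ hφ h1 h2 hq ho a
    obtain ⟨τ, hτ⟩ := exists_aut φ hφ g h1 h2
    have hτ1 : τ = 1 := by
      refine F.aut τ ⟨orderOf g, hgo, ?_⟩ ?_ ?_
      · ext a
        apply hφ
        rw [← aut_pow φ g τ hτ, pow_orderOf_eq_one]
        simp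
      · intro q
        apply hφ
        rw [← hτ, hq, mul_inv_cancel_right]
      · intro a ha
        obtain ⟨b, i, hbo, hb, rfl⟩ := F.decomp a ha
        apply hφ
        rw [← hτ, map_mul, ← mul_assoc, ho b hb hbo, mul_assoc (φ b), hq, ← mul_assoc, mul_inv_cancel_right]
    have := hτ a
    rw [hτ1, MulAut.one_apply, mul_inv_eq_iff_eq_mul] at this
    exact this
  have hgi : g⁻¹ ∈ Φ := inv_mem hg
  have h1 := haut D.φ₁ (inj₁ D) (c.norm₁ g hg) (fun a => by simpa using c.norm₁ g⁻¹ hgi a) (c.fix₁ g hg) key1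
  have h2 := haut D.φ₂ (inj₂ D) (c.norm₂ g hg) (fun a => by simpa using c.norm₂ g⁻¹ hgi a) (c.fix₂ g hg) key2
  rcases c.cen g h1 h2 with h | h
  · exact h
  · exfalso
    have h3 : orderOf g = 2 := by
      rw [h]
      exact orderOf_eq_prime (by rw [pow_two]; exact z_sq D) (z_ne D)
    rw [h3] at hgo
    exact absurd hgo (by decide)

theorem Φ_odd {g : H} (hg : g ∈ Φ) : Odd (orderOf g) := by
  have h2 : orderOf (⟨g, hg⟩ : Φ) ∣ Nat.card Φ := orderOf_dvd_natCard _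
  rw [Subgroup.orderOf_mk] at h2
  exact c.odd.of_dvd_nat h2

/-- **(b1)** The involution `w` centralises the field part. -/
theorem w_comm_Φ (U : UData f) (F : SLFact D.ζ ι) {g : H} (hg : g ∈ Φ) : D.w * g = g * D.w := by
  -- elements inverted by `w` are trivial
  have key : ∀ x ∈ Φ, D.w * x * D.w = x⁻¹ → x = 1 := by
    intro x hx hxw
    refine Φ_one_of_comm p c F hx (Φ_odd p c hx) fun a ha hao => ?_
    exact (TH_inv p c U F.noOdd).2 _ (Φ_mem p c U hx (Φ_odd p c hx) hxw) _ (δ_mem p c U F ha hao)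
  have h1 : g⁻¹ * (D.w * g * D.w) = 1 := by
    refine key _ (mul_mem (inv_mem hg) (c.wΦ g hg)) ?_
    calc D.w * (g⁻¹ * (D.w * g * D.w)) * D.w = (D.w * g⁻¹ * D.w) * g * (D.w * D.w) := by group
      _ = (D.w * g⁻¹ * D.w) * g := by rw [D.ww, mul_one]
      _ = (g⁻¹ * (D.w * g * D.w))⁻¹ := by
        rw [mul_inv_rev, mul_inv_rev, mul_inv_rev, w_inv, inv_inv]; group
  have h2 : D.w * g * D.w = g := by rw [inv_mul_eq_one] at h1; exact h1.symm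
  calc D.w * g = (D.w * g * D.w) * D.w := by rw [mul_assoc _ D.w D.w, D.ww, mul_one]
    _ = g * D.w := by rw [h2]

omit [Finite G] in
/-- The elements of `Φ ∩ φ₁(L) φ₂(L)` are trivial. -/
theorem Φ_inter (F : SLFact D.ζ ι) {g : H} (hg : g ∈ Φ) (hgo : Odd (orderOf g)) {a b : L}
    (h : g = D.φ₁ a * D.φ₂ b) : g = 1 := by
  have ha : a = 1 ∨ a = D.ζ := by
    refine F.cen a fun q => ?_
    have h1 := c.fix₁ g hg q
    rw [h, mul_assoc, ← D.comm, ← mul_assoc, ← mul_assoc] at h1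
    have h2 := mul_right_cancel h1
    rw [← map_mul, ← map_mul] at h2
    exact inj₁ D h2
  have hb : b = 1 ∨ b = D.ζ := by
    refine F.cen b fun q => ?_
    have h1 := c.fix₂ g hg q
    rw [h, ← mul_assoc, ← D.comm, mul_assoc, mul_assoc] at h1
    have h2 := mul_left_cancel h1
    rw [← map_mul, ← map_mul] at h2
    exact inj₂ D h2
  have h3 : g = 1 ∨ g = D.φ₁ D.ζ := by
    rcases ha with rfl | rfl <;> rcases hb with rfl | rfl
    · left; rw [h, map_one, map_one, one_mul]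
    · right; rw [h, map_one, one_mul, D.z_eq]
    · right; rw [h, map_one, mul_one]
    · left; rw [h, ← D.z_eq, ← map_mul, D.ζζ, map_one]
  rcases h3 with h3 | h3
  · exact h3
  · exfalso
    have h4 : orderOf g = 2 := by
      rw [h3]
      exact orderOf_eq_prime (by rw [pow_two]; exact z_sq D) (z_ne D)
    rw [h4] at hgo
    exact absurd hgo (by decide)

/-- The elements of `TH` lie in the diagonal torus (up to the central involution). -/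
theorem theta_form (U : UData f) (F : SLFact D.ζ ι) {h : H} (hh : h ∈ TH p c) :
    ∃ a, a * ι (Facts.c k) = ι (Facts.c k) * a ∧ (h = δ D a ∨ h = D.φ₁ D.ζ * δ D a) := by
  have ho := TH_odd p c hh
  obtain ⟨a, b, g, hg, rfl⟩ := odd_form p c ho
  have hinv := (TH_inv p c U F.noOdd).1 _ hh
  rw [t1_act p c] at hinv
  have hwg := w_comm_Φ p c U F hg
  -- conjugation by `δ (ι y)`
  set Y := ι (xa 0) with hY
  have e1 : δ D Y * (D.φ₁ a * D.φ₂ b * g) * (δ D Y)⁻¹ = D.φ₁ (Y * a * Y⁻¹) * D.φ₂ (Y * b * Y⁻¹) * g := by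
    have h2 : g * (δ D Y)⁻¹ = (δ D Y)⁻¹ * g := by
      rw [eq_inv_mul_iff_mul_eq, ← mul_assoc, mul_inv_eq_iff_eq_mul, δ_apply, Φ_comm_f p c hg]
    have h3 : (δ D Y)⁻¹ = D.φ₁ Y⁻¹ * D.φ₂ Y⁻¹ := by rw [← map_inv, δ_apply]
    calc δ D Y * (D.φ₁ a * D.φ₂ b * g) * (δ D Y)⁻¹ = δ D Y * D.φ₁ a * D.φ₂ b * (g * (δ D Y)⁻¹) := by group
      _ = (D.φ₁ Y * D.φ₂ Y) * D.φ₁ a * D.φ₂ b * ((D.φ₁ Y⁻¹ * D.φ₂ Y⁻¹) * g) := by rw [h2, h3, δ_apply]
      _ = D.φ₁ Y * (D.φ₂ Y * D.φ₁ a) * (D.φ₂ b * D.φ₁ Y⁻¹) * D.φ₂ Y⁻¹ * g := by group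
      _ = D.φ₁ Y * (D.φ₁ a * D.φ₂ Y) * (D.φ₁ Y⁻¹ * D.φ₂ b) * D.φ₂ Y⁻¹ * g := by rw [D.comm, D.comm]
      _ = D.φ₁ Y * D.φ₁ a * (D.φ₂ Y * D.φ₁ Y⁻¹) * D.φ₂ b * D.φ₂ Y⁻¹ * g := by group
      _ = D.φ₁ Y * D.φ₁ a * (D.φ₁ Y⁻¹ * D.φ₂ Y) * D.φ₂ b * D.φ₂ Y⁻¹ * g := by rw [D.comm Y⁻¹ Y]
      _ = _ := by rw [map_mul, map_mul, map_mul, map_mul]; group
  have e2 : ∀ x y : L, D.w * (D.φ₁ x * D.φ₂ y * g) * D.w = D.φ₁ y * D.φ₂ x * g := by
    intro x y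
    calc D.w * (D.φ₁ x * D.φ₂ y * g) * D.w = (D.w * D.φ₁ x * D.w) * (D.w * D.w)⁻¹ * (D.w * D.φ₂ y * D.w) *
          (D.w * D.w)⁻¹ * (D.w * g) * D.w := by group
      _ = D.φ₂ x * D.φ₁ y * (g * D.w) * D.w := by rw [D.ww, D.conj, conj₂, hwg]; group
      _ = D.φ₂ x * D.φ₁ y * g * (D.w * D.w) := by group
      _ = _ := by rw [D.ww, mul_one, ← D.comm]
  have e3 : (D.φ₁ a * D.φ₂ b * g)⁻¹ = g⁻¹ * (D.φ₁ a⁻¹ * D.φ₂ b⁻¹) := by
    rw [mul_inv_rev, D.comm, mul_inv_rev, map_inv, map_inv]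
  rw [e1, e2, e3] at hinv
  -- the field component is trivial
  obtain ⟨b1, hb1⟩ := c.norm₁ g⁻¹ (inv_mem hg) a⁻¹
  obtain ⟨b2, hb2⟩ := c.norm₂ g⁻¹ (inv_mem hg) b⁻¹
  have e4 : g⁻¹ * (D.φ₁ a⁻¹ * D.φ₂ b⁻¹) = D.φ₁ b1 * D.φ₂ b2 * g⁻¹ := by
    rw [← hb1, ← hb2]; group
  have hgsq : g * g = D.φ₁ ((Y * b * Y⁻¹)⁻¹ * b1) * D.φ₂ ((Y * a * Y⁻¹)⁻¹ * b2) := by
    rw [e4] at hinv
    have h5 : g * g = (D.φ₁ (Y * b * Y⁻¹) * D.φ₂ (Y * a * Y⁻¹))⁻¹ * (D.φ₁ b1 * D.φ₂ b2) := by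
      rw [eq_inv_mul_iff_mul_eq, ← mul_assoc, hinv, inv_mul_cancel_right]
    have h5' : (D.φ₁ (Y * b * Y⁻¹) * D.φ₂ (Y * a * Y⁻¹))⁻¹ = D.φ₁ (Y * b * Y⁻¹)⁻¹ * D.φ₂ (Y * a * Y⁻¹)⁻¹ := by
      rw [D.comm, mul_inv_rev, map_inv D.φ₁ (Y * b * Y⁻¹), map_inv D.φ₂ (Y * a * Y⁻¹)]
    rw [h5, h5']
    calc D.φ₁ (Y * b * Y⁻¹)⁻¹ * D.φ₂ (Y * a * Y⁻¹)⁻¹ * (D.φ₁ b1 * D.φ₂ b2)
        = D.φ₁ (Y * b * Y⁻¹)⁻¹ * (D.φ₂ (Y * a * Y⁻¹)⁻¹ * D.φ₁ b1) * D.φ₂ b2 := by group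
      _ = D.φ₁ (Y * b * Y⁻¹)⁻¹ * (D.φ₁ b1 * D.φ₂ (Y * a * Y⁻¹)⁻¹) * D.φ₂ b2 := by rw [D.comm]
      _ = _ := by
        rw [map_mul D.φ₁ (Y * b * Y⁻¹)⁻¹ b1, map_mul D.φ₂ (Y * a * Y⁻¹)⁻¹ b2]
        simp only [mul_assoc]
  have hg1 : g = 1 := by
    have hgo := Φ_odd p c hg
    have h6 : orderOf (g * g) ∣ orderOf g := by rw [← pow_two]; exact orderOf_pow_dvd 2
    have h7 : g * g = 1 := Φ_inter p c F (mul_mem hg hg) (hgo.of_dvd_nat h6) hgsq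
    have h8 := mem_of_sq_mem (⊥ : Subgroup H) hgo (by rw [h7]; exact one_mem _)
    exact h8
  subst hg1
  simp only [mul_one, inv_one, one_mul] at *
  -- commutation with `e`
  have hce : D.φ₁ a * D.φ₂ b * δ D (ι (Facts.c k)) * (D.φ₁ a * D.φ₂ b)⁻¹ = δ D (ι (Facts.c k)) := by
    obtain ⟨x, hx, hxx⟩ := (mem_TH p c).1 hh
    rw [← hxx, δ_apply, ← π_f p c, ← map_mul, ← map_inv, ← map_mul]
    congr 1
    apply Subtype.ext
    have := mem_Cn.1 ((OO_le _) hx)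
    change (x : G) * ee f * (x : G)⁻¹ = ee f
    rw [this, mul_inv_cancel_right]
  have e5 : D.φ₁ a * D.φ₂ b * D.φ₁ (ι (Facts.c k)) * (D.φ₁ a * D.φ₂ b)⁻¹ = D.φ₁ (a * ι (Facts.c k) * a⁻¹) := by
    calc _ = D.φ₁ a * (D.φ₂ b * D.φ₁ (ι (Facts.c k))) * (D.φ₂ b)⁻¹ * (D.φ₁ a)⁻¹ := by group
      _ = D.φ₁ a * (D.φ₁ (ι (Facts.c k)) * D.φ₂ b) * (D.φ₂ b)⁻¹ * (D.φ₁ a)⁻¹ := by rw [D.comm]
      _ = _ := by rw [map_mul, map_mul, map_inv]; group
  have e6 : D.φ₁ a * D.φ₂ b * D.φ₂ (ι (Facts.c k)) * (D.φ₁ a * D.φ₂ b)⁻¹ = D.φ₂ (b * ι (Facts.c k) * b⁻¹) := by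
    calc _ = D.φ₁ a * (D.φ₂ b * D.φ₂ (ι (Facts.c k)) * (D.φ₂ b)⁻¹) * (D.φ₁ a)⁻¹ := by group
      _ = D.φ₁ a * D.φ₂ (b * ι (Facts.c k) * b⁻¹) * (D.φ₁ a)⁻¹ := by rw [map_mul, map_mul, map_inv]
      _ = _ := by rw [D.comm, mul_inv_cancel_right]
  have h9 : D.φ₁ (a * ι (Facts.c k) * a⁻¹) * D.φ₂ (b * ι (Facts.c k) * b⁻¹) =
      D.φ₁ (ι (Facts.c k)) * D.φ₂ (ι (Facts.c k)) := by
    rw [← e5, ← e6, ← δ_apply D (ι (Facts.c k)), ← hce, δ_apply]; group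
  have hax : a * ι (Facts.c k) = ι (Facts.c k) * a := by
    have h10 : (D.φ₁ a * D.φ₂ b) * D.φ₁ (ι (Facts.c k)) = D.φ₁ (ι (Facts.c k)) * (D.φ₁ a * D.φ₂ b) := by
      refine fix_of_odd (DuoFacts.z_comm c) (z_ne D) (z_sq D) ho ?_
      rw [e5]
      rcases (mul_eq_iff D).1 h9 with ⟨h11, -⟩ | ⟨h11, -⟩
      · left; rw [h11]
      · right; rw [h11, map_mul]
    have h12 : D.φ₁ (a * ι (Facts.c k) * a⁻¹) = D.φ₁ (ι (Facts.c k)) := by
      rw [← e5, h10, mul_inv_cancel_right]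
    have h13 := inj₁ D h12
    rwa [mul_inv_eq_iff_eq_mul] at h13
  have hbx : b * ι (Facts.c k) = ι (Facts.c k) * b := by
    have h10 : (D.φ₁ a * D.φ₂ b) * D.φ₂ (ι (Facts.c k)) = D.φ₂ (ι (Facts.c k)) * (D.φ₁ a * D.φ₂ b) := by
      refine fix_of_odd (DuoFacts.z_comm c) (z_ne D) (z_sq D) ho ?_
      rw [e6]
      rcases (mul_eq_iff D).1 h9 with ⟨-, h11⟩ | ⟨-, h11⟩
      · left; rw [h11]
      · right; rw [h11, map_mul, D.z_eq]
    have h12 : D.φ₂ (b * ι (Facts.c k) * b⁻¹) = D.φ₂ (ι (Facts.c k)) := by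
      rw [← e6, h10, mul_inv_cancel_right]
    have h13 := inj₂ D h12
    rwa [mul_inv_eq_iff_eq_mul] at h13
  rw [F.inv a hax, F.inv b hbx] at hinv
  refine ⟨a, hax, ?_⟩
  rcases (mul_eq_iff D).1 hinv with ⟨h1, -⟩ | ⟨h1, -⟩
  · left
    rw [inv_inj.1 h1, δ_apply]
  · right
    have h2 : b = D.ζ * a := by
      have h3 := congrArg (·⁻¹) h1
      simp only [inv_inv, mul_inv_rev] at h3
      rw [h3, ζ_comm c, inv_eq_of_mul_eq_one_left D.ζζ]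
    rw [h2, δ_apply, D.z_eq, map_mul, ← mul_assoc, D.comm, mul_assoc]

/-- The involution `w` centralises `TH`. -/
theorem w_comm_TH (U : UData f) (F : SLFact D.ζ ι) {h : H} (hh : h ∈ TH p c) : D.w * h = h * D.w := by
  obtain ⟨a, -, rfl | rfl⟩ := theta_form p c U F hh
  · exact w_δ D a
  · rw [← mul_assoc, ← DuoFacts.z_comm c, mul_assoc, w_δ, mul_assoc]

/-- **(TOR)** for the standard triple `(t, s, t s e)`. -/
theorem tor_std (U : UData f) (F : SLFact D.ζ ι) {g : G} (hg : g ∈ OO (Cn (ee f))) (hgt : g ∈ Cn (tt f)) :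
    g * s * g⁻¹ * s⁻¹ ∈ OO (Cn (tt f)) := by
  have h1 : π ⟨g, hgt⟩ ∈ TH p c := (mem_TH p c).2 ⟨⟨g, hgt⟩, hg, rfl⟩
  have h2 := w_comm_TH p c U F h1
  have h3 : π (⟨g, hgt⟩ * ⟨s, s_mem p⟩ * ⟨g, hgt⟩⁻¹ * ⟨s, s_mem p⟩⁻¹) = 1 := by
    rw [map_mul, map_mul, map_mul, map_inv, map_inv, c.hw, ← h2, mul_inv_cancel_right, mul_inv_cancel]
  exact (c.ker _).1 h3

/-- **(TOR)** : for pairwise commuting distinct conjugates `a`, `b`, `d` of `t`, the involution `b` centralises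
`O(C(a b d)) ∩ C(a)` modulo `O(C(a))`. -/
theorem tor (U : UData f) (F : SLFact D.ζ ι) {a b d : G} (ha : IsConj (tt f) a) (hb : IsConj (tt f) b)
    (hd : IsConj (tt f) d) (hab : a * b = b * a) (had : a * d = d * a) (hbd : b * d = d * b) (nab : a ≠ b)
    (nad : a ≠ d) (nbd : b ≠ d) {g : G} (hg : g ∈ OO (Cn (a * b * d))) (hga : g ∈ Cn a) :
    g * b * g⁻¹ * b⁻¹ ∈ OO (Cn a) := by
  obtain ⟨x, hxa, hxb, hxd⟩ := triples p c ha hb hd hab had hbd nab nad nbd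
  have hprod : x * (a * b * d) * x⁻¹ = ee f := by
    have h1 : x * (a * b * d) * x⁻¹ = (x * a * x⁻¹) * (x * b * x⁻¹) * (x * d * x⁻¹) := by group
    rw [h1, hxa, hxb, hxd]
    have hst : s * tt f = tt f * s := (mem_Cn.1 (s_mem p))
    calc tt f * s * (tt f * s * ee f) = tt f * (s * tt f) * s * ee f := by group
      _ = (tt f * tt f) * (s * s) * ee f := by rw [hst]; group
      _ = _ := by rw [t_sq p, s_sq p, one_mul, one_mul]
  have h2 : x * g * x⁻¹ ∈ OO (Cn (ee f)) := by rw [← hprod]; exact mem_OO_conj hg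
  have h3 : x * g * x⁻¹ ∈ Cn (tt f) := by rw [← hxa]; exact mem_Cn_conj hga
  have h4 := tor_std p c U F h2 h3
  rw [← mem_OO_conj_iff (g := x), hxa]
  rw [← hxb] at h4
  have h5 : x * (g * b * g⁻¹ * b⁻¹) * x⁻¹ = x * g * x⁻¹ * (x * b * x⁻¹) * (x * g * x⁻¹)⁻¹ * (x * b * x⁻¹)⁻¹ := by
    group
  rw [h5]; exact h4

end Cfsg.Agent.SylowSp4.FieldPart
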