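import Cfsg.Agent.SylowSp4.SLTransport
import Cfsg.Agent.SylowSp4.FieldPart

/-!
# `SLFact` for `L = SL(2,F)`
-/

set_option autoImplicit false

namespace Cfsg.Agent.SylowSp4.SLFactMain

open QuaternionGroup Cfsg.Agent.SylowSp4.Coord
open Cfsg.Agent.SylowSp4
open Cfsg.Agent.ClassicalGeometry.SLTwoFour (two_ne_zero_of_odd eq_one_or_neg_one_of_mul_self neg_one_ne_one)
open Cfsg.Agent.ClassicalGeometry.PSL2Klein (mem_center)

local notation "SL2" => Matrix.SpecialLinearGroup (Fin 2)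

/-- Splitting an element into its odd part and its 2-part. -/
theorem exists_decomp {L : Type*} [Group L] [Finite L] (a : L) :
    ∃ k₁ k₂ : ℕ, a = a ^ k₁ * a ^ k₂ ∧ Odd (orderOf (a ^ k₁)) ∧ ∃ m, (a ^ k₂) ^ 2 ^ m = 1 := by
  have hn : orderOf a ≠ 0 := (orderOf_pos a).ne'
  obtain ⟨s, m, hm, hsm⟩ := Nat.exists_eq_two_pow_mul_odd hn
  have hco : Nat.Coprime (2 ^ s) m := Nat.Coprime.pow_left s (Nat.coprime_two_left.2 hm)
  obtain ⟨k₁, h1, h1'⟩ := Nat.chineseRemainder hco 0 1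
  obtain ⟨k₂, h2, h2'⟩ := Nat.chineseRemainder hco 1 0
  refine ⟨k₁, k₂, ?_, ?_, s, ?_⟩
  · rw [← pow_add]
    conv_lhs => rw [← pow_one a]
    rw [pow_eq_pow_iff_modEq, hsm, ← Nat.modEq_and_modEq_iff_modEq_mul hco]
    constructor
    · exact (h1.add h2).symm
    · exact (h1'.add h2').symm
  · have h3 : orderOf (a ^ k₁) ∣ m := by
      apply orderOf_dvd_of_pow_eq_one
      rw [← pow_mul]
      apply orderOf_dvd_iff_pow_eq_one.1
      rw [hsm]
      exact Nat.mul_dvd_mul_right ((Nat.modEq_zero_iff_dvd).1 h1) m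
    exact hm.of_dvd_nat h3
  · rw [← pow_mul]
    apply orderOf_dvd_iff_pow_eq_one.1
    rw [hsm, mul_comm k₂]
    exact Nat.mul_dvd_mul_left _ ((Nat.modEq_zero_iff_dvd).1 h2')

theorem xa_conj_c {k : ℕ} : (xa 0 : Q k) * Facts.c k * (xa 0)⁻¹ = (Facts.c k)⁻¹ := by
  rw [mul_inv_eq_iff_eq_mul]
  change (xa 0 : Q k) * a (Facts.qq k) = (a (Facts.qq k))⁻¹ * xa 0
  rw [xa_mul_a]
  have : (a (Facts.qq k) : Q k)⁻¹ = a (-Facts.qq k) := rfl
  rw [this, a_mul_xa]
  congr 1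
  ring

/-- an element of square `1` up to an odd power which is a 2-element -/
theorem sq_eq_one_of {G : Type*} [Group G] {b : G} {m : ℕ} (hm : Odd m) (h8 : b ^ 8 = 1) (h : b ^ (2 * m) = 1) :
    b ^ 2 = 1 := by
  have h1 : b ^ Nat.gcd 8 (2 * m) = 1 := pow_gcd_eq_one.2 ⟨h8, h⟩
  have h3 : Nat.gcd 8 (2 * m) = 2 := by
    have : Nat.gcd (2 * 4) (2 * m) = 2 * Nat.gcd 4 m := Nat.gcd_mul_left 2 4 m
    have h4 : Nat.gcd 4 m = 1 := Nat.Coprime.pow_left 2 (Nat.coprime_two_left.2 hm)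
    rw [h4] at this
    exact this
  rwa [h3] at h1

theorem noOdd_SL {F : Type*} [Field F] [Fintype F] (hodd : Odd (Fintype.card F)) :
    Pairs.NoOdd (-1 : SL2 F) := by
  have h2 : (2 : F) ≠ 0 := two_ne_zero_of_odd hodd
  have hw : (SLGen.ww F) * SLGen.ww F = -1 := Cfsg.Agent.ClassicalGeometry.SLTwoFour.w_mul_self
  intro M hM hMo a ha
  have hsq : ∀ b ∈ M, ∃ m, Odd m ∧ b ^ (2 * m) = 1 := by
    intro b hb
    obtain ⟨m, hm, h⟩ := hMo b hb
    refine ⟨m, hm, ?_⟩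
    rw [mul_comm, pow_mul]
    rcases h with h | h <;> rw [h] <;> simp
  rcases Nat.lt_or_ge 3 (Fintype.card F) with h3 | h3
  · rcases SLGen.normal_cases h3 M hM with h | h
    · exact mem_center.1 (h ha)
    · exfalso
      obtain ⟨m, hm, h4⟩ := hsq (SLGen.ww F) (by rw [h]; trivial)
      rw [pow_mul, sq, hw, hm.neg_one_pow] at h4
      exact neg_one_ne_one h2 h4
  · have hq : Fintype.card F = 3 := by
      have h1 := Fintype.one_lt_card (α := F)
      obtain ⟨m, hm⟩ := hodd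
      omega
    have h24 : Nat.card (SL2 F) = 24 := Cfsg.Agent.TwoFusion.SLTwoFacts.card_eq_24 hq
    obtain ⟨⟨Q', hQn, hQi, -⟩, -⟩ := Cfsg.Agent.S0257.result hq
    have hQ8 : Nat.card Q' = 8 := by
      have := Q'.card_mul_index
      rw [hQi, h24] at this
      omega
    have hmemQ : ∀ g : SL2 F, g * g = -1 → g ∈ Q' := by
      intro g hg
      have h8 : g ^ 4 = 1 := by
        rw [show (4 : ℕ) = 2 * 2 by norm_num, pow_mul, sq g, hg]
        simp
      rw [← QuotientGroup.eq_one_iff]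
      have h1 : (QuotientGroup.mk g : SL2 F ⧸ Q') ^ 4 = 1 := by
        rw [← QuotientGroup.mk_pow, h8]; rfl
      have h4 : (QuotientGroup.mk g : SL2 F ⧸ Q') ^ 3 = 1 := by
        have h5 : Nat.card (SL2 F ⧸ Q') = 3 := hQi
        rw [← h5]
        exact pow_card_eq_one'
      rw [show (4 : ℕ) = 3 + 1 by norm_num, pow_succ, h4, one_mul] at h1
      exact h1
    have hQM : ∀ b ∈ M, b ∈ Q' → b = 1 ∨ b = -1 := by
      intro b hb hbQ
      obtain ⟨m, hm, h4⟩ := hsq b hb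
      have h8 : b ^ 8 = 1 := by
        have : (⟨b, hbQ⟩ : Q') ^ 8 = 1 := by rw [← hQ8]; exact pow_card_eq_one'
        exact congrArg Subtype.val this
      have h5 := sq_eq_one_of hm h8 h4
      exact eq_one_or_neg_one_of_mul_self h2 b (by rw [← sq]; exact h5)
    have hcomm : ∀ g : SL2 F, g * g = -1 → (a * a) * g = g * (a * a) := by
      intro g hg
      have h1 : a * g * a⁻¹ * g⁻¹ = 1 ∨ a * g * a⁻¹ * g⁻¹ = -1 := by
        apply hQM
        · have e : a * g * a⁻¹ * g⁻¹ = a * (g * a⁻¹ * g⁻¹) := by group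
          rw [e]
          exact Subgroup.mul_mem _ ha (hM.conj_mem _ (Subgroup.inv_mem _ ha) g)
        · exact Subgroup.mul_mem _ (hQn.conj_mem g (hmemQ g hg) a) (Subgroup.inv_mem _ (hmemQ g hg))
      rcases h1 with h1 | h1
      · have h5 : a * g = g * a := by
          rw [mul_inv_eq_one, mul_inv_eq_iff_eq_mul] at h1; exact h1
        rw [mul_assoc, h5, ← mul_assoc, h5, mul_assoc]
      · have h5 : a * g = -g * a := by
          rw [mul_inv_eq_iff_eq_mul, mul_inv_eq_iff_eq_mul, neg_mul, one_mul] at h1; exact h1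
        rw [mul_assoc, h5, neg_mul, mul_neg, ← mul_assoc, h5, neg_mul, neg_mul, neg_neg, mul_assoc]
    obtain ⟨y, hy⟩ : ∃ y : SL2 F, y * SLGen.ww F = -SLGen.ww F * y :=
      Cfsg.Agent.ClassicalGeometry.SLTwoFour.exists_inverting (F := F) hodd
    have hyX : y * SLGen.ww F * y⁻¹ = (SLGen.ww F)⁻¹ := by
      rw [mul_inv_eq_iff_eq_mul, SLFacts.inv_eq_neg hw]; exact hy
    have h5 := SLFacts.eq_one_or_neg_one_of_comm hw hyX h2 (hcomm _ hw) (hcomm _ (SLFacts.y_sq hw hyX h2))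
    have h8 : a ^ 8 = 1 := by
      rw [show (8 : ℕ) = 2 * 4 by norm_num, pow_mul, sq]
      rcases h5 with h | h <;> rw [h]
      · simp
      · exact Even.neg_one_pow (by decide)
    obtain ⟨m, hm, h4⟩ := hsq a ha
    have h6 := sq_eq_one_of hm h8 h4
    exact eq_one_or_neg_one_of_mul_self h2 a (by rw [← sq]; exact h6)

variable {L F : Type*} [Group L] [Finite L] [Field F] [Fintype F]

omit [Finite L] in
theorem noOdd_L (hodd : Odd (Fintype.card F)) (e : L ≃* SL2 F) {ζ : L} (hζ : ζ * ζ = 1) (hζ1 : ζ ≠ 1) :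
    Pairs.NoOdd ζ := by
  have h2 : (2 : F) ≠ 0 := two_ne_zero_of_odd hodd
  have hez := SLTransport.e_zeta e hζ hζ1 h2
  intro M hM hMo a ha
  have h1 := noOdd_SL hodd (M.map e.toMonoidHom) (hM.map _ e.surjective) (by
    rintro _ ⟨b, hb, rfl⟩
    obtain ⟨m, hm, h⟩ := hMo b hb
    refine ⟨m, hm, ?_⟩
    change e b ^ m = 1 ∨ e b ^ m = -1
    rw [← map_pow]
    rcases h with h | h
    · left; rw [h, map_one]
    · right; rw [h, hez]) (e a) ⟨a, ha, rfl⟩
  rcases h1 with h1 | h1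
  · left; exact (map_eq_one_iff e e.injective).1 h1
  · right; rw [← hez] at h1; exact e.injective h1

/-- `SLFact` for `L ≃* SL(2,F)`. -/
theorem slFact (hodd : Odd (Fintype.card F)) (e : L ≃* SL2 F) {k : ℕ} (hk : 1 ≤ k) (ι : Q k →* L)
    (hι : Function.Injective ι) {ζ : L} (hz : ι (z k) = ζ) (hcard : ¬ 2 ^ (k + 3) ∣ Nat.card L) :
    FieldPart.SLFact ζ ι := by
  have h2 : (2 : F) ≠ 0 := two_ne_zero_of_odd hodd
  have hζ : ζ * ζ = 1 := by rw [← hz, ← map_mul, z_mul_z, map_one]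
  have hζ1 : ζ ≠ 1 := by
    intro h
    rw [← hz] at h
    exact z_ne_one (hι (h.trans (map_one ι).symm))
  have hx : ι (Facts.c k) * ι (Facts.c k) = ζ := by rw [← map_mul, Facts.c_sq hk, hz]
  have hyx : ι (xa 0) * ι (Facts.c k) * (ι (xa 0))⁻¹ = (ι (Facts.c k))⁻¹ := by
    rw [← map_inv, ← map_mul, ← map_mul, xa_conj_c, map_inv]
  have hcomm : ∀ g h : L, g * ι (Facts.c k) = ι (Facts.c k) * g → h * ι (Facts.c k) = ι (Facts.c k) * h →
      g * h = h * g := fun g h hg hh => SLTransport.comm_of_comm e hζ hζ1 hx h2 hg hh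
  refine ⟨?_, ?_, ?_, ?_, noOdd_L hodd e hζ hζ1⟩
  · intro a ha
    exact SLTransport.conj_eq_inv e hζ hζ1 hx hyx h2 ha
  · intro a ha
    obtain ⟨k₁, k₂, h1, h3, m, h4⟩ := exists_decomp a
    have hc : Commute a (ι (Facts.c k)) := ha
    obtain ⟨i, hi⟩ := SLTransport.exists_a hk ι hι hcard hcomm (hc.pow_left k₂) h4
    exact ⟨a ^ k₁, i, h3, hc.pow_left k₁, by rw [← hi]; exact h1⟩
  · intro τ _ hq hfix
    exact SLTransport.aut_eq_one e hζ hζ1 hx hyx h2 τ hfix (hq _)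
  · intro a ha
    exact SLTransport.eq_one_or_of_comm e hζ hζ1 hx hyx h2 (ha _) (ha _)

end Cfsg.Agent.SylowSp4.SLFactMain
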