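import Cfsg.Agent.SylowSp4.Pairs
import Cfsg.Agent.SignalizersComponents.CoprimeGen

/-!
# Elementary coprime action of involutions, four-group generation
-/

set_option autoImplicit false

namespace Cfsg.Agent.SylowSp4.FrameTools

open Subgroup Cfsg.Agent.SylowSp4.Pat Cfsg.Agent.SylowSp4.Pairs
open Cfsg.Agent.Walter.OddCoreIn

variable {G : Type*} [Group G]

theorem mem_Cn_mul {a b x : G} (ha : x ∈ Cn a) (hb : x ∈ Cn b) : x ∈ Cn (a * b) := by
  rw [mem_Cn] at *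
  rw [← mul_assoc, ha, mul_assoc, hb, mul_assoc]

/-- If `x` commutes with `a` and `a * b`, it commutes with `b`. -/
theorem mem_Cn_of_mul {a b x : G} (ha : x ∈ Cn a) (hab : x ∈ Cn (a * b)) : x ∈ Cn b := by
  rw [mem_Cn] at *
  have : a * (x * b) = a * (b * x) := by
    rw [← mul_assoc, ← ha, mul_assoc, hab, mul_assoc]
  exact mul_left_cancel this

/-- The square root decomposition `x = v⁻¹ (v x)`, `v` inverted by `a`, `v x` centralised by `a`. -/
theorem decomp {a x : G} (ha : a * a = 1) (ho : Odd (orderOf (a * x * a⁻¹ * x⁻¹))) :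
    ∃ v ∈ zpowers (a * x * a⁻¹ * x⁻¹), a * v * a⁻¹ = v⁻¹ ∧ v * x ∈ Cn a := by
  have hai : a⁻¹ = a := inv_eq_of_mul_eq_one_left ha
  obtain ⟨m, hm⟩ := ho
  set w := a * x * a⁻¹ * x⁻¹ with hw
  have hinv : a * w * a⁻¹ = w⁻¹ := by
    rw [hw, hai]
    have : a * (a * x * a * x⁻¹) * a = (a * a) * (x * a * x⁻¹ * a) := by group
    rw [this, ha, one_mul]
    simp only [mul_inv_rev, inv_inv, hai]
    group
  have hinvn : ∀ n : ℕ, a * w ^ n * a⁻¹ = (w ^ n)⁻¹ := by
    intro n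
    have : a * w ^ n * a⁻¹ = (a * w * a⁻¹) ^ n := by rw [conj_pow]
    rw [this, hinv, inv_pow]
  refine ⟨w ^ (m + 1), pow_mem (mem_zpowers w) _, hinvn _, ?_⟩
  rw [mem_Cn]
  have h1 : w ^ (m + 1) * w ^ (m + 1) = w := by
    rw [← pow_add]
    have : m + 1 + (m + 1) = orderOf w + 1 := by omega
    rw [this, pow_succ, pow_orderOf_eq_one, one_mul]
  have h2 : a * x = w * x * a := by rw [hw]; group
  have h3 : a * w ^ (m + 1) = (w ^ (m + 1))⁻¹ * a := by
    rw [← hinvn]; group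
  calc w ^ (m + 1) * x * a = (w ^ (m + 1))⁻¹ * (w ^ (m + 1) * w ^ (m + 1)) * x * a := by group
    _ = (w ^ (m + 1))⁻¹ * (w * x * a) := by rw [h1]; group
    _ = (w ^ (m + 1))⁻¹ * (a * x) := by rw [← h2]
    _ = a * (w ^ (m + 1) * x) := by rw [← mul_assoc, ← h3, mul_assoc]

theorem odd_orderOf_of_mem [Finite G] {X : Subgroup G} (hX : ¬ 2 ∣ Nat.card X) {x : G} (hx : x ∈ X) :
    Odd (orderOf x) := by
  have h4 : Odd (Nat.card X) := Nat.not_even_iff_odd.1 fun h => hX h.two_dvd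
  have h3 : orderOf (⟨x, hx⟩ : X) ∣ Nat.card X := orderOf_dvd_natCard _
  rw [Subgroup.orderOf_mk] at h3
  exact h4.of_dvd_nat h3

/-- `x ∈ D` as soon as `[a, x] ∈ D` and `C_X(a) ≤ D`. -/
theorem mem_of_comm [Finite G] {X D : Subgroup G} {a x : G} (ha : a * a = 1) (hX : ¬ 2 ∣ Nat.card X)
    (haX : ∀ y ∈ X, a * y * a⁻¹ ∈ X) (hx : x ∈ X) (hD : a * x * a⁻¹ * x⁻¹ ∈ D) (hc : X ⊓ Cn a ≤ D) :
    x ∈ D := by
  have hwX : a * x * a⁻¹ * x⁻¹ ∈ X := X.mul_mem (haX x hx) (X.inv_mem hx)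
  obtain ⟨v, hv, -, hvx⟩ := decomp ha (odd_orderOf_of_mem hX hwX)
  have hvX : v ∈ X := (zpowers_le.2 hwX) hv
  have hvD : v ∈ D := (zpowers_le.2 hD) hv
  have h1 : v * x ∈ D := hc ⟨X.mul_mem hvX hx, hvx⟩
  have h2 : x = v⁻¹ * (v * x) := by group
  rw [h2]
  exact D.mul_mem (D.inv_mem hvD) h1

/-- If `C_X(a) ≤ D` then `a` inverts `X` modulo `D`. -/
theorem inv_mod [Finite G] {X D : Subgroup G} {a x : G} (ha : a * a = 1) (hX : ¬ 2 ∣ Nat.card X)
    (haX : ∀ y ∈ X, a * y * a⁻¹ ∈ X) (hD : ∀ y ∈ X, ∀ d ∈ D, y * d * y⁻¹ ∈ D) (hc : X ⊓ Cn a ≤ D)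
    (hx : x ∈ X) : a * x * a⁻¹ * x ∈ D := by
  have hwX : a * x * a⁻¹ * x⁻¹ ∈ X := X.mul_mem (haX x hx) (X.inv_mem hx)
  obtain ⟨v, hv, hav, hvx⟩ := decomp ha (odd_orderOf_of_mem hX hwX)
  have hvX : v ∈ X := (zpowers_le.2 hwX) hv
  have h1 : v * x ∈ D := hc ⟨X.mul_mem hvX hx, hvx⟩
  have h3 : a * (v * x) * a⁻¹ = v * x := by
    rw [← mem_Cn.1 hvx]; group
  have h2 : a * x * a⁻¹ * x = (v * (v * x) * v⁻¹) * (v * x) := by
    have e1 : a * x * a⁻¹ = (a * v * a⁻¹)⁻¹ * (a * (v * x) * a⁻¹) := by group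
    rw [e1, hav, h3]; group
  rw [h2]
  exact D.mul_mem (hD v hvX _ h1) h1

/-- Generation of an odd order group by the fixed points of the elements of a four-group. -/
theorem gen4 [Finite G] {X S : Subgroup G} {a b : G} (ha : a * a = 1) (hb : b * b = 1) (hab : a * b = b * a)
    (hX : ¬ 2 ∣ Nat.card X) (haX : ∀ y ∈ X, a * y * a⁻¹ ∈ X) (hbX : ∀ y ∈ X, b * y * b⁻¹ ∈ X)
    (h1 : X ⊓ Cn a ≤ S) (h2 : X ⊓ Cn b ≤ S) (h3 : X ⊓ Cn (a * b) ≤ S) : X ≤ S := by
  classical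
  have triv : ∀ c : G, c = 1 → X ⊓ Cn c ≤ S → X ≤ S := by
    intro c hc h x hx
    refine h ⟨hx, mem_Cn.2 ?_⟩
    rw [hc, mul_one, one_mul]
  by_cases ha1 : a = 1
  · exact triv a ha1 h1
  by_cases hb1 : b = 1
  · exact triv b hb1 h2
  by_cases hab1 : a = b
  · exact triv (a * b) (by rw [hab1]; exact hb) h3
  have hbi : b⁻¹ = b := inv_eq_of_mul_eq_one_left hb
  have hai : a⁻¹ = a := inv_eq_of_mul_eq_one_left ha
  have hab2 : a * b ≠ 1 := fun h => hab1 ((mul_eq_one_iff_eq_inv.1 h).trans hbi)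
  let A : Subgroup G :=
    { carrier := {1, a, b, a * b}
      one_mem' := by simp
      mul_mem' := by
        have e1 : a * (a * b) = b := by rw [← mul_assoc, ha, one_mul]
        have e2 : b * (a * b) = a := by rw [hab, ← mul_assoc, hb, one_mul]
        have e3 : a * b * a = b := by rw [hab, mul_assoc, ha, mul_one]
        have e4 : a * b * b = a := by rw [mul_assoc, hb, mul_one]
        have e5 : a * b * (a * b) = 1 := by rw [← mul_assoc, e3, hb]
        rintro x y (rfl | rfl | rfl | rfl) (rfl | rfl | rfl | rfl) <;>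
          simp [ha, hb, e1, e2, e3, e4, e5, ← hab]
      inv_mem' := by
        rintro x (rfl | rfl | rfl | rfl) <;> simp [hai, hbi, ← hab] }
  have hmem : ∀ x, x ∈ A ↔ x = 1 ∨ x = a ∨ x = b ∨ x = a * b := fun x => Iff.rfl
  have hsq : ∀ x ∈ A, x * x = 1 := by
    intro x hx
    rcases (hmem x).1 hx with rfl | rfl | rfl | rfl
    · simp
    · exact ha
    · exact hb
    · rw [mul_assoc, ← mul_assoc b, ← hab, mul_assoc a b b, hb, mul_one, ha]
  have hcomm : ∀ x ∈ A, ∀ y ∈ A, x * y = y * x := by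
    intro x hx y hy
    have h := hsq (x * y) (A.mul_mem hx hy)
    have hxi : x⁻¹ = x := inv_eq_of_mul_eq_one_left (hsq x hx)
    have hyi : y⁻¹ = y := inv_eq_of_mul_eq_one_left (hsq y hy)
    rw [mul_eq_one_iff_eq_inv, mul_inv_rev, hxi, hyi] at h
    exact h
  have hcard : 2 ^ 2 ≤ Nat.card A := by
    let g : Fin 4 → A := ![⟨1, A.one_mem⟩, ⟨a, Or.inr (Or.inl rfl)⟩, ⟨b, Or.inr (Or.inr (Or.inl rfl))⟩,
      ⟨a * b, Or.inr (Or.inr (Or.inr rfl))⟩]
    have hg : Function.Injective g := by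
      intro i j hij
      have hij' : ((g i : A) : G) = ((g j : A) : G) := congrArg _ hij
      fin_cases i <;> fin_cases j <;>
        first
          | rfl
          | (exfalso; simp [g] at hij'; first
              | exact ha1 hij' | exact ha1 hij'.symm | exact hb1 hij' | exact hb1 hij'.symm
              | exact hab1 hij' | exact hab1 hij'.symm | exact hab2 hij' | exact hab2 hij'.symm)
    have := Nat.card_le_card_of_injective g hg
    rw [Nat.card_fin] at this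
    exact this
  have hA : Cfsg.IsElementaryAbelian 2 A :=
    ⟨⟨⟨fun x y => Subtype.ext (hcomm x x.2 y y.2)⟩⟩, fun x hx => (pow_two x).trans (hsq x hx)⟩
  have hAX : A ≤ normalizer (X : Set G) := by
    rw [le_normalizer_iff']
    intro c hc x hx
    rcases (hmem c).1 hc with rfl | rfl | rfl | rfl
    · simpa using hx
    · exact haX x hx
    · exact hbX x hx
    · have e : a * b * x * (a * b)⁻¹ = a * (b * x * b⁻¹) * a⁻¹ := by group
      rw [e]
      exact haX _ (hbX x hx)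
  have : Fact (Nat.Prime 2) := ⟨Nat.prime_two⟩
  refine (Cfsg.Agent.SignalizersComponents.CoprimeGen.le_iSup_centralizer_ne_one hA hcard hX hAX).trans ?_
  refine iSup_le ?_
  rintro ⟨c, hc, hc1⟩
  rcases (hmem c).1 hc with rfl | rfl | rfl | rfl
  · exact absurd rfl hc1
  · exact h1
  · exact h2
  · exact h3

end Cfsg.Agent.SylowSp4.FrameTools
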