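import Cfsg.Agent.SylowSp4.FieldPart
import Cfsg.Agent.SylowSp4.FrameTools
import Cfsg.Agent.S1225

/-!
# Lemma M

A subgroup `M` containing `C(t)` in which `t` and `s` are conjugate is the whole group.
-/

set_option autoImplicit false

namespace Cfsg.Agent.SylowSp4.LemmaM

open QuaternionGroup Cfsg.Agent.SylowSp4.Coord Cfsg.Agent.SylowSp4.Pat Subgroup
open Cfsg.Agent.Walter.OddCoreIn Cfsg.Agent.SylowSp4.DuoFacts Cfsg.Agent.SylowSp4.Pairs
open Cfsg.Agent.SylowSp4.Triples Cfsg.Agent.SylowSp4.FieldPart Cfsg.Agent.SylowSp4.FrameTools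

variable {G : Type*} [Group G] [Finite G] {P : Sylow 2 G} {k : ℕ} {f : Q k → Q k → G} {s : G} (p : Pat P k f s)

omit [Finite G] in
theorem conj_comp {a b x : G} : (a * b) * x * (a * b)⁻¹ = a * (b * x * b⁻¹) * a⁻¹ := by group

omit [Finite G] in
theorem conj_cancel {a x : G} : a⁻¹ * (a * x * a⁻¹) * a⁻¹⁻¹ = x := by group

omit [Finite G] in
theorem sq_conj {x g : G} (hx : x * x = 1) : g * x * g⁻¹ * (g * x * g⁻¹) = 1 := by
  have : g * x * g⁻¹ * (g * x * g⁻¹) = g * (x * x) * g⁻¹ := by group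
  rw [this, hx]; group

omit [Finite G] in
theorem conj_ne_one {x g : G} (hx : x ≠ 1) : g * x * g⁻¹ ≠ 1 := by
  intro h
  rw [mul_inv_eq_one, mul_eq_left] at h
  exact hx h

include p

/-- every `t`-type involution of `M` is conjugate to `t` in `M` -/
theorem conj_t {M : Subgroup G} (hPM : (P : Subgroup G) ≤ M) (hs : ∃ m ∈ M, m * tt f * m⁻¹ = s) {x : G} (hx : x ∈ M)
    (hxt : IsConj (tt f) x) : ∃ m ∈ M, m * tt f * m⁻¹ = x := by
  have hxx := sq_of_conj p hxt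
  obtain ⟨m, hm, hmT⟩ := conj_into P hPM (isPGroup_zpowers_of_sq hxx) (zpowers_le.2 hx)
  have hmx := hmT x (mem_zpowers x)
  have hc : IsConj (tt f) (m * x * m⁻¹) := hxt.trans (isConj_iff.2 ⟨m, rfl⟩)
  rcases (p.t_iff hmx (sq_of_conj p hc) (ne_one_of_conj p hc)).1 hc with h | ⟨α, h⟩
  · refine ⟨m⁻¹, inv_mem hm, ?_⟩
    rw [← h]; group
  · obtain ⟨m0, hm0, hms⟩ := hs
    refine ⟨m⁻¹ * (f α 1 * m0), mul_mem (inv_mem hm) (mul_mem (hPM (p.h.f_mem _ _)) hm0), ?_⟩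
    rw [conj_comp, conj_comp, hms, Facts.conj_s p.h α, ← h]; group

theorem Cn_le {M : Subgroup G} (hPM : (P : Subgroup G) ≤ M) (ht : Cn (tt f) ≤ M) (hs : ∃ m ∈ M, m * tt f * m⁻¹ = s)
    {x : G} (hx : x ∈ M) (hxt : IsConj (tt f) x) : Cn x ≤ M := by
  obtain ⟨m, hm, rfl⟩ := conj_t p hPM hs hx hxt
  intro c hc
  have h1 : m⁻¹ * c * m⁻¹⁻¹ ∈ Cn (tt f) := by
    rw [← mem_Cn_conj_iff (g := m)]
    have : m * (m⁻¹ * c * m⁻¹⁻¹) * m⁻¹ = c := by group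
    rw [this]; exact hc
  have h2 := mul_mem (mul_mem hm (ht h1)) (inv_mem hm)
  have : m * (m⁻¹ * c * m⁻¹⁻¹) * m⁻¹ = c := by group
  rwa [this] at h2

/-- `g ∈ M` if `g` conjugates a `t`-type involution of `M` to `t`. -/
theorem mem_of_conj_eq {M : Subgroup G} (hPM : (P : Subgroup G) ≤ M) (ht : Cn (tt f) ≤ M)
    (hs : ∃ m ∈ M, m * tt f * m⁻¹ = s) {x g : G} (hx : x ∈ M) (hxt : IsConj (tt f) x) (hg : g * x * g⁻¹ = tt f) :
    g ∈ M := by
  obtain ⟨m, hm, rfl⟩ := conj_t p hPM hs hx hxt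
  have h1 : g * m ∈ Cn (tt f) := by
    rw [mem_Cn]
    rw [← conj_comp, mul_inv_eq_iff_eq_mul] at hg
    exact hg
  have h2 := mul_mem (ht h1) (inv_mem hm)
  rwa [mul_inv_cancel_right] at h2

/-- `t s` and `e` are conjugate in `M` -/
theorem conj_ts_e {M : Subgroup G} (hPM : (P : Subgroup G) ≤ M) (ht : Cn (tt f) ≤ M)
    (hs : ∃ m ∈ M, m * tt f * m⁻¹ = s) : ∃ m ∈ M, m * ee f * m⁻¹ = tt f * s := by
  obtain ⟨g, hg1, hg2⟩ := pairs p (t1_conj p) (t2_conj p) (t1_t2_comm p) (t1_ne_t2 p)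
  refine ⟨g, mem_of_conj_eq p hPM ht hs (hPM (t1_mem p)) (t1_conj p) hg1, ?_⟩
  rw [← t1_mul_t2 p]
  calc g * (t1 f s * (t1 f s * ee f)) * g⁻¹ = (g * t1 f s * g⁻¹) * (g * (t1 f s * ee f) * g⁻¹) := by group
    _ = tt f * s := by rw [hg1, hg2]

/-- every `u`-type involution of `M` is conjugate to `e` in `M` -/
theorem conj_u {M : Subgroup G} (hPM : (P : Subgroup G) ≤ M) (ht : Cn (tt f) ≤ M)
    (hs : ∃ m ∈ M, m * tt f * m⁻¹ = s) {x : G} (hx : x ∈ M) (hxx : x * x = 1) (hx1 : x ≠ 1)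
    (hxt : ¬ IsConj (tt f) x) : ∃ m ∈ M, m * ee f * m⁻¹ = x := by
  obtain ⟨m, hm, hmT⟩ := conj_into P hPM (isPGroup_zpowers_of_sq hxx) (zpowers_le.2 hx)
  have hmx := hmT x (mem_zpowers x)
  have hmi := inv_mem hm
  rcases Facts.inv_cases p.h hmx (sq_conj hxx) with h | h | ⟨α, β, hα, hβ, h⟩ | ⟨α, h⟩ | ⟨α, h⟩
  · exact absurd h (conj_ne_one hx1)
  · exact absurd (isConj_iff.2 ⟨m⁻¹, by show m⁻¹ * f (z k) 1 * m⁻¹⁻¹ = x; rw [← h]; group⟩) hxt
  · obtain ⟨c, hc, hce⟩ := p.uu α β hα hβ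
    refine ⟨m⁻¹ * c, mul_mem hmi (ht hc), ?_⟩
    rw [conj_comp, hce, ← h]; group
  · exfalso
    apply hxt
    refine (p.t_conj α).trans (isConj_iff.2 ⟨m⁻¹, ?_⟩)
    rw [← h]; group
  · obtain ⟨m0, hm0, hme⟩ := conj_ts_e p hPM ht hs
    refine ⟨m⁻¹ * (f α 1 * m0), mul_mem hmi (mul_mem (hPM (p.h.f_mem _ _)) hm0), ?_⟩
    rw [conj_comp, conj_comp, hme, Facts.conj_ts p.h α, ← h]; group

/-- `C(e) ≤ M` -/
theorem Cn_e_le {M : Subgroup G} (hPM : (P : Subgroup G) ≤ M) (ht : Cn (tt f) ≤ M)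
    (hs : ∃ m ∈ M, m * tt f * m⁻¹ = s)
    (hY : ∀ y ∈ Cn (ee f), ∃ o ∈ OO (Cn (ee f)), ∃ c ∈ Cn (t1 f s), ∃ r ∈ (P : Subgroup G), y = o * c * r) :
    Cn (ee f) ≤ M := by
  have hO : OO (Cn (ee f)) ≤ M := by
    have hte : tt f ∈ Cn (ee f) := mem_Cn.2 (ee_comm_t p).symm
    have hse : s ∈ Cn (ee f) := mem_Cn.2 (s_comm_diag p _)
    refine gen4 (a := tt f) (b := s) (t_sq p) (s_sq p) ((mem_Cn.1 (s_comm_t p)).symm) (OO_odd _) ?_ ?_ ?_ ?_ ?_
    · exact fun y hy => conj_mem (le_normalizer_OO _) hte hy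
    · exact fun y hy => conj_mem (le_normalizer_OO _) hse hy
    · exact inf_le_right.trans ht
    · exact inf_le_right.trans (Cn_le p hPM ht hs (hPM p.h.s_mem) p.ts)
    · rintro y ⟨hy1, hy2⟩
      have h1 : y ∈ Cn (tt f * s * ee f) := mem_Cn_mul hy2 ((OO_le _) hy1)
      have h2 : tt f * s * ee f ∈ M :=
        mul_mem (mul_mem (hPM (p.h.f_mem _ _)) (hPM p.h.s_mem)) (hPM (p.h.f_mem _ _))
      exact Cn_le p hPM ht hs h2 (conj_tsf p (Facts.c_sq p.h.hk)) h1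
  intro y hy
  obtain ⟨o, ho, c, hc, r, hr, rfl⟩ := hY y hy
  exact mul_mem (mul_mem (hO ho) (Cn_le p hPM ht hs (hPM (t1_mem p)) (t1_conj p) hc)) (hPM hr)

/-- **Lemma M.** -/
theorem eq_top {M : Subgroup G} (ht : Cn (tt f) ≤ M) (hs : ∃ m ∈ M, m * tt f * m⁻¹ = s)
    (hY : ∀ y ∈ Cn (ee f), ∃ o ∈ OO (Cn (ee f)), ∃ c ∈ Cn (t1 f s), ∃ r ∈ (P : Subgroup G), y = o * c * r) :
    M = ⊤ := by
  classical
  have hPM : (P : Subgroup G) ≤ M := (P_le p).trans ht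
  have hCe := Cn_e_le p hPM ht hs hY
  have htM : tt f ∈ M := hPM (p.h.f_mem _ _)
  have hord : ∀ x : G, x * x = 1 → x ≠ 1 → orderOf x = 2 := fun x h1 h2 =>
    orderOf_eq_prime (by rw [pow_two]; exact h1) h2
  -- control
  have key : ∀ (x : G), Cn x ≤ M → ∀ g a b : G, a ∈ M → b ∈ M → g * (a * x * a⁻¹) * g⁻¹ = b * x * b⁻¹ → g ∈ M := by
    intro x hx g a b ha hb h
    have h3 : b⁻¹ * g * a ∈ M := by
      apply hx
      rw [mem_Cn]
      have e1 : b⁻¹ * g * a * x = b⁻¹ * (g * (a * x * a⁻¹) * g⁻¹) * g * a := by group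
      rw [e1, h]; group
    have h4 : g = b * (b⁻¹ * g * a) * a⁻¹ := by group
    rw [h4]
    exact mul_mem (mul_mem hb h3) (inv_mem ha)
  have hctl : ∀ y ∈ M, y * y = 1 → y ≠ 1 → ∀ g : G, g * y * g⁻¹ ∈ M → g ∈ M := by
    intro y hy hyy hy1 g hg
    by_cases hyt : IsConj (tt f) y
    · obtain ⟨a, ha, hay⟩ := conj_t p hPM hs hy hyt
      obtain ⟨b, hb, hby⟩ := conj_t p hPM hs hg (hyt.trans (isConj_iff.2 ⟨g, rfl⟩))
      exact key (tt f) ht g a b ha hb (by rw [hay, hby])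
    · obtain ⟨a, ha, hay⟩ := conj_u p hPM ht hs hy hyy hy1 hyt
      obtain ⟨b, hb, hby⟩ := conj_u p hPM ht hs hg (sq_conj hyy) (conj_ne_one hy1) (fun h => hyt (h.trans
        (isConj_iff.2 ⟨g⁻¹, by group⟩)))
      exact key (ee f) hCe g a b ha hb (by rw [hay, hby])
  by_contra hne
  have : Fact (Nat.Prime 2) := ⟨Nat.prime_two⟩
  have htord : orderOf (tt f) = 2 := hord _ (t_sq p) (p.h.t_ne_one)
  have heord : orderOf (ee f) = 2 := hord _ (ee_sq p) (ee_ne_one p)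
  have hSE : Cfsg.IsStronglyEmbedded M := by
    refine ⟨hne, ?_, ?_⟩
    · have h3 : orderOf (⟨tt f, htM⟩ : M) ∣ Nat.card M := orderOf_dvd_natCard _
      rw [Subgroup.orderOf_mk, htord] at h3
      exact even_iff_two_dvd.mpr h3
    · intro g hg
      rw [← Nat.not_even_iff_odd]
      intro heven
      obtain ⟨⟨v, hv⟩, hv2⟩ := exists_prime_orderOf_dvd_card' 2 (even_iff_two_dvd.mp heven)
      rw [Subgroup.orderOf_mk] at hv2
      obtain ⟨hv0, v', hv', hvv⟩ := hv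
      change g * v' * g⁻¹ = v at hvv
      have hvsq : v * v = 1 := by rw [← pow_two, ← hv2, pow_orderOf_eq_one]
      have hv1 : v ≠ 1 := by
        rintro rfl
        rw [orderOf_one] at hv2
        omega
      apply hg
      apply hctl v' hv'
      · have e : v' * v' = g⁻¹ * ((g * v' * g⁻¹) * (g * v' * g⁻¹)) * g := by group
        rw [e, hvv, hvsq]
        group
      · rintro rfl
        apply hv1
        rw [← hvv]
        group
      · rw [hvv]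
        exact hv0
  obtain ⟨g, hg⟩ : ∃ g, g ∉ M := by
    by_contra hcon
    push Not at hcon
    exact hne (eq_top_iff.mpr fun x _ => hcon x)
  have hgt : g * tt f * g⁻¹ ∉ M := fun h => hg (hctl (tt f) htM (t_sq p) p.h.t_ne_one g h)
  have hgord : orderOf (g * tt f * g⁻¹) = 2 := hord _ (sq_conj (t_sq p)) (conj_ne_one p.h.t_ne_one)
  have hfin := (S1225.result M hSE (g * tt f * g⁻¹) hgord hgt (tt f) (tt f) htord htM htord htM).2
  exact p.tu (hfin _ _ htord heord)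

end Cfsg.Agent.SylowSp4.LemmaM
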