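import Cfsg.Agent.SylowSp4.QuintData
import Cfsg.Agent.SylowSp4.LemmaM

/-!
# The end of part (b): `W = 1`

If `C(t)` normalises the completion `W0 f s` and `t`, `s` are conjugate in its normaliser, then `W0 f s = 1`;
consequently `O(C(t)) = 1` and `O(C(e))` is an abelian group inverted by `t₁`, `t₂` and centralised by `t`, `s`.
-/

set_option autoImplicit false

namespace Cfsg.Agent.SylowSp4.WBot

open QuaternionGroup Cfsg.Agent.SylowSp4.Coord Cfsg.Agent.SylowSp4.Pat Subgroup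
open Cfsg.Agent.Walter.OddCoreIn Cfsg.Agent.SylowSp4.DuoFacts Cfsg.Agent.SylowSp4.Pairs
open Cfsg.Agent.SylowSp4.Triples Cfsg.Agent.SylowSp4.FieldPart Cfsg.Agent.SylowSp4.CoreFrame
open Cfsg.Agent.SylowSp4.CoreW Cfsg.Agent.SylowSp4.FrameTools Cfsg.Agent.SylowSp4.QuintData

variable {G : Type*} [Group G] [Finite G] {P : Sylow 2 G} {k : ℕ} {f : Q k → Q k → G} {s : G}
  {H L : Type*} [Group H] [Group L] {π : Cn (tt f) →* H} {D : Duo H L} {ι : Q k →* L} {Φ : Subgroup H}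

/-- A subgroup of odd order normalised by `C(t)` and by an element conjugating `t` to `s` is trivial. -/
theorem eq_bot_of_normalizer (p : Pat P k f s) [IsSimpleGroup G] {W : Subgroup G} (hodd : ¬ 2 ∣ Nat.card W)
    (ht : Cn (tt f) ≤ normalizer (W : Set G)) (hs : ∃ m ∈ normalizer (W : Set G), m * tt f * m⁻¹ = s)
    (hY : ∀ y ∈ Cn (ee f), ∃ o ∈ OO (Cn (ee f)), ∃ c ∈ Cn (t1 f s), ∃ r ∈ (P : Subgroup G), y = o * c * r) :
    W = ⊥ := by
  have h1 := LemmaM.eq_top p ht hs hY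
  have h2 : W.Normal := normalizer_eq_top_iff.1 h1
  rcases h2.eq_bot_or_eq_top with h3 | h3
  · exact h3
  · exfalso
    apply hodd
    have h4 : orderOf (tt f) = 2 := orderOf_eq_prime (by rw [pow_two]; exact t_sq p) p.h.t_ne_one
    rw [h3, Subgroup.card_top, ← h4]
    exact orderOf_dvd_natCard _

variable (p : Pat P k f s) (c : Cent k f s π D ι Φ) (U : UData f) (F : SLFact D.ζ ι) [IsSimpleGroup G]
  (ht : Cn (tt f) ≤ normalizer (W0 f s : Set G)) (hs : ∃ m ∈ normalizer (W0 f s : Set G), m * tt f * m⁻¹ = s)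
  (hY : ∀ y ∈ Cn (ee f), ∃ o ∈ OO (Cn (ee f)), ∃ c ∈ Cn (t1 f s), ∃ r ∈ (P : Subgroup G), y = o * c * r)

include p c U F ht hs hY

theorem W0_eq_bot : W0 f s = ⊥ := eq_bot_of_normalizer p (W0_odd p c U F) ht hs hY

/-- `O(C(t)) = 1` -/
theorem OO_t : OO (Cn (tt f)) = ⊥ :=
  OC_t_eq_bot (data_q5 p c U F) (W0_eq_bot p c U F ht hs hY) 2

/-- `π : C(t) → H` is injective -/
theorem π_inj : Function.Injective π := by
  rw [injective_iff_map_eq_one]
  intro x hx
  have h1 := (c.ker x).1 hx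
  rw [OO_t p c U F ht hs hY, mem_bot] at h1
  exact Subtype.ext h1

/-- `t` centralises `O(C(e))` -/
theorem OO_e_le_t : OO (Cn (ee f)) ≤ Cn (tt f) := by
  have := OC_u_le (data_q5 p c U F) (W0_eq_bot p c U F ht hs hY) (i := 0) (j := 1) (k := 2) (by decide)
  rwa [q5_01 p] at this

/-- `s` centralises `O(C(e))` -/
theorem OO_e_le_s : OO (Cn (ee f)) ≤ Cn s := by
  have := OC_u_le (data_q5 p c U F) (W0_eq_bot p c U F ht hs hY) (i := 0) (j := 1) (k := 3) (by decide)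
  rwa [q5_01 p] at this

/-- `t₁` inverts `O(C(e))` -/
theorem OO_e_inv {g : G} (hg : g ∈ OO (Cn (ee f))) : t1 f s * g * (t1 f s)⁻¹ = g⁻¹ := by
  have := inv_u (data_q5 p c U F) (W0_eq_bot p c U F ht hs hY) (i := 0) (j := 1) (g := g) (by decide)
    (by rw [q5_01 p]; exact hg)
  exact this

/-- `O(C(e))` is abelian -/
theorem OO_e_comm {g h : G} (hg : g ∈ OO (Cn (ee f))) (hh : h ∈ OO (Cn (ee f))) : g * h = h * g := by
  have h1 := OO_e_inv p c U F ht hs hY hg
  have h2 := OO_e_inv p c U F ht hs hY hh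
  have h3 := OO_e_inv p c U F ht hs hY (mul_mem hg hh)
  have h4 : t1 f s * (g * h) * (t1 f s)⁻¹ = g⁻¹ * h⁻¹ := by rw [← h1, ← h2]; group
  rw [h3, mul_inv_rev] at h4
  have h5 := congrArg (·⁻¹) h4
  simpa using h5

/-- `O(C(t s))` is centralised by `t₁`, inverted by `t` and `s` (`t s` is the product of the third and fourth member). -/
theorem OO_ts_inv {g : G} (hg : g ∈ OO (Cn (tt f * s))) : tt f * g * (tt f)⁻¹ = g⁻¹ :=
  inv_u (data_q5 p c U F) (W0_eq_bot p c U F ht hs hY) (i := 2) (j := 3) (g := g) (by decide) hg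

theorem OO_ts_le : OO (Cn (tt f * s)) ≤ Cn (t1 f s) ⊓ Cn (ee f) := by
  have h0 := OC_u_le (data_q5 p c U F) (W0_eq_bot p c U F ht hs hY) (i := 2) (j := 3) (k := 0) (by decide)
  have h1 := OC_u_le (data_q5 p c U F) (W0_eq_bot p c U F ht hs hY) (i := 2) (j := 3) (k := 1) (by decide)
  refine le_inf h0 ?_
  intro g hg
  exact mem_Cn_of_mul (h0 hg) (h1 hg)

end Cfsg.Agent.SylowSp4.WBot
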