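import Cfsg.Agent.SylowSp4.Final
import Cfsg.Agent.SylowSp4.WBot
import Cfsg.Agent.SylowSp4.SLFactMain
import Cfsg.Agent.SylowSp4.Q3Final
import Cfsg.Agent.SylowSp4.CentUExport

/-!
# `O(C(t)) = 1`

The case analysis over `|F|`, `L ≃* SL(2, F)`, of `C(t) ≤ N(W₀)`, and the conclusion.
-/

set_option autoImplicit false

namespace Cfsg.Agent.SylowSp4.CoreBot

open QuaternionGroup Cfsg.Agent.SylowSp4.Coord Cfsg.Agent.SylowSp4.Pat Subgroup
open Cfsg.Agent.Walter.OddCoreIn Cfsg.Agent.SylowSp4.DuoFacts Cfsg.Agent.SylowSp4.Pairs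
open Cfsg.Agent.SylowSp4.Triples Cfsg.Agent.SylowSp4.FieldPart Cfsg.Agent.SylowSp4.CoreFrame
open Cfsg.Agent.SylowSp4.CoreW Cfsg.Agent.SylowSp4.FrameTools Cfsg.Agent.SylowSp4.QuintData
open Cfsg.Agent.SylowSp4

local notation "SL2" => Matrix.SpecialLinearGroup (Fin 2)

variable {G : Type*} [Group G] [Finite G] {P : Sylow 2 G} {k : ℕ} {f : Q k → Q k → G} {s : G}
  {H L : Type*} [Group H] [Group L] {π : Cn (tt f) →* H} {D : Duo H L} {ι : Q k →* L} {Φ : Subgroup H}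
  (p : Pat P k f s) (c : Cent k f s π D ι Φ) (U : UData f) (Fs : SLFact D.ζ ι)

include p c U Fs

/-- The torus commuting with `ι x₀` has no elements of odd order: `O(C(e)) ∩ C(t) ≤ O(C(t))`. -/
theorem core_e_le (hT : ∀ g : L, g * ι (Facts.c k) = ι (Facts.c k) * g → Odd (orderOf g) → g = 1) :
    OO (Cn (ee f)) ⊓ Cn (tt f) ≤ OO (Cn (tt f)) := by
  rintro x ⟨hx, hxt⟩
  have h1 : π ⟨x, hxt⟩ ∈ TH p c := (mem_TH p c).2 ⟨⟨x, hxt⟩, hx, rfl⟩
  obtain ⟨a, ha, hh⟩ := theta_form p c U Fs h1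
  have ha' : a ∈ ι.range := by
    obtain ⟨b, i, hbo, hb, rfl⟩ := Fs.decomp a ha
    rw [hT b hb hbo, one_mul]
    exact ⟨_, rfl⟩
  exact (c.ker _).1 (Q3.one_of_two c ha' hh (TH_odd p c h1))

/-- The hypothesis of the case `m = 1` for triples. -/
theorem triples_le (hT : ∀ g : L, g * ι (Facts.c k) = ι (Facts.c k) * g → Odd (orderOf g) → g = 1) {a b d : G}
    (ha : IsConj (tt f) a) (hb : IsConj (tt f) b) (hd : IsConj (tt f) d) (hab : a * b = b * a) (had : a * d = d * a)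
    (hbd : b * d = d * b) (nab : a ≠ b) (nad : a ≠ d) (nbd : b ≠ d) :
    OO (Cn (a * b * d)) ⊓ Cn a ≤ OO (Cn a) := by
  rintro g ⟨hg, hga⟩
  obtain ⟨x, hxa, hxb, hxd⟩ := triples p c ha hb hd hab had hbd nab nad nbd
  have hprod : x * (a * b * d) * x⁻¹ = ee f := by
    have h1 : x * (a * b * d) * x⁻¹ = (x * a * x⁻¹) * (x * b * x⁻¹) * (x * d * x⁻¹) := by group
    rw [h1, hxa, hxb, hxd]
    have hst : s * tt f = tt f * s := (mem_Cn.1 (s_mem p))
    calc tt f * s * (tt f * s * ee f) = tt f * (s * tt f) * s * ee f := by group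
      _ = (tt f * tt f) * (s * s) * ee f := by rw [hst]; group
      _ = _ := by rw [t_sq p, s_sq p, one_mul, one_mul]
  have h2 : x * g * x⁻¹ ∈ OO (Cn (ee f)) := by rw [← hprod]; exact mem_OO_conj hg
  have h3 : x * g * x⁻¹ ∈ Cn (tt f) := by rw [← hxa]; exact mem_Cn_conj hga
  rw [← mem_OO_conj_iff (g := x), hxa]
  exact core_e_le p c U Fs hT ⟨h2, h3⟩

theorem s_mem_norm : s ∈ normalizer (W0 f s : Set G) :=
  norm_te p c U Fs ⟨mem_Cn.2 (ts_comm p).symm.eq, mem_Cn.2 (se_comm p).eq⟩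

/-- `C(t)` normalises `W₀`. -/
theorem norm_t {F : Type*} [Field F] [Fintype F] (e : L ≃* SL2 F) (hodd : Odd (Fintype.card F))
    (h3 : Fintype.card F = 3 → Cn (tt f) ≤ normalizer (W0 f s : Set G)) :
    Cn (tt f) ≤ normalizer (W0 f s : Set G) := by
  by_cases h : Fintype.card F = 3
  · exact h3 h
  have hζ : D.ζ * D.ζ = 1 := D.ζζ
  have hζ1 : D.ζ ≠ 1 := D.ζ_ne
  have hx : ι (Facts.c k) * ι (Facts.c k) = D.ζ := by rw [← map_mul, Facts.c_sq p.h.hk, c.ι_z]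
  have hyx : ι (xa 0) * ι (Facts.c k) * (ι (xa 0))⁻¹ = (ι (Facts.c k))⁻¹ := by
    rw [← map_inv, ← map_mul, ← map_mul, SLFactMain.xa_conj_c, map_inv]
  have hK : OO (Cn (tt f)) ≤ normalizer (W0 f s : Set G) := (OO_t_le p c U Fs).trans le_normalizer
  have hs := s_mem_norm p c U Fs
  have he := norm_te p c U Fs
  have hf := norm_tf p c U Fs
  by_cases h' : Fintype.card F = 5 ∨ Fintype.card F = 7 ∨ Fintype.card F = 9
  · have hT : ∀ g : L, g * ι (Facts.c k) = ι (Facts.c k) * g → Odd (orderOf g) → g = 1 := fun g hg ho =>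
      SLTransport.eq_one_of_odd e hζ hζ1 hx (Or.inr h') hg ho
    have h1 := one_of_triples p (fun a b d ha hb hd hab had hbd nab nad nbd =>
      triples_le p c U Fs hT ha hb hd hab had hbd nab nad nbd)
    refine Final.le_of_comm p c hK hs he (norm_ts_of_one p c U Fs h1) (norm_tt5_of_one p c U Fs h1) ?_
    exact SLTransport.closure_commutators e hζ hζ1 hx hodd (by omega)
  · push Not at h'
    exact Final.le_of_gen p c hK hs he hf (SLTransport.closure_centralizers e hζ hζ1 hx hyx hodd h h'.1 h'.2.1 h'.2.2)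

/-- `t` and `s` are conjugate in `N(W₀)`. -/
theorem swap : ∃ m ∈ normalizer (W0 f s : Set G), m * tt f * m⁻¹ = s :=
  Final.exists_swap p c (norm_t5 p c U Fs)

omit c Fs U in
theorem Y_gen' : ∀ y ∈ Cn (ee f), ∃ o ∈ OO (Cn (ee f)), ∃ c ∈ Cn (t1 f s), ∃ r ∈ (P : Subgroup G), y = o * c * r := by
  intro y hy
  obtain ⟨o, ho, c, hc, r, hr, h⟩ := CentUExport.Y_gen p hy
  exact ⟨o, ho, c, hc.1, r, hr.1, h⟩

omit U in
/-- **(b)** `O(C(t)) = 1`. -/
theorem core_eq_bot_of [IsSimpleGroup G] {F : Type*} [Field F] [Fintype F] (e : L ≃* SL2 F)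
    (hodd : Odd (Fintype.card F)) (h3 : Fintype.card F = 3 → Cn (tt f) ≤ normalizer (W0 f s : Set G)) :
    OO (Cn (tt f)) = ⊥ :=
  WBot.OO_t p c (CentUExport.uData p) Fs (norm_t p c (CentUExport.uData p) Fs e hodd h3)
    (swap p c (CentUExport.uData p) Fs) (Y_gen' p)

omit U in
/-- **(b)** `O(C(t)) = 1`. -/
theorem core_eq_bot [IsSimpleGroup G] [Finite L] {F : Type*} [Field F] [Fintype F] (e : L ≃* SL2 F)
    (hodd : Odd (Fintype.card F)) : OO (Cn (tt f)) = ⊥ :=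
  core_eq_bot_of p c Fs e hodd fun h3 =>
    Q3Final.norm_of_three p c (CentUExport.uData p) Fs (ThreeL.three_of h3 e p.h.hk ι c.ι_inj c.ι_z)

end Cfsg.Agent.SylowSp4.CoreBot
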