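import Cfsg.Agent.SylowSp4.Assembly
import Cfsg.Agent.SylowSp4.CentOne
import Cfsg.Agent.SylowSp4.CoreBot
import Cfsg.Agent.SylowSp4.Q3Final
import Cfsg.Agent.SpFourOdd.Recog

/-!
# The pieces of the pattern `PSp`

`pat_iso`: a finite simple group with fusion pattern `Pat` is `PSp₄(K)`.
-/

set_option autoImplicit false

namespace Cfsg.Agent.SylowSp4.Plug

open Subgroup QuaternionGroup Cfsg.Agent.SylowSp4.Coord Cfsg.Agent.SylowSp4.Pat Cfsg.Agent.SylowSp4.CentT
open Cfsg.Agent.Walter.OddCoreIn Cfsg.Agent.SylowSp4.FieldPart Cfsg.Agent.SylowSp4.Assembly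

universe u

theorem coreBot : CoreBot.{u} := by
  intro G _ _ _ P k f s p L _ _ D ι Φ c F _ _ hodd he
  obtain ⟨e⟩ := he
  have Fs := SLFactMain.slFact hodd e p.h.hk ι c.ι_inj c.ι_z (SylL.not_dvd p c)
  exact CoreBot.core_eq_bot_of p c Fs e hodd fun h3 =>
    Q3Final.norm_of_three p c (CentUExport.uData p) Fs (ThreeL.three_of h3 e p.h.hk ι c.ι_inj c.ι_z)

theorem recogPSp : RecogPSp.{u} := by
  intro G _ _ _ F _ _ h2 D H
  exact SpFourOdd.Recog.iso h2 H

/-- A finite simple group with Sylow 2-subgroup and fusion of type `PSp₄` is `PSp₄(K)`. -/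
theorem pat_iso (hPT : Hyps.ProductThm.{u}) (hGW : Hyps.GW.{u}) {G : Type u} [Group G] [Finite G] [IsSimpleGroup G]
    {P : Sylow 2 G} {k : ℕ} {f : Q k → Q k → G} {s : G} (p : Pat P k f s) :
    ∃ (K : Type) (_ : Field K) (_ : Fintype K), Odd (Fintype.card K) ∧ Nonempty (G ≃* Cfsg.PSp 2 K) :=
  pat_case hPT hGW (CentOne.centOne hPT hGW) coreBot recogPSp p

end Cfsg.Agent.SylowSp4.Plug
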