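import Cfsg.Agent.SylowSp4.TwoOff

/-!
# Type `PSp₄(3)`, case Q: `Y` is antidiagonal

* `one_one` : if `Y 1 1` then `t ~ ee a` for one `a` implies it for all;
* `triv_one`, `triv_two` : `Y` trivial is impossible in both patterns (transfer);
* `anti` : hence `Y` is antidiagonal.
-/

set_option autoImplicit false
set_option linter.unusedSectionVars false

namespace Cfsg.Agent.SylowSp4.TwoQ

open Subgroup Cfsg.Agent.SylowSp4.AltModel Cfsg.Agent.SylowSp4.TwoBase Cfsg.Agent.SylowSp4.TwoCtx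
open Cfsg.Agent.SylowSp4.TwoY Cfsg.Agent.SylowSp4.TwoParity Cfsg.Agent.SylowSp4.TwoOff

/-! ### the model -/

/-- the character with kernel `⟨c_l⟩ …` -/
def ch : Fin 3 → M64 → ZMod 2 := ![fun x => x.b + x.d, fun x => x.a + x.c, fun x => x.a + x.b + x.c + x.d]

/-- the character with kernel `R` -/
def cm (x : M64) : ZMod 2 := if x.m then 1 else 0

theorem ch_mul : ∀ l, ∀ x y : M64, ch l (x * y) = ch l x + ch l y := by decide +kernel
theorem cm_mul : ∀ x y : M64, cm (x * y) = cm x + cm y := by decide +kernel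
theorem ch_one : ∀ l, ch l 1 = 0 := by decide +kernel
theorem cm_one : cm 1 = 0 := by decide +kernel
theorem ch_inv : ∀ l, ∀ x : M64, ch l x⁻¹ = ch l x := by decide +kernel
theorem cm_inv : ∀ x : M64, cm x⁻¹ = cm x := by decide +kernel

theorem z2 : ∀ x y : ZMod 2, x = y ∨ x = y + 1 := by decide

/-- `{(p, q) s ^ m : ch l (p q) = ε m}` -/
def Ms (l : Fin 3) (ε : Bool) : Subgroup M64 where
  carrier := {x | ch l x = if ε then cm x else 0}
  mul_mem' {x y} hx hy := by
    have hx' : ch l x = if ε then cm x else 0 := hx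
    have hy' : ch l y = if ε then cm y else 0 := hy
    show ch l (x * y) = if ε then cm (x * y) else 0
    rw [ch_mul, cm_mul, hx', hy']
    cases ε <;> simp
  one_mem' := by
    show ch l 1 = if ε then cm 1 else 0
    rw [ch_one, cm_one]
    cases ε <;> simp
  inv_mem' {x} hx := by
    have hx' : ch l x = if ε then cm x else 0 := hx
    show ch l x⁻¹ = if ε then cm x⁻¹ else 0
    rw [ch_inv, cm_inv, hx']

theorem mem_Ms {l : Fin 3} {ε : Bool} {x : M64} : x ∈ Ms l ε ↔ ch l x = if ε then cm x else 0 := Iff.rfl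

theorem Ms_xor : ∀ (l : Fin 3) (ε : Bool) (x : M64),
    (ch l (x * q1 (l + 1)) = (if ε then cm (x * q1 (l + 1)) else 0) ∧ ¬ ch l x = if ε then cm x else 0) ∨
      ((ch l x = if ε then cm x else 0) ∧ ¬ ch l (x * q1 (l + 1)) = if ε then cm (x * q1 (l + 1)) else 0) := by
  decide +kernel

theorem root_not : ∀ (l : Fin 3) (ε : Bool) (y : M64), ((y = q1 (l + 1) ∨ y = t * q1 (l + 1)) ∨
    (y = q2 (l + 1) ∨ y = t * q2 (l + 1))) → ¬ ch l y = if ε then cm y else 0 := by decide +kernel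

theorem sq_not_one : ∀ (l : Fin 3) (y : M64), (y * y = ee l ∨ y * y = t * ee l) → ¬ ch l y = cm y := by
  decide +kernel

theorem sq_not_two : ∀ (l a : Fin 3) (y : M64), a ≠ l → (y * y = ee a ∨ y * y = t * ee a) → ¬ ch l y = 0 := by
  decide +kernel

theorem A_in : ∀ (l : Fin 3) (x : M64), InA x → ch l x = 0 := by decide +kernel

theorem in_one : ∀ (l : Fin 3) (x : M64), (x = t ∨ x = ee l ∨ x = t * ee l) → ch l x = cm x := by decide +kernel

theorem A_cases : ∀ x, InA x → x = 1 ∨ x = t ∨ (∃ a, x = ee a ∨ x = t * ee a) ∨ (∃ g, g * s * g⁻¹ = x) ∨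
    (∃ g, g * (t * s) * g⁻¹ = x) := by decide +kernel

theorem off_R : ∀ v : M64, v * v = 1 → ¬ InA v → InR v := by decide +kernel

theorem sq_cases : ∀ x : M64, x * x = 1 ∨ x * x = t ∨ ∃ a, x * x = ee a ∨ x * x = t * ee a := by decide +kernel

section

variable {G : Type*} [Group G] [Finite G] {P : Sylow 2 G} {F : M64 →* G} {K : Subgroup G} (C : Ctx P F K)

include C

theorem T_ee (a : Fin 3) : IsConj (F t) (F (t * ee a)) ↔ IsConj (F t) (F (ee a)) :=
  ⟨fun h => h.trans (t_dd C a a).symm, fun h => h.trans (t_dd C a a)⟩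

theorem T_s {x : M64} (h : ∃ g, g * s * g⁻¹ = x) : IsConj (F s) (F x) := by
  obtain ⟨g, rfl⟩ := h
  exact isConj_iff.2 ⟨F g, by rw [map_mul, map_mul, map_inv]⟩

theorem T_ts {x : M64} (h : ∃ g, g * (t * s) * g⁻¹ = x) : IsConj (F (t * s)) (F x) := by
  obtain ⟨g, rfl⟩ := h
  exact isConj_iff.2 ⟨F g, by rw [map_mul F (g * (t * s)), map_mul F g, map_inv]⟩

/-- `Y 1 1` cycles the `ee a` -/
theorem one_one (h : Y F K 1 1) {a : Fin 3} (ha : IsConj (F t) (F (ee a))) (b : Fin 3) :
    IsConj (F t) (F (ee b)) := by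
  obtain ⟨n, hn, hact⟩ := h
  have step : ∀ a, IsConj (F t) (F (ee a)) → IsConj (F t) (F (ee (a + 1))) := by
    intro a ha
    rcases act_dd C (C.comm n hn.1) hact a a with h1 | h1
    · exact ha.trans (isConj_iff.2 ⟨n, h1⟩)
    · exact (T_ee C _).1 (ha.trans (isConj_iff.2 ⟨n, h1⟩))
  have h1 := step a ha
  have h2 := step _ h1
  have key : ∀ a b : Fin 3, b = a ∨ b = a + 1 ∨ b = a + 1 + 1 := by decide
  rcases key a b with rfl | rfl | rfl
  · exact ha
  · exact h1
  · exact h2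

/-- if `Y` is trivial the roots of `t` not in `⟨c_l⟩` stay outside `Ms` -/
theorem root_out (hY : ∀ m₁ m₂, Y F K m₁ m₂ → m₁ = 0 ∧ m₂ = 0) {l : Fin 3} {ε : Bool} {g : G} {x : M64}
    (hg : g * F (q1 (l + 1)) * g⁻¹ = F x) (hx : x * x = t) : x ∉ Ms l ε := by
  have hgt : g * F t = F t * g := by
    have h1 : g * F t * g⁻¹ = F t := by
      calc g * F t * g⁻¹ = (g * F (q1 (l + 1)) * g⁻¹) * (g * F (q1 (l + 1)) * g⁻¹) := by
            rw [← q1_sq (l + 1), map_mul]; group
        _ = F t := by rw [hg, ← map_mul, hx]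
    calc g * F t = (g * F t * g⁻¹) * g := by group
      _ = F t * g := by rw [h1]
  obtain ⟨m₁, m₂, hm, h1⟩ := root_conj C hgt hg
  obtain ⟨rfl, rfl⟩ := hY _ _ hm
  simp only [add_zero] at h1
  rw [mem_Ms]
  exact root_not l ε x h1

theorem T_sq {g : G} {l : Fin 3} {x : M64} (hg : g * F (q1 l) * g⁻¹ = F x) : IsConj (F t) (F (x * x)) := by
  refine isConj_iff.2 ⟨g, ?_⟩
  rw [map_mul, ← hg, ← q1_sq l, map_mul]
  group

/-- pattern 1, `Y` trivial -/
theorem triv_one (hG : ∀ H : Subgroup G, H.index ≠ 2) (hY : ∀ m₁ m₂, Y F K m₁ m₂ → m₁ = 0 ∧ m₂ = 0) {l : Fin 3}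
    (hl : ∀ b, b ≠ l → ¬ IsConj (F t) (F (ee b))) (hs : ¬ IsConj (F t) (F s)) (hts : ¬ IsConj (F t) (F (t * s))) :
    False := by
  refine transfer_false C hG (M := Ms l true) (relIndex_map C (a := q1 (l + 1)) (Ms_xor l true)) (q1_sq (l + 1)) ?_ ?_
  · intro x hx
    obtain ⟨h1, h2⟩ := sq_of_T C hx
    rw [mem_Ms, if_pos rfl]
    by_cases hA : InA x
    · apply in_one
      rcases A_cases x hA with h3 | h3 | ⟨a, h3⟩ | h3 | h3
      · exact absurd h3 h2
      · exact Or.inl h3
      · right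
        have ha : a = l := by
          by_contra hal
          apply hl a hal
          rcases h3 with h3 | h3 <;> rw [h3] at hx
          · exact hx
          · exact (T_ee C a).1 hx
        rw [← ha]
        exact h3
      · exact absurd (hx.trans (T_s C h3).symm) hs
      · exact absurd (hx.trans (T_ts C h3).symm) hts
    · exact absurd hx (T_off C hY (off_R x h1 hA) hA)
  · intro x hx
    obtain ⟨g, hg⟩ := isConj_iff.1 hx
    rcases sq_cases x with h1 | h1 | ⟨a, h1⟩
    · exact absurd (T_sq C hg) (by rw [h1]; exact fun h => (sq_of_T C h).2 rfl)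
    · exact root_out C hY hg h1
    · have h2 := T_sq C hg
      have ha : a = l := by
        by_contra hal
        apply hl a hal
        rcases h1 with h1 | h1 <;> rw [h1] at h2
        · exact h2
        · exact (T_ee C a).1 h2
      rw [mem_Ms, if_pos rfl]
      rw [ha] at h1
      exact sq_not_one l x h1

/-- pattern 2, `Y` trivial -/
theorem triv_two (hG : ∀ H : Subgroup G, H.index ≠ 2) (hY : ∀ m₁ m₂, Y F K m₁ m₂ → m₁ = 0 ∧ m₂ = 0) {l : Fin 3}
    (hl : ¬ IsConj (F t) (F (ee l))) : False := by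
  refine transfer_false C hG (M := Ms l false) (relIndex_map C (a := q1 (l + 1)) (Ms_xor l false)) (q1_sq (l + 1)) ?_ ?_
  · intro x hx
    obtain ⟨h1, h2⟩ := sq_of_T C hx
    rw [mem_Ms, if_neg (by decide)]
    by_cases hA : InA x
    · exact A_in l x hA
    · exact absurd hx (T_off C hY (off_R x h1 hA) hA)
  · intro x hx
    obtain ⟨g, hg⟩ := isConj_iff.1 hx
    rcases sq_cases x with h1 | h1 | ⟨a, h1⟩
    · exact absurd (T_sq C hg) (by rw [h1]; exact fun h => (sq_of_T C h).2 rfl)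
    · exact root_out C hY hg h1
    · have h2 := T_sq C hg
      have ha : a ≠ l := by
        rintro rfl
        apply hl
        rcases h1 with h1 | h1 <;> rw [h1] at h2
        · exact h2
        · exact (T_ee C a).1 h2
      rw [mem_Ms, if_neg (by decide)]
      exact sq_not_two l a x ha h1

/-- In case Q, `Y` is antidiagonal. -/
theorem anti (hY : ¬ ∀ m₁ m₂, Y F K m₁ m₂ → m₁ = 0 ∧ m₂ = 0) {a b : Fin 3} (ha : IsConj (F t) (F (ee a)))
    (hb : ¬ IsConj (F t) (F (ee b))) : Y F K 1 2 ∧ ∀ m₁ m₂, Y F K m₁ m₂ → m₁ + m₂ = 0 := by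
  rcases Y_cases C with h | h | h | h
  · exact absurd h hY
  · exact absurd (one_one C h.1 ha b) hb
  · exact h
  · exact absurd (one_one C (h 1 1) ha b) hb

end

end Cfsg.Agent.SylowSp4.TwoQ
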