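import Cfsg.Agent.SylowSp4.TwoRho
import Cfsg.Agent.SylowSp4.IdSmall

/-!
# Type `PSp₄(3)`: `St F K` if `Y` is antidiagonal

`H = C(t) / O(C(t))`.  If `N₁` (in `H`) contained an element of odd order acting nontrivially on the first factor, two
involutions `(c_a, c_b)`, `a + b` different, would be conjugate in `C(t)`.  Hence `N₁ = Q₁` and `R` is normal in `K`.
-/

set_option autoImplicit false
set_option linter.unusedSectionVars false

namespace Cfsg.Agent.SylowSp4.TwoSt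

open Subgroup Cfsg.Agent.SylowSp4.AltModel Cfsg.Agent.SylowSp4.TwoBase Cfsg.Agent.SylowSp4.TwoCtx
open Cfsg.Agent.SylowSp4.TwoY Cfsg.Agent.SylowSp4.TwoParity Cfsg.Agent.SylowSp4.TwoOff Cfsg.Agent.SylowSp4.TwoRho
open Cfsg.Agent.SylowSp4.CentT Cfsg.Agent.SylowSp4.Coord Cfsg.Agent.SylowSp4.Pat
open Cfsg.Agent.Walter.OddCoreIn

universe u

section

variable {G : Type u} [Group G] [Finite G] {P : Sylow 2 G} {f : Q 1 → Q 1 → G} {s' : G}
  (h : TSp (P : Subgroup G) 1 f s') {P' : Sylow 2 (HH f)}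
  (h' : TSp (P' : Subgroup (HH f)) 1 (fun a b => ππ f ⟨f a b, P_le h (h.f_mem a b)⟩) (ππ f ⟨s', P_le h h.s_mem⟩))

theorem mem_Cn (x : M64) : hom h x ∈ Cn (tt f) := P_le h ((hom_range h).le ⟨x, rfl⟩)

/-- the coordinates of `H` -/
theorem hom_pi (x : M64) : hom h' x = ππ f ⟨hom h x, mem_Cn h x⟩ := by
  obtain ⟨a, b, c, d, e, m⟩ := x
  cases m
  · have e1 : hom h' ⟨a, b, c, d, e, false⟩ = ππ f ⟨f (qel a b e) (qel c d 0), P_le h (h.f_mem _ _)⟩ := by
      rw [hom_apply, toG]; simp [spow]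
    rw [e1]
    congr 1
    apply Subtype.ext
    show f (qel a b e) (qel c d 0) = hom h _
    rw [hom_apply, toG]
    simp only [spow, Bool.false_eq_true, if_false, mul_one]
  · have e1 : hom h' ⟨a, b, c, d, e, true⟩ = ππ f ⟨f (qel a b e) (qel c d 0), P_le h (h.f_mem _ _)⟩ *
        ππ f ⟨s', P_le h h.s_mem⟩ := by
      rw [hom_apply, toG]; simp [spow]
    rw [e1, ← map_mul]
    have e2 : hom h ⟨a, b, c, d, e, true⟩ = f (qel a b e) (qel c d 0) * s' := by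
      rw [hom_apply, toG]
      simp only [spow, if_true]
    exact congrArg (ππ f) (Subtype.ext e2.symm)

/-- involutions of `C(t)` conjugate modulo the core are conjugate -/
theorem conj_lift {u v : Cn (tt f)} (hu : u * u = 1) (hv : v * v = 1) {c : Cn (tt f)}
    (e : ππ f (c * u * c⁻¹) = ππ f v) : ∃ d : Cn (tt f), d * u * d⁻¹ = v := by
  have h1 : ππ f ((c * u * c⁻¹) * v) = 1 := by
    rw [map_mul, e, ← map_mul, hv, map_one]
  have h2 : Odd (orderOf ((c * u * c⁻¹) * v)) := by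
    have h3 := IdBase.odd_of_mem_OO (M := Cn (tt f)) (ππ_eq_one.1 h1)
    rwa [Subgroup.orderOf_coe] at h3
  have h3 : (c * u * c⁻¹) * (c * u * c⁻¹) = 1 := by
    calc (c * u * c⁻¹) * (c * u * c⁻¹) = c * (u * u) * c⁻¹ := by group
      _ = 1 := by rw [hu]; group
  obtain ⟨d, -, hd⟩ := Lift.exists_conj_of_odd h3 hv h2
  exact ⟨d⁻¹ * c, by rw [← hd]; group⟩

variable {K : Subgroup G} (C : TwoCtx.Ctx P (hom h) K)
  (hY : ∀ m₁ m₂, Y (hom h) K m₁ m₂ → m₁ + m₂ = 0)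
  {K' : Subgroup (HH f)} (ctx : IdBase.Ctx P' 1 (fun a b => ππ f ⟨f a b, P_le h (h.f_mem a b)⟩)
    (ππ f ⟨s', P_le h h.s_mem⟩) K')

include C hY ctx

/-- rotations in `H` are antidiagonal -/
theorem anti_H {g : HH f} {m₁ m₂ : Fin 3} (hg : g * hom ctx.h t = hom ctx.h t * g) (ha : Act (hom ctx.h) g m₁ m₂) :
    m₁ + m₂ = 0 := by
  have C' : TwoCtx.Ctx P' (hom ctx.h) K' := ofCentData ctx.h ctx.hK
  have h1 : ∃ v, (v = dd m₁ m₂ ∨ v = t * dd m₁ m₂) ∧ g * hom ctx.h (dd 0 0) * g⁻¹ = hom ctx.h v := by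
    have := act_dd C' hg ha 0 0
    rw [zero_add, zero_add] at this
    rcases this with h2 | h2
    · exact ⟨_, Or.inl rfl, h2⟩
    · exact ⟨_, Or.inr rfl, h2⟩
  obtain ⟨v, hv, e⟩ := h1
  have hsurj : Function.Surjective (ππ f) := QuotientGroup.mk'_surjective _
  obtain ⟨c, rfl⟩ := hsurj g
  rw [hom_pi h, hom_pi h, ← map_inv, ← map_mul, ← map_mul] at e
  have hsq : ∀ x : M64, x * x = 1 → (⟨hom h x, mem_Cn h x⟩ : Cn (tt f)) * ⟨hom h x, mem_Cn h x⟩ = 1 := by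
    intro x hx
    apply Subtype.ext
    show hom h x * hom h x = 1
    rw [← map_mul, hx, map_one]
  have hd0 : dd 0 0 * dd 0 0 = 1 := by decide +kernel
  have hv1 : ∀ a b, dd a b * dd a b = 1 ∧ (t * dd a b) * (t * dd a b) = 1 := by decide +kernel
  have hvv : v * v = 1 := by
    rcases hv with rfl | rfl
    · exact (hv1 _ _).1
    · exact (hv1 _ _).2
  obtain ⟨d, hd⟩ := conj_lift (hsq _ hd0) (hsq _ hvv) e
  have hdt : (d : G) * hom h t = hom h t * d := by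
    rw [hom_t h]
    exact mem_centralizer_singleton_iff.1 d.2
  have hd' : (d : G) * hom h (dd 0 0) * (d : G)⁻¹ = hom h v := congrArg Subtype.val hd
  obtain ⟨k₁, k₂, hk, h2⟩ := dd_conj C hdt (a := 0) (b := 0) (a' := m₁) (b' := m₂) (by
    rw [hd']
    rcases hv with rfl | rfl
    · exact Or.inl rfl
    · exact Or.inr rfl)
  have h3 := hY _ _ hk
  rw [zero_add, zero_add] at h2
  rcases h2 with ⟨rfl, rfl⟩ | ⟨rfl, rfl⟩
  · exact h3
  · exact h3

/-- `N₁ = Q₁` -/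
theorem N₁_eq : ∀ x ∈ IdBase.N₁ (fun a b => ππ f ⟨f a b, P_le h (h.f_mem a b)⟩) K',
    ∃ α, x = ππ f ⟨f α 1, P_le h (h.f_mem α 1)⟩ := by
  have C' : TwoCtx.Ctx P' (hom ctx.h) K' := ofCentData ctx.h ctx.hK
  rcases IdOne.dichotomy ctx with h1 | ⟨ρ, hρ, hodd, hρ1, hρn⟩
  · exact h1
  · exfalso
    have hρK : ρ ∈ K' := IdBase.N₁_le _ _ hρ
    have hρ2 : ∀ β, ρ * ππ f ⟨f 1 β, P_le h (h.f_mem 1 β)⟩ * ρ⁻¹ = ππ f ⟨f 1 β, P_le h (h.f_mem 1 β)⟩ := by
      intro β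
      rw [ctx.comm_N hρ (ctx.f_mem_N₂ β), mul_inv_cancel_right]
    have hb := IdOne.norm_base ctx hρ1 (fun β => ⟨β, hρ2 β⟩)
    have hNR : NR (hom ctx.h) K' ρ := by
      refine ⟨hρK, fun x hx => ?_⟩
      obtain ⟨α, β, e⟩ := (hom_R ctx.h x).1 hx
      have h2 := hb _ ((Base.mem_base ctx.h).2 ⟨α, β, rfl⟩)
      obtain ⟨α', β', e'⟩ := (Base.mem_base ctx.h).1 h2
      obtain ⟨y, hy, e2⟩ := hom_surj ctx.h α' β'
      exact ⟨y, hy, by rw [e, e2, e']⟩
    obtain ⟨m₁, m₂, ha⟩ := exists_act C' hNR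
    have hsum := anti_H h C hY ctx (C'.comm ρ hρK) ha
    -- `m₂ = 0`
    have hq2 : ∀ l, ρ * hom ctx.h (q2 l) * ρ⁻¹ = hom ctx.h (q2 l) := by
      intro l
      rw [hom_q2 ctx.h]
      exact hρ2 _
    have hm2 : m₂ = 0 := by
      have h3 := ha.2 0
      rw [hq2, zero_add] at h3
      have h4 := q2_inj 0 m₂ (by
        rcases h3 with h3 | h3
        · exact Or.inl (C'.mod.inj h3)
        · exact Or.inr (C'.mod.inj h3))
      exact h4.symm
    have hm1 : m₁ = 0 := by rw [hm2, add_zero] at hsum; exact hsum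
    rw [hm1, hm2] at ha
    obtain ⟨x, hx, hin⟩ := exists_inner (C'.comm ρ hρK) ha
    apply hρn
    intro α
    obtain ⟨y, hy, e⟩ := hom_surj ctx.h α 1
    have e' : hom ctx.h y = ππ f ⟨f α 1, P_le h (h.f_mem α 1)⟩ := e
    have hcomm : ρ * hom ctx.h y * ρ⁻¹ = hom ctx.h y := by
      apply TwoParity.fix_of_odd hodd
      -- `ρ` acts on `R` as conjugation by `x⁻¹`
      have h5 : ∀ q, InR q → ρ * hom ctx.h q * ρ⁻¹ = hom ctx.h (x⁻¹ * q * x) := by
        intro q hq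
        have h6 := hin (x⁻¹ * q * x) (TwoY.R_mul _ _ (TwoY.R_mul _ _ (TwoY.R_inv _ hx) hq) hx)
        rw [← h6]
        rw [map_mul, map_mul, map_inv]
        group
      have h7 : ∀ x q : M64, InR x → InR q → x⁻¹ * (x⁻¹ * q * x) * x = q := by decide +kernel
      calc ρ * ρ * hom ctx.h y * (ρ * ρ)⁻¹ = ρ * (ρ * hom ctx.h y * ρ⁻¹) * ρ⁻¹ := by group
        _ = hom ctx.h y := by
          rw [h5 y hy, h5 _ (TwoY.R_mul _ _ (TwoY.R_mul _ _ (TwoY.R_inv _ hx) hy) hx), h7 x y hx hy]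
    show ρ * ππ f ⟨f α 1, P_le h (h.f_mem α 1)⟩ = ππ f ⟨f α 1, P_le h (h.f_mem α 1)⟩ * ρ
    rw [← e']
    calc ρ * hom ctx.h y = (ρ * hom ctx.h y * ρ⁻¹) * ρ := by group
      _ = _ := by rw [hcomm]

end

theorem swap_aux {H : Type*} [Group H] {κ σ x : H} (e2 : σ * σ = 1) :
    κ * x * κ⁻¹ = κ * σ * (σ * x * σ) * (κ * σ)⁻¹ := by
  have e3 : σ⁻¹ = σ := inv_eq_of_mul_eq_one_left e2
  calc κ * x * κ⁻¹ = κ * (σ * σ) * x * (σ * σ)⁻¹ * κ⁻¹ := by rw [e2]; group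
    _ = κ * σ * (σ * x * σ⁻¹) * (κ * σ)⁻¹ := by group
    _ = κ * σ * (σ * x * σ) * (κ * σ)⁻¹ := by rw [e3]

/-- **The structure of `C(t)` if `Y` is antidiagonal.** -/
theorem exists_st (hPT : Hyps.ProductThm.{u}) {G : Type u} [Group G] [Finite G] {P : Sylow 2 G} {f : Q 1 → Q 1 → G}
    {s' : G} (h : TSp (P : Subgroup G) 1 f s') {K : Subgroup G} (C : TwoCtx.Ctx P (hom h) K)
    (hY : ∀ m₁ m₂, Y (hom h) K m₁ m₂ → m₁ + m₂ = 0) : St (hom h) K := by
  obtain ⟨P', h'⟩ := exists_P h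
  have hsurj : Function.Surjective (ππ f) := QuotientGroup.mk'_surjective _
  have hZ : ∀ g : HH f, g * ππ f ⟨f (z 1) 1, P_le h (h.f_mem _ _)⟩ = ππ f ⟨f (z 1) 1, P_le h (h.f_mem _ _)⟩ * g := by
    intro g
    obtain ⟨c, rfl⟩ := hsurj g
    rw [← map_mul, ← map_mul]
    congr 1
    exact Subtype.ext (mem_centralizer_singleton_iff.1 c.2)
  obtain ⟨K', hK'⟩ := CentG.exists_centData h'
  have ctx : IdBase.Ctx P' 1 (fun a b => ππ f ⟨f a b, P_le h (h.f_mem a b)⟩) (ππ f ⟨s', P_le h h.s_mem⟩) K' :=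
    ⟨h', oddCore_HH, hZ, hK', hPT⟩
  have hN := N₁_eq h C hY ctx
  have hCn : ∀ {g : G}, g * hom h t = hom h t * g → g ∈ Cn (tt f) := by
    intro g hg
    rw [hom_t h] at hg
    exact mem_centralizer_singleton_iff.2 hg
  have hO : ∀ (g : G) (hg : g ∈ Cn (tt f)), ππ f ⟨g, hg⟩ = 1 → g ∈ Cfsg.centralizerPPrimeCore 2 (hom h t) := by
    intro g hg h1
    rw [hom_t h]
    exact ππ_eq_one.1 h1
  refine ⟨?_, ?_⟩
  · intro g hg hgR
    -- the centralizer of `R`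
    have hgC := hCn hg
    have h1 : ππ f ⟨g, hgC⟩ = 1 ∨ ππ f ⟨g, hgC⟩ = ππ f ⟨f (z 1) 1, P_le h (h.f_mem _ _)⟩ := by
      have hc : ∀ α β, ππ f ⟨g, hgC⟩ * ππ f ⟨f α β, P_le h (h.f_mem α β)⟩ =
          ππ f ⟨f α β, P_le h (h.f_mem α β)⟩ * ππ f ⟨g, hgC⟩ := by
        intro α β
        obtain ⟨x, hx, e⟩ := hom_surj h α β
        rw [← map_mul, ← map_mul]
        congr 1
        apply Subtype.ext
        show g * f α β = f α β * g
        rw [← e]
        exact hgR x hx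
      apply ctx.cen
      · intro a ha
        obtain ⟨α, rfl⟩ := hN a ha
        exact hc α 1
      · intro a ha
        obtain ⟨α, rfl⟩ := hN a ha
        rw [ctx.swap_f]
        exact hc 1 α
    rcases h1 with h1 | h1
    · exact Or.inl (hO g hgC h1)
    · right
      apply hO _ (mul_mem (mem_Cn h t) hgC)
      have e : (⟨hom h t * g, mul_mem (mem_Cn h t) hgC⟩ : Cn (tt f)) = ⟨hom h t, mem_Cn h t⟩ * ⟨g, hgC⟩ := rfl
      rw [e, map_mul, h1, ← hom_pi h ctx.h, hom_t ctx.h]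
      exact ctx.h.t_sq
  · -- generation
    have hK1 : ∀ k ∈ K, ∃ o ∈ Cfsg.centralizerPPrimeCore 2 (hom h t), ∃ n, NR (hom h) K n ∧ k = o * n := by
      intro k hk
      have hkC := hCn (C.comm k hk)
      refine TwoRho.frattini C hk ?_
      intro q hq
      -- in `H`
      have hnorm : ∀ g ∈ K', ∀ x, InR x → ∃ y, InR y ∧ g * hom ctx.h x * g⁻¹ = hom ctx.h y := by
        intro g hg x hx
        obtain ⟨α, β, e⟩ := (hom_R ctx.h x).1 hx
        have h2 := IdOne.norm_base ctx (IdSmall.small_conj₁ ctx hN hg) (IdSmall.small_conj₂ ctx hN hg) _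
          ((Base.mem_base ctx.h).2 ⟨α, β, rfl⟩)
        obtain ⟨α', β', e'⟩ := (Base.mem_base ctx.h).1 h2
        obtain ⟨y, hy, e2⟩ := hom_surj ctx.h α' β'
        exact ⟨y, hy, by rw [e, e2, e']⟩
      have h3 : ∃ y, InR y ∧ ππ f ⟨k, hkC⟩ * hom ctx.h q * (ππ f ⟨k, hkC⟩)⁻¹ = hom ctx.h y := by
        rcases ctx.hK.mem_or (ππ f ⟨k, hkC⟩) (hZ _) with h4 | h4
        · exact hnorm _ h4 q hq
        · obtain ⟨y, hy, e⟩ := hnorm _ h4 (s * q * s) (by
            have : ∀ q, InR q → InR (s * q * s) := by decide +kernel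
            exact this q hq)
          refine ⟨y, hy, ?_⟩
          rw [← e]
          have e1 : hom ctx.h s = ππ f ⟨s', P_le h h.s_mem⟩ := hom_s ctx.h
          have e2 : ππ f ⟨s', P_le h h.s_mem⟩ * ππ f ⟨s', P_le h h.s_mem⟩ = 1 := ctx.h.s_s
          rw [map_mul, map_mul, e1]
          exact swap_aux e2
      obtain ⟨y, hy, e⟩ := h3
      refine ⟨y, hy, k * hom h q * k⁻¹ * (hom h y)⁻¹, ?_, by group⟩
      have hm : k * hom h q * k⁻¹ * (hom h y)⁻¹ ∈ Cn (tt f) :=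
        mul_mem (mul_mem (mul_mem hkC (mem_Cn h q)) (inv_mem hkC)) (inv_mem (mem_Cn h y))
      apply hO _ hm
      have e5 : (⟨k * hom h q * k⁻¹ * (hom h y)⁻¹, hm⟩ : Cn (tt f)) =
          ⟨k, hkC⟩ * ⟨hom h q, mem_Cn h q⟩ * ⟨k, hkC⟩⁻¹ * ⟨hom h y, mem_Cn h y⟩⁻¹ := rfl
      rw [e5, map_mul, map_mul, map_mul, map_inv, map_inv, ← hom_pi h ctx.h, ← hom_pi h ctx.h, e, mul_inv_cancel]
    intro c hc
    rcases C.mem_or c hc with h1 | h1
    · obtain ⟨o, ho, n, hn, e⟩ := hK1 c h1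
      exact ⟨o, ho, n, hn, Or.inl e⟩
    · have h2 := C.normal (hom h s) (TwoRho.st C) _ h1
      obtain ⟨o, ho, n, hn, e⟩ := hK1 _ h2
      refine ⟨hom h s * o * (hom h s)⁻¹, O_conj C (TwoRho.st C) ho, n, hn, Or.inr ?_⟩
      have e2 := TwoRho.ss C
      have e3 := TwoRho.s_inv C
      have e4 : hom h s * c = o * n := by
        rw [← e]
        calc hom h s * c = hom h s * (c * (hom h s * hom h s)) := by rw [e2, mul_one]
          _ = hom h s * (c * hom h s) * (hom h s)⁻¹ := by rw [e3]; group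
      calc c = hom h s * hom h s * c := by rw [e2, one_mul]
        _ = hom h s * (hom h s * c) := by group
        _ = hom h s * (o * n) := by rw [e4]
        _ = hom h s * o * (hom h s)⁻¹ * hom h s * n := by group

end Cfsg.Agent.SylowSp4.TwoSt
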