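import Cfsg.Agent.SylowSp4.TwoRho

/-!
# Type `PSp₄(3)`: `St` and admissible automorphisms of the model
-/

set_option autoImplicit false

namespace Cfsg.Agent.SylowSp4.TwoStAdm

open Subgroup Cfsg.Agent.SylowSp4.AltModel Cfsg.Agent.SylowSp4.TwoBase Cfsg.Agent.SylowSp4.TwoCtx
open Cfsg.Agent.SylowSp4.TwoY Cfsg.Agent.SylowSp4.TwoAut Cfsg.Agent.SylowSp4.TwoRho

theorem adm_id : Adm (MonoidHom.id M64) where
  inj := fun _ _ h => h
  t := rfl
  s := Or.inl rfl
  R := fun _ => Iff.rfl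
  Q1 := fun _ => Iff.rfl
  Q2 := fun _ => Iff.rfl

theorem adm_comp {φ ψ : M64 →* M64} (hφ : Adm φ) (hψ : Adm ψ) : Adm (φ.comp ψ) where
  inj := hφ.inj.comp hψ.inj
  t := by rw [MonoidHom.comp_apply, hψ.t, hφ.t]
  s := by
    have htt : ∀ x : M64, t * (t * x) = x := by decide +kernel
    rw [MonoidHom.comp_apply]
    rcases hψ.s with h1 | h1 <;> rw [h1]
    · exact hφ.s
    · rw [map_mul, hφ.t]
      rcases hφ.s with h2 | h2 <;> rw [h2]
      · exact Or.inr rfl
      · left; exact htt s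
  R := fun x => by rw [MonoidHom.comp_apply, hφ.R, hψ.R]
  Q1 := fun x => by rw [MonoidHom.comp_apply, hφ.Q1, hψ.Q1]
  Q2 := fun x => by rw [MonoidHom.comp_apply, hφ.Q2, hψ.Q2]

theorem adm_st {φ : M64 →* M64} (hφ : Adm φ) {G : Type*} [Group G] [Finite G] {P : Sylow 2 G} {F : M64 →* G}
    {K : Subgroup G} (C : Ctx P F K) (h : St F K) : St (F.comp φ) K := by
  have ht : (F.comp φ) t = F t := by rw [MonoidHom.comp_apply, hφ.t]
  have hNR : ∀ n, NR F K n → NR (F.comp φ) K n := by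
    intro n hn
    refine ⟨hn.1, fun x hx => ?_⟩
    obtain ⟨y, hy, e⟩ := hn.2 (φ x) ((hφ.R x).2 hx)
    obtain ⟨y', rfl⟩ := hφ.surj y
    exact ⟨y', (hφ.R y').1 hy, e⟩
  refine ⟨?_, ?_⟩
  · rw [ht]
    intro g hg hq
    apply h.cen g hg
    intro q hqR
    obtain ⟨q', rfl⟩ := hφ.surj q
    exact hq q' ((hφ.R q').1 hqR)
  · rw [ht]
    intro c hc
    obtain ⟨o, ho, n, hn, e⟩ := h.gen c hc
    rcases e with e | e
    · exact ⟨o, ho, n, hNR n hn, Or.inl e⟩
    · rw [MonoidHom.comp_apply]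
      rcases hφ.s with h1 | h1 <;> rw [h1]
      · exact ⟨o, ho, n, hNR n hn, Or.inr e⟩
      · refine ⟨o, ho, F t * n, hNR _ ?_, Or.inr ?_⟩
        · refine NR_mul C ⟨(C.mem_iff t).2 R_t, fun x hx => ?_⟩ hn
          have : ∀ x : M64, t * x * t⁻¹ = x := by decide +kernel
          exact ⟨x, hx, by rw [← map_inv, ← map_mul, ← map_mul, this]⟩
        · have e1 : F s = F (t * s) * F t := by
            rw [← map_mul, show t * s * t = s by decide +kernel]
          rw [e, e1]; group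

end Cfsg.Agent.SylowSp4.TwoStAdm
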