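import Cfsg.Agent.SylowSp4.TwoQThree
import Cfsg.Agent.SylowSp4.TwoQ
import Cfsg.Agent.SylowSp4.TwoSt
import Cfsg.Agent.SylowSp4.TwoStAdm

/-!
# Fusion for the type `PSp₄(3)`: glue

`main` : the statement `Assembly.FusTwo`, from `Hyps.ProductThm` and `TwoGold.Gold` (S1169).
-/

set_option autoImplicit false

namespace Cfsg.Agent.SylowSp4.TwoMain

open Subgroup Cfsg.Agent.SylowSp4.AltModel Cfsg.Agent.SylowSp4.TwoBase Cfsg.Agent.SylowSp4.TwoParity
open Cfsg.Agent.SylowSp4.TwoCtx Cfsg.Agent.SylowSp4.TwoY Cfsg.Agent.SylowSp4.TwoOff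

universe u

/-- the fusion of the involutions of `A` in the pattern of `A₈` -/
structure Two {G : Type*} [Group G] (F : M64 →* G) (c : Fin 3) : Prop where
  nee : ¬ IsConj (F t) (F (ee c))
  tee : ∀ b, b ≠ c → IsConj (F t) (F (ee b))
  ts : IsConj (F t) (F s)
  nts : ¬ IsConj (F t) (F (t * s))
  us : IsConj (F (ee c)) (F (t * s))

theorem fin_cases' : ∀ c : Fin 3, c = 0 ∨ c = 0 + 1 ∨ c = 0 + 1 + 1 := by decide
theorem fin_ne : ∀ c : Fin 3, c + 1 ≠ c := by decide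
theorem cyc_ee : ∀ a, TwoAut.cyc (ee a) = ee (a + 1) := by decide +kernel
theorem cyc_t : TwoAut.cyc t = t ∧ TwoAut.cyc s = s ∧ TwoAut.cyc (t * s) = t * s := by decide +kernel
theorem sw_t : TwoAut.sw t = t ∧ TwoAut.sw s = t * s ∧ TwoAut.sw (t * s) = s := by decide +kernel
theorem sw_ee : ∀ a, TwoAut.sw (ee a) = ee a := by decide +kernel

theorem Two.cyc {G : Type*} [Group G] {F : M64 →* G} {c : Fin 3} (h : Two F (c + 1)) : Two (F.comp TwoAut.cyc) c where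
  nee := by
    rw [MonoidHom.comp_apply, MonoidHom.comp_apply, cyc_t.1, cyc_ee]; exact h.nee
  tee := by
    intro b hb
    rw [MonoidHom.comp_apply, MonoidHom.comp_apply, cyc_t.1, cyc_ee]
    exact h.tee _ (fun e => hb (add_right_cancel e))
  ts := by
    rw [MonoidHom.comp_apply, MonoidHom.comp_apply, cyc_t.1, cyc_t.2.1]; exact h.ts
  nts := by
    rw [MonoidHom.comp_apply, MonoidHom.comp_apply, cyc_t.1, cyc_t.2.2]; exact h.nts
  us := by
    rw [MonoidHom.comp_apply, MonoidHom.comp_apply, cyc_t.2.2, cyc_ee]; exact h.us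

theorem exists_alt {G : Type u} [Group G] [Finite G] {P : Sylow 2 G} {F : M64 →* G} {K : Subgroup G}
    (C : Ctx P F K) (hSt : TwoRho.St F K) (hG : ∀ H : Subgroup G, H.index ≠ 2) {c : Fin 3} (h : Two F c) :
    ∃ F : M64 →* G, AltPat P F := by
  have key : ∀ F : M64 →* G, Ctx P F K → TwoRho.St F K → Two F 0 → ∃ F : M64 →* G, AltPat P F := by
    intro F C hSt h
    have hnot : ¬ ∀ m₁ m₂, Y F K m₁ m₂ → m₁ = 0 ∧ m₂ = 0 := fun hY => TwoQ.triv_two C hG hY h.nee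
    obtain ⟨h1, h2⟩ := TwoQ.anti C hnot (h.tee 1 (by decide)) h.nee
    have e1 : e1 = ee 0 := by decide +kernel
    have e2 : e2 = ee 1 := by decide +kernel
    have e3 : e3 = ee 2 := by decide +kernel
    refine ⟨F, ⟨C.mod.inj, C.mod.range, ?_, ?_, h.ts, ?_, ?_, TwoRho.rho C hSt h1 h2⟩⟩
    · rw [e2]; exact h.tee 1 (by decide)
    · rw [e3]; exact h.tee 2 (by decide)
    · rw [e1]; exact h.us
    · rw [e1]; exact h.nee
  have hc := fin_cases' c
  rcases hc with rfl | rfl | rfl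
  · exact key F C hSt h
  · exact key _ (TwoAut.adm_cyc.ctx C) (TwoStAdm.adm_st TwoAut.adm_cyc C hSt) h.cyc
  · exact key _ (TwoAut.adm_cyc.ctx (TwoAut.adm_cyc.ctx C))
      (TwoStAdm.adm_st TwoAut.adm_cyc (TwoAut.adm_cyc.ctx C) (TwoStAdm.adm_st TwoAut.adm_cyc C hSt)) h.cyc.cyc

open Cfsg.Agent.SylowSp4.Coord Cfsg.Agent.SylowSp4.Pat in
/-- **The fusion of 2-elements for `k = 1`.** -/
theorem main (hPT : Hyps.ProductThm.{u}) (hGold : TwoGold.Gold.{u}) (G : Type u) [Group G] [Finite G]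
    [IsSimpleGroup G] (P : Sylow 2 G) (f : Q 1 → Q 1 → G) (s' : G) (h : TSp (P : Subgroup G) 1 f s') :
    Pat P 1 f s' ∨ Pat P 1 f (tt f * s') ∨ ∃ F : AltModel.M64 →* G, AltModel.AltPat P F := by
  by_cases hte : ∀ a, ¬ IsConj (hom h t) (hom h (TwoBase.ee a))
  · rcases TwoPEnd.pat hGold h hte with h1 | h1
    · exact Or.inl h1
    · exact Or.inr (Or.inl h1)
  push Not at hte
  obtain ⟨K, hK⟩ := CentG.exists_centData h
  have C := ofCentData h hK
  have hG := Large.index_ne_two h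
  rcases TwoX.main C.mod (hnf C) hte with ⟨a, ha, hb, hs, hts⟩ | ⟨c, hc, hb, hcases⟩
  · exfalso
    have hnot : ¬ ∀ m₁ m₂, Y (hom h) K m₁ m₂ → m₁ = 0 ∧ m₂ = 0 := fun hY => TwoQ.triv_one C hG hY hb hs hts
    have hne : a + 1 ≠ a := fin_ne a
    obtain ⟨h1, h2⟩ := TwoQ.anti C hnot ha (hb (a + 1) hne)
    exact TwoQThree.false_of_one hGold C ha hb hs hts h1 h2
  right; right
  have hnot : ¬ ∀ m₁ m₂, Y (hom h) K m₁ m₂ → m₁ = 0 ∧ m₂ = 0 := fun hY => TwoQ.triv_two C hG hY hc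
  have hne : c + 1 ≠ c := fin_ne c
  obtain ⟨-, h2⟩ := TwoQ.anti C hnot (hb (c + 1) hne) hc
  have hSt := TwoSt.exists_st hPT h C h2
  rcases hcases with ⟨hs, hts, hu⟩ | ⟨hts, hs, hu⟩
  · exact exists_alt C hSt hG ⟨hc, hb, hs, hts, hu⟩
  · refine exists_alt (TwoAut.adm_sw.ctx C) (TwoStAdm.adm_st TwoAut.adm_sw C hSt) hG (c := c) ⟨?_, ?_, ?_, ?_, ?_⟩
    · rw [MonoidHom.comp_apply, MonoidHom.comp_apply, sw_t.1, sw_ee]; exact hc
    · intro b hbc
      rw [MonoidHom.comp_apply, MonoidHom.comp_apply, sw_t.1, sw_ee]; exact hb b hbc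
    · rw [MonoidHom.comp_apply, MonoidHom.comp_apply, sw_t.1, sw_t.2.1]; exact hts
    · rw [MonoidHom.comp_apply, MonoidHom.comp_apply, sw_t.1, sw_t.2.2]; exact hs
    · rw [MonoidHom.comp_apply, MonoidHom.comp_apply, sw_t.2.2, sw_ee]; exact hu

end Cfsg.Agent.SylowSp4.TwoMain
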