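import Mathlib

/-!
# Elementary coprime lifting for involutions
-/

set_option autoImplicit false

namespace Cfsg.Agent.SylowSp4.Lift

open Subgroup

/-- Two involutions with product of odd order are conjugate by a power of the product. -/
theorem exists_conj_of_odd {G : Type*} [Group G] {s s' : G} (hs : s * s = 1) (hs' : s' * s' = 1)
    (hodd : Odd (orderOf (s * s'))) : ∃ d ∈ zpowers (s * s'), d⁻¹ * s * d = s' := by
  obtain ⟨m, hm⟩ := hodd
  have hsi : s⁻¹ = s := inv_eq_of_mul_eq_one_left hs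
  have hsi' : s'⁻¹ = s' := inv_eq_of_mul_eq_one_left hs'
  have hr : SemiconjBy s (s * s') (s * s')⁻¹ := by
    change s * (s * s') = (s * s')⁻¹ * s
    rw [← mul_assoc, hs, one_mul, mul_inv_rev, hsi, hsi', mul_assoc, hs, mul_one]
  have key : ∀ n : ℕ, s * (s * s') ^ n = ((s * s') ^ n)⁻¹ * s := by
    intro n
    have h1 := (hr.pow_right n).eq
    rw [h1, inv_pow]
  refine ⟨(s * s') ^ (m + 1), pow_mem (mem_zpowers _) _, ?_⟩
  rw [← key, mul_assoc, ← pow_add]
  have h1 : m + 1 + (m + 1) = orderOf (s * s') + 1 := by omega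
  rw [h1, pow_succ, pow_orderOf_eq_one, one_mul, ← mul_assoc, hs, one_mul]

/-- If the images of `x` and of the involution `w` commute modulo an odd kernel, then `κ * x` commutes with `w`
for some `κ` in the kernel. -/
theorem exists_comm_lift {C H : Type*} [Group C] [Finite C] [Group H] (π : C →* H)
    (hk : Odd (Nat.card π.ker)) {w x : C} (hw : w * w = 1) (hx : π x * π w = π w * π x) :
    ∃ κ ∈ π.ker, κ ∈ zpowers (w * x * w⁻¹ * x⁻¹) ∧ (κ * x) * w = w * (κ * x) := by
  have hwi : w⁻¹ = w := inv_eq_of_mul_eq_one_left hw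
  have h1 : w * (x * w * x⁻¹) ∈ π.ker := by
    rw [MonoidHom.mem_ker, map_mul, map_mul, map_mul, map_inv, hx, mul_inv_cancel_right, ← map_mul, hw, map_one]
  have h2 : (x * w * x⁻¹) * (x * w * x⁻¹) = 1 := by
    have : (x * w * x⁻¹) * (x * w * x⁻¹) = x * (w * w) * x⁻¹ := by group
    rw [this, hw, mul_one, mul_inv_cancel]
  have h3 : Odd (orderOf (w * (x * w * x⁻¹))) := by
    have h4 : orderOf (⟨_, h1⟩ : π.ker) ∣ Nat.card π.ker := orderOf_dvd_natCard _
    rw [Subgroup.orderOf_mk] at h4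
    exact hk.of_dvd_nat h4
  obtain ⟨d, hd, hd1⟩ := exists_conj_of_odd hw h2 h3
  have h5 : w * (x * w * x⁻¹) = w * x * w⁻¹ * x⁻¹ := by rw [hwi]; group
  refine ⟨d, ?_, ?_, ?_⟩
  · exact (zpowers_le.2 h1) hd
  · rwa [← h5]
  · have h6 : w * d = d * (x * w * x⁻¹) := by rw [← hd1]; group
    calc d * x * w = d * (x * w * x⁻¹) * x := by group
      _ = w * d * x := by rw [h6]
      _ = w * (d * x) := by rw [mul_assoc]

/-- A lift of an element of odd order may be chosen of odd order, as a power. -/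
theorem exists_odd_pow {C H : Type*} [Group C] [Finite C] [Group H] (π : C →* H) {x : C}
    (hx : Odd (orderOf (π x))) : ∃ N : ℕ, π (x ^ N) = π x ∧ Odd (orderOf (x ^ N)) := by
  obtain ⟨a, m, hm, ham⟩ := Nat.exists_eq_two_pow_mul_odd (n := orderOf x) (orderOf_pos x).ne'
  have hdvd : orderOf (π x) ∣ m := by
    have h1 : orderOf (π x) ∣ 2 ^ a * m := ham ▸ orderOf_map_dvd π x
    exact (Nat.Coprime.pow_right a (Nat.coprime_two_right.2 hx)).dvd_of_dvd_mul_left h1
  have hco : (2 ^ a).Coprime m := Nat.Coprime.pow_left a (Nat.coprime_two_left.2 hm)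
  obtain ⟨N, hN1, hN2⟩ := Nat.chineseRemainder hco 0 1
  refine ⟨N, ?_, ?_⟩
  · rw [map_pow]
    have h3 : N ≡ 1 [MOD orderOf (π x)] := hN2.of_dvd hdvd
    have h4 := (pow_eq_pow_iff_modEq (x := π x)).2 h3
    rw [h4, pow_one]
  · have h5 : (2 ^ a) ∣ N := (Nat.modEq_zero_iff_dvd).1 hN1
    have h6 : (x ^ N) ^ m = 1 := by
      rw [← pow_mul]
      apply orderOf_dvd_iff_pow_eq_one.1
      rw [ham]
      exact Nat.mul_dvd_mul_right h5 m
    exact hm.of_dvd_nat (orderOf_dvd_of_pow_eq_one h6)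

end Cfsg.Agent.SylowSp4.Lift
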