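import Cfsg.Agent.SylowSp4.SLFacts
import Cfsg.Agent.TwoFusion.SLTwoFacts
import Cfsg.Agent.S0811
import Cfsg.Agent.S0812
import Cfsg.Agent.S0257

/-!
# Generation facts on `SL(2,F)`, `F` a finite field of odd order

* `normal_cases` : a normal subgroup of `SL(2,F)`, `|F| > 3`, is central or everything;
* `closure_commutators` (T3) : the `a X a⁻¹ X⁻¹` generate `SL(2,F)`, `|F| > 3`;
* `eq_bot_of_odd` (T6) : a normal subgroup of odd order is trivial;
* `closure_centralizers` (T2) : `C(X)` and `C(y)` generate `SL(2,F)`, `|F| ≠ 3, 5, 7, 9`.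
-/

set_option autoImplicit false

namespace Cfsg.Agent.SylowSp4.SLGen

open Matrix Subgroup
open Cfsg.Agent.ClassicalGeometry.SLTwoFour (ext2 det2 two_ne_zero_of_odd trace_of_mul_self exists_conj_w
  psl_isConj psl_involution_lift eq_one_or_neg_one_of_mul_self neg_one_ne_one)
open Cfsg.Agent.ClassicalGeometry.PSL2Klein (mk mk_eq_mk mk_eq_one mk_neg mem_center involution_iff)
open Cfsg.Agent.SylowSp4.SLFacts

variable {F : Type*} [Field F]

local notation "SL2" => Matrix.SpecialLinearGroup (Fin 2)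
local notation "PSL2" => Matrix.ProjectiveSpecialLinearGroup (Fin 2)

theorem comm_eq_of_central {G : Type*} [Group G] {n m z w : G} (hz : z ∈ Subgroup.center G)
    (hw : w ∈ Subgroup.center G) :
    (n * z) * (m * w) * (n * z)⁻¹ * (m * w)⁻¹ = n * m * n⁻¹ * m⁻¹ := by
  have e1 : z * (m * w) * z⁻¹ = m * w := by
    rw [← Subgroup.mem_center_iff.1 hz (m * w), mul_inv_cancel_right]
  have e2 : w * n⁻¹ * w⁻¹ = n⁻¹ := by
    rw [← Subgroup.mem_center_iff.1 hw n⁻¹, mul_inv_cancel_right]
  calc (n * z) * (m * w) * (n * z)⁻¹ * (m * w)⁻¹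
      = n * (z * (m * w) * z⁻¹) * n⁻¹ * w⁻¹ * m⁻¹ := by group
    _ = n * m * (w * n⁻¹ * w⁻¹) * m⁻¹ := by rw [e1]; group
    _ = n * m * n⁻¹ * m⁻¹ := by rw [e2]

theorem orderOf_mem {G : Type*} [Group G] {N : Subgroup G} [Finite G] {g : G} (hg : g ∈ N) (h1 : g ≠ 1)
    (h2 : g * g = 1) (ho : Odd (Nat.card N)) : False := by
  have h3 : orderOf (⟨g, hg⟩ : N) = 2 :=
    orderOf_eq_prime (by rw [sq]; exact Subtype.ext h2) (fun h => h1 (congrArg Subtype.val h))
  have h4 : orderOf (⟨g, hg⟩ : N) ∣ Nat.card N := orderOf_dvd_natCard _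
  rw [h3] at h4
  exact (Nat.not_even_iff_odd.2 ho) (even_iff_two_dvd.2 h4)

theorem even_card_of {G : Type*} [Group G] [Finite G] {g : G} (h1 : g ≠ 1) (h2 : g * g = 1) : 2 ∣ Nat.card G := by
  have h3 : orderOf g = 2 := orderOf_eq_prime (by rw [sq]; exact h2) h1
  have h4 : orderOf g ∣ Nat.card G := orderOf_dvd_natCard _
  rwa [h3] at h4

theorem X_notMem_center (h2 : (2 : F) ≠ 0) {X : SL2 F} (hX : X * X = -1) : X ∉ Subgroup.center (SL2 F) := by
  intro h
  rcases mem_center.1 h with h | h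
  · rw [h, one_mul] at hX
    exact neg_one_ne_one h2 hX.symm
  · rw [h, neg_mul_neg, one_mul] at hX
    exact neg_one_ne_one h2 hX.symm

/-- A normal subgroup of `SL(2,F)`, `|F| > 3`, is central or everything. -/
theorem normal_cases [Fintype F] (h3 : 3 < Fintype.card F) (N : Subgroup (SL2 F)) (hN : N.Normal) :
    N ≤ Subgroup.center (SL2 F) ∨ N = ⊤ := by
  have hsimple : IsSimpleGroup (PSL2 F) := Cfsg.Agent.TwoFusion.SLTwoFacts.isSimpleGroup_psl h3
  set Z := Subgroup.center (SL2 F) with hZ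
  have hn : (N.map (QuotientGroup.mk' Z)).Normal := hN.map _ (QuotientGroup.mk'_surjective Z)
  rcases hsimple.eq_bot_or_eq_top_of_normal (N.map (QuotientGroup.mk' Z)) hn with h1 | h1
  · left
    rwa [Subgroup.map_eq_bot_iff, QuotientGroup.ker_mk'] at h1
  · right
    rw [eq_top_iff, ← Cfsg.Agent.TwoFusion.SLTwoFacts.commutator_eq_top h3]
    rw [commutator_def, Subgroup.commutator_le]
    intro x _ y _
    have hx : (QuotientGroup.mk' Z x) ∈ N.map (QuotientGroup.mk' Z) := by rw [h1]; trivial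
    have hy : (QuotientGroup.mk' Z y) ∈ N.map (QuotientGroup.mk' Z) := by rw [h1]; trivial
    obtain ⟨n, hn', hnx⟩ := hx
    obtain ⟨m, hm', hmy⟩ := hy
    have hz : n⁻¹ * x ∈ Z := QuotientGroup.eq.1 hnx
    have hw : m⁻¹ * y ∈ Z := QuotientGroup.eq.1 hmy
    have ex : x = n * (n⁻¹ * x) := by group
    have ey : y = m * (m⁻¹ * y) := by group
    have : x * y * x⁻¹ * y⁻¹ = n * m * n⁻¹ * m⁻¹ := by
      conv_lhs => rw [ex, ey]
      exact comm_eq_of_central hz hw
    change x * y * x⁻¹ * y⁻¹ ∈ N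
    rw [this]
    exact mul_mem (mul_mem (mul_mem hn' hm') (inv_mem hn')) (inv_mem hm')

/-- (T3) -/
theorem closure_commutators [Fintype F] (hodd : Odd (Fintype.card F)) (h3 : 3 < Fintype.card F)
    {X : SL2 F} (hX : X * X = -1) :
    Subgroup.closure {g : SL2 F | ∃ a : SL2 F, g = a * X * a⁻¹ * X⁻¹} = ⊤ := by
  have h2 : (2 : F) ≠ 0 := two_ne_zero_of_odd hodd
  set N := Subgroup.closure {g : SL2 F | ∃ a : SL2 F, g = a * X * a⁻¹ * X⁻¹} with hNdef
  have hmem : ∀ a : SL2 F, a * X * a⁻¹ * X⁻¹ ∈ N := fun a => Subgroup.subset_closure ⟨a, rfl⟩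
  have hN : N.Normal := by
    refine ⟨fun n hn b => ?_⟩
    induction hn using Subgroup.closure_induction with
    | mem x hx =>
      obtain ⟨a, rfl⟩ := hx
      have e : b * (a * X * a⁻¹ * X⁻¹) * b⁻¹ = ((b * a) * X * (b * a)⁻¹ * X⁻¹) * (b * X * b⁻¹ * X⁻¹)⁻¹ := by group
      rw [e]
      exact mul_mem (hmem _) (inv_mem (hmem _))
    | one => simp
    | mul x y _ _ hx hy =>
      have e : b * (x * y) * b⁻¹ = (b * x * b⁻¹) * (b * y * b⁻¹) := by group
      rw [e]; exact mul_mem hx hy
    | inv x _ hx =>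
      have e : b * x⁻¹ * b⁻¹ = (b * x * b⁻¹)⁻¹ := by group
      rw [e]; exact inv_mem hx
  rcases normal_cases h3 N hN with h | h
  · exfalso
    have hsimple : IsSimpleGroup (PSL2 F) := Cfsg.Agent.TwoFusion.SLTwoFacts.isSimpleGroup_psl h3
    -- the image of `X` is central in `PSL(2,F)`
    have hc : (QuotientGroup.mk' (Subgroup.center (SL2 F)) X) ∈ Subgroup.center (PSL2 F) := by
      rw [Subgroup.mem_center_iff]
      intro g
      obtain ⟨a, rfl⟩ := QuotientGroup.mk'_surjective (Subgroup.center (SL2 F)) g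
      have h1 := h (hmem a)
      have h4 : QuotientGroup.mk' (Subgroup.center (SL2 F)) (a * X * a⁻¹ * X⁻¹) = 1 :=
        (QuotientGroup.eq_one_iff _).2 h1
      rw [map_mul, map_mul, map_mul, map_inv, map_inv, mul_inv_eq_one, mul_inv_eq_iff_eq_mul] at h4
      exact h4
    have hnc : Subgroup.center (PSL2 F) = ⊥ := by
      rcases hsimple.eq_bot_or_eq_top_of_normal (Subgroup.center (PSL2 F)) inferInstance with h4 | h4
      · exact h4
      · exfalso
        have h5 : commutator (SL2 F) ≤ Subgroup.center (SL2 F) := by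
          rw [commutator_def, Subgroup.commutator_le]
          intro a _ b _
          have ha : (QuotientGroup.mk' (Subgroup.center (SL2 F)) a) ∈ Subgroup.center (PSL2 F) := by
            rw [h4]; trivial
          have h6 := Subgroup.mem_center_iff.1 ha (QuotientGroup.mk' (Subgroup.center (SL2 F)) b)
          rw [← QuotientGroup.eq_one_iff]
          change QuotientGroup.mk' (Subgroup.center (SL2 F)) (a * b * a⁻¹ * b⁻¹) = 1
          rw [map_mul, map_mul, map_mul, map_inv, map_inv, mul_inv_eq_one, mul_inv_eq_iff_eq_mul]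
          exact h6.symm
        rw [Cfsg.Agent.TwoFusion.SLTwoFacts.commutator_eq_top h3] at h5
        exact X_notMem_center h2 hX (h5 trivial)
    rw [hnc, Subgroup.mem_bot] at hc
    exact X_notMem_center h2 hX ((QuotientGroup.eq_one_iff _).1 hc)
  · exact h

/-- An element of `SL(2,F)` with square `-1`. -/
def ww (F : Type*) [Field F] : SL2 F := Cfsg.Agent.ClassicalGeometry.SLTwoFour.w

theorem even_card_psl [Fintype F] (hodd : Odd (Fintype.card F)) : 2 ∣ Nat.card (PSL2 F) := by
  have h2 : (2 : F) ≠ 0 := two_ne_zero_of_odd hodd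
  have hw : (ww F) * ww F = -1 := Cfsg.Agent.ClassicalGeometry.SLTwoFour.w_mul_self
  obtain ⟨h1, h3⟩ := (involution_iff (A := ww F) h2).2 (mulX_val hw)
  exact even_card_of h1 h3

/-- (T6) a normal subgroup of odd order of `SL(2,F)` is trivial. -/
theorem eq_bot_of_odd [Fintype F] (hodd : Odd (Fintype.card F)) (N : Subgroup (SL2 F)) (hN : N.Normal)
    (ho : Odd (Nat.card N)) : N = ⊥ := by
  have h2 : (2 : F) ≠ 0 := two_ne_zero_of_odd hodd
  have hcen : ∀ g ∈ N, (g = 1 ∨ g = -1) → g = 1 := by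
    rintro g hg (h | h)
    · exact h
    · exfalso
      exact orderOf_mem hg (by rw [h]; exact neg_one_ne_one h2) (by rw [h]; simp) ho
  rcases Nat.lt_or_ge 3 (Fintype.card F) with h3 | h3
  · rcases normal_cases h3 N hN with h | h
    · rw [Subgroup.eq_bot_iff_forall]
      intro g hg
      exact hcen g hg (mem_center.1 (h hg))
    · exfalso
      have h4 : Nat.card N = Nat.card (SL2 F) := by rw [h]; exact Subgroup.card_top
      have h5 : Nat.card (SL2 F) = Nat.card (PSL2 F) * Nat.card (Subgroup.center (SL2 F)) :=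
        Subgroup.card_eq_card_quotient_mul_card_subgroup _
      have h6 : 2 ∣ Nat.card N := by
        rw [h4, h5]; exact (even_card_psl hodd).mul_right _
      exact (Nat.not_even_iff_odd.2 ho) (even_iff_two_dvd.2 h6)
  · have hq : Fintype.card F = 3 := by
      have h1 := Fintype.one_lt_card (α := F)
      obtain ⟨m, hm⟩ := hodd
      omega
    have h24 : Nat.card (SL2 F) = 24 := Cfsg.Agent.TwoFusion.SLTwoFacts.card_eq_24 hq
    obtain ⟨⟨Q, hQn, hQi, -⟩, -⟩ := Cfsg.Agent.S0257.result hq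
    have hQ8 : Nat.card Q = 8 := by
      have := Q.card_mul_index
      rw [hQi, h24] at this
      omega
    -- `N ⊓ Q = 1`
    have hNQ : N ⊓ Q = ⊥ := by
      apply Disjoint.eq_bot
      apply Subgroup.disjoint_of_coprime_natCard
      rw [hQ8]
      exact Nat.Coprime.pow_right 3 (Nat.coprime_two_right.2 ho)
    have hcomm : ∀ n ∈ N, ∀ g ∈ Q, n * g = g * n := by
      intro n hn g hg
      have h1 : n * g * n⁻¹ * g⁻¹ ∈ N ⊓ Q := by
        refine ⟨?_, Subgroup.mul_mem _ (hQn.conj_mem g hg n) (Subgroup.inv_mem _ hg)⟩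
        have e : n * g * n⁻¹ * g⁻¹ = n * (g * n⁻¹ * g⁻¹) := by group
        rw [e]
        exact Subgroup.mul_mem _ hn (hN.conj_mem _ (Subgroup.inv_mem _ hn) g)
      rw [hNQ, Subgroup.mem_bot, mul_inv_eq_one, mul_inv_eq_iff_eq_mul] at h1
      exact h1
    -- all elements of order four are in `Q`
    have hmemQ : ∀ g : SL2 F, g * g = -1 → g ∈ Q := by
      intro g hg
      have h8 : g ^ 4 = 1 := by
        rw [show (4 : ℕ) = 2 * 2 by norm_num, pow_mul, sq g, hg]
        simp
      rw [← QuotientGroup.eq_one_iff]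
      have h1 : (QuotientGroup.mk g : SL2 F ⧸ Q) ^ 4 = 1 := by
        rw [← QuotientGroup.mk_pow, h8]; rfl
      have h4 : (QuotientGroup.mk g : SL2 F ⧸ Q) ^ 3 = 1 := by
        have h5 : Nat.card (SL2 F ⧸ Q) = 3 := hQi
        rw [← h5]
        exact pow_card_eq_one'
      rw [show (4 : ℕ) = 3 + 1 by norm_num, pow_succ, h4, one_mul] at h1
      exact h1
    have hw : (ww F) * ww F = -1 := Cfsg.Agent.ClassicalGeometry.SLTwoFour.w_mul_self
    obtain ⟨y, hy⟩ : ∃ y : SL2 F, y * ww F = -ww F * y :=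
      Cfsg.Agent.ClassicalGeometry.SLTwoFour.exists_inverting (F := F) hodd
    have hyX : y * ww F * y⁻¹ = (ww F)⁻¹ := by
      rw [mul_inv_eq_iff_eq_mul, inv_eq_neg hw]; exact hy
    rw [Subgroup.eq_bot_iff_forall]
    intro n hn
    exact hcen n hn (eq_one_or_neg_one_of_comm hw hyX h2 (hcomm n hn _ (hmemQ _ hw))
      (hcomm n hn _ (hmemQ _ (y_sq hw hyX h2))))

/-! ### (T2) -/

/-- The centralizer of an involution of a dihedral maximal subgroup (of even parameter) of a simple group. -/
theorem isCoatom_centralizer_of {G : Type*} [Group G] [IsSimpleGroup G] (hnc : ∃ a b : G, a * b ≠ b * a) {n : ℕ}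
    (hn : 0 < n) {H : Subgroup G} (hH : IsCoatom H) (e : H ≃* DihedralGroup (2 * n)) :
    ∃ w : G, w ≠ 1 ∧ w * w = 1 ∧ IsCoatom (Subgroup.centralizer ({w} : Set G)) := by
  have hne : ((n : ℕ) : ZMod (2 * n)) ≠ 0 := by
    intro h
    rw [ZMod.natCast_eq_zero_iff] at h
    have := Nat.le_of_dvd hn h
    omega
  have hnn : ((n : ℕ) : ZMod (2 * n)) + ((n : ℕ) : ZMod (2 * n)) = 0 := by
    rw [← Nat.cast_add, ← two_mul, ZMod.natCast_self]
  set r : DihedralGroup (2 * n) := DihedralGroup.r ((n : ℕ) : ZMod (2 * n)) with hr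
  have hr1 : r ≠ 1 := by
    intro h
    exact hne (DihedralGroup.r.inj h)
  have hr2 : r * r = 1 := by
    rw [hr, DihedralGroup.r_mul_r, hnn]; rfl
  have hrc : ∀ g : DihedralGroup (2 * n), g * r = r * g := by
    rintro (i | i)
    · rw [hr, DihedralGroup.r_mul_r, DihedralGroup.r_mul_r, add_comm]
    · rw [hr, DihedralGroup.sr_mul_r, DihedralGroup.r_mul_sr]
      congr 1
      linear_combination hnn
  set w : H := e.symm r with hw
  have hw1 : w ≠ 1 := by
    intro h
    apply hr1
    rw [← e.apply_symm_apply r, ← hw, h, map_one]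
  have hw2 : w * w = 1 := by
    rw [hw, ← map_mul, hr2, map_one]
  have hwc : ∀ g : H, g * w = w * g := by
    intro g
    apply e.injective
    rw [map_mul, map_mul, hw, e.apply_symm_apply, hrc]
  refine ⟨w, fun h => hw1 (Subtype.ext h), by have := congrArg Subtype.val hw2; exact this, ?_⟩
  have hle : H ≤ Subgroup.centralizer ({(w : G)} : Set G) := by
    intro g hg
    rw [Subgroup.mem_centralizer_singleton_iff]
    exact congrArg Subtype.val (hwc ⟨g, hg⟩)
  rcases hle.eq_or_lt with h | h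
  · rw [← h]; exact hH
  · exfalso
    have htop := hH.2 _ h
    have hwcen : (w : G) ∈ Subgroup.center G := by
      rw [Subgroup.mem_center_iff]
      intro g
      have : g ∈ Subgroup.centralizer ({(w : G)} : Set G) := by rw [htop]; trivial
      exact Subgroup.mem_centralizer_singleton_iff.1 this
    rcases IsSimpleGroup.eq_bot_or_eq_top_of_normal (Subgroup.center G) inferInstance with h4 | h4
    · rw [h4, Subgroup.mem_bot] at hwcen
      exact hw1 (Subtype.ext hwcen)
    · obtain ⟨a, b, hab⟩ := hnc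
      apply hab
      have hb : b ∈ Subgroup.center G := by rw [h4]; trivial
      exact Subgroup.mem_center_iff.1 hb a

theorem isCoatom_centralizer_conj {G : Type*} [Group G] {w v : G} (h : IsCoatom (Subgroup.centralizer ({w} : Set G)))
    (hc : IsConj w v) : IsCoatom (Subgroup.centralizer ({v} : Set G)) := by
  obtain ⟨g, hg⟩ := isConj_iff.1 hc
  have e : (MulAut.conj g).mapSubgroup (Subgroup.centralizer ({w} : Set G)) = Subgroup.centralizer ({v} : Set G) := by
    ext x
    rw [MulEquiv.coe_mapSubgroup, Subgroup.mem_map_equiv, Subgroup.mem_centralizer_singleton_iff,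
      Subgroup.mem_centralizer_singleton_iff, MulAut.conj_symm_apply, ← hg]
    constructor
    · intro h1
      calc x * (g * w * g⁻¹) = g * ((g⁻¹ * x * g) * w) * g⁻¹ := by group
        _ = g * (w * (g⁻¹ * x * g)) * g⁻¹ := by rw [h1]
        _ = _ := by group
    · intro h1
      calc (g⁻¹ * x * g) * w = g⁻¹ * (x * (g * w * g⁻¹)) * g := by group
        _ = g⁻¹ * ((g * w * g⁻¹) * x) * g := by rw [h1]
        _ = _ := by group
  rw [← e]
  exact ((MulAut.conj g).mapSubgroup.isCoatom_iff _).2 h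

theorem psl_noncomm [Fintype F] (h3 : 3 < Fintype.card F) : ∃ a b : PSL2 F, a * b ≠ b * a := by
  by_contra hcon
  push Not at hcon
  have h5 : commutator (SL2 F) ≤ Subgroup.center (SL2 F) := by
    rw [commutator_def, Subgroup.commutator_le]
    intro a _ b _
    have h6 := hcon (QuotientGroup.mk' (Subgroup.center (SL2 F)) a) (QuotientGroup.mk' (Subgroup.center (SL2 F)) b)
    rw [← QuotientGroup.eq_one_iff]
    change QuotientGroup.mk' (Subgroup.center (SL2 F)) (a * b * a⁻¹ * b⁻¹) = 1
    rw [map_mul, map_mul, map_mul, map_inv, map_inv, mul_inv_eq_one, mul_inv_eq_iff_eq_mul]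
    exact h6
  rw [Cfsg.Agent.TwoFusion.SLTwoFacts.commutator_eq_top h3] at h5
  have hsimple : IsSimpleGroup (PSL2 F) := Cfsg.Agent.TwoFusion.SLTwoFacts.isSimpleGroup_psl h3
  obtain ⟨g, hg⟩ := exists_ne (1 : PSL2 F)
  obtain ⟨a, rfl⟩ := QuotientGroup.mk'_surjective (Subgroup.center (SL2 F)) g
  exact hg ((QuotientGroup.eq_one_iff _).2 (h5 trivial))

theorem isCoatom_centralizer_mk [Fintype F] (hodd : Odd (Fintype.card F)) (h3 : Fintype.card F ≠ 3)
    (h5 : Fintype.card F ≠ 5) (h7 : Fintype.card F ≠ 7) (h9 : Fintype.card F ≠ 9) {X : SL2 F} (hX : X * X = -1) :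
    IsCoatom (Subgroup.centralizer ({mk X} : Set (PSL2 F))) := by
  have h2 : (2 : F) ≠ 0 := two_ne_zero_of_odd hodd
  have h1 := Fintype.one_lt_card (α := F)
  have hq : 11 ≤ Fintype.card F := by
    obtain ⟨m, hm⟩ := hodd
    omega
  have hsimple : IsSimpleGroup (PSL2 F) := Cfsg.Agent.TwoFusion.SLTwoFacts.isSimpleGroup_psl (by omega)
  have hgcd : Nat.gcd 2 (Fintype.card F - 1) = 2 := by
    apply Nat.gcd_eq_left
    obtain ⟨m, hm⟩ := hodd
    exact ⟨m, by omega⟩
  obtain ⟨w, hw1, hw2, hwc⟩ : ∃ w : PSL2 F, w ≠ 1 ∧ w * w = 1 ∧ IsCoatom (Subgroup.centralizer ({w} : Set (PSL2 F))) := by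
    rcases Nat.odd_mod_four_iff.1 (Nat.odd_iff.1 hodd) with h4 | h4
    · obtain ⟨H, hH, ⟨e⟩⟩ := Cfsg.Agent.S0812.result (F := F) rfl (by
        simp only [Finset.mem_insert, Finset.mem_singleton]
        omega)
      rw [hgcd] at e
      have h6 : (Fintype.card F - 1) / 2 = 2 * ((Fintype.card F - 1) / 4) := by omega
      rw [h6] at e
      exact isCoatom_centralizer_of (psl_noncomm (by omega)) (by omega) hH e
    · obtain ⟨H, hH, ⟨e⟩⟩ := Cfsg.Agent.S0811.result (F := F) rfl (by
        simp only [Finset.mem_insert, Finset.mem_singleton]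
        omega)
      rw [hgcd] at e
      have h6 : (Fintype.card F + 1) / 2 = 2 * ((Fintype.card F + 1) / 4) := by omega
      rw [h6] at e
      exact isCoatom_centralizer_of (psl_noncomm (by omega)) (by omega) hH e
  obtain ⟨h8, h10⟩ := (involution_iff (A := X) h2).2 (mulX_val hX)
  exact isCoatom_centralizer_conj hwc (psl_isConj hodd _ _
    (orderOf_eq_prime (by rw [sq]; exact hw2) hw1) (orderOf_eq_prime (by rw [sq]; exact h10) h8))

theorem smul_one_eq_zero {a : F} (h : a • (1 : Matrix (Fin 2) (Fin 2) F) = 0) : a = 0 := by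
  have := congrFun (congrFun h 0) 0
  simpa using this

theorem lin_plus (h2 : (2 : F) ≠ 0) {A B : Matrix (Fin 2) (Fin 2) F} (hA : A * A = -1) (hB : B * B = -1)
    (hBA : B * A = -(A * B)) {a c : F}
    (h : (a • (1 : Matrix (Fin 2) (Fin 2) F) + c • B) * A = A * (a • (1 : Matrix (Fin 2) (Fin 2) F) + c • B)) :
    c = 0 := by
  rw [Matrix.mul_add, Matrix.add_mul, Matrix.mul_smul, Matrix.mul_smul, Matrix.smul_mul, Matrix.smul_mul, hBA,
    Matrix.mul_one, Matrix.one_mul] at h
  have h1 := add_left_cancel h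
  have h3 : (2 * c) • (A * B) = 0 := by
    rw [two_mul, add_smul]
    nth_rewrite 1 [← h1]
    rw [smul_neg]
    exact neg_add_cancel _
  have h4 : (A * B) * (B * A) = 1 := by
    rw [Matrix.mul_assoc, ← Matrix.mul_assoc B B A, hB, neg_mul, Matrix.one_mul, mul_neg, hA, neg_neg]
  have h5 : (2 * c) • (1 : Matrix (Fin 2) (Fin 2) F) = 0 := by
    rw [← h4, ← Matrix.smul_mul, h3, Matrix.zero_mul]
  exact (mul_eq_zero.1 (smul_one_eq_zero h5)).resolve_left h2

theorem lin_minus (h2 : (2 : F) ≠ 0) {A B : Matrix (Fin 2) (Fin 2) F} (hA : A * A = -1)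
    (hBA : B * A = -(A * B)) {a c : F}
    (h : (a • (1 : Matrix (Fin 2) (Fin 2) F) + c • B) * A = -(A * (a • (1 : Matrix (Fin 2) (Fin 2) F) + c • B))) :
    a = 0 := by
  rw [Matrix.mul_add, Matrix.add_mul, Matrix.mul_smul, Matrix.mul_smul, Matrix.smul_mul, Matrix.smul_mul, hBA,
    Matrix.mul_one, Matrix.one_mul, neg_add, smul_neg] at h
  have h1 := add_right_cancel h
  have h3 : (2 * a) • A = 0 := by
    rw [two_mul, add_smul]
    nth_rewrite 1 [h1]
    exact neg_add_cancel _
  have h5 : (2 * a) • (1 : Matrix (Fin 2) (Fin 2) F) = 0 := by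
    have h6 : ((2 * a) • A) * A = 0 := by rw [h3, Matrix.zero_mul]
    rw [Matrix.smul_mul, hA, smul_neg, neg_eq_zero] at h6
    exact h6
  exact (mul_eq_zero.1 (smul_one_eq_zero h5)).resolve_left h2

/-- (T2) -/
theorem closure_centralizers [Fintype F] (hodd : Odd (Fintype.card F)) (h3 : Fintype.card F ≠ 3)
    (h5 : Fintype.card F ≠ 5) (h7 : Fintype.card F ≠ 7) (h9 : Fintype.card F ≠ 9) {X y : SL2 F} (hX : X * X = -1)
    (hyX : y * X * y⁻¹ = X⁻¹) :
    Subgroup.closure ({g : SL2 F | g * X = X * g} ∪ {g : SL2 F | g * y = y * g}) = ⊤ := by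
  classical
  have h2 : (2 : F) ≠ 0 := two_ne_zero_of_odd hodd
  have h1 := Fintype.one_lt_card (α := F)
  have hq : 11 ≤ Fintype.card F := by
    obtain ⟨m, hm⟩ := hodd
    omega
  have hyy := y_sq hX hyX h2
  set K := Subgroup.closure ({g : SL2 F | g * X = X * g} ∪ {g : SL2 F | g * y = y * g}) with hK
  have hKX : ∀ g : SL2 F, g * X = X * g → g ∈ K := fun g hg => Subgroup.subset_closure (Or.inl hg)
  have hKy : ∀ g : SL2 F, g * y = y * g → g ∈ K := fun g hg => Subgroup.subset_closure (Or.inr hg)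
  have hyK : y ∈ K := hKy y rfl
  have hneg : (-1 : SL2 F) ∈ K := hKX _ (by rw [neg_mul, one_mul, mul_neg, mul_one])
  -- elements commuting with `X` up to sign are in `K`
  have hpm : ∀ g : SL2 F, g * X = -(X * g) → g ∈ K := by
    intro g hg
    have h4 : y * X = -(X * y) := by rw [y_mul_X hX hyX, neg_mul]
    have h6 : y * g ∈ K := hKX _ (by
      rw [mul_assoc, hg, mul_neg, ← mul_assoc, h4, neg_mul, neg_neg, mul_assoc])
    have h8 : g = y⁻¹ * (y * g) := by group
    rw [h8]
    exact mul_mem (inv_mem hyK) h6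
  have hle : Subgroup.centralizer ({mk X} : Set (PSL2 F)) ≤ K.map (QuotientGroup.mk' (Subgroup.center (SL2 F))) := by
    intro g hg
    obtain ⟨a, rfl⟩ := QuotientGroup.mk'_surjective (Subgroup.center (SL2 F)) g
    rw [Subgroup.mem_centralizer_singleton_iff] at hg
    refine ⟨a, ?_, rfl⟩
    have h4 : mk (a * X) = mk (X * a) := hg
    rcases mk_eq_mk.1 h4 with h6 | h6
    · exact hKX a h6
    · exact hpm a h6
  have hK' : ∀ g : SL2 F, mk g ∈ K.map (QuotientGroup.mk' (Subgroup.center (SL2 F))) → g ∈ K := by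
    rintro g ⟨a, ha, hag⟩
    have h4 : mk a = mk g := hag
    rcases mk_eq_mk.1 h4 with h6 | h6
    · rw [← h6]; exact ha
    · have h8 : g = (-1) * a := by rw [h6]; simp
      rw [h8]
      exact mul_mem hneg ha
  have hco := isCoatom_centralizer_mk hodd h3 h5 h7 h9 hX
  rcases hle.eq_or_lt with h | h
  · exfalso
    -- a point `(a, c)` on the circle with `a c ≠ 0`
    obtain ⟨r, hr⟩ : ∃ r : F, r ≠ 0 ∧ 1 + r ^ 2 ≠ 0 ∧ 1 - r ^ 2 ≠ 0 := by
      by_contra hcon
      push Not at hcon
      let P : Polynomial F := Polynomial.X * (1 + Polynomial.X ^ 2) * (1 - Polynomial.X ^ 2)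
      have hP0 : P ≠ 0 := by
        intro hP
        have := congrArg (fun p : Polynomial F => p.coeff 1) hP
        have e : P = Polynomial.X - Polynomial.X ^ 5 := by
          simp only [P]; ring
        simp only [e] at this
        simp [Polynomial.coeff_X] at this
      have hroot : ∀ r : F, P.IsRoot r := by
        intro r
        simp only [P, Polynomial.IsRoot.def, Polynomial.eval_mul, Polynomial.eval_X, Polynomial.eval_add,
          Polynomial.eval_one, Polynomial.eval_pow, Polynomial.eval_sub]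
        by_cases h0 : r = 0
        · rw [h0]; ring
        by_cases h4 : 1 + r ^ 2 = 0
        · rw [h4]; ring
        rw [hcon r h0 h4, mul_zero]
      have hsub : (Finset.univ : Finset F) ⊆ P.roots.toFinset := by
        intro r _
        rw [Multiset.mem_toFinset, Polynomial.mem_roots hP0]
        exact hroot r
      have hcard : Fintype.card F ≤ P.natDegree := by
        calc Fintype.card F = (Finset.univ : Finset F).card := Finset.card_univ.symm
          _ ≤ P.roots.toFinset.card := Finset.card_le_card hsub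
          _ ≤ Multiset.card P.roots := Multiset.toFinset_card_le _
          _ ≤ P.natDegree := Polynomial.card_roots' _
      have hdeg : P.natDegree ≤ 5 := by
        have e : P = Polynomial.X - Polynomial.X ^ 5 := by
          simp only [P]; ring
        rw [e]
        refine (Polynomial.natDegree_sub_le _ _).trans ?_
        simp
      omega
    obtain ⟨hr0, hr1, hr2⟩ := hr
    set a := (1 - r ^ 2) / (1 + r ^ 2) with ha
    set c := 2 * r / (1 + r ^ 2) with hc
    have hac : a ^ 2 + c ^ 2 = 1 := by rw [ha, hc]; field_simp; ring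
    have ha0 : a ≠ 0 := div_ne_zero hr2 hr1
    have hc0 : c ≠ 0 := div_ne_zero (mul_ne_zero h2 hr0) hr1
    have hg : mk (ab hyy a c hac) ∈ Subgroup.centralizer ({mk X} : Set (PSL2 F)) := by
      rw [h]
      exact ⟨_, hKy _ (ab_mul_X hyy hac), rfl⟩
    rw [Subgroup.mem_centralizer_singleton_iff] at hg
    have h4 : mk (ab hyy a c hac * X) = mk (X * ab hyy a c hac) := hg
    have hyX' := yX_val hX hyX
    rcases mk_eq_mk.1 h4 with h6 | h6
    · have h8 := congrArg Subtype.val h6
      exact hc0 (lin_plus h2 (mulX_val hX) (mulX_val hyy) hyX' h8)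
    · have h8 := congrArg Subtype.val h6
      exact ha0 (lin_minus h2 (mulX_val hX) hyX' h8)
  · have htop := hco.2 _ h
    rw [eq_top_iff]
    intro g _
    apply hK'
    rw [htop]
    trivial

end Cfsg.Agent.SylowSp4.SLGen
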