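import Cfsg.Agent.SylowSp4.Coord

/-!
# Type `PSp_4(q)`, `q` odd: the subgroup attached to coordinates, its base group, transport of coordinates
-/

set_option autoImplicit false

namespace Cfsg.Agent.SylowSp4.Base

open Cfsg.Agent.SylowSp4.Coord

/-! ### The subgroup attached to coordinates -/

section Abstract

variable {G : Type*} [Group G]

/-- Coordinates define a subgroup. -/
theorem exists_TSp {k : ℕ} (hk : 1 ≤ k) {f : Q k → Q k → G} {s : G}
    (f_mul : ∀ a b c d, f a b * f c d = f (a * c) (b * d)) (f_zz : f (z k) (z k) = 1)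
    (f_inj : ∀ a b c d, f a b = f c d → (a = c ∧ b = d) ∨ (a = z k * c ∧ b = z k * d))
    (s_s : s * s = 1) (s_f : ∀ a b, s * f a b = f b a * s) (s_ne : ∀ a b, s ≠ f a b) :
    ∃ S : Subgroup G, TSp S k f s := by
  have f_one : f 1 1 = 1 := by
    have h1 := f_mul 1 1 1 1
    rw [one_mul] at h1
    exact mul_eq_left.1 h1
  have f_inv : ∀ a b, (f a b)⁻¹ = f a⁻¹ b⁻¹ := fun a b => by
    apply inv_eq_of_mul_eq_one_left
    rw [f_mul, inv_mul_cancel, inv_mul_cancel, f_one]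
  have s_inv : s⁻¹ = s := inv_eq_of_mul_eq_one_left s_s
  refine ⟨{ carrier := {g | (∃ a b, g = f a b) ∨ ∃ a b, g = f a b * s}
            mul_mem' := ?_
            one_mem' := ?_
            inv_mem' := ?_ }, hk, f_mul, f_zz, f_inj, s_s, s_f, s_ne, fun g => Iff.rfl⟩
  · rintro _ _ (⟨a, b, rfl⟩ | ⟨a, b, rfl⟩) (⟨c, d, rfl⟩ | ⟨c, d, rfl⟩)
    · exact Or.inl ⟨_, _, f_mul _ _ _ _⟩
    · exact Or.inr ⟨a * c, b * d, by rw [← mul_assoc, f_mul]⟩
    · exact Or.inr ⟨a * d, b * c, by rw [mul_assoc, s_f, ← mul_assoc, f_mul]⟩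
    · refine Or.inl ⟨a * d, b * c, ?_⟩
      rw [mul_assoc, ← mul_assoc s, s_f, mul_assoc, s_s, mul_one, f_mul]
  · exact Or.inl ⟨1, 1, f_one.symm⟩
  · rintro _ (⟨a, b, rfl⟩ | ⟨a, b, rfl⟩)
    · exact Or.inl ⟨_, _, f_inv _ _⟩
    · refine Or.inr ⟨b⁻¹, a⁻¹, ?_⟩
      rw [_root_.mul_inv_rev, f_inv, s_inv, s_f]

variable {S : Subgroup G} {k : ℕ} {f : Q k → Q k → G} {s : G}

/-- The base group as a homomorphism. -/
def baseHom (h : TSp S k f s) : Q k × Q k →* G where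
  toFun p := f p.1 p.2
  map_one' := h.f_one
  map_mul' _ _ := (h.f_mul _ _ _ _).symm

/-- The base group `R = Q ∘ Q`. -/
def base (h : TSp S k f s) : Subgroup G := (baseHom h).range

theorem mem_base (h : TSp S k f s) {g : G} : g ∈ base h ↔ ∃ a b, g = f a b := by
  constructor
  · rintro ⟨⟨a, b⟩, rfl⟩
    exact ⟨a, b, rfl⟩
  · rintro ⟨a, b, rfl⟩
    exact ⟨(a, b), rfl⟩

theorem base_le (h : TSp S k f s) : base h ≤ S := by
  intro g hg
  obtain ⟨a, b, rfl⟩ := (mem_base h).1 hg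
  exact h.f_mem a b

instance (k : ℕ) : NeZero (2 ^ k) := ⟨by positivity⟩

theorem card_ker (h : TSp S k f s) : Nat.card (baseHom h).ker = 2 := by
  have hset : ((baseHom h).ker : Set (Q k × Q k)) = {1, (z k, z k)} := by
    ext ⟨a, b⟩
    simp only [SetLike.mem_coe, MonoidHom.mem_ker, Set.mem_insert_iff, Set.mem_singleton_iff, Prod.mk_eq_one,
      Prod.mk.injEq]
    change f a b = 1 ↔ _
    rw [← h.f_one, h.f_eq_iff, mul_one]
  have h1 : Nat.card (baseHom h).ker = Nat.card ((baseHom h).ker : Set (Q k × Q k)) := rfl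
  rw [h1, hset, Nat.card_coe_set_eq, Set.ncard_pair]
  intro h2
  exact z_ne_one (Prod.mk.inj h2).1.symm

theorem card_base (h : TSp S k f s) : Nat.card (base h) = 2 ^ (2 * k + 3) := by
  have h1 := (baseHom h).ker.card_mul_index
  rw [Subgroup.index_ker, card_ker, Nat.card_prod, card_Q] at h1
  have h2 : 2 ^ (k + 2) * 2 ^ (k + 2) = 2 * 2 ^ (2 * k + 3) := by
    rw [← pow_add, ← pow_succ']
    congr 1
    ring
  rw [h2] at h1
  exact Nat.eq_of_mul_eq_mul_left (by norm_num) h1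

theorem relIndex_base (h : TSp S k f s) : (base h).relIndex S = 2 := by
  rw [Subgroup.relIndex, Subgroup.index_eq_two_iff]
  refine ⟨⟨s, h.s_mem⟩, ?_⟩
  rintro ⟨g, hg⟩
  rw [Subgroup.mem_subgroupOf, Subgroup.mem_subgroupOf, mem_base, mem_base]
  change Xor (∃ a b, g * s = f a b) (∃ a b, g = f a b)
  rcases (h.mem_iff g).1 hg with ⟨a, b, rfl⟩ | ⟨a, b, rfl⟩
  · right
    refine ⟨⟨a, b, rfl⟩, ?_⟩
    rintro ⟨c, d, hcd⟩
    exact h.fs_ne _ _ _ _ hcd
  · left
    refine ⟨⟨a, b, by rw [mul_assoc, h.s_s, mul_one]⟩, ?_⟩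
    rintro ⟨c, d, hcd⟩
    exact h.fs_ne _ _ _ _ hcd

theorem card_eq (h : TSp S k f s) : Nat.card S = 2 ^ (2 * k + 4) := by
  have h1 := Subgroup.relIndex_mul_relIndex ⊥ (base h) S bot_le (base_le h)
  rw [Subgroup.relIndex_bot_left, Subgroup.relIndex_bot_left, relIndex_base, card_base] at h1
  rw [← h1, ← pow_succ]

/-- Transport of the coordinates along an isomorphism. -/
theorem transport (h : TSp S k f s) {G' : Type*} [Group G'] {S' : Subgroup G'} (e : S ≃* S') :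
    ∃ (f' : Q k → Q k → G') (s' : G'), TSp S' k f' s' := by
  refine ⟨fun a b => (e ⟨f a b, h.f_mem a b⟩ : G'), (e ⟨s, h.s_mem⟩ : G'), h.hk, ?_, ?_, ?_, ?_, ?_, ?_, ?_⟩
  · intro a b c d
    rw [← Subgroup.coe_mul, ← map_mul]
    congr 2
    exact Subtype.ext (h.f_mul a b c d)
  · have h1 : (⟨f (z k) (z k), h.f_mem _ _⟩ : S) = 1 := Subtype.ext h.f_zz
    rw [h1, map_one, Subgroup.coe_one]
  · intro a b c d hh
    have h1 := e.injective (Subtype.ext hh)
    exact h.f_inj a b c d (congrArg Subtype.val h1)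
  · rw [← Subgroup.coe_mul, ← map_mul]
    have h1 : (⟨s, h.s_mem⟩ * ⟨s, h.s_mem⟩ : S) = 1 := Subtype.ext h.s_s
    rw [h1, map_one, Subgroup.coe_one]
  · intro a b
    rw [← Subgroup.coe_mul, ← map_mul, ← Subgroup.coe_mul, ← map_mul]
    congr 2
    exact Subtype.ext (h.s_f a b)
  · intro a b hh
    have h1 := e.injective (Subtype.ext hh)
    exact h.s_ne a b (congrArg Subtype.val h1)
  · intro g
    constructor
    · intro hg
      obtain ⟨⟨x, hx⟩, hxg⟩ := e.surjective ⟨g, hg⟩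
      have hxg' : ((e ⟨x, hx⟩ : S') : G') = g := by rw [hxg]
      rcases (h.mem_iff x).1 hx with ⟨a, b, rfl⟩ | ⟨a, b, rfl⟩
      · exact Or.inl ⟨a, b, hxg'.symm⟩
      · refine Or.inr ⟨a, b, ?_⟩
        rw [← hxg', ← Subgroup.coe_mul, ← map_mul]
        rfl
    · rintro (⟨a, b, rfl⟩ | ⟨a, b, rfl⟩)
      · exact (e _).2
      · exact S'.mul_mem (e _).2 (e _).2

end Abstract

end Cfsg.Agent.SylowSp4.Base
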