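import Cfsg.Agent.SylowSp4.Hyps
import Cfsg.Agent.TwoFusion.QuatQuotient
import Cfsg.Agent.TwoFusion.QuatCoverSL

/-!
# Perfect core-free groups with quaternion Sylow 2-subgroups and a central involution
-/

set_option autoImplicit false

namespace Cfsg.Agent.SylowSp4.QuatId

open Subgroup

universe u

/-- the order of a Sylow 2-subgroup of `A₇` is 8 -/
theorem card_sylow_A7 (P : Sylow 2 (alternatingGroup (Fin 7))) : Nat.card P = 8 := by
  have : Fact (Nat.Prime 2) := ⟨Nat.prime_two⟩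
  have h1 : Nat.card (alternatingGroup (Fin 7)) = 2520 := by
    rw [nat_card_alternatingGroup, Nat.card_fin]
    decide
  have h2 := P.card_mul_index
  have h3 := P.not_dvd_index
  obtain ⟨n, hn⟩ := IsPGroup.iff_card.1 P.isPGroup'
  have h4 : (2520 : ℕ) = 8 * 315 := by norm_num
  rw [h1, h4] at h2
  have h5 : Nat.card P ∣ 8 := by
    have h6 : Nat.card P ∣ 8 * 315 := ⟨_, h2.symm⟩
    refine Nat.Coprime.dvd_of_dvd_mul_right ?_ h6
    rw [hn]
    exact Nat.Coprime.pow_left n (by norm_num)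
  have h7 : 8 ∣ Nat.card P := by
    have h8 : (8 : ℕ) ∣ Nat.card P * (P : Subgroup (alternatingGroup (Fin 7))).index := ⟨315, h2⟩
    refine Nat.Coprime.dvd_of_dvd_mul_right ?_ h8
    have h9 : Nat.Coprime 2 (P : Subgroup (alternatingGroup (Fin 7))).index :=
      (Nat.Prime.coprime_iff_not_dvd Nat.prime_two).2 h3
    exact Nat.Coprime.pow_left 3 h9
  exact Nat.dvd_antisymm h5 h7

/-- A perfect group `N` with `O(N) = 1`, a central involution `t` and generalized quaternion Sylow 2-subgroups of order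
`2 ^ (k + 2)` is `SL(2, F)`, or `k = 2` and `N / ⟨t⟩` is `A₇`. -/
theorem exists_sl (hGW : Hyps.GW.{u}) {N : Type u} [Group N] [Finite N] (hO : Cfsg.oddCore N = ⊥)
    (hperf : commutator N = ⊤) (P : Sylow 2 N) {k : ℕ} (hk : 1 ≤ k) (e : (P : Subgroup N) ≃* QuaternionGroup (2 ^ k))
    {t : N} (ht : orderOf t = 2) (htc : t ∈ center N) [hn : (zpowers t).Normal] :
    (∃ (F : Type) (_ : Field F) (_ : Fintype F), Odd (Fintype.card F) ∧
        Nonempty (N ≃* Matrix.SpecialLinearGroup (Fin 2) F)) ∨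
      (k = 2 ∧ Nonempty (N ⧸ zpowers t ≃* alternatingGroup (Fin 7))) := by
  have hfact : Fact (Nat.Prime 2) := ⟨Nat.prime_two⟩
  have hOX : Cfsg.oddCore (N ⧸ zpowers t) = ⊥ :=
    Cfsg.Agent.TwoFusion.QuatQuotient.oddCore_quotient_eq_bot hO t htc ht
  have hsurj := QuotientGroup.mk'_surjective (zpowers t)
  have hperfX : Group.IsPerfect (N ⧸ zpowers t) := by
    rw [Group.isPerfect_def]
    have h1 : (commutator N).map (QuotientGroup.mk' (zpowers t)) = commutator (N ⧸ zpowers t) := by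
      rw [commutator_def, commutator_def, Subgroup.map_commutator, ← MonoidHom.range_eq_map,
        MonoidHom.range_eq_top.2 hsurj]
    rw [← h1, hperf, ← MonoidHom.range_eq_map, MonoidHom.range_eq_top.2 hsurj]
  obtain ⟨e1⟩ := Cfsg.Agent.TwoFusion.QuatQuotient.sylow_quotient t ht P k e
  have h2k : 2 ≤ 2 ^ k := by
    calc 2 = 2 ^ 1 := by norm_num
      _ ≤ 2 ^ k := Nat.pow_le_pow_right (by norm_num) hk
  have e2 : (N ⧸ zpowers t) ⧸ Cfsg.oddCore (N ⧸ zpowers t) ≃* (N ⧸ zpowers t) :=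
    (QuotientGroup.quotientMulEquivOfEq hOX).trans QuotientGroup.quotientBot
  rcases hGW (N ⧸ zpowers t) _ (2 ^ k) h2k ⟨e1⟩ with ⟨F, hF1, hF2, hodd, -, ⟨φ⟩⟩ | ⟨⟨φ⟩⟩
  · left
    exact ⟨F, hF1, hF2, hodd, Cfsg.Agent.TwoFusion.QuatCoverSL.mulEquiv_sl_two t htc ht P k hk e hodd
      (e2.symm.trans φ)⟩
  · right
    have e3 := e2.symm.trans φ
    refine ⟨?_, ⟨e3⟩⟩
    set S := (P.mapSurjective hsurj : Sylow 2 (N ⧸ zpowers t)) with hS
    have h3 : Nat.card (S : Subgroup (N ⧸ zpowers t)) = 2 * 2 ^ k := by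
      rw [Nat.card_congr e1.toEquiv, DihedralGroup.nat_card]
    have h4 := card_sylow_A7 (S.mapSurjective (f := e3.toMonoidHom) e3.surjective)
    have h5 : Nat.card (S.mapSurjective (f := e3.toMonoidHom) e3.surjective) = Nat.card (S : Subgroup (N ⧸ zpowers t)) := by
      change Nat.card ((S : Subgroup (N ⧸ zpowers t)).map e3.toMonoidHom) = _
      exact Subgroup.card_map_of_injective e3.injective
    rw [h5, h3] at h4
    have h6 : 2 ^ k = 2 ^ 2 := by omega
    exact Nat.pow_right_injective (le_refl 2) h6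

end Cfsg.Agent.SylowSp4.QuatId
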