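import Cfsg.Agent.SylowSp4.Hyps
import Cfsg.Agent.TwoFusion.QuatQuotient
import Cfsg.Agent.Lib.SylowNormalInf

/-!
# Two commuting strongly closed subgroups meeting in a central involution

`R = Q₁ Q₂` is a Sylow 2-subgroup of `K`, `O(K) = 1`, `[Q₁, Q₂] = 1`, `Q₁ ∩ Q₂ = ⟨t⟩` with `t` a central involution of
`K`, and `Q₁`, `Q₂` are strongly closed in `R`.  Then the normal closures `N₁`, `N₂` commute, `N₁ ∩ N₂ = ⟨t⟩` and
`N_i ∩ R = Q_i`.
-/

set_option autoImplicit false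

namespace Cfsg.Agent.SylowSp4.Split

open Subgroup

universe u

structure Fam {K : Type*} [Group K] (R : Sylow 2 K) (Q1 Q2 : Subgroup K) (t : K) : Prop where
  hO : Cfsg.oddCore K = ⊥
  tt : t * t = 1
  t1 : t ≠ 1
  tc : ∀ g, g * t = t * g
  t1m : t ∈ Q1
  t2m : t ∈ Q2
  comm : ∀ a ∈ Q1, ∀ b ∈ Q2, a * b = b * a
  inf : ∀ a ∈ Q1, a ∈ Q2 → a = 1 ∨ a = t
  prod : ∀ r ∈ R, ∃ a ∈ Q1, ∃ b ∈ Q2, r = a * b
  le1 : Q1 ≤ R
  le2 : Q2 ≤ R
  c1 : ∀ a ∈ Q1, ∀ g, g * a * g⁻¹ ∈ R → g * a * g⁻¹ ∈ Q1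
  c2 : ∀ a ∈ Q2, ∀ g, g * a * g⁻¹ ∈ R → g * a * g⁻¹ ∈ Q2

namespace Fam

variable {K : Type u} [Group K] {R : Sylow 2 K} {Q1 Q2 : Subgroup K} {t : K} (h : Fam R Q1 Q2 t)

include h

theorem symm : Fam R Q2 Q1 t where
  hO := h.hO
  tt := h.tt
  t1 := h.t1
  tc := h.tc
  t1m := h.t2m
  t2m := h.t1m
  comm a ha b hb := (h.comm b hb a ha).symm
  inf a ha hb := h.inf a hb ha
  prod r hr := by
    obtain ⟨a, ha, b, hb, e⟩ := h.prod r hr
    exact ⟨b, hb, a, ha, by rw [e, h.comm a ha b hb]⟩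
  le1 := h.le2
  le2 := h.le1
  c1 := h.c2
  c2 := h.c1

theorem normal_t : (zpowers t).Normal := by
  refine ⟨fun x hx g => ?_⟩
  obtain ⟨n, rfl⟩ := mem_zpowers_iff.1 hx
  have h1 : g * t ^ n * g⁻¹ = t ^ n := by
    have : Commute g (t ^ n) := (show Commute g t from h.tc g).zpow_right n
    rw [this.eq, mul_inv_cancel_right]
  rw [h1]
  exact zpow_mem (mem_zpowers t) n

theorem orderOf_t : orderOf t = 2 := orderOf_eq_prime (by rw [sq, h.tt]) h.t1

theorem mem_zpowers {x : K} (hx : x ∈ zpowers t) : x = 1 ∨ x = t := by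
  obtain ⟨n, rfl⟩ := mem_zpowers_iff.1 hx
  have h2 : t ^ (2 : ℤ) = 1 := by rw [zpow_two, h.tt]
  rcases Int.even_or_odd' n with ⟨m, rfl | rfl⟩
  · left; rw [zpow_mul, h2, one_zpow]
  · right; rw [zpow_add, zpow_mul, h2, one_zpow, one_mul, zpow_one]

theorem t_inv : t⁻¹ = t := inv_eq_of_mul_eq_one_left h.tt

variable [Finite K] (hPT : Hyps.ProductThm.{u})

include hPT

/-- The statement for `K / ⟨t⟩` -/
theorem quotient [hn : (zpowers t).Normal] :
    ⁅(normalClosure (Q1 : Set K)).map (QuotientGroup.mk' (zpowers t)),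
        (normalClosure (Q2 : Set K)).map (QuotientGroup.mk' (zpowers t))⁆ = ⊥ ∧
      (normalClosure (Q1 : Set K)).map (QuotientGroup.mk' (zpowers t)) ⊓
        (normalClosure (Q2 : Set K)).map (QuotientGroup.mk' (zpowers t)) = ⊥ := by
  have hsurj := QuotientGroup.mk'_surjective (zpowers t)
  have hO' : Cfsg.oddCore (K ⧸ zpowers t) = ⊥ :=
    Cfsg.Agent.TwoFusion.QuatQuotient.oddCore_quotient_eq_bot h.hO t
      (mem_center_iff.2 fun g => h.tc g) h.orderOf_t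
  have hker : ∀ x y : K, QuotientGroup.mk' (zpowers t) x = QuotientGroup.mk' (zpowers t) y → y = x ∨ y = x * t := by
    intro x y e
    have h1 : x⁻¹ * y ∈ zpowers t := QuotientGroup.eq.1 e
    rcases h.mem_zpowers h1 with h2 | h2
    · left; rw [← mul_inv_cancel_left x y, h2, mul_one]
    · right; rw [← mul_inv_cancel_left x y, h2]
  have key : ∀ Q : Subgroup K, t ∈ Q → Q ≤ R → (∀ a ∈ Q, ∀ g, g * a * g⁻¹ ∈ R → g * a * g⁻¹ ∈ Q) →
      Cfsg.IsStronglyClosed (Q.map (QuotientGroup.mk' (zpowers t)))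
        ((R.mapSurjective hsurj : Sylow 2 (K ⧸ zpowers t)) : Subgroup (K ⧸ zpowers t)) := by
    intro Q htQ hQR hcl
    refine ⟨map_mono hQR, ?_⟩
    rintro _ ⟨a, ha, rfl⟩ g hg
    obtain ⟨g, rfl⟩ := hsurj g
    obtain ⟨r, hr, e⟩ := hg
    rw [← map_mul, ← map_inv, ← map_mul] at e ⊢
    have h1 : g * a * g⁻¹ ∈ (R : Subgroup K) := by
      rcases hker _ _ e with h2 | h2
      · rw [h2]; exact hr
      · rw [h2]; exact mul_mem hr (hQR htQ)
    exact ⟨_, hcl a ha g h1, rfl⟩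
  have e1 : ∀ Q : Subgroup K, (normalClosure (Q : Set K)).map (QuotientGroup.mk' (zpowers t)) =
      normalClosure ((Q.map (QuotientGroup.mk' (zpowers t)) : Subgroup (K ⧸ zpowers t)) : Set (K ⧸ zpowers t)) := by
    intro Q
    rw [Subgroup.map_normalClosure _ _ hsurj, Subgroup.coe_map]
  rw [e1, e1]
  refine hPT _ hO' (R.mapSurjective hsurj) _ _ ?_ ?_ (key Q1 h.t1m h.le1 h.c1)
    (key Q2 h.t2m h.le2 h.c2) ?_
  · rintro _ ⟨a, ha, rfl⟩ _ ⟨b, hb, rfl⟩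
    rw [← map_mul, h.comm a ha b hb, map_mul]
  · rw [eq_bot_iff]
    rintro x ⟨⟨a, ha, rfl⟩, ⟨b, hb, e⟩⟩
    have h2 : a ∈ Q2 := by
      rcases hker _ _ e with h3 | h3
      · rw [h3]; exact hb
      · rw [h3]; exact mul_mem hb h.t2m
    rw [mem_bot]
    rcases h.inf a ha h2 with rfl | rfl
    · exact map_one _
    · exact (QuotientGroup.eq_one_iff _).2 (Subgroup.mem_zpowers _)
  · rintro _ ⟨r, hr, rfl⟩
    obtain ⟨a, ha, b, hb, rfl⟩ := h.prod r hr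
    exact ⟨_, ⟨a, ha, rfl⟩, _, ⟨b, hb, rfl⟩, map_mul _ _ _⟩

theorem comm_mod {x y : K} (hx : x ∈ normalClosure (Q1 : Set K)) (hy : y ∈ normalClosure (Q2 : Set K)) :
    x * y * x⁻¹ * y⁻¹ ∈ zpowers t := by
  have := h.normal_t
  have h1 := (Subgroup.commutator_eq_bot_iff_le_centralizer.1 (h.quotient hPT).1) (mem_map_of_mem _ hx)
  have h2 := (mem_centralizer_iff.1 h1) _ (mem_map_of_mem _ hy)
  rw [← QuotientGroup.eq_one_iff]
  change QuotientGroup.mk' (zpowers t) (x * y * x⁻¹ * y⁻¹) = 1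
  rw [map_mul, map_mul, map_mul, ← h2, map_inv, map_inv, mul_inv_cancel_right, mul_inv_cancel]

theorem mem_inf {x : K} (hx : x ∈ normalClosure (Q1 : Set K)) (hy : x ∈ normalClosure (Q2 : Set K)) :
    x = 1 ∨ x = t := by
  have := h.normal_t
  apply h.mem_zpowers
  have h1 : QuotientGroup.mk' (zpowers t) x ∈ (normalClosure (Q1 : Set K)).map (QuotientGroup.mk' (zpowers t)) ⊓
        (normalClosure (Q2 : Set K)).map (QuotientGroup.mk' (zpowers t)) :=
    ⟨mem_map_of_mem _ hx, mem_map_of_mem _ hy⟩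
  rw [(h.quotient hPT).2, mem_bot] at h1
  exact (QuotientGroup.eq_one_iff _).1 h1

/-- `N₁ ∩ R = Q₁` -/
theorem mem_Q1 {x : K} (hx : x ∈ normalClosure (Q1 : Set K)) (hR : x ∈ (R : Subgroup K)) : x ∈ Q1 := by
  obtain ⟨a, ha, b, hb, rfl⟩ := h.prod x hR
  have h1 : b ∈ normalClosure (Q1 : Set K) := by
    have := mul_mem (inv_mem (subset_normalClosure ha : a ∈ normalClosure (Q1 : Set K))) hx
    rwa [inv_mul_cancel_left] at this
  rcases h.mem_inf hPT h1 (subset_normalClosure hb) with rfl | rfl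
  · rwa [mul_one]
  · exact mul_mem ha h.t1m

/-- `[N₁, Q₂] = 1` -/
theorem comm_Q2 {x q : K} (hx : x ∈ normalClosure (Q1 : Set K)) (hq : q ∈ Q2) : x * q = q * x := by
  have : Fact (Nat.Prime 2) := ⟨Nat.prime_two⟩
  set N := normalClosure (Q1 : Set K) with hN
  have hqN : q ∈ normalClosure (Q2 : Set K) := subset_normalClosure hq
  have hcen : ∀ y ∈ N, ∀ g : K, g * (y * q * y⁻¹ * q⁻¹) = (y * q * y⁻¹ * q⁻¹) * g := by
    intro y hy g
    rcases h.mem_zpowers (h.comm_mod hPT hy hqN) with h1 | h1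
    · rw [h1, one_mul, mul_one]
    · rw [h1, h.tc]
  let χ : N →* K := MonoidHom.mk' (fun y => (y : K) * q * (y : K)⁻¹ * q⁻¹) (by
    intro y w
    have h1 := hcen w w.2 (y : K)
    have h2 := hcen y y.2 ((w : K) * q * (w : K)⁻¹ * q⁻¹)
    change (y : K) * w * q * ((y : K) * w)⁻¹ * q⁻¹ = _
    calc (y : K) * w * q * ((y : K) * w)⁻¹ * q⁻¹
        = (y : K) * ((w : K) * q * (w : K)⁻¹ * q⁻¹) * q * (y : K)⁻¹ * q⁻¹ := by group
      _ = ((w : K) * q * (w : K)⁻¹ * q⁻¹) * ((y : K) * q * (y : K)⁻¹ * q⁻¹) := by rw [h1]; group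
      _ = ((y : K) * q * (y : K)⁻¹ * q⁻¹) * ((w : K) * q * (w : K)⁻¹ * q⁻¹) := by rw [h2])
  have hrange : Nat.card χ.range ∣ 2 := by
    rw [← h.orderOf_t, ← Nat.card_zpowers]
    apply card_dvd_of_le
    rintro _ ⟨y, rfl⟩
    exact h.comm_mod hPT y.2 hqN
  have hle : (R : Subgroup K).subgroupOf N ≤ χ.ker := by
    intro y hy
    rw [MonoidHom.mem_ker]
    change (y : K) * q * (y : K)⁻¹ * q⁻¹ = 1
    rw [h.comm _ (h.mem_Q1 hPT y.2 (mem_subgroupOf.1 hy)) q hq, mul_inv_cancel_right, mul_inv_cancel]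
  have hodd : ¬ 2 ∣ χ.ker.index := by
    intro h2
    apply Cfsg.Agent.Lib.SylowNormalInf.not_dvd_relIndex R N
    exact h2.trans (Subgroup.index_dvd_of_le hle)
  rw [Subgroup.index_ker] at hodd
  have h1 : Nat.card χ.range = 1 := by
    rcases (Nat.dvd_prime Nat.prime_two).1 hrange with h1 | h1
    · exact h1
    · rw [h1] at hodd
      exact absurd (dvd_refl 2) hodd
  have h2 : χ ⟨x, hx⟩ = 1 := by
    have h3 : χ ⟨x, hx⟩ ∈ χ.range := ⟨_, rfl⟩
    rw [Subgroup.card_eq_one.1 h1, mem_bot] at h3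
    exact h3
  have h3 : x * q * x⁻¹ * q⁻¹ = 1 := h2
  calc x * q = (x * q * x⁻¹ * q⁻¹) * (q * x) := by group
    _ = q * x := by rw [h3, one_mul]

/-- `[N₁, N₂] = 1` -/
theorem comm_N {x y : K} (hx : x ∈ normalClosure (Q1 : Set K)) (hy : y ∈ normalClosure (Q2 : Set K)) :
    x * y = y * x := by
  have h1 : normalClosure (Q2 : Set K) ≤ centralizer ((normalClosure (Q1 : Set K) : Subgroup K) : Set K) := by
    apply Subgroup.normalClosure_le_normal
    intro q hq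
    rw [SetLike.mem_coe, mem_centralizer_iff]
    intro n hn
    exact h.comm_Q2 hPT hn hq
  exact (mem_centralizer_iff.1 (h1 hy)) x hx

end Fam

end Cfsg.Agent.SylowSp4.Split
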