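import Mathlib
import Cfsg.Prelude.Def_Local
import Cfsg.Prelude.Def_TwoFusion
import Cfsg.Prelude.Def_CaseTheorems

/-!
# The results used as hypotheses

`ProductThm` is Goldschmidt's product theorem when `P = S₁ S₂` (`TwoFusion.FullProduct.product`), `GW` is the statement
of S0483 (both depend on the odd order theorem, so the files of this folder take them as hypotheses and only the final
file imports them).
-/

set_option autoImplicit false

namespace Cfsg.Agent.SylowSp4.Hyps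

universe u

/-- Goldschmidt's product theorem, `P = S₁ S₂` -/
def ProductThm : Prop :=
  ∀ (X : Type u) [Group X] [Finite X], Cfsg.oddCore X = ⊥ → ∀ (P : Sylow 2 X) (S₁ S₂ : Subgroup X),
    (∀ a ∈ S₁, ∀ b ∈ S₂, a * b = b * a) → S₁ ⊓ S₂ = ⊥ → Cfsg.IsStronglyClosed S₁ (P : Subgroup X) →
    Cfsg.IsStronglyClosed S₂ (P : Subgroup X) → (∀ r ∈ (P : Subgroup X), ∃ a ∈ S₁, ∃ b ∈ S₂, r = a * b) →
    ⁅Subgroup.normalClosure (S₁ : Set X), Subgroup.normalClosure (S₂ : Set X)⁆ = ⊥ ∧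
      Subgroup.normalClosure (S₁ : Set X) ⊓ Subgroup.normalClosure (S₂ : Set X) = ⊥

/-- S0483 -/
def GW : Prop :=
  ∀ (X : Type u) [Group X] [Finite X] [Group.IsPerfect X] (S : Sylow 2 X) (n : ℕ), 2 ≤ n →
    Nonempty ((S : Subgroup X) ≃* DihedralGroup n) →
    (∃ (F : Type) (_ : Field F) (_ : Fintype F), Odd (Fintype.card F) ∧ 3 < Fintype.card F ∧
        Nonempty (X ⧸ Cfsg.oddCore X ≃* Matrix.ProjectiveSpecialLinearGroup (Fin 2) F)) ∨
      Nonempty (X ⧸ Cfsg.oddCore X ≃* alternatingGroup (Fin 7))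

end Cfsg.Agent.SylowSp4.Hyps
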