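import Cfsg.Agent.SylowSp4.AltModel
import Cfsg.Agent.SignalizersComponents.CentralizerCore
import Cfsg.Agent.Lib.Cores
import Cfsg.Agent.TwoFusion.StronglyEmbeddedBasic

/-!
# S0509, the `A₈`/`A₉` branch: the action of `C(t)` on `R` modulo `O(C(t))`
-/

set_option autoImplicit false

namespace Cfsg.Agent.SylowSp4.AltCent

open Cfsg.Agent.SylowSp4.AltModel

universe u

/-! ### facts on the model -/

/-- the action of `x r ^ m` on `R` -/
def th (x : M64) (m : ℕ) (q : M64) : M64 := x * om^[m] q * x⁻¹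

theorem R_mul : ∀ x y : M64, InR x → InR y → InR (x * y) := by decide +kernel
theorem R_inv : ∀ x : M64, InR x → InR x⁻¹ := by decide +kernel
theorem R_one : InR (1 : M64) := by decide
theorem R_conj : ∀ x y : M64, InR y → InR (x * y * x⁻¹) := by decide +kernel
theorem R_om : ∀ x : M64, InR x → InR (om x) := by decide +kernel
theorem t_comm : ∀ x : M64, x * t = t * x := by decide +kernel
theorem pow_eight : ∀ x : M64, x ^ 8 = 1 := by decide +kernel
theorem om_t : om t = t := by decide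

theorem om_iter (m : ℕ) : ∀ x : M64, InR x → InR (om^[m] x) := by
  induction m with
  | zero => intro x hx; exact hx
  | succ n ih => intro x hx; rw [Function.iterate_succ_apply]; exact ih _ (R_om x hx)

theorem th_R (x : M64) (m : ℕ) (q : M64) (hq : InR q) : InR (th x m q) :=
  R_conj x _ (om_iter m q hq)

theorem th_ne : ∀ x : M64, InR x → ∀ v : M64, InR v → v ≠ 1 → v ≠ t → th x 1 v ≠ v ∧ th x 2 v ≠ v := by
  decide +kernel

theorem th_four : ∀ x : M64, ¬ InR x → ∀ m : Fin 3, ∀ q : M64, InR q →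
    th x m (th x m (th x m (th x m q))) = q := by decide +kernel

theorem th_exists : ∀ x : M64, ¬ InR x → ∀ m : Fin 3, ∃ q : M64, InR q ∧ th x m q ≠ q := by
  decide +kernel

/-- an involution centralizes an element of `R - ⟨t⟩` -/
theorem exists_cen : ∀ x : M64, x * x = 1 → ∃ v, InR v ∧ v ≠ 1 ∧ v ≠ t ∧ v * x = x * v := by
  decide +kernel

/-! ### `O(C(b))` -/

section Th

variable {G : Type u} [Group G] [Finite G]

/-- `O(C(b))` -/
abbrev Th (b : G) : Subgroup G := Cfsg.centralizerPPrimeCore 2 b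

theorem Th_le (b : G) : Th b ≤ Subgroup.centralizer {b} := SignalizersComponents.CentralizerCore.core_le 2 b

theorem odd_Th (b : G) : Odd (Nat.card (Th b)) := by
  rw [← Nat.not_even_iff_odd, even_iff_two_dvd]
  exact SignalizersComponents.CentralizerCore.core_card 2 b

theorem conj_mem_Th {b c d : G} (hc : c * b = b * c) (hd : d ∈ Th b) : c * d * c⁻¹ ∈ Th b := by
  have h1 : c ∈ Subgroup.normalizer (Th b : Set G) :=
    SignalizersComponents.CentralizerCore.core_normalized 2 b (Subgroup.mem_centralizer_singleton_iff.2 hc)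
  exact (Subgroup.mem_normalizer_iff.1 h1 d).1 hd

theorem conj_mem_Th' (b g : G) {d : G} (hd : d ∈ Th b) : g * d * g⁻¹ ∈ Th (g * b * g⁻¹) := by
  show _ ∈ Cfsg.centralizerPPrimeCore 2 (g * b * g⁻¹)
  rw [SignalizersComponents.CentralizerCore.core_conj 2 b g]
  exact ⟨d, hd, rfl⟩

theorem mem_Th_of_conj (b g : G) {d : G} (hd : g * d * g⁻¹ ∈ Th (g * b * g⁻¹)) : d ∈ Th b := by
  have h := conj_mem_Th' (g * b * g⁻¹) g⁻¹ hd
  have e1 : g⁻¹ * (g * d * g⁻¹) * g⁻¹⁻¹ = d := by group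
  have e2 : g⁻¹ * (g * b * g⁻¹) * g⁻¹⁻¹ = b := by group
  rwa [e1, e2] at h

theorem odd_orderOf {D : Subgroup G} (hD : Odd (Nat.card D)) {d : G} (hd : d ∈ D) : Odd (orderOf d) := by
  have h := Subgroup.orderOf_dvd_natCard D hd
  exact hD.of_dvd_nat h

theorem eq_one_of_odd {x : M64} {F : M64 →* G} (hinj : Function.Injective F) (h : Odd (orderOf (F x))) : x = 1 := by
  have h1 : orderOf (F x) ∣ 8 := by
    apply orderOf_dvd_of_pow_eq_one
    rw [← map_pow, pow_eight, map_one]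
  have h2 : Nat.Coprime (orderOf (F x)) 8 := by
    have : Nat.Coprime (orderOf (F x)) (2 ^ 3) := Nat.Coprime.pow_right 3 (Nat.coprime_two_right.2 h)
    exact this
  have h3 : orderOf (F x) = 1 := Nat.eq_one_of_dvd_coprimes h2 (dvd_refl _) h1
  rw [orderOf_eq_one_iff, ← map_one F] at h3
  exact hinj h3

theorem eq_one_of_mem_Th {b : G} {x : M64} {F : M64 →* G} (hinj : Function.Injective F) (h : F x ∈ Th b) :
    x = 1 := eq_one_of_odd hinj (odd_orderOf (odd_Th b) h)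

end Th

variable {G : Type u} [Group G] [Finite G] {S : Sylow 2 G} {F : M64 →* G}

omit [Finite G] in
theorem F_cen (F : M64 →* G) (x : M64) : F x * F t = F t * F x := by rw [← map_mul, ← map_mul, t_comm]

omit [Finite G] in
theorem S_le (hr : F.range = (S : Subgroup G)) : (S : Subgroup G) ≤ Subgroup.centralizer {F t} := by
  rw [← hr]
  rintro _ ⟨y, rfl⟩
  rw [Subgroup.mem_centralizer_singleton_iff]
  exact F_cen F y

/-- an involution of `C(t)` is conjugate in `C(t)` into `S` -/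
theorem exists_conj_mem (V : Sylow 2 G) {M : Subgroup G} (hVM : (V : Subgroup G) ≤ M) {x : G}
    (hx : x ∈ M) (h2 : orderOf x = 2) : ∃ m ∈ M, m * x * m⁻¹ ∈ V := by
  set P : Sylow 2 M := V.subtype hVM with hP
  have hz : IsPGroup 2 (Subgroup.zpowers (⟨x, hx⟩ : M)) := by
    rw [IsPGroup.iff_card]
    exact ⟨1, by rw [Nat.card_zpowers, Subgroup.orderOf_mk, h2, pow_one]⟩
  obtain ⟨Q, hQ⟩ := hz.exists_le_sylow
  obtain ⟨m, hm⟩ := MulAction.exists_smul_eq M Q P
  refine ⟨m, m.2, ?_⟩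
  have h1 : (⟨x, hx⟩ : M) ∈ Q := hQ (Subgroup.mem_zpowers _)
  have h3 : m * ⟨x, hx⟩ * m⁻¹ ∈ (m • Q : Sylow 2 M) := by
    rw [← SetLike.mem_coe, Sylow.coe_smul]
    exact Set.mem_smul_set.mpr ⟨⟨x, hx⟩, h1, rfl⟩
  rw [hm] at h3
  exact h3

theorem exists_conj_into (P : AltPat S F) {x : G} (hx : orderOf x = 2) (hxz : x * F t = F t * x) :
    ∃ c, c * F t = F t * c ∧ ∃ x₀, F x₀ = c * x * c⁻¹ := by
  obtain ⟨c, hc, hcx⟩ := exists_conj_mem S (S_le P.range)
    (Subgroup.mem_centralizer_singleton_iff.2 hxz) hx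
  exact ⟨c, Subgroup.mem_centralizer_singleton_iff.1 hc, P.exists_of_mem hcx⟩

/-- an element of odd order in `S O(C(t))` lies in `O(C(t))` -/
theorem mem_Th_of_odd {d : G} (hd : Odd (orderOf d)) {q : M64} {o : G}
    (ho : o ∈ Th (F t)) (h : d = F q * o) : d ∈ Th (F t) := by
  set C : Subgroup G := Subgroup.centralizer {F t} with hC
  have hfq : F q ∈ C := by
    rw [hC, Subgroup.mem_centralizer_singleton_iff]; exact F_cen F q
  have hoC : o ∈ C := Th_le _ ho
  have hdC : d ∈ C := h ▸ C.mul_mem hfq hoC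
  set N : Subgroup C := Cfsg.pPrimeCore 2 C with hN
  have hNn : N.Normal := Lib.Cores.pPrimeCore_normal 2
  have hmem : ∀ x (hx : x ∈ C), x ∈ Th (F t) ↔ (⟨x, hx⟩ : C) ∈ N := by
    intro x hx
    constructor
    · rintro ⟨y, hy, hyx⟩
      have : y = ⟨x, hx⟩ := Subtype.ext hyx
      rwa [this] at hy
    · intro hy
      exact ⟨⟨x, hx⟩, hy, rfl⟩
  rw [hmem d hdC, ← QuotientGroup.eq_one_iff]
  have h1 : ((⟨d, hdC⟩ : C) : C ⧸ N) = ((⟨F q, hfq⟩ : C) : C ⧸ N) := by
    rw [QuotientGroup.eq]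
    have e : (⟨d, hdC⟩ : C)⁻¹ * ⟨F q, hfq⟩ = ⟨o, hoC⟩⁻¹ := by
      apply Subtype.ext
      show d⁻¹ * F q = o⁻¹
      rw [h]; group
    rw [e]
    exact N.inv_mem ((hmem o hoC).1 ho)
  have h2 : ((⟨d, hdC⟩ : C) : C ⧸ N) ^ 8 = 1 := by
    rw [h1, ← QuotientGroup.mk_pow]
    have e : (⟨F q, hfq⟩ : C) ^ 8 = 1 := by
      apply Subtype.ext
      show (F q) ^ 8 = 1
      rw [← map_pow, pow_eight q, map_one]
    rw [e, QuotientGroup.mk_one]
  have h3 : ((⟨d, hdC⟩ : C) : C ⧸ N) ^ orderOf d = 1 := by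
    rw [← QuotientGroup.mk_pow]
    have e : (⟨d, hdC⟩ : C) ^ orderOf d = 1 := by
      apply Subtype.ext
      show d ^ orderOf d = 1
      exact pow_orderOf_eq_one d
    rw [e, QuotientGroup.mk_one]
  have h4 : Nat.Coprime 8 (orderOf d) := by
    have : Nat.Coprime (2 ^ 3) (orderOf d) := Nat.Coprime.pow_left 3 (Nat.coprime_two_left.2 hd)
    exact this
  have h5 : orderOf ((⟨d, hdC⟩ : C) : C ⧸ N) ∣ 1 := by
    rw [← Nat.Coprime.gcd_eq_one h4]
    exact Nat.dvd_gcd (orderOf_dvd_of_pow_eq_one h2) (orderOf_dvd_of_pow_eq_one h3)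
  exact orderOf_eq_one_iff.1 (Nat.dvd_one.1 h5)

/-! ### the action on `R` modulo `O(C(t))` -/

/-- `c` acts on `R` modulo `O(C(t))` as `θ` -/
def Acts (F : M64 →* G) (c : G) (θ : M64 → M64) : Prop :=
  ∀ q, InR q → InR (θ q) ∧ c * F q * c⁻¹ * (F (θ q))⁻¹ ∈ Th (F t)

theorem acts_comp {c c' : G} {θ θ' : M64 → M64} (hc : c * F t = F t * c) (h : Acts F c θ) (h' : Acts F c' θ') :
    Acts F (c * c') (fun q => θ (θ' q)) := by
  intro q hq
  obtain ⟨h1, h2⟩ := h' q hq
  obtain ⟨h3, h4⟩ := h _ h1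
  refine ⟨h3, ?_⟩
  have h5 := (Th (F t)).mul_mem (conj_mem_Th hc h2) h4
  have e : c * c' * F q * (c * c')⁻¹ * (F (θ (θ' q)))⁻¹ =
      c * (c' * F q * c'⁻¹ * (F (θ' q))⁻¹) * c⁻¹ * (c * F (θ' q) * c⁻¹ * (F (θ (θ' q)))⁻¹) := by group
  rw [e]; exact h5

theorem acts_unique (P : AltPat S F) {c : G} {θ θ' : M64 → M64} (h : Acts F c θ) (h' : Acts F c θ') (q : M64)
    (hq : InR q) : θ q = θ' q := by
  have h1 := (Th (F t)).mul_mem ((Th (F t)).inv_mem (h q hq).2) (h' q hq).2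
  have e : (c * F q * c⁻¹ * (F (θ q))⁻¹)⁻¹ * (c * F q * c⁻¹ * (F (θ' q))⁻¹) = F (θ q * (θ' q)⁻¹) := by
    rw [map_mul, map_inv]; group
  rw [e] at h1
  exact mul_inv_eq_one.1 (eq_one_of_mem_Th P.inj h1)

theorem acts_pow_id {c : G} (hc : c * F t = F t * c) (h : Acts F c id) (n : ℕ) : Acts F (c ^ n) id := by
  induction n with
  | zero =>
    intro q hq
    refine ⟨hq, ?_⟩
    have e : c ^ 0 * F q * (c ^ 0)⁻¹ * (F (id q))⁻¹ = 1 := by simp
    rw [e]; exact (Th (F t)).one_mem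
  | succ n ih =>
    rw [pow_succ']
    exact acts_comp hc h ih

/-- the action of `o x r^m` -/
theorem acts_of_eq {r : G} (hr : r * F t = F t * r) (hrq : ∀ q, InR q → r * F q * r⁻¹ = F (om q))
    {o : G} (ho : o ∈ Th (F t)) (x : M64) (m : ℕ) : Acts F (o * F x * r ^ m) (th x m) := by
  have h1 : ∀ m : ℕ, ∀ q, InR q → r ^ m * F q * (r ^ m)⁻¹ = F (om^[m] q) := by
    intro m
    induction m with
    | zero => intro q _; simp
    | succ n ih =>
      intro q hq
      rw [Function.iterate_succ_apply, ← ih _ (R_om q hq), ← hrq q hq, pow_succ]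
      group
  intro q hq
  refine ⟨th_R x m q hq, ?_⟩
  have h2 : o * F x * r ^ m * F q * (o * F x * r ^ m)⁻¹ * (F (th x m q))⁻¹ =
      o * (F (th x m q) * o⁻¹ * (F (th x m q))⁻¹) := by
    have e : F (th x m q) = F x * (r ^ m * F q * (r ^ m)⁻¹) * (F x)⁻¹ := by
      rw [h1 m q hq, th, map_mul, map_mul, map_inv]
    rw [e]; group
  rw [h2]
  exact (Th (F t)).mul_mem ho (conj_mem_Th (F_cen F _) ((Th (F t)).inv_mem ho))

theorem Q_normal (P : AltPat S F) : ∀ c ∈ Subgroup.centralizer {F t}, ∀ q, InR q →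
    ∃ q', InR q' ∧ ∃ o ∈ Cfsg.centralizerPPrimeCore 2 (F t), c * F q * c⁻¹ = F q' * o := by
  intro c hc q hq
  obtain ⟨r, hr, hr3, hrq, hall⟩ := P.rho
  obtain ⟨o, ho, x, m, hm, rfl⟩ := hall c (Subgroup.mem_centralizer_singleton_iff.1 hc)
  obtain ⟨h1, h2⟩ := acts_of_eq hr hrq ho x m q hq
  refine ⟨th x m q, h1, (F (th x m q))⁻¹ * (o * F x * r ^ m * F q * (o * F x * r ^ m)⁻¹ *
    (F (th x m q))⁻¹) * F (th x m q), ?_, by group⟩
  have h3 := conj_mem_Th (b := F t) (c := (F (th x m q))⁻¹) (by rw [← map_inv]; exact F_cen F _) h2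
  rwa [inv_inv] at h3

/-- an element of odd order of `C(t)` which centralizes an element of `R - ⟨t⟩` modulo `O(C(t))` is in `O(C(t))` -/
theorem fpf (P : AltPat S F) : ∀ c ∈ Subgroup.centralizer {F t}, Odd (orderOf c) →
    ∀ v, InR v → v ≠ 1 → v ≠ t →
    c * F v * c⁻¹ * (F v)⁻¹ ∈ Cfsg.centralizerPPrimeCore 2 (F t) →
    c ∈ Cfsg.centralizerPPrimeCore 2 (F t) := by
  intro c hc hodd v hv hv1 hvt hcv
  rw [Subgroup.mem_centralizer_singleton_iff] at hc
  obtain ⟨r, hr, hr3, hrq, hall⟩ := P.rho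
  obtain ⟨o, ho, x, m, hm, hcm⟩ := hall c hc
  have hA : Acts F c (th x m) := by rw [hcm]; exact acts_of_eq hr hrq ho x m
  have hv' : th x m v = v := by
    have h1 := (Th (F t)).mul_mem ((Th (F t)).inv_mem (hA v hv).2) hcv
    have e : (c * F v * c⁻¹ * (F (th x m v))⁻¹)⁻¹ * (c * F v * c⁻¹ * (F v)⁻¹) = F (th x m v * v⁻¹) := by
      rw [map_mul, map_inv]; group
    rw [e] at h1
    exact mul_inv_eq_one.1 (eq_one_of_mem_Th P.inj h1)
  by_cases hxR : InR x
  · have h0 : m = 0 := by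
      have h2 := th_ne x hxR v hv hv1 hvt
      interval_cases m
      · rfl
      · exact absurd hv' h2.1
      · exact absurd hv' h2.2
    subst h0
    refine mem_Th_of_odd hodd (q := x) (o := (F x)⁻¹ * o * F x) ?_ ?_
    · have h3 := conj_mem_Th (b := F t) (c := (F x)⁻¹) (by rw [← map_inv]; exact F_cen F _) ho
      rwa [inv_inv] at h3
    · rw [hcm]; group
  · exfalso
    have h4 : Acts F (c ^ 4) id := by
      have h2 := acts_comp hc hA (acts_comp hc hA (acts_comp hc hA hA))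
      have e : c * (c * (c * c)) = c ^ 4 := by simp only [pow_succ, pow_zero, one_mul, mul_assoc]
      rw [e] at h2
      intro q hq
      have h3 := h2 q hq
      simp only at h3
      rw [th_four x hxR ⟨m, hm⟩ q hq] at h3
      exact h3
    have hc4 : c ^ 4 * F t = F t * c ^ 4 := by
      have : Commute c (F t) := hc
      exact this.pow_left 4
    obtain ⟨k, hk⟩ : ∃ k : ℕ, (c ^ 4) ^ k = c := by
      have hcop : Nat.Coprime 4 (orderOf c) := by
        have : Nat.Coprime (2 ^ 2) (orderOf c) := Nat.Coprime.pow_left 2 (Nat.coprime_two_left.2 hodd)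
        exact this
      obtain ⟨k, hk⟩ := exists_pow_eq_self_of_coprime hcop
      exact ⟨k, hk⟩
    have h5 := acts_pow_id hc4 h4 k
    rw [hk] at h5
    obtain ⟨q, hq, hne⟩ := th_exists x hxR ⟨m, hm⟩
    exact hne (acts_unique P hA h5 q hq)

end Cfsg.Agent.SylowSp4.AltCent
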