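import Cfsg.Agent.SylowSp4.AltZ

/-!
# S0509, the `A₈`/`A₉` branch: `W ∩ C(u) = O(C(u))`, `C(u) ≤ M`, and `M = G`
-/

set_option autoImplicit false

namespace Cfsg.Agent.SylowSp4.AltEmb

open Cfsg.Agent.SylowSp4.AltModel Cfsg.Agent.SylowSp4.AltCent Cfsg.Agent.SylowSp4.AltFunctor
open Cfsg.Agent.SylowSp4.AltFus Cfsg.Agent.SylowSp4.AltH Cfsg.Agent.SylowSp4.AltZ

universe u

variable {G : Type u} [Group G] [Finite G] {S : Sylow 2 G} {F : M64 →* G}

theorem J_comm {j : G} (hj : j ∈ J F) {x : M64} (hx : InB1 x) : j * F x = F x * j := by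
  have h1 := Subgroup.mem_centralizer_singleton_iff.1 hj.1
  have h2 := Subgroup.mem_centralizer_singleton_iff.1 hj.2
  rcases hx with rfl | rfl | rfl | rfl
  · rw [map_one, mul_one, one_mul]
  · exact h1
  · exact h2
  · rw [map_mul, ← mul_assoc, h1, mul_assoc, h2, mul_assoc]

theorem BF_le_J : BF F ≤ J F := by
  rintro _ ⟨x, hx, rfl⟩
  exact A_le_J ⟨x, B1_A x hx, rfl⟩

theorem A_le_M (P : AltPat S F) : Asub.map F ≤ M F := by
  rintro _ ⟨x, hx, rfl⟩
  exact F_mem_M P x

theorem mem_BF_iff (P : AltPat S F) {x : M64} : F x ∈ BF F ↔ InB1 x := by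
  constructor
  · rintro ⟨y, hy, hyx⟩
    rw [← P.inj hyx]; exact hy
  · intro hx; exact ⟨x, hx, rfl⟩

/-- `C_W(B₁) ≤ O(J)` -/
theorem WJ_le (P : AltPat S F) : W F ⊓ J F ≤ OJ F := by
  set B : Subgroup (J F) := (BF F).subgroupOf (J F) with hB
  have hBc : ∀ b ∈ B, ∀ x : J F, x * b = b * x := by
    rintro b ⟨y, hy, hyb⟩ x
    apply Subtype.ext
    have hyb' : F y = (b : G) := hyb
    show (x : G) * b = b * x
    rw [← hyb']
    exact J_comm x.2 hy
  have hBn : B.Normal := by
    refine ⟨fun b hb g => ?_⟩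
    have : g * b * g⁻¹ = b := by rw [hBc b hb g]; group
    rw [this]; exact hb
  have hB2 : IsPGroup 2 B := (isPGroup_BF P).comap_subtype
  set π := QuotientGroup.mk' B with hπ
  have hπs : Function.Surjective π := QuotientGroup.mk'_surjective B
  set MJ : Subgroup (J F) := (M F).subgroupOf (J F) with hMJ
  set Mb : Subgroup (J F ⧸ B) := MJ.map π with hMb
  have hBMJ : B ≤ MJ := by
    rintro b ⟨y, hy, hyb⟩
    show (b : G) ∈ M F
    have hyb' : F y = (b : G) := hyb
    rw [← hyb']; exact F_mem_M P y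
  set WJ : Subgroup (J F) := (W F).subgroupOf (J F) with hWJ
  set Wb : Subgroup (J F ⧸ B) := WJ.map π with hWb
  have hWM : W F ≤ M F := Subgroup.le_normalizer
  have hWJM : WJ ≤ MJ := fun w hw => hWM hw
  have hWbM : Wb ≤ Mb := Subgroup.map_mono hWJM
  have hWJodd : Odd (Nat.card WJ) := by
    have h1 : Nat.card WJ = Nat.card (W F ⊓ J F : Subgroup G) := by
      rw [hWJ, ← Subgroup.inf_subgroupOf_right, Nat.card_congr (Subgroup.subgroupOfEquivOfLe inf_le_right).toEquiv]
    rw [h1]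
    exact (odd_W P).of_dvd_nat (Subgroup.card_dvd_of_le inf_le_left)
  have hWbodd : Odd (Nat.card Wb) := hWJodd.of_dvd_nat (Subgroup.card_map_dvd _ _)
  have hWn : ∀ m ∈ MJ, ∀ w ∈ WJ, m * w * m⁻¹ ∈ WJ := fun m hm w hw =>
    (Subgroup.mem_normalizer_iff.1 (show (m : G) ∈ Subgroup.normalizer (W F : Set G) from hm) (w : G)).1 hw
  have hWbn : ∀ m ∈ Mb, ∀ w ∈ Wb, m * w * m⁻¹ ∈ Wb := by
    rintro _ ⟨m, hm, rfl⟩ _ ⟨w, hw, rfl⟩
    exact ⟨m * w * m⁻¹, hWn m hm w hw, by rw [map_mul, map_mul, map_inv]⟩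
  -- `Wb ≤ O(J/B)`
  have hmain : Wb ≤ Cfsg.pPrimeCore 2 (J F ⧸ B) := by
    by_cases htop : Mb = ⊤
    · apply Lib.Cores.le_pPrimeCore
      · refine ⟨fun w hw g => hWbn g ?_ w hw⟩
        rw [htop]; trivial
      · exact Nat.coprime_two_right.2 hWbodd
    · have hSE : Cfsg.IsStronglyEmbedded Mb := by
        refine ⟨htop, ?_, ?_⟩
        · -- `t` has order 2 modulo `B`
          rw [even_iff_two_dvd]
          have htJ : F t ∈ J F := A_le_J ⟨t, inA_facts.1, rfl⟩
          have hord : orderOf (π ⟨F t, htJ⟩) = 2 := by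
            apply orderOf_eq_prime
            · rw [← map_pow]
              have : (⟨F t, htJ⟩ : J F) ^ 2 = 1 := by
                apply Subtype.ext
                show (F t) ^ 2 = 1
                rw [← map_pow]
                have : t ^ 2 = 1 := by decide
                rw [this, map_one]
              rw [this, map_one]
            · intro h1
              have h2 : (⟨F t, htJ⟩ : J F) ∈ B := (QuotientGroup.eq_one_iff _).1 h1
              have h3 : InB1 t := (mem_BF_iff P).1 h2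
              exact absurd h3 (by decide)
          have hmem : π ⟨F t, htJ⟩ ∈ Mb := ⟨⟨F t, htJ⟩, F_mem_M P t, rfl⟩
          have := Subgroup.orderOf_dvd_natCard _ hmem
          rwa [hord] at this
        · intro k hk
          rw [← Nat.not_even_iff_odd]
          intro he
          have : Fact (Nat.Prime 2) := ⟨Nat.prime_two⟩
          obtain ⟨y, hy⟩ := exists_prime_orderOf_dvd_card' 2 (even_iff_two_dvd.1 he)
          have hy' : orderOf (y : J F ⧸ B) = 2 := by rw [← hy, Subgroup.orderOf_coe]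
          obtain ⟨⟨y0, hy0, hy0y⟩, xb, ⟨x, hx, hxxb⟩, hxy⟩ := y.2
          obtain ⟨k0, rfl⟩ := hπs k
          have hxy' : π k0 * π x * (π k0)⁻¹ = π y0 := by
            rw [hy0y, ← hxxb] at *
            exact hxy
          -- `x` has order 2 modulo `B`
          have hxo : orderOf (π x) = 2 := by
            have h1 : orderOf (π k0 * π x * (π k0)⁻¹) = orderOf (π x) :=
              orderOf_injective (MulAut.conj (π k0)).toMonoidHom (MulAut.conj (π k0)).injective (π x)
            rw [← h1, hxy', hy0y]; exact hy'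
          have hx2 : x ^ 2 ∈ B := by
            rw [← QuotientGroup.eq_one_iff]
            have h1 : (π x) ^ 2 = 1 := by rw [← hxo]; exact pow_orderOf_eq_one _
            rw [← map_pow] at h1
            exact h1
          have hxB : x ∉ B := by
            intro h1
            have h2 : π x = 1 := (QuotientGroup.eq_one_iff x).2 h1
            rw [h2, orderOf_one] at hxo
            omega
          have hxp : IsPGroup 2 (Subgroup.zpowers (x : G)) := by
            obtain ⟨j, hj⟩ := (IsPGroup.iff_orderOf.1 hB2) ⟨x ^ 2, hx2⟩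
            rw [Subgroup.orderOf_mk] at hj
            have h1 : (x : G) ^ (2 ^ (j + 1)) = 1 := by
              have h2 : (x ^ 2) ^ (2 ^ j) = 1 := by rw [← hj]; exact pow_orderOf_eq_one _
              rw [← pow_mul, ← pow_succ'] at h2
              have h3 := congrArg Subtype.val h2
              rwa [Subgroup.coe_pow] at h3
            obtain ⟨i, -, hi⟩ := (Nat.dvd_prime_pow Nat.prime_two).1 (orderOf_dvd_of_pow_eq_one h1)
            exact IsPGroup.of_card (n := i) (by rw [Nat.card_zpowers, hi])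
          have hxMJ : (x : G) ∈ M F ⊓ J F := ⟨hx, x.2⟩
          obtain ⟨c, hc, a, ha, hca⟩ := exists_conj_A P (M F ⊓ J F) (le_inf (A_le_M P) A_le_J) inf_le_right hxMJ hxp
          have haB : ¬ InB1 a := by
            intro h1
            apply hxB
            show (x : G) ∈ BF F
            have h2 : (x : G) = c⁻¹ * F a * c := by rw [← hca]; group
            have h3 : c⁻¹ * F a * c = F a := by
              have := J_comm hc.2 h1
              calc c⁻¹ * F a * c = c⁻¹ * (F a * c) := by group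
                _ = c⁻¹ * (c * F a) := by rw [this]
                _ = F a := by group
            rw [h2, h3]
            exact (mem_BF_iff P).2 h1
          obtain ⟨b, hb, hab⟩ := A_B1 a ha haB
          have hconj : IsConj (F t) ((x : G) * F b) := by
            refine (P.isConj_TT hab).trans (isConj_iff.2 ⟨c⁻¹, ?_⟩)
            have h1 := J_comm hc.2 hb
            rw [map_mul, ← hca]
            calc c⁻¹ * (c * (x : G) * c⁻¹ * F b) * c⁻¹⁻¹ = x * (c⁻¹ * (F b * c)) := by group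
              _ = x * (c⁻¹ * (c * F b)) := by rw [h1]
              _ = (x : G) * F b := by group
          apply hk
          refine ⟨k0, ?_, rfl⟩
          show (k0 : G) ∈ M F
          refine mem_of_t P hconj ((M F).mul_mem hx (F_mem_M P b)) ?_
          have h1 := J_comm k0.2 hb
          have h2 : (k0 : G) * ((x : G) * F b) * (k0 : G)⁻¹ = ((k0 : G) * x * (k0 : G)⁻¹) * F b := by
            calc (k0 : G) * ((x : G) * F b) * (k0 : G)⁻¹ = (k0 : G) * x * (k0 : G)⁻¹ * ((k0 * F b) * (k0 : G)⁻¹) := by group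
              _ = (k0 : G) * x * (k0 : G)⁻¹ * ((F b * k0) * (k0 : G)⁻¹) := by rw [h1]
              _ = _ := by group
          rw [h2]
          refine (M F).mul_mem ?_ (F_mem_M P b)
          have h3 : y0⁻¹ * (k0 * x * k0⁻¹) ∈ B := by
            rw [← QuotientGroup.eq]
            show π y0 = π (k0 * x * k0⁻¹)
            rw [map_mul, map_mul, map_inv, hxy']
          have h4 : (k0 * x * k0⁻¹ : J F) ∈ MJ := by
            have : (k0 * x * k0⁻¹ : J F) = y0 * (y0⁻¹ * (k0 * x * k0⁻¹)) := by group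
            rw [this]
            exact MJ.mul_mem hy0 (hBMJ h3)
          exact h4
      have h1 := S1221.result Mb hSE
      refine le_trans ?_ h1
      exact AltGen.le_core Mb Wb hWbM hWbodd hWbn
  intro w hw
  have hw1 : (⟨w, hw.2⟩ : J F) ∈ WJ := hw.1
  have hw2 : π ⟨w, hw.2⟩ ∈ Cfsg.pPrimeCore 2 (J F ⧸ B) := hmain ⟨_, hw1, rfl⟩
  have hwo : Odd (orderOf (⟨w, hw.2⟩ : J F)) := by
    rw [← Subgroup.orderOf_coe]
    exact odd_orderOf (odd_W P) hw.1
  exact ⟨⟨w, hw.2⟩, AltGen.mem_core_of_central B hBc hB2 _ (Lib.Cores.pPrimeCore_normal 2)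
    (Nat.coprime_two_right.1 (Lib.Cores.pPrimeCore_coprime 2)) hw2 hwo, rfl⟩

/-- `W ∩ C(u) = O(C(u))` -/
theorem W_inf_u (P : AltPat S F) : W F ⊓ H F = Th (F e1) := by
  refine le_antisymm ?_ (le_inf (Th_le_W_A P B1_facts.1 B1_facts.2.2.2.2.2.2.1) (Th_le _))
  have hDodd : Odd (Nat.card (W F ⊓ H F : Subgroup G)) :=
    (odd_W P).of_dvd_nat (Subgroup.card_dvd_of_le inf_le_left)
  have huu : F u' * F u' = 1 := by
    rw [← map_mul, B1_facts.2.2.2.2.2.2.2.2.2.2.2.1, map_one]
  have hui : (F u')⁻¹ = F u' := inv_eq_of_mul_eq_one_left huu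
  have hinv : ∀ h ∈ W F ⊓ H F, F u' * h * (F u')⁻¹ ∈ W F ⊓ H F := by
    intro h hh
    exact ⟨W_conj P u' h hh.1, (H F).mul_mem ((H F).mul_mem (u'_mem_H F) hh.2) ((H F).inv_mem (u'_mem_H F))⟩
  have hcomm : ∀ d ∈ W F ⊓ H F, F u' * d * (F u')⁻¹ * d⁻¹ ∈ Th (F e1) := by
    intro d hd
    obtain ⟨b, hb, o, ho, hbo⟩ := comm_mem P hd.2
    have h1 : F u' * d * (F u')⁻¹ * d⁻¹ ∈ W F ⊓ H F := Subgroup.mul_mem _ (hinv d hd) (Subgroup.inv_mem _ hd)
    rcases hb with rfl | rfl
    · rw [hbo, one_mul]; exact ho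
    · exfalso
      have h2 : F e1 ∈ W F := by
        have h3 : F e1 = (F u' * d * (F u')⁻¹ * d⁻¹) * o⁻¹ := by rw [hbo]; group
        rw [h3]
        exact (W F).mul_mem h1.1 ((W F).inv_mem (Th_le_W_A P B1_facts.1 B1_facts.2.2.2.2.2.2.1 ho))
      have h3 := odd_orderOf (odd_W P) h2
      rw [orderOf_e1 P] at h3
      exact absurd h3 (by decide)
  intro d hd
  obtain ⟨c, hc, k, hk, hck, hkk, hdk⟩ := Lib.KleinGen.exists_fixed_mul_inverted (W F ⊓ H F) hDodd
    (MulAut.conj (F u')).toMonoidHom (by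
      intro g
      show F u' * (F u' * g * (F u')⁻¹) * (F u')⁻¹ = g
      rw [hui]
      calc F u' * (F u' * g * F u') * F u' = (F u' * F u') * g * (F u' * F u') := by group
        _ = g := by rw [huu]; group) hinv hd
  have hck' : F u' * c * (F u')⁻¹ = c := hck
  have hkk' : F u' * k * (F u')⁻¹ = k⁻¹ := hkk
  rw [hdk]
  refine (Th (F e1)).mul_mem ?_ ?_
  · have hcJ : c ∈ W F ⊓ J F := by
      refine ⟨hc.1, hc.2, ?_⟩
      show c ∈ Subgroup.centralizer {F u'}
      rw [Subgroup.mem_centralizer_singleton_iff]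
      exact (mul_inv_eq_iff_eq_mul.1 hck').symm
    exact OJ_le P (WJ_le P hcJ)
  · have h1 := hcomm k hk
    rw [hkk'] at h1
    have h2 : k * k ∈ Th (F e1) := by
      have := (Th (F e1)).inv_mem h1
      simpa using this
    obtain ⟨n, hn⟩ := Lib.KleinGen.exists_sqrt_exponent (W F ⊓ H F) hDodd
    rw [← (hn k hk).2]
    exact (Th (F e1)).pow_mem h2 n

/-- `W ∩ C(b) = O(C(b))` for `b ∈ B₁` -/
theorem W_inf_UU (P : AltPat S F) {b : M64} (hb : InA b) (hU : UU b) :
    W F ⊓ Subgroup.centralizer {F b} = Th (F b) := by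
  refine le_antisymm ?_ (le_inf (Th_le_W_A P hb (sq_UU b hU).2) (Th_le _))
  obtain ⟨m, hm, hmb⟩ := M_of_A P B1_facts.1 hb (P.isConj_UU hU)
  intro w hw
  have hmW : ∀ w ∈ W F, m⁻¹ * w * m ∈ W F := by
    intro w hw
    have := (Subgroup.mem_normalizer_iff.1 ((M F).inv_mem hm : m⁻¹ ∈ Subgroup.normalizer (W F : Set G)) w).1 hw
    rwa [inv_inv] at this
  have h1 : m⁻¹ * w * m ∈ W F ⊓ H F := by
    refine ⟨hmW w hw.1, ?_⟩
    have h2 := Subgroup.mem_centralizer_singleton_iff.1 hw.2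
    show m⁻¹ * w * m ∈ Subgroup.centralizer {F e1}
    rw [Subgroup.mem_centralizer_singleton_iff]
    rw [← hmb] at h2
    calc m⁻¹ * w * m * F e1 = m⁻¹ * (w * (m * F e1 * m⁻¹)) * m := by group
      _ = m⁻¹ * ((m * F e1 * m⁻¹) * w) * m := by rw [h2]
      _ = F e1 * (m⁻¹ * w * m) := by group
  rw [W_inf_u P] at h1
  have h2 := conj_mem_Th' (F e1) m h1
  rw [hmb] at h2
  have e : m * (m⁻¹ * w * m) * m⁻¹ = w := by group
  rwa [e] at h2

/-- `N_G(B₁) ≤ M` -/
theorem N_B1_le (P : AltPat S F) {g : G} (hg : ∀ x, InB1 x → ∃ y, InB1 y ∧ g * F x * g⁻¹ = F y) : g ∈ M F := by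
  refine Subgroup.mem_normalizer_fintype ?_
  have hUU : ∀ x, InB1 x → x ≠ 1 → UU x := by decide +kernel
  have key : ∀ x, InB1 x → x ≠ 1 →
      W F ⊓ Subgroup.centralizer {F x} ≤ (W F).comap (MulAut.conj g).toMonoidHom := by
    intro x hx hx1
    rw [W_inf_UU P (B1_A x hx) (hUU x hx hx1)]
    intro d hd
    obtain ⟨y, hy, hxy⟩ := hg x hx
    have h2 := conj_mem_Th' (F x) g hd
    rw [hxy] at h2
    refine Th_le_W_A P (B1_A y hy) ?_ h2
    rintro rfl
    apply hx1
    apply P.inj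
    rw [map_one] at hxy ⊢
    have := congrArg (fun t => g⁻¹ * t * g) hxy
    simpa [mul_assoc] using this
  have h1 : W F ≤ (W F).comap (MulAut.conj g).toMonoidHom := by
    refine Lib.KleinGen.le_of_klein _ _ (odd_W P) (F e1) (F u') ?_ ?_ ?_ (W_conj P e1) (W_conj P u')
      (key _ (Or.inr (Or.inl rfl)) B1_facts.2.2.2.2.2.2.1)
      (key _ (Or.inr (Or.inr (Or.inl rfl))) B1_facts.2.2.2.2.2.2.2.1) ?_
    · rw [← map_mul, B1_facts.2.2.2.2.2.2.2.2.2.2.1, map_one]
    · rw [← map_mul, B1_facts.2.2.2.2.2.2.2.2.2.2.2.1, map_one]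
    · rw [← map_mul, ← map_mul, B1_facts.2.2.2.2.2.2.2.2.2.2.2.2.1]
    · rw [← map_mul]
      exact key _ (Or.inr (Or.inr (Or.inr rfl))) B1_facts.2.2.2.2.2.2.2.2.1
  intro w hw
  exact h1 hw

/-- `C(u) ≤ M` -/
theorem H_le_M (P : AltPat S F) : H F ≤ M F := by
  intro h hh
  obtain ⟨o, ho, hn⟩ := exists_norm P hh
  have h1 : o ∈ M F := Subgroup.le_normalizer (Th_le_W_A P B1_facts.1 B1_facts.2.2.2.2.2.2.1 ho)
  have h2 := (M F).mul_mem ((M F).inv_mem h1) (N_B1_le P hn)
  rwa [inv_mul_cancel_left] at h2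

/-- `M = G` -/
theorem M_eq_top (P : AltPat S F) : M F = ⊤ := by
  by_contra hM
  have key : ∀ x, orderOf x = 2 → x ∈ M F → ∀ k, k * x * k⁻¹ ∈ M F → k ∈ M F := by
    intro x hx hxM k hk
    rcases M_inv P x hxM hx with ⟨m, hm, h⟩ | ⟨m, hm, h⟩
    · exact mem_of_t P (isConj_iff.2 ⟨m, h⟩) hxM hk
    · have hx2 : orderOf (k * x * k⁻¹) = 2 := (orderOf_of_isConj (isConj_iff.2 ⟨k, rfl⟩)).trans hx
      rcases M_inv P _ hk hx2 with ⟨n, hn, h'⟩ | ⟨n, hn, h'⟩
      · exfalso
        apply P.ntu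
        have h1 : IsConj (F t) (k * x * k⁻¹) := isConj_iff.2 ⟨n, h'⟩
        have h2 : IsConj x (k * x * k⁻¹) := isConj_iff.2 ⟨k, rfl⟩
        have h3 : IsConj (F e1) x := isConj_iff.2 ⟨m, h⟩
        exact (h1.trans h2.symm).trans h3.symm
      · have h1 : n⁻¹ * k * m ∈ H F := by
          rw [Subgroup.mem_centralizer_singleton_iff]
          calc n⁻¹ * k * m * F e1 = n⁻¹ * (k * (m * F e1 * m⁻¹) * k⁻¹) * k * m := by group
            _ = n⁻¹ * (n * F e1 * n⁻¹) * k * m := by rw [h, h']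
            _ = F e1 * (n⁻¹ * k * m) := by group
        have h2 : k = n * (n⁻¹ * k * m) * m⁻¹ := by group
        rw [h2]
        exact (M F).mul_mem ((M F).mul_mem hn (H_le_M P h1)) ((M F).inv_mem hm)
  have hE : Cfsg.IsStronglyEmbedded (M F) := by
    refine ⟨hM, ?_, ?_⟩
    · have h1 : orderOf (⟨F t, F_mem_M P t⟩ : M F) = 2 := by
        rw [Subgroup.orderOf_mk, orderOf_t P]
      have h2 : 2 ∣ Nat.card (M F) := by
        rw [← h1]; exact orderOf_dvd_natCard _
      exact even_iff_two_dvd.2 h2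
    · intro k hk
      rw [← Nat.not_even_iff_odd]
      intro he
      have : Fact (Nat.Prime 2) := ⟨Nat.prime_two⟩
      obtain ⟨y, hy⟩ := exists_prime_orderOf_dvd_card' 2 (even_iff_two_dvd.1 he)
      have hy' : orderOf (y : G) = 2 := by rw [← hy, Subgroup.orderOf_coe]
      obtain ⟨x, hxM, hx⟩ := y.2.2
      have hx' : k * x * k⁻¹ = (y : G) := hx
      apply hk
      refine key x ?_ hxM k (by rw [hx']; exact y.2.1)
      rw [← hx', orderOf_of_isConj (isConj_iff.2 ⟨k, rfl⟩ : IsConj x (k * x * k⁻¹))] at hy'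
      exact hy'
  exact P.ntu (Cfsg.Agent.TwoFusion.StronglyEmbeddedBasic.isConj_of_involutions hE _ _ (orderOf_t P) (orderOf_e1 P))

/-- `W = 1` if `G` is simple -/
theorem W_eq_bot (P : AltPat S F) [IsSimpleGroup G] : W F = ⊥ := by
  have hn : (W F).Normal := by
    rw [← Subgroup.normalizer_eq_top_iff]
    exact M_eq_top P
  rcases hn.eq_bot_or_eq_top with h | h
  · exact h
  · exfalso
    have h1 : F t ∈ W F := by rw [h]; trivial
    have h2 := odd_orderOf (odd_W P) h1
    rw [orderOf_t P] at h2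
    exact absurd h2 (by decide)

/-- `O(C(t)) = 1` if `G` is simple -/
theorem Th_eq_bot (P : AltPat S F) [IsSimpleGroup G] : Th (F t) = ⊥ := by
  rw [eq_bot_iff, ← W_eq_bot P]
  exact Th_le_W_A P inA_facts.1 (by decide)

end Cfsg.Agent.SylowSp4.AltEmb
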