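import Cfsg.Agent.SylowSp4.AltEmb
import Cfsg.Agent.LargeExtra.W2.Iface

/-!
# S0509, the `A₈`/`A₉` branch: `C(t)` is the centralizer of type `CaseF1`
-/

set_option autoImplicit false

namespace Cfsg.Agent.SylowSp4.AltEnd

open Cfsg.Agent.SylowSp4.AltModel Cfsg.Agent.SylowSp4.AltCent Cfsg.Agent.SylowSp4.AltFunctor
open Cfsg.Agent.SylowSp4.AltFus Cfsg.Agent.SylowSp4.AltH Cfsg.Agent.SylowSp4.AltEmb
open Cfsg.Agent.LargeExtra.W2 Cfsg.Agent.Co2Type.Quad

universe u

/-! ### facts on the model -/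

theorem R_sq : ∀ x : M64, InR x → x * x = 1 ∨ x * x = t := by decide +kernel
theorem R_comm : ∀ x : M64, InR x → ∀ y : M64, InR y → x * y = y * x ∨ x * y = y * x * t := by decide +kernel
theorem R_cent : ∀ x : M64, InR x → (∀ y : M64, InR y → x * y = y * x) → x = 1 ∨ x = t := by decide +kernel
theorem th_eq : ∀ x : M64, ∀ m : Fin 3, (∀ q : M64, InR q → th x m q = q) → InR x ∧ m = 0 := by decide +kernel
theorem card_R : Fintype.card {x : M64 // InR x} = 32 := by decide +kernel
theorem gens : InR i1 ∧ InR j1 ∧ InR i2 ∧ InR j2 ∧ i1 * i1 = t ∧ j1 * j1 = t ∧ i2 * i2 = t ∧ j2 * j2 = t ∧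
    j1 * i1 = i1 * j1 * t ∧ j2 * i2 = i2 * j2 * t ∧ i2 * i1 = i1 * i2 ∧ j2 * i1 = i1 * j2 ∧
    i2 * j1 = j1 * i2 ∧ j2 * j1 = j1 * j2 := by decide +kernel
theorem om_gens : om i1 = j1 ∧ om j1 = i1 * j1 ∧ om i2 = i2 * j2 ∧ om j2 = i2 := by decide +kernel
theorem s_gens : s * i1 * s⁻¹ = i2 ∧ s * j1 * s⁻¹ = j2 ∧ s * i2 * s⁻¹ = i1 ∧ s * j2 * s⁻¹ = j1 ∧ s * s = 1 := by
  decide +kernel
theorem s_om : ∀ q : M64, InR q → s * om (s⁻¹ * om q * s) * s⁻¹ = q := by decide +kernel
theorem decomp : ∀ x : M64, x = (if x.a = 0 then 1 else i1) * (if x.b = 0 then 1 else j1) *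
    (if x.c = 0 then 1 else i2) * (if x.d = 0 then 1 else j2) * (if x.e = 0 then 1 else i1 * i1) *
    (if x.m then s else 1) := by decide +kernel

/-- `R` -/
def Rsub : Subgroup M64 where
  carrier := {x | InR x}
  mul_mem' {x y} hx hy := R_mul x y hx hy
  one_mem' := R_one
  inv_mem' {x} hx := R_inv x hx

theorem card_Rsub : Nat.card Rsub = 32 := by
  rw [← card_R, ← Nat.card_eq_fintype_card]
  rfl

variable {G : Type u} [Group G] [Finite G] {S : Sylow 2 G} {F : M64 →* G}

omit [Finite G] in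
theorem F_mem_closure (K : Subgroup G) (h1 : F i1 ∈ K) (h2 : F j1 ∈ K) (h3 : F i2 ∈ K) (h4 : F j2 ∈ K)
    (x : M64) (hx : F s ∈ K ∨ InR x) : F x ∈ K := by
  rw [decomp x, map_mul, map_mul, map_mul, map_mul, map_mul]
  refine K.mul_mem (K.mul_mem (K.mul_mem (K.mul_mem (K.mul_mem ?_ ?_) ?_) ?_) ?_) ?_
  · split_ifs
    · rw [map_one]; exact K.one_mem
    · exact h1
  · split_ifs
    · rw [map_one]; exact K.one_mem
    · exact h2
  · split_ifs
    · rw [map_one]; exact K.one_mem
    · exact h3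
  · split_ifs
    · rw [map_one]; exact K.one_mem
    · exact h4
  · split_ifs
    · rw [map_one]; exact K.one_mem
    · rw [map_mul]; exact K.mul_mem h1 h1
  · rcases hx with hx | hx
    · split_ifs
      · exact hx
      · rw [map_one]; exact K.one_mem
    · have : x.m = false := hx
      rw [this]
      simp only [Bool.false_eq_true, if_false, map_one]
      exact K.one_mem

/-- The centralizer of `t` has type `CaseF1`. -/
theorem caseF1 (P : AltPat S F) [IsSimpleGroup G] : ∃ (Q : Subgroup G) (z i j k l w s : G),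
    CaseF1 Q z i j k l w s := by
  obtain ⟨r, hr, hr3, hrq, hall⟩ := P.rho
  have hbot : ∀ o, o ∈ Cfsg.centralizerPPrimeCore 2 (F t) → o = 1 := by
    intro o ho
    have h1 : o ∈ Th (F t) := ho
    rw [Th_eq_bot P] at h1
    exact Subgroup.mem_bot.1 h1
  have hr3' : r ^ 3 = 1 := hbot _ hr3
  have hall' : ∀ c, c * F t = F t * c → ∃ x, ∃ m : Fin 3, c = F x * r ^ (m : ℕ) := by
    intro c hc
    obtain ⟨o, ho, x, m, hm, rfl⟩ := hall c hc
    exact ⟨x, ⟨m, hm⟩, by rw [hbot o ho, one_mul]⟩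
  have hact : ∀ x, ∀ m : ℕ, ∀ q, InR q → F x * r ^ m * F q * (F x * r ^ m)⁻¹ = F (th x m q) := by
    intro x m q hq
    have h1 := (acts_of_eq hr hrq (Subgroup.one_mem (Th (F t))) x m q hq).2
    have h2 := hbot _ h1
    rw [one_mul] at h2
    exact mul_inv_eq_one.1 h2
  obtain ⟨g1, g2, g3, g4, ii, jj, kk, ll, ji, lk, ki, li, kj, lj⟩ := gens
  obtain ⟨o1, o2, o3, o4⟩ := om_gens
  obtain ⟨s1, s2, s3, s4, ss⟩ := s_gens
  have htt : F t * F t = 1 := by
    rw [← map_mul]
    have : t * t = 1 := by decide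
    rw [this, map_one]
  have ht1 : F t ≠ 1 := fun h => (by decide : t ≠ 1) (P.inj (by rw [h, map_one]))
  have hL : Large (Rsub.map F) (F t) := by
    refine ⟨⟨t, rfl, rfl⟩, ht1, htt, ?_, ?_, ?_, ?_, ?_, ?_⟩
    · rintro _ ⟨x, hx, rfl⟩
      exact F_cen F x
    · rintro g hg _ ⟨q, hq, rfl⟩
      obtain ⟨x, m, rfl⟩ := hall' g hg
      exact ⟨th x m q, th_R x m q hq, (hact x m q hq).symm⟩
    · rintro _ ⟨x, hx, rfl⟩
      rw [← map_mul]
      rcases R_sq x hx with h | h
      · left; rw [h, map_one]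
      · right; rw [h]
    · rintro _ ⟨x, hx, rfl⟩ _ ⟨y, hy, rfl⟩
      rcases R_comm x hx y hy with h | h
      · left; rw [← map_mul, h, map_mul]
      · right; rw [← map_mul, h, map_mul, map_mul]
    · rintro _ ⟨x, hx, rfl⟩ h
      rcases R_cent x hx (fun y hy => P.inj (by rw [map_mul, map_mul]; exact h _ ⟨y, hy, rfl⟩)) with h1 | h1
      · left; rw [h1, map_one]
      · right; rw [h1]
    · intro g hg hgc
      obtain ⟨x, m, rfl⟩ := hall' g hg
      obtain ⟨h1, h2⟩ := th_eq x m (by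
        intro q hq
        apply P.inj
        rw [← hact x m q hq, hgc (F q) ⟨q, hq, rfl⟩]
        group)
      subst h2
      refine ⟨x, h1, ?_⟩
      simp
  have hw0 : ∀ q, InR q → r * F q * r⁻¹ = F (om q) := hrq
  -- `s r s⁻¹ = r⁻¹`
  have hws : F s * r * (F s)⁻¹ = r⁻¹ := by
    set g := F s * r * (F s)⁻¹ * r with hg
    have hgt : g * F t = F t * g := by
      have h1 : Commute r (F t) := hr
      have h2 : Commute (F s) (F t) := F_cen F s
      exact ((h2.mul_left h1).mul_left h2.inv_left).mul_left h1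
    have hgQ : ∀ x ∈ Rsub.map F, g * x = x * g := by
      rintro _ ⟨q, hq, rfl⟩
      have h1 : InR (s⁻¹ * om q * s) := by
        have := R_conj s⁻¹ (om q) (R_om q hq)
        rwa [inv_inv] at this
      have h2 : g * F q * g⁻¹ = F q := by
        calc g * F q * g⁻¹ = F s * (r * ((F s)⁻¹ * (r * F q * r⁻¹) * F s) * r⁻¹) * (F s)⁻¹ := by rw [hg]; group
          _ = F s * (r * F (s⁻¹ * om q * s) * r⁻¹) * (F s)⁻¹ := by
            rw [hrq q hq, map_mul, map_mul, map_inv]
          _ = F (s * om (s⁻¹ * om q * s) * s⁻¹) := by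
            rw [hrq _ h1, map_mul, map_mul, map_inv]
          _ = F q := by rw [s_om q hq]
      exact mul_inv_eq_iff_eq_mul.1 h2
    have hgm := hL.self g hgt hgQ
    rcases hL.cent g hgm hgQ with h1 | h1
    · exact mul_eq_one_iff_eq_inv.1 h1
    · exfalso
      have h2 : F s * r * (F s)⁻¹ = F t * r⁻¹ := by rw [← h1, hg]; group
      have h3 : (F s * r * (F s)⁻¹) ^ 3 = 1 := by
        rw [conj_pow, hr3']; group
      have h4 : Commute (F t) r⁻¹ := (show Commute r (F t) from hr).symm.inv_right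
      rw [h2, h4.mul_pow, inv_pow, hr3', inv_one, mul_one, pow_succ, pow_two, htt, one_mul] at h3
      exact ht1 h3
  have hr1 : r ≠ 1 := by
    intro h
    have h1 := hrq i1 g1
    rw [h, o1] at h1
    have h2 : F i1 = F j1 := by simpa using h1
    exact (by decide : i1 ≠ j1) (P.inj h2)
  have hro : orderOf r = 3 := by
    have : Fact (Nat.Prime 3) := ⟨Nat.prime_three⟩
    exact orderOf_eq_prime hr3' hr1
  refine ⟨Rsub.map F, F t, F i1, F j1, F i2, F j2, r, F s, ?_⟩
  refine { large := hL, card := ?_, gen := ?_, ii := ?_, jj := ?_, kk := ?_, ll := ?_, ji := ?_, lk := ?_, ki := ?_, li := ?_, kj := ?_, lj := ?_, w3 := hr3', w_act := ?_, s_act := ?_, ws := hws, s2 := ?_, cent := ?_, card_cent := ?_ }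
  · rw [Subgroup.card_map_of_injective P.inj, card_Rsub]
  · apply le_antisymm
    · rintro _ ⟨x, hx, rfl⟩
      refine F_mem_closure _ ?_ ?_ ?_ ?_ x (Or.inr hx) <;> apply Subgroup.subset_closure <;> simp
    · rw [Subgroup.closure_le]
      rintro _ (rfl | rfl | rfl | rfl)
      · exact ⟨i1, g1, rfl⟩
      · exact ⟨j1, g2, rfl⟩
      · exact ⟨i2, g3, rfl⟩
      · exact ⟨j2, g4, rfl⟩
  · rw [← map_mul, ii]
  · rw [← map_mul, jj]
  · rw [← map_mul, kk]
  · rw [← map_mul, ll]
  · rw [← map_mul, ji, map_mul, map_mul]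
  · rw [← map_mul, lk, map_mul, map_mul]
  · rw [← map_mul, ki, map_mul]
  · rw [← map_mul, li, map_mul]
  · rw [← map_mul, kj, map_mul]
  · rw [← map_mul, lj, map_mul]
  · refine ⟨?_, ?_, ?_, ?_, ?_⟩
    · rw [hr]; group
    · rw [hrq _ g1, o1]
    · rw [hrq _ g2, o2, map_mul]
    · rw [hrq _ g3, o3, map_mul]
    · rw [hrq _ g4, o4]
  · refine ⟨?_, ?_, ?_, ?_, ?_⟩
    · rw [F_cen F s]; group
    · rw [← map_inv, ← map_mul, ← map_mul, s1]
    · rw [← map_inv, ← map_mul, ← map_mul, s2]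
    · rw [← map_inv, ← map_mul, ← map_mul, s3]
    · rw [← map_inv, ← map_mul, ← map_mul, s4]
  · left; rw [← map_mul, ss, map_one]
  · apply le_antisymm
    · intro c hc
      obtain ⟨x, m, rfl⟩ := hall' c (Subgroup.mem_centralizer_singleton_iff.1 hc)
      refine Subgroup.mul_mem _ ?_ (Subgroup.pow_mem _ ?_ _)
      · refine F_mem_closure _ ?_ ?_ ?_ ?_ x (Or.inl ?_) <;> apply Subgroup.subset_closure <;> simp
      · apply Subgroup.subset_closure; simp
    · rw [Subgroup.closure_le]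
      rintro _ (rfl | rfl | rfl | rfl | rfl | rfl)
      · exact Subgroup.mem_centralizer_singleton_iff.2 (F_cen F _)
      · exact Subgroup.mem_centralizer_singleton_iff.2 (F_cen F _)
      · exact Subgroup.mem_centralizer_singleton_iff.2 (F_cen F _)
      · exact Subgroup.mem_centralizer_singleton_iff.2 (F_cen F _)
      · exact Subgroup.mem_centralizer_singleton_iff.2 hr
      · exact Subgroup.mem_centralizer_singleton_iff.2 (F_cen F _)
  · have hbij : Function.Bijective (fun p : M64 × Fin 3 => (⟨F p.1 * r ^ (p.2 : ℕ),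
        Subgroup.mem_centralizer_singleton_iff.2 (by
          have h1 : Commute r (F t) := hr
          have h2 : Commute (F p.1) (F t) := F_cen F p.1
          exact h2.mul_left (h1.pow_left _))⟩ : Subgroup.centralizer ({F t} : Set G))) := by
      constructor
      · rintro ⟨x, m⟩ ⟨y, n⟩ hxy
        have h1 : F x * r ^ (m : ℕ) = F y * r ^ (n : ℕ) := congrArg Subtype.val hxy
        have h2 : F (y⁻¹ * x) = r ^ ((n : ℤ) - (m : ℤ)) := by
          rw [map_mul, map_inv, zpow_sub, zpow_natCast, zpow_natCast]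
          rw [inv_mul_eq_iff_eq_mul, ← mul_assoc, ← h1]; group
        have h3 : F (y⁻¹ * x) ^ 3 = 1 := by
          rw [h2, ← zpow_natCast, ← zpow_mul, mul_comm, zpow_mul, zpow_natCast, hr3', one_zpow]
        have h4 : Odd (orderOf (F (y⁻¹ * x))) := Odd.of_dvd_nat (by decide) (orderOf_dvd_of_pow_eq_one h3)
        have h5 := eq_one_of_odd P.inj h4
        have h6 : x = y := (inv_mul_eq_one.1 h5).symm
        subst h6
        have h7 : r ^ (m : ℕ) = r ^ (n : ℕ) := mul_left_cancel h1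
        have h8 : (m : ℕ) = n := pow_injOn_Iio_orderOf (by rw [hro]; exact m.2) (by rw [hro]; exact n.2) h7
        rw [Fin.ext h8]
      · rintro ⟨c, hc⟩
        obtain ⟨x, m, rfl⟩ := hall' c (Subgroup.mem_centralizer_singleton_iff.1 hc)
        exact ⟨(x, m), rfl⟩
    rw [← Nat.card_congr (Equiv.ofBijective _ hbij), Nat.card_prod, Nat.card_eq_fintype_card, card_M64,
      Nat.card_eq_fintype_card, Fintype.card_fin]

end Cfsg.Agent.SylowSp4.AltEnd
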