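import Cfsg.Agent.SylowSp4.AltCent
import Cfsg.Agent.SignalizersComponents.SFTwo
import Cfsg.Agent.S0205
import Cfsg.Agent.Lib.KleinGen

/-!
# S0509, the `A₈`/`A₉` branch: balance and the signalizer `W`
-/

set_option autoImplicit false

namespace Cfsg.Agent.SylowSp4.AltFunctor

open Cfsg.Agent.SylowSp4.AltModel Cfsg.Agent.SylowSp4.AltCent

universe u

variable {G : Type u} [Group G] [Finite G] {S : Sylow 2 G} {F : M64 →* G}

/-- balance at `z` -/
theorem bal_z (P : AltPat S F) {x : G} (hx : orderOf x = 2) (hxz : x * F t = F t * x)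
    (D : Subgroup G) (hD : D ≤ Subgroup.centralizer {F t} ⊓ Subgroup.centralizer {x})
    (hodd : Odd (Nat.card D))
    (hn : ∀ c, c * F t = F t * c → c * x = x * c → ∀ d ∈ D, c * d * c⁻¹ ∈ D) :
    D ≤ Th (F t) := by
  obtain ⟨c, hc, x₀, hx₀⟩ := exists_conj_into P hx hxz
  have hx₀1 : x₀ * x₀ = 1 := by
    apply P.inj
    rw [map_mul, map_one, hx₀]
    have h1 : x * x = 1 := by rw [← pow_two, ← hx, pow_orderOf_eq_one]
    calc c * x * c⁻¹ * (c * x * c⁻¹) = c * (x * x) * c⁻¹ := by group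
      _ = 1 := by rw [h1]; group
  obtain ⟨v, hvQ, hv1, hvz, hvx⟩ := exists_cen x₀ hx₀1
  have hci : c⁻¹ * F t = F t * c⁻¹ := by
    rw [inv_mul_eq_iff_eq_mul, ← mul_assoc, hc, mul_assoc, mul_inv_cancel, mul_one]
  -- `v'` centralizes `z` and `x`
  set v' : G := c⁻¹ * F v * c with hv'
  have hv'z : v' * F t = F t * v' := by
    have e1 : F v * F t = F t * F v := by rw [← map_mul, ← map_mul, t_comm]
    calc v' * F t = c⁻¹ * F v * (c * F t) := by rw [hv']; group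
      _ = c⁻¹ * (F v * F t) * c := by rw [hc]; group
      _ = (c⁻¹ * F t) * F v * c := by rw [e1]; group
      _ = F t * v' := by rw [hci, hv']; group
  have hv'x : v' * x = x * v' := by
    have e1 : F v * (c * x * c⁻¹) = (c * x * c⁻¹) * F v := by
      rw [← hx₀, ← map_mul, ← map_mul, hvx]
    calc v' * x = c⁻¹ * (F v * (c * x * c⁻¹)) * c := by rw [hv']; group
      _ = c⁻¹ * ((c * x * c⁻¹) * F v) * c := by rw [e1]
      _ = x * v' := by rw [hv']; group
  intro d hd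
  -- the commutator
  have hdz : d * F t = F t * d := Subgroup.mem_centralizer_singleton_iff.1 (hD hd).1
  have hcomm : d * v' * d⁻¹ * v'⁻¹ ∈ D := by
    have h1 := hn v' hv'z hv'x d⁻¹ (D.inv_mem hd)
    have e : d * v' * d⁻¹ * v'⁻¹ = d * (v' * d⁻¹ * v'⁻¹) := by group
    rw [e]
    exact D.mul_mem hd h1
  set d₁ : G := c * d * c⁻¹ with hd₁
  have hd₁C : d₁ ∈ Subgroup.centralizer {F t} := by
    rw [Subgroup.mem_centralizer_singleton_iff]
    calc d₁ * F t = c * d * (c⁻¹ * F t) := by rw [hd₁]; group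
      _ = c * (d * F t) * c⁻¹ := by rw [hci]; group
      _ = (c * F t) * d * c⁻¹ := by rw [hdz]; group
      _ = F t * d₁ := by rw [hc, hd₁]; group
  have hd₁odd : Odd (orderOf d₁) := by
    rw [hd₁, TwoFusion.StronglyEmbeddedBasic.orderOf_conj]
    exact odd_orderOf hodd hd
  obtain ⟨q', hq', o, ho, hqo⟩ := Q_normal P d₁ hd₁C v hvQ
  have hv1C : F v * F t = F t * F v := by rw [← map_mul, ← map_mul, t_comm]
  have h1 : d₁ * F v * d₁⁻¹ * (F v)⁻¹ ∈ Th (F t) := by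
    refine mem_Th_of_odd (q := q' * v⁻¹) (o := F v * o * (F v)⁻¹) ?_ (conj_mem_Th hv1C ho) ?_
    · have e : d₁ * F v * d₁⁻¹ * (F v)⁻¹ = c * (d * v' * d⁻¹ * v'⁻¹) * c⁻¹ := by
        rw [hd₁, hv']; group
      rw [e, TwoFusion.StronglyEmbeddedBasic.orderOf_conj]
      exact odd_orderOf hodd hcomm
    · rw [hqo, map_mul, map_inv]; group
  have h2 := fpf P d₁ hd₁C hd₁odd v hvQ hv1 hvz h1
  have h3 := conj_mem_Th hci h2
  have e : c⁻¹ * d₁ * c⁻¹⁻¹ = d := by rw [hd₁]; group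
  rwa [e] at h3

/-- balance at any involution of z-type -/
theorem bal (P : AltPat S F) (b x : G) (hb : IsConj (F t) b) (hx : orderOf x = 2) (hxb : x * b = b * x)
    (D : Subgroup G) (hD : D ≤ Subgroup.centralizer {b} ⊓ Subgroup.centralizer {x})
    (hodd : Odd (Nat.card D)) (hn : ∀ c, c * b = b * c → c * x = x * c → ∀ d ∈ D, c * d * c⁻¹ ∈ D) :
    D ≤ Cfsg.centralizerPPrimeCore 2 b := by
  obtain ⟨g, hg⟩ := isConj_iff.1 hb.symm
  -- `g b g⁻¹ = F t`
  have key : ∀ a c : G, a * c = c * a → g * a * g⁻¹ * (g * c * g⁻¹) = g * c * g⁻¹ * (g * a * g⁻¹) := by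
    intro a c h
    calc g * a * g⁻¹ * (g * c * g⁻¹) = g * (a * c) * g⁻¹ := by group
      _ = g * (c * a) * g⁻¹ := by rw [h]
      _ = _ := by group
  have key' : ∀ a c : G, a * (g * c * g⁻¹) = (g * c * g⁻¹) * a → (g⁻¹ * a * g) * c = c * (g⁻¹ * a * g) := by
    intro a c h
    calc (g⁻¹ * a * g) * c = g⁻¹ * (a * (g * c * g⁻¹)) * g := by group
      _ = g⁻¹ * ((g * c * g⁻¹) * a) * g := by rw [h]
      _ = _ := by group
  have h1 : D.map (MulAut.conj g).toMonoidHom ≤ Th (F t) := by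
    refine bal_z P (x := g * x * g⁻¹) ?_ ?_ _ ?_ ?_ ?_
    · rw [TwoFusion.StronglyEmbeddedBasic.orderOf_conj]; exact hx
    · rw [← hg]; exact key x b hxb
    · rintro _ ⟨d, hd, rfl⟩
      have hd1 := Subgroup.mem_centralizer_singleton_iff.1 (hD hd).1
      have hd2 := Subgroup.mem_centralizer_singleton_iff.1 (hD hd).2
      refine ⟨?_, ?_⟩
      · show g * d * g⁻¹ ∈ Subgroup.centralizer {F t}
        rw [Subgroup.mem_centralizer_singleton_iff, ← hg]
        exact key d b hd1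
      · show g * d * g⁻¹ ∈ Subgroup.centralizer {g * x * g⁻¹}
        rw [Subgroup.mem_centralizer_singleton_iff]
        exact key d x hd2
    · rw [Subgroup.card_map_of_injective (MulAut.conj g).injective]
      exact hodd
    · rintro c hc1 hc2 _ ⟨d, hd, rfl⟩
      rw [← hg] at hc1
      refine ⟨(g⁻¹ * c * g) * d * (g⁻¹ * c * g)⁻¹, hn _ (key' c b hc1) (key' c x hc2) d hd, ?_⟩
      show g * ((g⁻¹ * c * g) * d * (g⁻¹ * c * g)⁻¹) * g⁻¹ = c * (g * d * g⁻¹) * c⁻¹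
      group
  intro d hd
  have h2 : g * d * g⁻¹ ∈ Th (F t) := h1 ⟨d, hd, rfl⟩
  rw [← hg] at h2
  exact mem_Th_of_conj b g h2


/-! ### the completion -/

theorem F2_mul : ∀ x y : M64, InF2 x → InF2 y → InF2 (x * y) := by decide +kernel
theorem F2_inv : ∀ x : M64, InF2 x → InF2 x⁻¹ := by decide +kernel
theorem F2_one : InF2 (1 : M64) := by decide
theorem F2_comm : ∀ x y : M64, InF2 x → InF2 y → x * y = y * x := by decide +kernel
theorem F2_sq : ∀ x : M64, InF2 x → x * x = 1 := by decide +kernel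
theorem F2_conj : ∀ g x : M64, InF2 x → InF2 (g * x * g⁻¹) := by decide +kernel
theorem F2_om : ∀ x : M64, InF2 x → InF2 (om x) := by decide +kernel
theorem F2_TT : ∀ x : M64, InF2 x → x ≠ 1 → TT x := by decide +kernel
theorem F2_R : ∀ x : M64, InF2 x → InR x := by decide +kernel
theorem card_F2 : Fintype.card {x : M64 // InF2 x} = 8 := by decide +kernel
theorem F3_TT : ∀ x : M64, InF3 x → x ≠ 1 → TT x := by decide +kernel
theorem F3_sq : ∀ x : M64, InF3 x → x * x = 1 := by decide +kernel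
theorem A_comm : ∀ x y : M64, InA x → InA y → x * y = y * x := by decide +kernel
theorem A_sq : ∀ x : M64, InA x → x * x = 1 := by decide +kernel
theorem A_conj : ∀ g x : M64, InA x → InA (g * x * g⁻¹) := by decide +kernel
theorem A_mul : ∀ x y : M64, InA x → InA y → InA (x * y) := by decide +kernel
theorem A_inv : ∀ x : M64, InA x → InA x⁻¹ := by decide +kernel
theorem A_one : InA (1 : M64) := by decide
theorem card_A : Fintype.card {x : M64 // InA x} = 16 := by decide +kernel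

/-- the subgroup `F₂` of the model -/
def F2sub : Subgroup M64 where
  carrier := {x | InF2 x}
  mul_mem' {x y} hx hy := F2_mul x y hx hy
  one_mem' := F2_one
  inv_mem' {x} hx := F2_inv x hx

theorem card_F2sub : Nat.card F2sub = 8 := by
  rw [← card_F2, ← Nat.card_eq_fintype_card]
  rfl

/-- the join of the `O(C(x))`, `x ∈ F₂` -/
def W (F : M64 →* G) : Subgroup G := ⨆ a : {a : G // a ∈ F2sub.map F ∧ a ≠ 1}, Th (a : G)

theorem Th_le_W {x : M64} (hinj : Function.Injective F) (hx : InF2 x) (hx1 : x ≠ 1) :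
    Th (F x) ≤ W F := by
  refine le_iSup (fun a : {a : G // a ∈ F2sub.map F ∧ a ≠ 1} => Th (a : G)) ⟨F x, ⟨x, hx, rfl⟩, ?_⟩
  intro h
  exact hx1 (hinj (by rw [h, map_one]))

theorem orderOf_F (P : AltPat S F) {x : M64} (hx : x * x = 1) (hx1 : x ≠ 1) : orderOf (F x) = 2 := by
  rw [orderOf_injective F P.inj]
  exact orderOf_eq_prime (by rw [pow_two, hx]) hx1

/-- balance in the form `O(C(y)) ∩ C(v) ≤ O(C(v))`, `v` of t-type -/
theorem bal' (P : AltPat S F) {v y : M64} (hv : TT v) (hy : y * y = 1) (hy1 : y ≠ 1) (hyv : y * v = v * y) :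
    Th (F y) ⊓ Subgroup.centralizer {F v} ≤ Th (F v) := by
  refine bal P (F v) (F y) (P.isConj_TT hv) (orderOf_F P hy hy1) ?_ _ ?_ ?_ ?_
  · rw [← map_mul, ← map_mul, hyv]
  · exact le_inf inf_le_right (inf_le_left.trans (Th_le _))
  · exact (odd_Th (F y)).of_dvd_nat (Subgroup.card_dvd_of_le inf_le_left)
  · intro c hc1 hc2 d hd
    refine ⟨conj_mem_Th hc2 hd.1, ?_⟩
    exact (Subgroup.centralizer {F v}).mul_mem ((Subgroup.centralizer {F v}).mul_mem
      (Subgroup.mem_centralizer_singleton_iff.2 hc1) hd.2)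
      ((Subgroup.centralizer {F v}).inv_mem (Subgroup.mem_centralizer_singleton_iff.2 hc1))

/-- the conclusion of the signalizer functor theorem -/
theorem W_spec (P : AltPat S F) : Odd (Nat.card (W F)) ∧
    ∀ x, InF2 x → x ≠ 1 → W F ⊓ Subgroup.centralizer {F x} = Th (F x) := by
  have h := SignalizersComponents.SFTwo.result (F2sub.map F) ?_ ?_ ?_ (fun a => Th a) ?_ ?_ ?_ ?_ ?_
  · refine ⟨?_, ?_⟩
    · rw [← Nat.not_even_iff_odd, even_iff_two_dvd]
      exact h.1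
    · intro x hx hx1
      exact h.2 (F x) ⟨x, hx, rfl⟩ (fun hh => hx1 (P.inj (by rw [hh, map_one])))
  · rintro _ ⟨x, hx, rfl⟩ _ ⟨y, hy, rfl⟩
    rw [← map_mul, ← map_mul, F2_comm x y hx hy]
  · rintro _ ⟨x, hx, rfl⟩
    rw [← map_pow, pow_two, F2_sq x hx, map_one]
  · rw [Subgroup.card_map_of_injective P.inj, card_F2sub]
    norm_num
  · intro a _ _
    exact Th_le a
  · intro a _ _
    exact SignalizersComponents.CentralizerCore.core_card 2 a
  · rintro _ ⟨x, hx, rfl⟩ _ _ ⟨y, hy, rfl⟩ d hd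
    refine conj_mem_Th ?_ hd
    rw [← map_mul, ← map_mul, F2_comm y x hy hx]
  · intro a _ _
    exact S0205.result (odd_Th a)
  · rintro _ ⟨x, hx, rfl⟩ hx1 _ ⟨y, hy, rfl⟩ hy1
    have hx1' : x ≠ 1 := fun hh => hx1 (by rw [hh, map_one])
    have hy1' : y ≠ 1 := fun hh => hy1 (by rw [hh, map_one])
    exact bal' P (F2_TT y hy hy1') (F2_sq x hx) hx1' (F2_comm x y hx hy)

theorem odd_W (P : AltPat S F) : Odd (Nat.card (W F)) := (W_spec P).1

theorem W_inf_F2 (P : AltPat S F) {x : M64} (hx : InF2 x) (hx1 : x ≠ 1) :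
    W F ⊓ Subgroup.centralizer {F x} = Th (F x) := (W_spec P).2 x hx hx1

/-- `N_G(F₂) ≤ N_G(W)` -/
theorem mem_N_of_F2 (P : AltPat S F) {g : G} (hg : ∀ x, InF2 x → ∃ y, InF2 y ∧ g * F x * g⁻¹ = F y) :
    g ∈ Subgroup.normalizer (W F : Set G) := by
  refine Subgroup.mem_normalizer_fintype ?_
  have h1 : W F ≤ (W F).comap (MulAut.conj g).toMonoidHom := by
    refine iSup_le ?_
    rintro ⟨a, ⟨x, hx, rfl⟩, ha1⟩ d hd
    obtain ⟨y, hy, hxy⟩ := hg x hx
    have h2 := conj_mem_Th' (F x) g hd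
    rw [hxy] at h2
    refine Th_le_W P.inj hy ?_ h2
    rintro rfl
    apply ha1
    rw [map_one] at hxy
    have := congrArg (fun t => g⁻¹ * t * g) hxy
    simpa [mul_assoc] using this
  intro w hw
  exact h1 hw

theorem F_mem_N (P : AltPat S F) (x : M64) : F x ∈ Subgroup.normalizer (W F : Set G) :=
  mem_N_of_F2 P (fun y hy => ⟨x * y * x⁻¹, F2_conj x y hy, by rw [map_mul, map_mul, map_inv]⟩)

theorem S_le_N (P : AltPat S F) : (S : Subgroup G) ≤ Subgroup.normalizer (W F : Set G) := by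
  rw [← P.range]
  rintro _ ⟨x, rfl⟩
  exact F_mem_N P x

/-- an odd order subgroup normalized by the four-group `⟨t, y⟩` is contained in `M` if its intersections with the
centralizers of the involutions of the four-group are -/
theorem le_of_four (F : M64 →* G) (y : M64) (hy : y * y = 1) (H M : Subgroup G) (hodd : Odd (Nat.card H))
    (ht : ∀ h ∈ H, F t * h * (F t)⁻¹ ∈ H) (hy' : ∀ h ∈ H, F y * h * (F y)⁻¹ ∈ H)
    (h1 : H ⊓ Subgroup.centralizer {F t} ≤ M) (h2 : H ⊓ Subgroup.centralizer {F y} ≤ M)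
    (h3 : H ⊓ Subgroup.centralizer {F (t * y)} ≤ M) : H ≤ M := by
  refine Lib.KleinGen.le_of_klein H M hodd (F t) (F y) ?_ ?_ ?_ ht hy' h1 h2 ?_
  · rw [← map_mul]
    have : t * t = 1 := by decide
    rw [this, map_one]
  · rw [← map_mul, hy, map_one]
  · rw [← map_mul, ← map_mul, t_comm]
  · rw [← map_mul]; exact h3

/-- the involutions of `A` of t-type -/
theorem A_four : TT t ∧ TT e2 ∧ TT (t * e2) ∧ TT e3 ∧ TT (t * e3) ∧ InA t ∧ InA e2 ∧ InA (t * e2) ∧ InA e3 ∧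
    InA (t * e3) ∧ InF2 t ∧ InF2 e2 ∧ InF2 (t * e2) ∧ InF3 t ∧ InF3 e3 ∧ InF3 (t * e3) ∧
    t ≠ 1 ∧ e2 ≠ 1 ∧ t * e2 ≠ 1 ∧ e3 ≠ 1 ∧ t * e3 ≠ 1 := by decide +kernel

/-- `O(C(y)) ≤ W` for `y ∈ A` -/
theorem Th_le_W_A (P : AltPat S F) {y : M64} (hy : InA y) (hy1 : y ≠ 1) : Th (F y) ≤ W F := by
  obtain ⟨T1, T2, T3, -, -, A1, A2, A3, -, -, B1, B2, B3, -, -, -, n1, n2, n3, -, -⟩ := A_four
  refine le_of_four F e2 (A_sq _ A2) _ _ (odd_Th _) ?_ ?_ ?_ ?_ ?_
  · intro h hh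
    exact conj_mem_Th (by rw [← map_mul, ← map_mul, A_comm _ _ A1 hy]) hh
  · intro h hh
    exact conj_mem_Th (by rw [← map_mul, ← map_mul, A_comm _ _ A2 hy]) hh
  · exact (bal' P T1 (A_sq y hy) hy1 (A_comm _ _ hy A1)).trans (Th_le_W P.inj B1 n1)
  · exact (bal' P T2 (A_sq y hy) hy1 (A_comm _ _ hy A2)).trans (Th_le_W P.inj B2 n2)
  · exact (bal' P T3 (A_sq y hy) hy1 (A_comm _ _ hy A3)).trans (Th_le_W P.inj B3 n3)

theorem W_conj (P : AltPat S F) (x : M64) : ∀ w ∈ W F, F x * w * (F x)⁻¹ ∈ W F := fun w hw =>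
  (Subgroup.mem_normalizer_iff.1 (F_mem_N P x) w).1 hw

theorem inf_conj (P : AltPat S F) {v y : M64} (hvy : v * y = y * v) :
    ∀ w ∈ W F ⊓ Subgroup.centralizer {F y}, F v * w * (F v)⁻¹ ∈ W F ⊓ Subgroup.centralizer {F y} := by
  intro w hw
  have hv : F v ∈ Subgroup.centralizer {F y} := by
    rw [Subgroup.mem_centralizer_singleton_iff, ← map_mul, ← map_mul, hvy]
  exact ⟨W_conj P v w hw.1, (Subgroup.centralizer {F y}).mul_mem ((Subgroup.centralizer {F y}).mul_mem hv hw.2)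
    ((Subgroup.centralizer {F y}).inv_mem hv)⟩

theorem inf_le (P : AltPat S F) {v y : M64} (hy : TT y) (hv : TT v)
    (hvy : v * y = y * v) (hW : W F ⊓ Subgroup.centralizer {F v} = Th (F v)) :
    W F ⊓ Subgroup.centralizer {F y} ⊓ Subgroup.centralizer {F v} ≤ Th (F y) := by
  intro w hw
  have h1 : w ∈ Th (F v) := by rw [← hW]; exact ⟨hw.1.1, hw.2⟩
  exact bal' P hy (sq_TT v hv).1 (sq_TT v hv).2 hvy ⟨h1, hw.1.2⟩

/-- `W ∩ C(y) = O(C(y))` for `y ∈ A` of t-type -/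
theorem W_inf_A (P : AltPat S F) {y : M64} (hy : InA y) (hyT : TT y) :
    W F ⊓ Subgroup.centralizer {F y} = Th (F y) := by
  obtain ⟨T1, T2, T3, -, -, A1, A2, A3, -, -, B1, B2, B3, -, -, -, n1, n2, n3, -, -⟩ := A_four
  refine le_antisymm ?_ (le_inf (Th_le_W_A P hy (sq_TT y hyT).2) (Th_le _))
  refine le_of_four F e2 (A_sq _ A2) _ _ ?_ ?_ ?_ ?_ ?_ ?_
  · exact (odd_W P).of_dvd_nat (Subgroup.card_dvd_of_le inf_le_left)
  · exact inf_conj P (A_comm _ _ A1 hy)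
  · exact inf_conj P (A_comm _ _ A2 hy)
  · exact inf_le P hyT T1 (A_comm _ _ A1 hy) (W_inf_F2 P B1 n1)
  · exact inf_le P hyT T2 (A_comm _ _ A2 hy) (W_inf_F2 P B2 n2)
  · exact inf_le P hyT T3 (A_comm _ _ A3 hy) (W_inf_F2 P B3 n3)

theorem F3_comm : ∀ x, InF3 x → x * e3 = e3 * x := by decide +kernel
theorem F3_comm' : ∀ x, InF3 x → x * (t * e3) = (t * e3) * x := by decide +kernel

/-- `O(C(y)) ≤ W` for `y ∈ F₃` -/
theorem Th_le_W_F3 (P : AltPat S F) {y : M64} (hy : InF3 y) (hy1 : y ≠ 1) : Th (F y) ≤ W F := by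
  obtain ⟨T1, -, -, T2, T3, A1, -, -, A2, A3, -, -, -, -, -, -, n1, -, -, n2, n3⟩ := A_four
  refine le_of_four F e3 (A_sq _ A2) _ _ (odd_Th _) ?_ ?_ ?_ ?_ ?_
  · intro h hh
    exact conj_mem_Th (by rw [← map_mul, ← map_mul, t_comm]) hh
  · intro h hh
    exact conj_mem_Th (by rw [← map_mul, ← map_mul, F3_comm y hy]) hh
  · exact (bal' P T1 (F3_sq y hy) hy1 (t_comm y)).trans (Th_le_W_A P A1 n1)
  · exact (bal' P T2 (F3_sq y hy) hy1 (F3_comm y hy)).trans (Th_le_W_A P A2 n2)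
  · exact (bal' P T3 (F3_sq y hy) hy1 (F3_comm' y hy)).trans (Th_le_W_A P A3 n3)

/-- `N_G(F₃) ≤ N_G(W)` -/
theorem mem_N_of_F3 (P : AltPat S F) {g : G} (hg : ∀ x, InF3 x → ∃ y, InF3 y ∧ g * F x * g⁻¹ = F y) :
    g ∈ Subgroup.normalizer (W F : Set G) := by
  obtain ⟨T1, -, -, T2, T3, A1, -, -, A2, A3, -, -, -, C1, C2, C3, n1, -, -, n2, n3⟩ := A_four
  refine Subgroup.mem_normalizer_fintype ?_
  have key : ∀ x, InF3 x → InA x → x ≠ 1 →
      W F ⊓ Subgroup.centralizer {F x} ≤ (W F).comap (MulAut.conj g).toMonoidHom := by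
    intro x hx hxA hx1
    rw [W_inf_A P hxA (F3_TT x hx hx1)]
    intro d hd
    obtain ⟨y, hy, hxy⟩ := hg x hx
    have h2 := conj_mem_Th' (F x) g hd
    rw [hxy] at h2
    refine Th_le_W_F3 P hy ?_ h2
    rintro rfl
    apply hx1
    apply P.inj
    rw [map_one] at hxy ⊢
    have := congrArg (fun t => g⁻¹ * t * g) hxy
    simpa [mul_assoc] using this
  have h1 : W F ≤ (W F).comap (MulAut.conj g).toMonoidHom :=
    le_of_four F e3 (A_sq _ A2) _ _ (odd_W P) (W_conj P t) (W_conj P e3) (key _ C1 A1 n1) (key _ C2 A2 n2)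
      (key _ C3 A3 n3)
  intro w hw
  exact h1 hw

/-- `N_G(A) ≤ N_G(W)` -/
theorem mem_N_of_A (P : AltPat S F) {g : G} (hg : ∀ x, InA x → ∃ y, InA y ∧ g * F x * g⁻¹ = F y) :
    g ∈ Subgroup.normalizer (W F : Set G) := by
  obtain ⟨T1, T2, T3, -, -, A1, A2, A3, -, -, B1, B2, B3, -, -, -, n1, n2, n3, -, -⟩ := A_four
  refine Subgroup.mem_normalizer_fintype ?_
  have key : ∀ x, InF2 x → InA x → x ≠ 1 →
      W F ⊓ Subgroup.centralizer {F x} ≤ (W F).comap (MulAut.conj g).toMonoidHom := by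
    intro x hx hxA hx1
    rw [W_inf_F2 P hx hx1]
    intro d hd
    obtain ⟨y, hy, hxy⟩ := hg x hxA
    have h2 := conj_mem_Th' (F x) g hd
    rw [hxy] at h2
    refine Th_le_W_A P hy ?_ h2
    rintro rfl
    apply hx1
    apply P.inj
    rw [map_one] at hxy ⊢
    have := congrArg (fun t => g⁻¹ * t * g) hxy
    simpa [mul_assoc] using this
  have h1 : W F ≤ (W F).comap (MulAut.conj g).toMonoidHom :=
    le_of_four F e2 (A_sq _ A2) _ _ (odd_W P) (W_conj P t) (W_conj P e2) (key _ B1 A1 n1) (key _ B2 A2 n2)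
      (key _ B3 A3 n3)
  intro w hw
  exact h1 hw

/-- `C(t) ≤ N_G(W)` -/
theorem cen_t_le (P : AltPat S F) :
    Subgroup.centralizer {F t} ≤ Subgroup.normalizer (W F : Set G) := by
  intro c hc
  obtain ⟨r, hr, hr3, hrq, hall⟩ := P.rho
  obtain ⟨o, ho, x, m, hm, rfl⟩ := hall c (Subgroup.mem_centralizer_singleton_iff.1 hc)
  obtain ⟨-, -, -, -, -, -, -, -, -, -, B1, -, -, -, -, -, n1, -, -, -, -⟩ := A_four
  refine Subgroup.mul_mem _ (Subgroup.mul_mem _ ?_ (F_mem_N P x)) (Subgroup.pow_mem _ ?_ m)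
  · exact Subgroup.le_normalizer (Th_le_W P.inj B1 n1 ho)
  · exact mem_N_of_F2 P fun x hx => ⟨om x, F2_om x hx, hrq x (F2_R x hx)⟩

/-- the element `r` of `C(t) ≤ N_G(W)` -/
theorem exists_r (P : AltPat S F) : ∃ r ∈ Subgroup.normalizer (W F : Set G), ∀ q, InR q → r * F q * r⁻¹ = F (om q) := by
  obtain ⟨r, hr, hr3, hrq, hall⟩ := P.rho
  exact ⟨r, mem_N_of_F2 P fun x hx => ⟨om x, F2_om x hx, hrq x (F2_R x hx)⟩, hrq⟩

end Cfsg.Agent.SylowSp4.AltFunctor
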