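import Cfsg.Agent.SylowSp4.AltFunctor

/-!
# S0509, the `A₈`/`A₉` branch: `A` is the only `E₁₆` of `S`, fusion of involutions in `M = N_G(W)`
-/

set_option autoImplicit false

namespace Cfsg.Agent.SylowSp4.AltFus

open Cfsg.Agent.SylowSp4.AltModel Cfsg.Agent.SylowSp4.AltCent Cfsg.Agent.SylowSp4.AltFunctor

universe u

/-! ### facts on the model -/

theorem card_cen : ∀ x : M64, ¬ InA x → Fintype.card {y : M64 // y * y = 1 ∧ y * x = x * y} < 16 := by
  decide +kernel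

/-- the subgroup `A` of the model -/
def Asub : Subgroup M64 where
  carrier := {x | InA x}
  mul_mem' {x y} hx hy := A_mul x y hx hy
  one_mem' := A_one
  inv_mem' {x} hx := A_inv x hx

theorem card_Asub : Nat.card Asub = 16 := by
  rw [← card_A, ← Nat.card_eq_fintype_card]
  rfl

/-- `A` is the only elementary abelian subgroup of order 16 -/
theorem eq_A (B : Subgroup M64) (hB : ∀ x ∈ B, x * x = 1) (hc : Nat.card B = 16) : B = Asub := by
  classical
  have hcomm : ∀ x ∈ B, ∀ y ∈ B, y * x = x * y := by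
    intro x hx y hy
    have h1 := hB _ (B.mul_mem hx hy)
    have hxi : x⁻¹ = x := inv_eq_of_mul_eq_one_left (hB x hx)
    have hyi : y⁻¹ = y := inv_eq_of_mul_eq_one_left (hB y hy)
    have h2 : (x * y)⁻¹ = x * y := inv_eq_of_mul_eq_one_left h1
    rw [mul_inv_rev, hxi, hyi] at h2
    exact h2
  have hle : B ≤ Asub := by
    intro x hx
    by_contra hxA
    have h1 := card_cen x hxA
    have h2 : Nat.card B ≤ Nat.card {y : M64 // y * y = 1 ∧ y * x = x * y} :=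
      Nat.card_le_card_of_injective (fun b : B => (⟨b, hB b b.2, hcomm x hx b b.2⟩ :
        {y : M64 // y * y = 1 ∧ y * x = x * y})) (by
          intro a b hab
          have h3 := congrArg Subtype.val hab
          exact Subtype.ext h3)
    rw [hc, Nat.card_eq_fintype_card] at h2
    omega
  exact Subgroup.eq_of_le_of_card_ge hle (by rw [hc, card_Asub])

variable {G : Type u} [Group G] [Finite G] {S : Sylow 2 G} {F : M64 →* G}

theorem card_AF (P : AltPat S F) : Nat.card (Asub.map F) = 16 := by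
  rw [Subgroup.card_map_of_injective P.inj, card_Asub]

/-- an elementary abelian subgroup of order 16 of `S` is `A` -/
theorem eq_AF (P : AltPat S F) (B : Subgroup G) (hB : ∀ x ∈ B, x * x = 1) (hc : Nat.card B = 16)
    (hBS : B ≤ (S : Subgroup G)) : B = Asub.map F := by
  have h1 : (B.comap F).map F = B := by
    rw [Subgroup.map_comap_eq, P.range, inf_eq_right.2 hBS]
  have h2 : B.comap F = Asub := by
    apply eq_A
    · intro x hx
      apply P.inj
      rw [map_mul, map_one]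
      exact hB _ hx
    · have h3 : Nat.card ((B.comap F).map F) = Nat.card (B.comap F) := Subgroup.card_map_of_injective P.inj
      rw [← hc, ← h3, h1]
  rw [← h1, h2]

/-- two 2-subgroups of `D` can be conjugated in `D` into a common Sylow 2-subgroup of `G` -/
theorem exists_common (S : Sylow 2 G) (D A0 A1 : Subgroup G) (h0 : A0 ≤ D) (h1 : A1 ≤ D) (p0 : IsPGroup 2 A0)
    (p1 : IsPGroup 2 A1) : ∃ d ∈ D, ∃ h : G, (∀ a ∈ A0, h⁻¹ * a * h ∈ S) ∧
      ∀ a ∈ A1, h⁻¹ * (d * a * d⁻¹) * h ∈ S := by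
  obtain ⟨T0, hT0⟩ := (p0.comap_subtype (K := D)).exists_le_sylow
  obtain ⟨T1, hT1⟩ := (p1.comap_subtype (K := D)).exists_le_sylow
  obtain ⟨d, hd⟩ := MulAction.exists_smul_eq D T1 T0
  have hT : IsPGroup 2 ((T0 : Subgroup D).map D.subtype) := T0.isPGroup'.map _
  obtain ⟨S', hS'⟩ := hT.exists_le_sylow
  obtain ⟨h, hh⟩ := MulAction.exists_smul_eq G S S'
  have hmem : ∀ x, x ∈ S' → h⁻¹ * x * h ∈ S := by
    intro x hx
    rw [← hh] at hx
    rw [← SetLike.mem_coe, Sylow.coe_smul] at hx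
    obtain ⟨y, hy, hyx⟩ := hx
    have e : h * y * h⁻¹ = x := hyx
    have e2 : h⁻¹ * x * h = y := by rw [← e]; group
    rw [e2]; exact hy
  refine ⟨d, d.2, h, ?_, ?_⟩
  · intro a ha
    apply hmem
    apply hS'
    exact ⟨⟨a, h0 ha⟩, hT0 ha, rfl⟩
  · intro a ha
    apply hmem
    apply hS'
    refine ⟨d * ⟨a, h1 ha⟩ * d⁻¹, ?_, rfl⟩
    have h3 : d * (⟨a, h1 ha⟩ : D) * d⁻¹ ∈ (d • T1 : Sylow 2 D) := by
      rw [← SetLike.mem_coe, Sylow.coe_smul]
      exact Set.mem_smul_set.mpr ⟨⟨a, h1 ha⟩, hT1 ha, rfl⟩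
    rw [hd] at h3
    exact h3

theorem isPGroup_AF (P : AltPat S F) : IsPGroup 2 (Asub.map F) :=
  IsPGroup.of_card (n := 4) (by rw [card_AF P]; norm_num)

theorem sq_AF (P : AltPat S F) : ∀ x ∈ Asub.map F, x * x = 1 := by
  have := P
  rintro _ ⟨x, hx, rfl⟩
  rw [← map_mul, A_sq x hx, map_one]

/-- `N_G(A)` controls the fusion in `A` -/
theorem exists_NA (P : AltPat S F) {x y : M64} (hx : InA x) (hy : InA y) (h : IsConj (F x) (F y)) :
    ∃ n, (∀ a, InA a → ∃ a', InA a' ∧ n * F a * n⁻¹ = F a') ∧ n * F x * n⁻¹ = F y := by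
  obtain ⟨g, hg⟩ := isConj_iff.1 h
  set A0 := Asub.map F with hA0
  set A1 := A0.map (MulAut.conj g).toMonoidHom with hA1
  set D := Subgroup.centralizer {F y} with hD
  have h0 : A0 ≤ D := by
    rintro _ ⟨a, ha, rfl⟩
    rw [hD, Subgroup.mem_centralizer_singleton_iff, ← map_mul, ← map_mul, A_comm a y ha hy]
  have h1 : A1 ≤ D := by
    rintro _ ⟨_, ⟨a, ha, rfl⟩, rfl⟩
    show g * F a * g⁻¹ ∈ D
    rw [hD, Subgroup.mem_centralizer_singleton_iff, ← hg]
    have e : F a * F x = F x * F a := by rw [← map_mul, ← map_mul, A_comm a x ha hx]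
    calc g * F a * g⁻¹ * (g * F x * g⁻¹) = g * (F a * F x) * g⁻¹ := by group
      _ = g * (F x * F a) * g⁻¹ := by rw [e]
      _ = _ := by group
  obtain ⟨d, hd, k, hk0, hk1⟩ := exists_common S D A0 A1 h0 h1 (isPGroup_AF P) ((isPGroup_AF P).map _)
  -- both conjugates are `A`
  have key : ∀ n : G, (∀ a ∈ A0, n * a * n⁻¹ ∈ S) → A0.map (MulAut.conj n).toMonoidHom = A0 := by
    intro n hn
    apply eq_AF P
    · rintro _ ⟨a, ha, rfl⟩
      show n * a * n⁻¹ * (n * a * n⁻¹) = 1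
      have := sq_AF P a ha
      calc n * a * n⁻¹ * (n * a * n⁻¹) = n * (a * a) * n⁻¹ := by group
        _ = 1 := by rw [this]; group
    · rw [Subgroup.card_map_of_injective (MulAut.conj n).injective]
      exact card_AF P
    · rintro _ ⟨a, ha, rfl⟩
      exact hn a ha
  have hK0 := key k⁻¹ (fun a ha => by rw [inv_inv]; exact hk0 a ha)
  have hK1 := key (k⁻¹ * (d * g)) (fun a ha => by
    have := hk1 (g * a * g⁻¹) ⟨a, ha, rfl⟩
    have e : k⁻¹ * (d * g) * a * (k⁻¹ * (d * g))⁻¹ = k⁻¹ * (d * (g * a * g⁻¹) * d⁻¹) * k := by group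
    rw [e]; exact this)
  refine ⟨d * g, ?_, ?_⟩
  · intro a ha
    have h2 : k⁻¹ * (d * g) * F a * (k⁻¹ * (d * g))⁻¹ ∈ A0 := by
      rw [← hK1]; exact ⟨F a, ⟨a, ha, rfl⟩, rfl⟩
    have h3 : k⁻¹ * (d * g) * F a * (k⁻¹ * (d * g))⁻¹ ∈ A0.map (MulAut.conj k⁻¹).toMonoidHom := by
      rw [hK0]; exact h2
    obtain ⟨_, ⟨a', ha', rfl⟩, h4⟩ := h3
    have h5 : k⁻¹ * F a' * k⁻¹⁻¹ = k⁻¹ * (d * g) * F a * (k⁻¹ * (d * g))⁻¹ := h4
    refine ⟨a', ha', ?_⟩
    calc d * g * F a * (d * g)⁻¹ = k * (k⁻¹ * (d * g) * F a * (k⁻¹ * (d * g))⁻¹) * k⁻¹ := by group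
      _ = k * (k⁻¹ * F a' * k⁻¹⁻¹) * k⁻¹ := by rw [h5]
      _ = F a' := by group
  · rw [Subgroup.mem_centralizer_singleton_iff] at hd
    calc d * g * F x * (d * g)⁻¹ = d * (g * F x * g⁻¹) * d⁻¹ := by group
      _ = d * F y * d⁻¹ := by rw [hg]
      _ = F y := by rw [hd]; group

/-! ### fusion in `M = N_G(W)` -/

/-- `M = N_G(W)` -/
def M (F : M64 →* G) : Subgroup G := Subgroup.normalizer (W F : Set G)

theorem S_le_M (P : AltPat S F) : (S : Subgroup G) ≤ M F := S_le_N P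

theorem F_mem_M (P : AltPat S F) (x : M64) : F x ∈ M F := F_mem_N P x

omit [Finite G] in
theorem conj_trans {M : Subgroup G} {a b c : G} (h1 : ∃ m ∈ M, m * a * m⁻¹ = b) (h2 : ∃ m ∈ M, m * b * m⁻¹ = c) :
    ∃ m ∈ M, m * a * m⁻¹ = c := by
  obtain ⟨m, hm, rfl⟩ := h1
  obtain ⟨n, hn, rfl⟩ := h2
  exact ⟨n * m, M.mul_mem hn hm, by group⟩

omit [Finite G] in
theorem conj_symm {M : Subgroup G} {a b : G} (h1 : ∃ m ∈ M, m * a * m⁻¹ = b) :
    ∃ m ∈ M, m * b * m⁻¹ = a := by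
  obtain ⟨m, hm, rfl⟩ := h1
  exact ⟨m⁻¹, M.inv_mem hm, by group⟩

theorem M_of_A (P : AltPat S F) {x y : M64} (hx : InA x) (hy : InA y) (h : IsConj (F x) (F y)) :
    ∃ m ∈ M F, m * F x * m⁻¹ = F y := by
  obtain ⟨n, hn, hxy⟩ := exists_NA P hx hy h
  exact ⟨n, mem_N_of_A P hn, hxy⟩

theorem M_of_S (P : AltPat S F) {x y : M64} (h : ∃ g, g * x * g⁻¹ = y) : ∃ m ∈ M F, m * F x * m⁻¹ = F y := by
  obtain ⟨g, rfl⟩ := h
  exact ⟨F g, F_mem_M P g, by rw [map_mul, map_mul, map_inv]⟩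

theorem M_of_om (P : AltPat S F) {x : M64} (hx : InR x) : ∃ m ∈ M F, m * F x * m⁻¹ = F (om x) := by
  obtain ⟨r, hr, hrq⟩ := exists_r P
  exact ⟨r, hr, hrq x hx⟩

theorem inA_facts : InA t ∧ InA s ∧ InA e2 ∧ InA e3 ∧ InA e1 ∧ InA (t * s) ∧ InR e1 ∧ InR e2 ∧ InR e3 := by
  decide +kernel

theorem M_TT (P : AltPat S F) {y : M64} (hy : TT y) : ∃ m ∈ M F, m * F t * m⁻¹ = F y := by
  obtain ⟨At, As, A2, A3, A1, Ats, R1, R2, R3⟩ := inA_facts
  rcases conj_of_TT y hy with rfl | h | h | h | h | h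
  · exact ⟨1, (M F).one_mem, by group⟩
  · exact conj_trans (M_of_A P At As P.ts) (M_of_S P h)
  · exact conj_trans (M_of_A P At A2 P.t2) (M_of_S P h)
  · exact conj_trans (conj_trans (M_of_A P At A2 P.t2) (M_of_om P R2)) (M_of_S P h)
  · exact conj_trans (M_of_A P At A3 P.t3) (M_of_S P h)
  · exact conj_trans (conj_trans (M_of_A P At A3 P.t3) (M_of_om P R3)) (M_of_S P h)

theorem M_UU (P : AltPat S F) {y : M64} (hy : UU y) : ∃ m ∈ M F, m * F e1 * m⁻¹ = F y := by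
  obtain ⟨At, As, A2, A3, A1, Ats, R1, R2, R3⟩ := inA_facts
  rcases conj_of_UU y hy with h | h | h
  · exact conj_trans (M_of_A P A1 Ats P.us) (M_of_S P h)
  · exact M_of_S P h
  · exact conj_trans (M_of_om P R1) (M_of_S P h)

theorem exists_model (P : AltPat S F) (K : Subgroup G) (hSK : (S : Subgroup G) ≤ K) (x : G) (hxK : x ∈ K)
    (hx : orderOf x = 2) : ∃ y : M64, y * y = 1 ∧ y ≠ 1 ∧ ∃ m ∈ K, m * F y * m⁻¹ = x := by
  obtain ⟨g, hg, hgS⟩ := exists_conj_mem S hSK hxK hx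
  obtain ⟨v, hv⟩ := P.exists_of_mem hgS
  have hx2 : x * x = 1 := by rw [← pow_two, ← hx, pow_orderOf_eq_one]
  have hx1 : x ≠ 1 := fun h => by rw [h, orderOf_one] at hx; omega
  refine ⟨v, ?_, ?_, g⁻¹, K.inv_mem hg, ?_⟩
  · apply P.inj
    rw [map_mul, hv, map_one]
    calc g * x * g⁻¹ * (g * x * g⁻¹) = g * (x * x) * g⁻¹ := by group
      _ = 1 := by rw [hx2]; group
  · rintro rfl
    apply hx1
    rw [map_one] at hv
    calc x = g⁻¹ * (g * x * g⁻¹) * g := by group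
      _ = 1 := by rw [← hv]; group
  · rw [hv]; group

/-- `M` has two classes of involutions -/
theorem M_inv (P : AltPat S F) (x : G) (hxM : x ∈ M F) (hx : orderOf x = 2) :
    (∃ m ∈ M F, m * F t * m⁻¹ = x) ∨ ∃ m ∈ M F, m * F e1 * m⁻¹ = x := by
  obtain ⟨y, hy, hy1, hyx⟩ := exists_model P (M F) (S_le_M P) x hxM hx
  rcases inv_dichotomy y hy hy1 with h | h
  · exact Or.inl (conj_trans (M_TT P h) hyx)
  · exact Or.inr (conj_trans (M_UU P h) hyx)

theorem orderOf_t (P : AltPat S F) : orderOf (F t) = 2 := orderOf_F P (by decide) (by decide)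
theorem orderOf_e1 (P : AltPat S F) : orderOf (F e1) = 2 := orderOf_F P (by decide) (by decide)

theorem orderOf_of_isConj {a b : G} (h : IsConj a b) : orderOf b = orderOf a := by
  obtain ⟨c, rfl⟩ := isConj_iff.1 h
  exact orderOf_injective (MulAut.conj c).toMonoidHom (MulAut.conj c).injective a

theorem M_conj_t (P : AltPat S F) {x : G} (hx : IsConj (F t) x) (hxM : x ∈ M F) : ∃ m ∈ M F, m * F t * m⁻¹ = x := by
  rcases M_inv P x hxM ((orderOf_of_isConj hx).trans (orderOf_t P)) with h | ⟨m, hm, h⟩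
  · exact h
  · exact absurd (hx.trans (isConj_iff.2 ⟨m, h⟩ : IsConj (F e1) x).symm) P.ntu

/-- elements conjugating a t-type of `M` into `M` lie in `M` -/
theorem mem_of_t (P : AltPat S F) {x : G} (hx : IsConj (F t) x) (hxM : x ∈ M F) {k : G} (hk : k * x * k⁻¹ ∈ M F) :
    k ∈ M F := by
  obtain ⟨m, hm, rfl⟩ := M_conj_t P hx hxM
  obtain ⟨n, hn, h⟩ := M_conj_t P (hx.trans (isConj_iff.2 ⟨k, rfl⟩)) hk
  have h1 : n⁻¹ * k * m ∈ Subgroup.centralizer {F t} := by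
    rw [Subgroup.mem_centralizer_singleton_iff]
    calc n⁻¹ * k * m * F t = n⁻¹ * (k * (m * F t * m⁻¹) * k⁻¹) * k * m := by group
      _ = n⁻¹ * (n * F t * n⁻¹) * k * m := by rw [h]
      _ = F t * (n⁻¹ * k * m) := by group
  have h2 : k = n * (n⁻¹ * k * m) * m⁻¹ := by group
  rw [h2]
  exact (M F).mul_mem ((M F).mul_mem hn (cen_t_le P h1)) ((M F).inv_mem hm)

end Cfsg.Agent.SylowSp4.AltFus
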