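import Mathlib
import Cfsg.Prelude.Def_Local
import Cfsg.Agent.Lib.Cores

/-!
# General lemmas for S0509, `A₈`/`A₉` branch: central 2-subgroups and normal subgroups of odd order
-/

set_option autoImplicit false

namespace Cfsg.Agent.SylowSp4.AltGen

open Subgroup

/-- Elements of odd order which lie modulo a central 2-subgroup in a normal subgroup of odd order. -/
theorem exists_mul_of_central {X : Type*} [Group X] [Finite X] (B : Subgroup X) [B.Normal]
    (hBc : ∀ b ∈ B, ∀ x, x * b = b * x) (hB2 : IsPGroup 2 B) (N : Subgroup (X ⧸ B)) (hN : N.Normal)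
    (hodd : Odd (Nat.card N)) {n : X} (hn : (n : X ⧸ B) ∈ N) :
    ∃ b ∈ B, ∃ o ∈ Cfsg.pPrimeCore 2 X, n = b * o := by
  set K : Subgroup X := N.comap (QuotientGroup.mk' B) with hK
  have hKn : K.Normal := hN.comap _
  have hBK : B ≤ K := by
    intro b hb
    show (QuotientGroup.mk' B) b ∈ N
    have : (QuotientGroup.mk' B) b = 1 := (QuotientGroup.eq_one_iff b).2 hb
    rw [this]; exact N.one_mem
  set B' : Subgroup K := B.subgroupOf K with hB'
  have hB'n : B'.Normal := inferInstance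
  have hB'2 : IsPGroup 2 B' := hB2.comap_subtype
  have hmapK : K.map (QuotientGroup.mk' B) = N :=
    Subgroup.map_comap_eq_self_of_surjective (QuotientGroup.mk'_surjective B) N
  -- the index of `B'`
  have hidx : B'.index = Nat.card N := by
    have h1 : B'.index = (B.relIndex K) := rfl
    rw [h1]
    have h2 := Subgroup.relIndex_ker (QuotientGroup.mk' B) (K := K)
    rw [QuotientGroup.ker_mk'] at h2
    rw [h2, hmapK]
  have hcop : Nat.Coprime (Nat.card B') B'.index := by
    obtain ⟨k, hk⟩ := hB'2.exists_card_eq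
    rw [hk, hidx]
    exact Nat.Coprime.pow_left k (Nat.coprime_two_left.2 hodd)
  obtain ⟨L, hL⟩ := Subgroup.exists_right_complement'_of_coprime hcop
  have hLc : Nat.card L = Nat.card N := by
    rw [← hidx]
    exact hL.symm.index_eq_card.symm
  have hLodd : Odd (Nat.card L) := by rw [hLc]; exact hodd
  -- decomposition
  have hdec : ∀ k ∈ K, ∃ b ∈ B, ∃ l : K, l ∈ L ∧ k = b * l := by
    intro k hk
    obtain ⟨⟨b, l⟩, hbl⟩ := hL.2 ⟨k, hk⟩
    refine ⟨b, b.2, l, l.2, ?_⟩
    exact (congrArg Subtype.val hbl).symm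
  have hLodd' : ∀ l : K, l ∈ L → Odd (orderOf (l : X)) := by
    intro l hl
    have h1 : orderOf l ∣ Nat.card L := Subgroup.orderOf_dvd_natCard L hl
    rw [Subgroup.orderOf_coe]
    exact hLodd.of_dvd_nat h1
  -- an element of odd order of `K` lies in `L`
  have hmem : ∀ k ∈ K, Odd (orderOf k) → ∃ l : K, l ∈ L ∧ k = l := by
    intro k hk hko
    obtain ⟨b, hb, l, hl, rfl⟩ := hdec k hk
    have hcomm : Commute b (l : X) := (hBc b hb l).symm
    have hlo := hLodd' l hl
    set m := orderOf (b * (l : X)) * orderOf (l : X) with hm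
    have hmo : Odd m := hko.mul hlo
    have h1 : (b * (l : X)) ^ m = 1 := by rw [hm, pow_mul, pow_orderOf_eq_one, one_pow]
    have h2 : (l : X) ^ m = 1 := by rw [hm, mul_comm, pow_mul, pow_orderOf_eq_one, one_pow]
    rw [hcomm.mul_pow, h2, mul_one] at h1
    have h3 : orderOf b ∣ m := orderOf_dvd_of_pow_eq_one h1
    obtain ⟨j, hj⟩ := (IsPGroup.iff_orderOf.1 hB2) ⟨b, hb⟩
    rw [Subgroup.orderOf_mk] at hj
    have h4 : Nat.Coprime (orderOf b) m := by
      rw [hj]
      exact Nat.Coprime.pow_left j (Nat.coprime_two_left.2 hmo)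
    have h5 : orderOf b = 1 := Nat.eq_one_of_dvd_coprimes h4 (dvd_refl _) h3
    rw [orderOf_eq_one_iff] at h5
    exact ⟨l, hl, by rw [h5, one_mul]⟩
  set L' : Subgroup X := L.map K.subtype with hL'
  have hL'n : L'.Normal := by
    refine ⟨?_⟩
    rintro _ ⟨l, hl, rfl⟩ g
    have h1 : g * (l : X) * g⁻¹ ∈ K := hKn.conj_mem _ l.2 g
    have h2 : Odd (orderOf (g * (l : X) * g⁻¹)) := by
      have : orderOf (g * (l : X) * g⁻¹) = orderOf (l : X) :=
        orderOf_injective (MulAut.conj g).toMonoidHom (MulAut.conj g).injective (l : X)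
      rw [this]; exact hLodd' l hl
    obtain ⟨l', hl', h3⟩ := hmem _ h1 h2
    exact ⟨l', hl', h3.symm⟩
  have hL'c : (Nat.card L').Coprime 2 := by
    rw [hL', Subgroup.card_map_of_injective K.subtype_injective]
    exact Nat.coprime_two_right.2 hLodd
  have hL'le : L' ≤ Cfsg.pPrimeCore 2 X := Lib.Cores.le_pPrimeCore hL'n hL'c
  obtain ⟨b, hb, l, hl, h⟩ := hdec n hn
  exact ⟨b, hb, l, hL'le ⟨l, hl, rfl⟩, h⟩

/-- Elements of odd order which lie modulo a central 2-subgroup in a normal subgroup of odd order. -/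
theorem mem_core_of_central {X : Type*} [Group X] [Finite X] (B : Subgroup X) [B.Normal]
    (hBc : ∀ b ∈ B, ∀ x, x * b = b * x) (hB2 : IsPGroup 2 B) (N : Subgroup (X ⧸ B)) (hN : N.Normal)
    (hodd : Odd (Nat.card N)) {n : X} (hn : (n : X ⧸ B) ∈ N) (hno : Odd (orderOf n)) :
    n ∈ Cfsg.pPrimeCore 2 X := by
  obtain ⟨b, hb, o, ho, rfl⟩ := exists_mul_of_central B hBc hB2 N hN hodd hn
  have hoo : Odd (orderOf o) := by
    have h1 := Subgroup.orderOf_dvd_natCard _ ho
    exact (Nat.coprime_two_right.1 (Lib.Cores.pPrimeCore_coprime 2)).of_dvd_nat h1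
  have hcomm : Commute b o := (hBc b hb o).symm
  set m := orderOf (b * o) * orderOf o with hm
  have hmo : Odd m := hno.mul hoo
  have h1 : (b * o) ^ m = 1 := by rw [hm, pow_mul, pow_orderOf_eq_one, one_pow]
  have h2 : o ^ m = 1 := by rw [hm, mul_comm, pow_mul, pow_orderOf_eq_one, one_pow]
  rw [hcomm.mul_pow, h2, mul_one] at h1
  have h3 : orderOf b ∣ m := orderOf_dvd_of_pow_eq_one h1
  obtain ⟨j, hj⟩ := (IsPGroup.iff_orderOf.1 hB2) ⟨b, hb⟩
  rw [Subgroup.orderOf_mk] at hj
  have h4 : Nat.Coprime (orderOf b) m := by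
    rw [hj]
    exact Nat.Coprime.pow_left j (Nat.coprime_two_left.2 hmo)
  have h5 : orderOf b = 1 := Nat.eq_one_of_dvd_coprimes h4 (dvd_refl _) h3
  rw [orderOf_eq_one_iff] at h5
  rw [h5, one_mul]
  exact ho

/-- A subgroup of odd order which is contained in and normalized by `K` lies in `O(K)`. -/
theorem le_core {G : Type*} [Group G] [Finite G] (K D : Subgroup G) (hDK : D ≤ K) (hodd : Odd (Nat.card D))
    (hn : ∀ k ∈ K, ∀ d ∈ D, k * d * k⁻¹ ∈ D) : D ≤ (Cfsg.pPrimeCore 2 K).map K.subtype := by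
  have h1 : (D.subgroupOf K).Normal := by
    refine ⟨?_⟩
    intro d hd k
    exact hn k k.2 d hd
  have h2 : (Nat.card (D.subgroupOf K)).Coprime 2 := by
    rw [Nat.card_congr (Subgroup.subgroupOfEquivOfLe hDK).toEquiv]
    exact Nat.coprime_two_right.2 hodd
  have h3 := Lib.Cores.le_pPrimeCore h1 h2
  intro d hd
  exact ⟨⟨d, hDK hd⟩, h3 hd, rfl⟩

/-- The product of two subgroups of odd order, one normalizing the other, has odd order. -/
theorem odd_sup {G : Type*} [Group G] [Finite G] (D E : Subgroup G) (hD : Odd (Nat.card D)) (hE : Odd (Nat.card E))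
    (hn : ∀ e ∈ E, ∀ d ∈ D, e * d * e⁻¹ ∈ D) : Odd (Nat.card (D ⊔ E : Subgroup G)) := by
  have hle : E ≤ normalizer (D : Set G) := fun e he =>
    Subgroup.mem_normalizer_fintype fun d hd => hn e he d hd
  set K := D ⊔ E with hK
  have hDK : D ≤ K := le_sup_left
  have hEK : E ≤ K := le_sup_right
  have hKN : K ≤ normalizer (D : Set G) := sup_le le_normalizer hle
  have hN : (D.subgroupOf K).Normal := by
    refine ⟨fun d hd k => ?_⟩
    exact (Subgroup.mem_normalizer_iff.1 (hKN k.2) d).1 hd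
  have h1 := Lib.Cores.card_sup_dvd (D.subgroupOf K) (E.subgroupOf K) hN
  have h2 : D.subgroupOf K ⊔ E.subgroupOf K = ⊤ := by
    rw [← Subgroup.subgroupOf_sup hDK hEK, hK, Subgroup.subgroupOf_self]
  rw [h2, Subgroup.card_top, Nat.card_congr (Subgroup.subgroupOfEquivOfLe hDK).toEquiv,
    Nat.card_congr (Subgroup.subgroupOfEquivOfLe hEK).toEquiv] at h1
  exact (hD.mul hE).of_dvd_nat h1

end Cfsg.Agent.SylowSp4.AltGen
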