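import Cfsg.Agent.SylowSp4.AltFus
import Cfsg.Agent.SylowSp4.AltGen
import Cfsg.Agent.S0215
import Cfsg.Agent.PLocal.CoprimeLift

/-!
# S0509, the `A₈`/`A₉` branch: the centralizer `H` of `u = e₁`

`B₁ = {1, u, u', u u'}`, `u' = e₂ s`: `B₁ O(H)` is normal in `H`.
-/

set_option autoImplicit false

namespace Cfsg.Agent.SylowSp4.AltH

open Cfsg.Agent.SylowSp4.AltModel Cfsg.Agent.SylowSp4.AltCent Cfsg.Agent.SylowSp4.AltFunctor
open Cfsg.Agent.SylowSp4.AltFus

universe u

/-! ### facts on the model -/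

/-- `u' = e₂ s` -/
def u' : M64 := e2 * s

/-- `C_S(u)` -/
def InS1 (x : M64) : Prop := x * e1 = e1 * x
/-- `B₁` -/
def InB1 (x : M64) : Prop := x = 1 ∨ x = e1 ∨ x = u' ∨ x = e1 * u'

instance : DecidablePred InS1 := fun x => by unfold InS1; infer_instance
instance : DecidablePred InB1 := fun x => by unfold InB1; infer_instance

theorem card_cen_le : ∀ y : M64, y ≠ 1 → y ≠ t → Fintype.card {x : M64 // x * y = y * x} ≤ 32 := by decide +kernel
theorem card_S1 : Fintype.card {x : M64 // InS1 x} = 32 := by decide +kernel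
theorem B1_facts : InA e1 ∧ InA u' ∧ InA (e1 * u') ∧ UU e1 ∧ UU u' ∧ UU (e1 * u') ∧ e1 ≠ 1 ∧ u' ≠ 1 ∧
    e1 * u' ≠ 1 ∧ u' ≠ e1 ∧ e1 * e1 = 1 ∧ u' * u' = 1 ∧ e1 * u' = u' * e1 ∧ e1 * (t * e1) = t := by
  decide +kernel
theorem S1_of_A : ∀ x, InA x → InS1 x := by decide +kernel
theorem S1_center : ∀ y, InS1 y → (∀ x, InS1 x → x * y = y * x) → y = 1 ∨ y = t ∨ y = e1 ∨ y = t * e1 := by
  decide +kernel
theorem S1_UU : ∀ y, InS1 y → UU y → UU (e1 * y) → y ≠ u' → y ≠ e1 * u' →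
    UU (t * y) ∧ UU (t * (e1 * y)) := by decide +kernel
theorem UU_te1 : UU (t * e1) := by decide +kernel
theorem A_TT : ∀ x, InA x → TT x → TT (x * e1) ∨ TT (x * u') := by decide +kernel
theorem A_B1 : ∀ x, InA x → ¬ InB1 x → ∃ b, InB1 b ∧ TT (x * b) := by decide +kernel
theorem B1_mul : ∀ x y, InB1 x → InB1 y → InB1 (x * y) := by decide +kernel
theorem B1_inv : ∀ x, InB1 x → InB1 x⁻¹ := by decide +kernel
theorem B1_comm_A : ∀ x y, InB1 x → InA y → x * y = y * x := by decide +kernel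
theorem B1_A : ∀ x, InB1 x → InA x := by decide +kernel
theorem S1_mul : ∀ x y, InS1 x → InS1 y → InS1 (x * y) := by decide +kernel
theorem S1_inv : ∀ x, InS1 x → InS1 x⁻¹ := by decide +kernel
theorem S1_one : InS1 1 := by decide

/-- `C_S(u)` -/
def S1sub : Subgroup M64 where
  carrier := {x | InS1 x}
  mul_mem' {x y} hx hy := S1_mul x y hx hy
  one_mem' := S1_one
  inv_mem' {x} hx := S1_inv x hx

/-- `B₁` -/
def B1sub : Subgroup M64 where
  carrier := {x | InB1 x}
  mul_mem' {x y} hx hy := B1_mul x y hx hy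
  one_mem' := Or.inl rfl
  inv_mem' {x} hx := B1_inv x hx

theorem card_S1sub : Nat.card S1sub = 32 := by
  rw [← card_S1, ← Nat.card_eq_fintype_card]
  rfl

variable {G : Type u} [Group G] [Finite G] {S : Sylow 2 G} {F : M64 →* G}

theorem not_TT_UU (P : AltPat S F) {x y : M64} (hx : TT x) (hy : UU y) : ¬ IsConj (F x) (F y) := fun h =>
  P.ntu ((P.isConj_TT hx).trans (h.trans (P.isConj_UU hy).symm))

/-- an element of the model conjugate to one of u-type is of u-type -/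
theorem UU_of_isConj (P : AltPat S F) {x y : M64} (hx : UU x) (h : IsConj (F x) (F y)) : UU y := by
  have h2 := orderOf_of_isConj h
  rw [orderOf_F P (sq_UU x hx).1 (sq_UU x hx).2, orderOf_injective F P.inj] at h2
  have hy2 : y * y = 1 := by rw [← pow_two, ← h2, pow_orderOf_eq_one]
  have hy1 : y ≠ 1 := fun h => by rw [h, orderOf_one] at h2; omega
  rcases inv_dichotomy y hy2 hy1 with h3 | h3
  · exact absurd h.symm (not_TT_UU P h3 hx)
  · exact h3

theorem TT_of_isConj (P : AltPat S F) {x y : M64} (hx : TT x) (h : IsConj (F x) (F y)) : TT y := by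
  have h2 := orderOf_of_isConj h
  rw [orderOf_F P (sq_TT x hx).1 (sq_TT x hx).2, orderOf_injective F P.inj] at h2
  have hy2 : y * y = 1 := by rw [← pow_two, ← h2, pow_orderOf_eq_one]
  have hy1 : y ≠ 1 := fun h => by rw [h, orderOf_one] at h2; omega
  rcases inv_dichotomy y hy2 hy1 with h3 | h3
  · exact h3
  · exact absurd h (not_TT_UU P hx h3)

/-- `H = C(u)` -/
abbrev H (F : M64 →* G) : Subgroup G := Subgroup.centralizer {F e1}

theorem F_mem_H {x : M64} (hx : InS1 x) : F x ∈ H F := by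
  rw [Subgroup.mem_centralizer_singleton_iff, ← map_mul, ← map_mul, hx]

theorem S1_le_H : S1sub.map F ≤ H F := by
  rintro _ ⟨x, hx, rfl⟩
  exact F_mem_H hx

/-- a 2-subgroup of `C(u)` has order at most 32 -/
theorem card_le_of_H (P : AltPat S F) (T : Subgroup G) (hT : IsPGroup 2 T) (hTe : F e1 ∈ T) (hTH : T ≤ H F) :
    Nat.card T ≤ 32 := by
  classical
  obtain ⟨S', hS'⟩ := hT.exists_le_sylow
  obtain ⟨h, hh⟩ := MulAction.exists_smul_eq G S S'
  have hmem : ∀ x ∈ T, h⁻¹ * x * h ∈ S := by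
    intro x hx
    have hx1 : x ∈ S' := hS' hx
    rw [← hh] at hx1
    rw [← SetLike.mem_coe, Sylow.coe_smul] at hx1
    obtain ⟨y, hy, hyx⟩ := hx1
    have e : h * y * h⁻¹ = x := hyx
    have e2 : h⁻¹ * x * h = y := by rw [← e]; group
    rw [e2]; exact hy
  obtain ⟨y0, hy0⟩ := P.exists_of_mem (hmem _ hTe)
  have hy0U : UU y0 := by
    refine UU_of_isConj P B1_facts.2.2.2.1 ?_
    rw [hy0]
    exact isConj_iff.2 ⟨h⁻¹, by group⟩
  have hn1 : y0 ≠ 1 := (sq_UU y0 hy0U).2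
  have hnt : y0 ≠ t := by
    rintro rfl
    exact absurd hy0U (by decide)
  have hex : ∀ x : T, ∃ y : {x : M64 // x * y0 = y0 * x}, F y = h⁻¹ * x * h := by
    intro x
    obtain ⟨y, hy⟩ := P.exists_of_mem (hmem x x.2)
    refine ⟨⟨y, ?_⟩, hy⟩
    apply P.inj
    rw [map_mul, map_mul, hy, hy0]
    have h1 := Subgroup.mem_centralizer_singleton_iff.1 (hTH x.2)
    calc h⁻¹ * x * h * (h⁻¹ * F e1 * h) = h⁻¹ * (x * F e1) * h := by group
      _ = h⁻¹ * (F e1 * x) * h := by rw [h1]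
      _ = _ := by group
  choose g hg using hex
  refine le_trans (Nat.card_le_card_of_injective g ?_) (by
    rw [Nat.card_eq_fintype_card]; exact card_cen_le y0 hn1 hnt)
  intro a b hab
  have h1 := hg a
  rw [hab, hg b] at h1
  have h2 : (a : G) = b := by
    have := congrArg (fun y => h * y * h⁻¹) h1
    simpa [mul_assoc] using this.symm
  exact Subtype.ext h2

theorem card_S1F (P : AltPat S F) : Nat.card (S1sub.map F) = 32 := by
  rw [Subgroup.card_map_of_injective P.inj, card_S1sub]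

theorem isPGroup_S1F (P : AltPat S F) : IsPGroup 2 (S1sub.map F) :=
  IsPGroup.of_card (n := 5) (by rw [card_S1F P]; norm_num)

/-- `C_S(u)` is a Sylow 2-subgroup of `C(u)` -/
theorem exists_sylow_H (P : AltPat S F) : ∃ T : Sylow 2 (H F), (T : Subgroup (H F)) = (S1sub.map F).subgroupOf (H F) := by
  obtain ⟨T, hT⟩ := ((isPGroup_S1F P).comap_subtype (K := H F)).exists_le_sylow
  change (S1sub.map F).subgroupOf (H F) ≤ T at hT
  refine ⟨T, ?_⟩
  have h1 : Nat.card ((S1sub.map F).subgroupOf (H F)) = 32 := by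
    rw [Nat.card_congr (Subgroup.subgroupOfEquivOfLe S1_le_H).toEquiv, card_S1F P]
  have h2 : Nat.card (T : Subgroup (H F)) ≤ 32 := by
    have h3 := card_le_of_H P ((T : Subgroup (H F)).map (H F).subtype) (T.isPGroup'.map _) ?_ (Subgroup.map_subtype_le _)
    · rwa [Subgroup.card_map_of_injective (H F).subtype_injective] at h3
    · refine ⟨⟨F e1, F_mem_H rfl⟩, hT ?_, rfl⟩
      exact ⟨e1, rfl, rfl⟩
  exact (Subgroup.eq_of_le_of_card_ge hT (by rw [h1]; exact h2)).symm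

/-- `J = C(B₁)` -/
def J (F : M64 →* G) : Subgroup G := Subgroup.centralizer {F e1} ⊓ Subgroup.centralizer {F u'}

theorem A_le_J : Asub.map F ≤ J F := by
  rintro _ ⟨x, hx, rfl⟩
  have h1 := A_comm x e1 hx B1_facts.1
  have h2 := A_comm x u' hx B1_facts.2.1
  refine ⟨?_, ?_⟩
  · show F x ∈ Subgroup.centralizer {F e1}
    rw [Subgroup.mem_centralizer_singleton_iff, ← map_mul, ← map_mul, h1]
  · show F x ∈ Subgroup.centralizer {F u'}
    rw [Subgroup.mem_centralizer_singleton_iff, ← map_mul, ← map_mul, h2]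

/-- `A` is a Sylow 2-subgroup of `C(B₁)` -/
theorem exists_sylow_J (P : AltPat S F) : ∃ T : Sylow 2 (J F), (T : Subgroup (J F)) = (Asub.map F).subgroupOf (J F) := by
  obtain ⟨T, hT⟩ := ((isPGroup_AF P).comap_subtype (K := J F)).exists_le_sylow
  change (Asub.map F).subgroupOf (J F) ≤ T at hT
  refine ⟨T, ?_⟩
  have h1 : Nat.card ((Asub.map F).subgroupOf (J F)) = 16 := by
    rw [Nat.card_congr (Subgroup.subgroupOfEquivOfLe A_le_J).toEquiv, card_AF P]
  suffices h2 : Nat.card (T : Subgroup (J F)) ≤ 16 from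
    (Subgroup.eq_of_le_of_card_ge hT (by rw [h1]; exact h2)).symm
  by_contra hlt
  push Not at hlt
  set T' : Subgroup G := (T : Subgroup (J F)).map (J F).subtype with hT'
  have hT'c : Nat.card T' = Nat.card (T : Subgroup (J F)) :=
    Subgroup.card_map_of_injective (J F).subtype_injective
  have hT'2 : IsPGroup 2 T' := T.isPGroup'.map _
  have hT'J : T' ≤ J F := Subgroup.map_subtype_le _
  have hT'H : T' ≤ H F := hT'J.trans inf_le_left
  have hAT' : Asub.map F ≤ T' := by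
    intro x hx
    exact ⟨⟨x, A_le_J hx⟩, hT hx, rfl⟩
  have he1 : F e1 ∈ T' := hAT' ⟨e1, B1_facts.1, rfl⟩
  have hu' : F u' ∈ T' := hAT' ⟨u', B1_facts.2.1, rfl⟩
  have hle := card_le_of_H P T' hT'2 he1 hT'H
  have hc : Nat.card T' = 32 := by
    obtain ⟨k, hk⟩ := hT'2.exists_card_eq
    rw [hk] at hle ⊢
    rw [← hT'c, hk] at hlt
    have h3 : k < 6 := (Nat.pow_lt_pow_iff_right (by norm_num : 1 < 2)).1 (lt_of_le_of_lt hle (by norm_num))
    have h4 : 4 < k := (Nat.pow_lt_pow_iff_right (by norm_num : 1 < 2)).1 (lt_of_le_of_lt (by norm_num) hlt)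
    have : k = 5 := by omega
    rw [this]; norm_num
  -- move `T'` to `C_S(u)`
  obtain ⟨T1, hT1⟩ := exists_sylow_H P
  obtain ⟨T2, hT2⟩ := (hT'2.comap_subtype (K := H F)).exists_le_sylow
  obtain ⟨d, hd⟩ := MulAction.exists_smul_eq (H F) T2 T1
  have hmem : ∀ x ∈ T', (d : G) * x * (d : G)⁻¹ ∈ S1sub.map F := by
    intro x hx
    have h3 : d * (⟨x, hT'H hx⟩ : H F) * d⁻¹ ∈ (d • T2 : Sylow 2 (H F)) := by
      rw [← SetLike.mem_coe, Sylow.coe_smul]
      exact Set.mem_smul_set.mpr ⟨⟨x, hT'H hx⟩, hT2 hx, rfl⟩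
    rw [hd] at h3
    have h4 : d * (⟨x, hT'H hx⟩ : H F) * d⁻¹ ∈ (T1 : Subgroup (H F)) := h3
    rw [hT1] at h4
    exact h4
  have hTeq : T'.map (MulAut.conj (d : G)).toMonoidHom = S1sub.map F := by
    apply Subgroup.eq_of_le_of_card_ge
    · rintro _ ⟨x, hx, rfl⟩
      exact hmem x hx
    · have h9 : Nat.card (T'.map (MulAut.conj (d : G)).toMonoidHom) = Nat.card T' :=
        Subgroup.card_map_of_injective (MulAut.conj (d : G)).injective
      rw [h9, hc, card_S1F P]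
  obtain ⟨y, hy, hyu⟩ := hmem _ hu'
  have hde1 : (d : G) * F e1 * (d : G)⁻¹ = F e1 := by
    have := Subgroup.mem_centralizer_singleton_iff.1 d.2
    rw [this]; group
  have hycen : ∀ x, InS1 x → x * y = y * x := by
    intro x hx
    have h3 : F x ∈ T'.map (MulAut.conj (d : G)).toMonoidHom := by rw [hTeq]; exact ⟨x, hx, rfl⟩
    obtain ⟨w, hw, hwx⟩ := h3
    have hwx' : (d : G) * w * (d : G)⁻¹ = F x := hwx
    have hwu := Subgroup.mem_centralizer_singleton_iff.1 (hT'J hw).2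
    apply P.inj
    rw [map_mul, map_mul, hyu, ← hwx']
    calc (d : G) * w * (d : G)⁻¹ * (d * F u' * (d : G)⁻¹) = d * (w * F u') * (d : G)⁻¹ := by group
      _ = d * (F u' * w) * (d : G)⁻¹ := by rw [hwu]
      _ = _ := by group
  have hyU : UU y := UU_of_isConj P B1_facts.2.2.2.2.1 (isConj_iff.2 ⟨d, hyu.symm⟩)
  rcases S1_center y hy hycen with rfl | rfl | rfl | rfl
  · exact absurd hyU (by decide)
  · exact absurd hyU (by decide)
  · have h3 : F u' = F e1 := by
      have h4 : (d : G) * F u' * (d : G)⁻¹ = (d : G) * F e1 * (d : G)⁻¹ := by rw [← hyu, hde1]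
      simpa using h4
    exact B1_facts.2.2.2.2.2.2.2.2.2.1 (P.inj h3)
  · have h3 : (d : G) * F (e1 * u') * (d : G)⁻¹ = F t := by
      rw [map_mul]
      calc (d : G) * (F e1 * F u') * (d : G)⁻¹ = (d * F e1 * (d : G)⁻¹) * (d * F u' * (d : G)⁻¹) := by group
        _ = F e1 * F (t * e1) := by rw [hde1, hyu]
        _ = F t := by rw [← map_mul, B1_facts.2.2.2.2.2.2.2.2.2.2.2.2.2]
    exact not_TT_UU P (by decide : TT t) B1_facts.2.2.2.2.2.1 (isConj_iff.2 ⟨d, h3⟩ : IsConj (F (e1 * u')) (F t)).symm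

/-- an element of `J` of 2-power order is conjugate in `K ≤ J`, `A ≤ K`, into `A` -/
theorem exists_conj_A (P : AltPat S F) (K : Subgroup G) (hAK : Asub.map F ≤ K) (hKJ : K ≤ J F) {x : G} (hx : x ∈ K)
    (h2 : IsPGroup 2 (Subgroup.zpowers x)) : ∃ c ∈ K, ∃ a, InA a ∧ c * x * c⁻¹ = F a := by
  obtain ⟨T, hT⟩ := exists_sylow_J P
  obtain ⟨T0, hT0⟩ := ((isPGroup_AF P).comap_subtype (K := K)).exists_le_sylow
  change (Asub.map F).subgroupOf K ≤ T0 at hT0
  obtain ⟨T1, hT1⟩ := (h2.comap_subtype (K := K)).exists_le_sylow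
  obtain ⟨d, hd⟩ := MulAction.exists_smul_eq K T1 T0
  -- `T0 = A`
  have hT0A : (T0 : Subgroup K) = (Asub.map F).subgroupOf K := by
    symm
    apply Subgroup.eq_of_le_of_card_ge hT0
    rw [Nat.card_congr (Subgroup.subgroupOfEquivOfLe hAK).toEquiv, card_AF P]
    have h3 : IsPGroup 2 ((((T0 : Subgroup K).map K.subtype)).subgroupOf (J F)) :=
      (T0.isPGroup'.map _).comap_subtype
    obtain ⟨T2, hT2⟩ := h3.exists_le_sylow
    have h4 : Nat.card (T2 : Subgroup (J F)) = 16 := by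
      rw [Nat.card_congr (Sylow.equiv T2 T).toEquiv, hT, Nat.card_congr (Subgroup.subgroupOfEquivOfLe A_le_J).toEquiv, card_AF P]
    have h5 : Nat.card (((T0 : Subgroup K).map K.subtype).subgroupOf (J F)) = Nat.card (T0 : Subgroup K) := by
      rw [Nat.card_congr (Subgroup.subgroupOfEquivOfLe ((Subgroup.map_subtype_le _).trans hKJ)).toEquiv,
        Subgroup.card_map_of_injective K.subtype_injective]
    rw [← h5, ← h4]
    exact Nat.card_le_card_of_injective _ (Subgroup.inclusion_injective hT2)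
  have h3 : d * (⟨x, hx⟩ : K) * d⁻¹ ∈ (d • T1 : Sylow 2 K) := by
    rw [← SetLike.mem_coe, Sylow.coe_smul]
    exact Set.mem_smul_set.mpr ⟨⟨x, hx⟩, hT1 (Subgroup.mem_zpowers x), rfl⟩
  rw [hd] at h3
  have h4 : d * (⟨x, hx⟩ : K) * d⁻¹ ∈ (T0 : Subgroup K) := h3
  rw [hT0A] at h4
  obtain ⟨a, ha, haa⟩ := h4
  exact ⟨d, d.2, a, ha, haa.symm⟩

/-- step 4: an `H`-conjugate of `u'` in `C_S(u)` is `u'` or `u u'` -/
theorem conj_u' (P : AltPat S F) {h : G} (hh : h ∈ H F) {y : M64} (hy : InS1 y) (hyh : h * F u' * h⁻¹ = F y) :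
    y = u' ∨ y = e1 * u' := by
  by_contra hne
  push Not at hne
  have hh' := Subgroup.mem_centralizer_singleton_iff.1 hh
  have hhe : h * F e1 * h⁻¹ = F e1 := by rw [hh']; group
  have hyU : UU y := UU_of_isConj P B1_facts.2.2.2.2.1 (isConj_iff.2 ⟨h, hyh⟩)
  have hyU' : UU (e1 * y) := by
    refine UU_of_isConj P B1_facts.2.2.2.2.2.1 (isConj_iff.2 ⟨h, ?_⟩)
    rw [map_mul, map_mul, ← hyh]
    calc h * (F e1 * F u') * h⁻¹ = (h * F e1 * h⁻¹) * (h * F u' * h⁻¹) := by group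
      _ = _ := by rw [hhe]
  obtain ⟨hU1, hU2⟩ := S1_UU y hy hyU hyU' hne.1 hne.2
  -- `h⁻¹ t h ∈ J`
  have ht2 : orderOf (h⁻¹ * F t * h) = 2 := by
    have := orderOf_of_isConj (isConj_iff.2 ⟨h⁻¹, rfl⟩ : IsConj (F t) (h⁻¹ * F t * h⁻¹⁻¹))
    rw [inv_inv] at this
    rw [this]; exact orderOf_t P
  have htJ : h⁻¹ * F t * h ∈ J F := by
    refine ⟨?_, ?_⟩
    · show h⁻¹ * F t * h ∈ Subgroup.centralizer {F e1}
      rw [Subgroup.mem_centralizer_singleton_iff]
      have e : F t * F e1 = F e1 * F t := by rw [← map_mul, ← map_mul, t_comm]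
      have e2 : h * F e1 = F e1 * h := hh'
      have e3 : h⁻¹ * F e1 = F e1 * h⁻¹ := by
        rw [inv_mul_eq_iff_eq_mul, ← mul_assoc, e2, mul_assoc, mul_inv_cancel, mul_one]
      calc h⁻¹ * F t * h * F e1 = h⁻¹ * (F t * (h * F e1)) := by group
        _ = h⁻¹ * (F t * F e1) * h := by rw [e2]; group
        _ = (h⁻¹ * F e1) * F t * h := by rw [e]; group
        _ = F e1 * (h⁻¹ * F t * h) := by rw [e3]; group
    · show h⁻¹ * F t * h ∈ Subgroup.centralizer {F u'}
      rw [Subgroup.mem_centralizer_singleton_iff]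
      have e : F t * F y = F y * F t := by rw [← map_mul, ← map_mul, t_comm]
      have e2 : F u' = h⁻¹ * F y * h := by rw [← hyh]; group
      rw [e2]
      calc h⁻¹ * F t * h * (h⁻¹ * F y * h) = h⁻¹ * (F t * F y) * h := by group
        _ = h⁻¹ * (F y * F t) * h := by rw [e]
        _ = _ := by group
  obtain ⟨c, hc, t1, ht1, hct⟩ := exists_conj_A P (J F) A_le_J le_rfl htJ (by
    refine IsPGroup.of_card (n := 1) ?_
    rw [Nat.card_zpowers, ht2, pow_one])
  have hce := Subgroup.mem_centralizer_singleton_iff.1 hc.1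
  have hcu := Subgroup.mem_centralizer_singleton_iff.1 hc.2
  set k : G := h * c⁻¹ with hk
  have hci : ∀ z : G, c * z = z * c → c⁻¹ * z * c = z := by
    intro z hz
    calc c⁻¹ * z * c = c⁻¹ * (z * c) := by group
      _ = c⁻¹ * (c * z) := by rw [hz]
      _ = z := by group
  have k1 : k * F t1 * k⁻¹ = F t := by
    rw [hk, ← hct]; group
  have k2 : k * F e1 * k⁻¹ = F e1 := by
    have := hci _ hce
    calc k * F e1 * k⁻¹ = h * (c⁻¹ * F e1 * c) * h⁻¹ := by rw [hk]; group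
      _ = F e1 := by rw [this, hhe]
  have k3 : k * F u' * k⁻¹ = F y := by
    have := hci _ hcu
    calc k * F u' * k⁻¹ = h * (c⁻¹ * F u' * c) * h⁻¹ := by rw [hk]; group
      _ = F y := by rw [this, hyh]
  have hT1 : TT t1 := by
    refine TT_of_isConj P (by decide : TT t) (isConj_iff.2 ⟨k⁻¹, ?_⟩)
    rw [← k1]; group
  rcases A_TT t1 ht1 hT1 with h3 | h3
  · refine not_TT_UU P h3 UU_te1 (isConj_iff.2 ⟨k, ?_⟩)
    rw [map_mul, map_mul, ← k1]
    nth_rw 2 [← k2]
    group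
  · refine not_TT_UU P h3 hU1 (isConj_iff.2 ⟨k, ?_⟩)
    rw [map_mul, map_mul, ← k1, ← k3]
    group

end Cfsg.Agent.SylowSp4.AltH
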