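import Cfsg.Agent.SylowSp4.Coord
import Cfsg.Prelude.Def_Involutions
import Cfsg.Prelude.Def_Local

/-!
# Sylow 2-subgroups of type `PSp₄(3)` (order 64): explicit model and the fusion pattern of `A₈`, `A₉` (S0509)

`M64 = (Q₈ wr 2) / ⟨(z, z)⟩`.  The element `⟨a, b, c, d, e, m⟩` is `(i^a j^b z^e, i^c j^d) s^m`, where `s` swaps the
two factors.
-/

set_option autoImplicit false

namespace Cfsg.Agent.SylowSp4.AltModel

/-- `(Q₈ wr 2) / ⟨(z, z)⟩`, a group of order `64`. -/
@[ext] structure M64 where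
  a : ZMod 2
  b : ZMod 2
  c : ZMod 2
  d : ZMod 2
  e : ZMod 2
  m : Bool
deriving DecidableEq, Fintype

namespace M64

/-- multiplication -/
def mul (p q : M64) : M64 :=
  match p.m with
  | true => ⟨p.a + q.c, p.b + q.d, p.c + q.a, p.d + q.b,
      p.e + q.e + (p.a * q.c + p.b * q.d + p.b * q.c) + (p.c * q.a + p.d * q.b + p.d * q.a), !q.m⟩
  | false => ⟨p.a + q.a, p.b + q.b, p.c + q.c, p.d + q.d,
      p.e + q.e + (p.a * q.a + p.b * q.b + p.b * q.a) + (p.c * q.c + p.d * q.d + p.d * q.c), q.m⟩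

/-- inverse -/
def inv (p : M64) : M64 :=
  match p.m with
  | true => ⟨p.c, p.d, p.a, p.b, p.e + (p.a * p.a + p.b * p.b + p.b * p.a) + (p.c * p.c + p.d * p.d + p.d * p.c), true⟩
  | false => ⟨p.a, p.b, p.c, p.d, p.e + (p.a * p.a + p.b * p.b + p.b * p.a) + (p.c * p.c + p.d * p.d + p.d * p.c), false⟩

instance : Mul M64 := ⟨mul⟩
instance : One M64 := ⟨⟨0, 0, 0, 0, 0, false⟩⟩
instance : Inv M64 := ⟨inv⟩

theorem mul_false (a b c d e : ZMod 2) (q : M64) : (⟨a, b, c, d, e, false⟩ : M64) * q =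
    ⟨a + q.a, b + q.b, c + q.c, d + q.d,
      e + q.e + (a * q.a + b * q.b + b * q.a) + (c * q.c + d * q.d + d * q.c), q.m⟩ := rfl

theorem mul_true (a b c d e : ZMod 2) (q : M64) : (⟨a, b, c, d, e, true⟩ : M64) * q =
    ⟨a + q.c, b + q.d, c + q.a, d + q.b,
      e + q.e + (a * q.c + b * q.d + b * q.c) + (c * q.a + d * q.b + d * q.a), !q.m⟩ := rfl

theorem mul_assoc' (p q r : M64) : p * q * r = p * (q * r) := by
  obtain ⟨a, b, c, d, e, m⟩ := p
  obtain ⟨a', b', c', d', e', m'⟩ := q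
  obtain ⟨a'', b'', c'', d'', e'', m''⟩ := r
  cases m <;> cases m' <;>
    simp only [mul_false, mul_true, M64.mk.injEq, Bool.not_true, Bool.not_false, Bool.not_not, and_true] <;>
    refine ⟨by ring, by ring, by ring, by ring, by ring⟩

theorem one_mul' (p : M64) : 1 * p = p := by
  show (⟨0, 0, 0, 0, 0, false⟩ : M64) * p = p
  rw [mul_false]
  ext <;> simp

theorem inv_mul' : ∀ p : M64, p⁻¹ * p = 1 := by decide +kernel

instance : Group M64 := Group.ofLeftAxioms mul_assoc' one_mul' inv_mul'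

end M64

open M64

theorem card_M64 : Fintype.card M64 = 64 := by decide +kernel

/-- the central involution -/
def t : M64 := ⟨0, 0, 0, 0, 1, false⟩
/-- the swap -/
def s : M64 := ⟨0, 0, 0, 0, 0, true⟩
def i1 : M64 := ⟨1, 0, 0, 0, 0, false⟩
def j1 : M64 := ⟨0, 1, 0, 0, 0, false⟩
def i2 : M64 := ⟨0, 0, 1, 0, 0, false⟩
def j2 : M64 := ⟨0, 0, 0, 1, 0, false⟩
/-- `(i, i)` -/
def e1 : M64 := ⟨1, 0, 1, 0, 0, false⟩
/-- `(j, j)` -/
def e2 : M64 := ⟨0, 1, 0, 1, 0, false⟩
/-- `(ij, ij)` -/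
def e3 : M64 := ⟨1, 1, 1, 1, 0, false⟩

/-- `R = Q₈ ∘ Q₈` -/
def InR (x : M64) : Prop := x.m = false
/-- the elementary abelian subgroup `A = ⟨t, s, e₁, e₂⟩` of order 16 -/
def InA (x : M64) : Prop := x.a = x.c ∧ x.b = x.d
/-- the elementary abelian subgroup `F₂ = {1, t} ∪ {±(j, j), ±(i, ij), ±(ij, i)}` of order 8 -/
def InF2 (x : M64) : Prop := x.m = false ∧ x.c = x.a ∧ x.d = x.a + x.b
/-- the elementary abelian subgroup `F₃ = {1, t} ∪ {±(ij, ij), ±(i, j), ±(j, i)}` of order 8 -/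
def InF3 (x : M64) : Prop := x.m = false ∧ x.c = x.b ∧ x.d = x.a
/-- the elementary abelian subgroup `F₁ = {1, t} ∪ {±(i, i), ±(j, ij), ±(ij, j)}` of order 8 -/
def InF1 (x : M64) : Prop := x.m = false ∧ x.c = x.a + x.b ∧ x.d = x.b
/-- the involutions which are of t-type in the fusion pattern of `A₈` -/
def TT (x : M64) : Prop := (InF2 x ∧ x ≠ 1) ∨ (InF3 x ∧ x ≠ 1) ∨
  (x.m = true ∧ x.c = x.a ∧ x.d = x.b ∧ x.e = x.a + x.b + x.a * x.b)
/-- the involutions which are of u-type in the fusion pattern of `A₈` -/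
def UU (x : M64) : Prop := (InF1 x ∧ x ≠ 1 ∧ x ≠ t) ∨
  (x.m = true ∧ x.c = x.a ∧ x.d = x.b ∧ x.e = 1 + x.a + x.b + x.a * x.b)
/-- `i → j → ij` on the first factor, `i → ij`, `j → i` on the second one -/
def om (x : M64) : M64 := ⟨x.b, x.a + x.b, x.c + x.d, x.c, x.e, x.m⟩

instance : DecidablePred InR := fun x => by unfold InR; infer_instance
instance : DecidablePred InA := fun x => by unfold InA; infer_instance
instance : DecidablePred InF2 := fun x => by unfold InF2; infer_instance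
instance : DecidablePred InF3 := fun x => by unfold InF3; infer_instance
instance : DecidablePred InF1 := fun x => by unfold InF1; infer_instance
instance : DecidablePred TT := fun x => by unfold TT; infer_instance
instance : DecidablePred UU := fun x => by unfold UU; infer_instance

theorem om_mul : ∀ x, InR x → ∀ y, InR y → om (x * y) = om x * om y := by decide +kernel
theorem om_three : ∀ x, om (om (om x)) = x := by decide +kernel
theorem inv_dichotomy : ∀ x : M64, x * x = 1 → x ≠ 1 → TT x ∨ UU x := by decide +kernel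
theorem sq_TT : ∀ x : M64, TT x → x * x = 1 ∧ x ≠ 1 := by decide +kernel
theorem sq_UU : ∀ x : M64, UU x → x * x = 1 ∧ x ≠ 1 := by decide +kernel
theorem not_UU_of_TT : ∀ x : M64, TT x → ¬ UU x := by decide +kernel

theorem conj_of_TT : ∀ x : M64, TT x → x = t ∨ (∃ g, g * s * g⁻¹ = x) ∨ (∃ g, g * e2 * g⁻¹ = x) ∨
    (∃ g, g * om e2 * g⁻¹ = x) ∨ (∃ g, g * e3 * g⁻¹ = x) ∨ (∃ g, g * om e3 * g⁻¹ = x) := by decide +kernel
theorem conj_of_UU : ∀ x : M64, UU x → (∃ g, g * (t * s) * g⁻¹ = x) ∨ (∃ g, g * e1 * g⁻¹ = x) ∨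
    (∃ g, g * om e1 * g⁻¹ = x) := by decide +kernel

/-! ### from `TSp S 1 f s` to a homomorphism `M64 →* G` -/

section Coord

open Coord QuaternionGroup

/-- `i^x j^y z^c` -/
def qel (x y c : ZMod 2) : Q 1 :=
  (if x = 0 then 1 else QuaternionGroup.a 1) * (if y = 0 then 1 else QuaternionGroup.xa 0) *
    (if c = 0 then 1 else z 1)

instance instDecQ : DecidableEq (Q 1) := inferInstanceAs (DecidableEq (QuaternionGroup 2))

theorem qel_mul : ∀ x y c x' y' c' : ZMod 2, qel x y c * qel x' y' c' =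
    qel (x + x') (y + y') (c + c' + (x * x' + y * y' + y * x')) := by decide +kernel

theorem qel_z : ∀ x y c : ZMod 2, z 1 * qel x y c = qel x y (c + 1) := by decide +kernel

theorem qel_inj : ∀ x y c x' y' c' : ZMod 2, qel x y c = qel x' y' c' → x = x' ∧ y = y' ∧ c = c' := by
  decide +kernel

theorem exists_qel : ∀ q : QuaternionGroup 2, ∃ x y c : ZMod 2, qel x y c = q := by decide +kernel

theorem qel_zero : qel 0 0 0 = 1 := by decide +kernel

/-- powers of `s` -/
def spow {G : Type*} [Group G] (s : G) (m : Bool) : G := if m then s else 1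

/-- the coordinates as a map `M64 → G` -/
def toG {G : Type*} [Group G] (f : Q 1 → Q 1 → G) (s : G) (p : M64) : G :=
  f (qel p.a p.b p.e) (qel p.c p.d 0) * spow s p.m

section

variable {G : Type*} [Group G] {S : Subgroup G} {f : Q 1 → Q 1 → G} {s : G}

theorem f_shift (h : TSp S 1 f s) (x y c x' y' c' : ZMod 2) :
    f (qel x y (c + c')) (qel x' y' 0) = f (qel x y c) (qel x' y' c') := by
  have h2 : ∀ c' : ZMod 2, c' = 0 ∨ c' = 1 := by decide
  rcases h2 c' with rfl | rfl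
  · rw [add_zero]
  · have e1 : qel x' y' (1 : ZMod 2) = z 1 * qel x' y' 0 := by rw [qel_z, zero_add]
    have e2 : z 1 * qel x y (c + 1) = qel x y c := by
      rw [qel_z, add_assoc]
      have : (1 + 1 : ZMod 2) = 0 := by decide
      rw [this, add_zero]
    rw [← one_mul (f (qel x y (c + 1)) (qel x' y' 0)), ← h.f_zz, h.f_mul, e2, ← e1]

theorem toG_mul (h : TSp S 1 f s) (p q : M64) : toG f s (p * q) = toG f s p * toG f s q := by
  obtain ⟨a, b, c, d, e, m⟩ := p
  obtain ⟨a', b', c', d', e', m'⟩ := q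
  cases m
  · rw [mul_false]
    simp only [toG]
    have e1 : f (qel a b e) (qel c d 0) * f (qel a' b' e') (qel c' d' 0) =
        f (qel (a + a') (b + b') (e + e' + (a * a' + b * b' + b * a') + (c * c' + d * d' + d * c')))
          (qel (c + c') (d + d') 0) := by
      rw [h.f_mul, qel_mul, qel_mul, f_shift h, zero_add, zero_add]
    rw [← e1]
    simp [spow, mul_assoc]
  · rw [mul_true]
    simp only [toG]
    have e1 : f (qel a b e) (qel c d 0) * f (qel c' d' 0) (qel a' b' e') =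
        f (qel (a + c') (b + d') (e + e' + (a * c' + b * d' + b * c') + (c * a' + d * b' + d * a')))
          (qel (c + a') (d + b') 0) := by
      rw [h.f_mul, qel_mul, qel_mul, ← f_shift h (a + c') (b + d') (e + 0 + (a * c' + b * d' + b * c'))
        (c + a') (d + b') (0 + e' + (c * a' + d * b' + d * a'))]
      congr 2
      ring
    rw [← e1]
    have e2 : spow s true * (f (qel a' b' e') (qel c' d' 0) * spow s m') =
        f (qel c' d' 0) (qel a' b' e') * spow s (!m') := by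
      rw [← mul_assoc]
      have : spow s true = s := by simp [spow]
      rw [this, h.s_f]
      cases m' <;> simp [spow, mul_assoc, h.s_s]
    rw [mul_assoc (f (qel a b e) (qel c d 0)) (spow s true), e2, mul_assoc]

/-- the coordinates as a homomorphism -/
def hom (h : TSp S 1 f s) : M64 →* G where
  toFun := toG f s
  map_one' := by
    show f (qel 0 0 0) (qel 0 0 0) * spow s false = 1
    rw [qel_zero, h.f_one]
    simp [spow]
  map_mul' := toG_mul h

theorem hom_apply (h : TSp S 1 f s) (p : M64) : hom h p = toG f s p := rfl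

theorem hom_injective (h : TSp S 1 f s) : Function.Injective (hom h) := by
  rw [injective_iff_map_eq_one]
  intro p hp
  obtain ⟨a, b, c, d, e, m⟩ := p
  rw [hom_apply, toG] at hp
  simp only at hp
  cases m
  · simp only [spow, Bool.false_eq_true, if_false, mul_one] at hp
    rw [← h.f_one] at hp
    have hz : z 1 * 1 = qel 0 0 1 := by rw [← qel_zero, qel_z, zero_add]
    rcases h.f_inj _ _ _ _ hp with ⟨h1, h2⟩ | ⟨h1, h2⟩
    · rw [← qel_zero] at h1 h2
      obtain ⟨rfl, rfl, rfl⟩ := qel_inj _ _ _ _ _ _ h1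
      obtain ⟨rfl, rfl, -⟩ := qel_inj _ _ _ _ _ _ h2
      rfl
    · rw [hz] at h1 h2
      obtain ⟨-, -, h3⟩ := qel_inj _ _ _ _ _ _ h2
      exact absurd h3 (by decide)
  · exfalso
    simp only [spow, if_true] at hp
    have h1 : s = (f (qel a b e) (qel c d 0))⁻¹ := (eq_inv_of_mul_eq_one_right hp)
    rw [h.f_inv] at h1
    exact h.s_ne _ _ h1

theorem hom_range (h : TSp S 1 f s) : (hom h).range = S := by
  have hall : ∀ a b : Q 1, ∀ m : Bool, ∃ p, hom h p = f a b * spow s m := by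
    intro a b m
    obtain ⟨x, y, c, rfl⟩ := exists_qel a
    obtain ⟨x', y', c', rfl⟩ := exists_qel b
    refine ⟨⟨x, y, x', y', c + c', m⟩, ?_⟩
    rw [hom_apply, toG]
    simp only
    rw [f_shift h]
  ext g
  rw [h.mem_iff]
  constructor
  · rintro ⟨p, rfl⟩
    obtain ⟨a, b, c, d, e, m⟩ := p
    rw [hom_apply, toG]
    simp only
    cases m
    · left; exact ⟨qel a b e, qel c d 0, by simp [spow]⟩
    · right; exact ⟨qel a b e, qel c d 0, by simp [spow]⟩
  · rintro (⟨a, b, rfl⟩ | ⟨a, b, rfl⟩)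
    · obtain ⟨p, hp⟩ := hall a b false
      exact ⟨p, by rw [hp]; simp [spow]⟩
    · obtain ⟨p, hp⟩ := hall a b true
      exact ⟨p, by rw [hp]; simp [spow]⟩

end

end Coord

/-! ### the fusion pattern of `A₈` and `A₉` -/

/-- The fusion pattern of `A₈` and `A₉`: `t ~ e₂ ~ e₃ ~ s`, `e₁ ~ t s`, `t` not conjugate to `e₁`, and
`C(t) = O(C(t)) S ⟨r⟩`, where `r` acts on `R` as `i → j → ij` on the first factor and `i → ij`, `j → i` on the second
one. -/
structure AltPat {G : Type*} [Group G] [Finite G] (S : Sylow 2 G) (F : M64 →* G) : Prop where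
  inj : Function.Injective F
  range : F.range = (S : Subgroup G)
  t2 : IsConj (F t) (F e2)
  t3 : IsConj (F t) (F e3)
  ts : IsConj (F t) (F s)
  us : IsConj (F e1) (F (t * s))
  ntu : ¬ IsConj (F t) (F e1)
  rho : ∃ r : G, r * F t = F t * r ∧ r ^ 3 ∈ Cfsg.centralizerPPrimeCore 2 (F t) ∧
    (∀ q, InR q → r * F q * r⁻¹ = F (om q)) ∧
    ∀ c, c * F t = F t * c → ∃ o ∈ Cfsg.centralizerPPrimeCore 2 (F t), ∃ x, ∃ m < 3, c = o * F x * r ^ m

namespace AltPat

variable {G : Type*} [Group G] [Finite G] {S : Sylow 2 G} {F : M64 →* G}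

theorem isConj_TT (P : AltPat S F) {x : M64} (hx : TT x) : IsConj (F t) (F x) := by
  obtain ⟨r, hr, hr3, hrq, -⟩ := P.rho
  have hom : ∀ q, InR q → IsConj (F q) (F (om q)) := fun q hq => isConj_iff.2 ⟨r, hrq q hq⟩
  rcases conj_of_TT x hx with rfl | ⟨g, rfl⟩ | ⟨g, rfl⟩ | ⟨g, rfl⟩ | ⟨g, rfl⟩ | ⟨g, rfl⟩
  · exact IsConj.refl _
  · exact P.ts.trans (F.map_isConj (isConj_iff.2 ⟨g, rfl⟩))
  · exact P.t2.trans (F.map_isConj (isConj_iff.2 ⟨g, rfl⟩))
  · exact (P.t2.trans (hom e2 rfl)).trans (F.map_isConj (isConj_iff.2 ⟨g, rfl⟩))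
  · exact P.t3.trans (F.map_isConj (isConj_iff.2 ⟨g, rfl⟩))
  · exact (P.t3.trans (hom e3 rfl)).trans (F.map_isConj (isConj_iff.2 ⟨g, rfl⟩))

theorem isConj_UU (P : AltPat S F) {x : M64} (hx : UU x) : IsConj (F e1) (F x) := by
  obtain ⟨r, hr, hr3, hrq, -⟩ := P.rho
  have hom : ∀ q, InR q → IsConj (F q) (F (om q)) := fun q hq => isConj_iff.2 ⟨r, hrq q hq⟩
  rcases conj_of_UU x hx with ⟨g, rfl⟩ | ⟨g, rfl⟩ | ⟨g, rfl⟩
  · exact P.us.trans (F.map_isConj (isConj_iff.2 ⟨g, rfl⟩))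
  · exact F.map_isConj (isConj_iff.2 ⟨g, rfl⟩)
  · exact (hom e1 rfl).trans (F.map_isConj (isConj_iff.2 ⟨g, rfl⟩))

theorem mem_S (P : AltPat S F) (x : M64) : F x ∈ (S : Subgroup G) := by
  rw [← P.range]; exact ⟨x, rfl⟩

theorem exists_of_mem (P : AltPat S F) {g : G} (hg : g ∈ (S : Subgroup G)) : ∃ x, F x = g := by
  rw [← P.range] at hg; exact hg

end AltPat

end Cfsg.Agent.SylowSp4.AltModel
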