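import Cfsg.Agent.SylowSp4.AltH
import Cfsg.Agent.S1221
import Cfsg.Prelude.Def_CaseTheorems

/-!
# S0509, the `A₈`/`A₉` branch: `B₁ O(H)` is normal in `H`, `H ≤ M`, and `W = 1`
-/

set_option autoImplicit false

namespace Cfsg.Agent.SylowSp4.AltZ

open Cfsg.Agent.SylowSp4.AltModel Cfsg.Agent.SylowSp4.AltCent Cfsg.Agent.SylowSp4.AltFunctor
open Cfsg.Agent.SylowSp4.AltFus Cfsg.Agent.SylowSp4.AltH

universe u

variable {G : Type u} [Group G] [Finite G] {S : Sylow 2 G} {F : M64 →* G}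

theorem e1_mem_H (F : M64 →* G) : F e1 ∈ H F := F_mem_H rfl

theorem u'_mem_H (F : M64 →* G) : F u' ∈ H F := F_mem_H (S1_of_A _ B1_facts.2.1)

theorem normal_zpowers (F : M64 →* G) : (Subgroup.zpowers (⟨F e1, e1_mem_H F⟩ : H F)).Normal := by
  refine ⟨?_⟩
  intro n hn g
  obtain ⟨k, rfl⟩ := Subgroup.mem_zpowers_iff.1 hn
  have hg : Commute g (⟨F e1, e1_mem_H F⟩ : H F) :=
    Subtype.ext (Subgroup.mem_centralizer_singleton_iff.1 g.2)
  have : g * (⟨F e1, e1_mem_H F⟩ : H F) ^ k * g⁻¹ = (⟨F e1, e1_mem_H F⟩ : H F) ^ k := by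
    rw [(hg.zpow_right k).eq]; group
  rw [this]
  exact hn

/-- the commutators `[u', h]`, `h ∈ H`, lie in `⟨u⟩ O(H)` -/
theorem comm_mem (P : AltPat S F) {h : G} (hh : h ∈ H F) :
    ∃ b, (b = 1 ∨ b = F e1) ∧ ∃ o ∈ Th (F e1), F u' * h * (F u')⁻¹ * h⁻¹ = b * o := by
  obtain ⟨T, hT⟩ := exists_sylow_H P
  set e : H F := ⟨F e1, e1_mem_H F⟩ with he
  set v : H F := ⟨F u', u'_mem_H F⟩ with hv
  set B : Subgroup (H F) := Subgroup.zpowers e with hB
  have hBn : B.Normal := normal_zpowers F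
  have hee : e * e = 1 := by
    apply Subtype.ext
    show F e1 * F e1 = 1
    rw [← map_mul, B1_facts.2.2.2.2.2.2.2.2.2.2.1, map_one]
  have hBmem : ∀ b ∈ B, b = 1 ∨ b = e := by
    intro b hb
    obtain ⟨k, rfl⟩ := Subgroup.mem_zpowers_iff.1 hb
    rcases Int.even_or_odd' k with ⟨m, rfl | rfl⟩
    · left; rw [zpow_mul, zpow_ofNat, pow_two, hee, one_zpow]
    · right; rw [zpow_add, zpow_mul, zpow_ofNat, pow_two, hee, one_zpow, one_mul, zpow_one]
  have hvv : v * v = 1 := by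
    apply Subtype.ext
    show F u' * F u' = 1
    rw [← map_mul, B1_facts.2.2.2.2.2.2.2.2.2.2.2.1, map_one]
  have hvB : v ∉ B := by
    intro hvb
    rcases hBmem v hvb with h1 | h1
    · have h2 : F u' = 1 := congrArg Subtype.val h1
      exact B1_facts.2.2.2.2.2.2.2.1 (P.inj (by rw [h2, map_one]))
    · have h2 : F u' = F e1 := congrArg Subtype.val h1
      exact B1_facts.2.2.2.2.2.2.2.2.2.1 (P.inj h2)
  -- the Sylow 2-subgroup of the quotient
  set π := QuotientGroup.mk' B with hπ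
  have hπs : Function.Surjective π := QuotientGroup.mk'_surjective B
  have hord : orderOf (π v) = 2 := by
    apply orderOf_eq_prime
    · rw [pow_two, ← map_mul, hvv, map_one]
    · intro h1
      exact hvB ((QuotientGroup.eq_one_iff v).1 h1)
  have hvT : v ∈ T := by
    show v ∈ (T : Subgroup (H F))
    rw [hT]
    exact ⟨u', S1_of_A _ B1_facts.2.1, rfl⟩
  have heT : e ∈ (T : Subgroup (H F)) := by
    rw [hT]
    exact ⟨e1, rfl, rfl⟩
  obtain ⟨N, hN, hNodd, hNc⟩ := S0215.result (T.mapSurjective hπs) (π v) hord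
    (by
      show π v ∈ ((T.mapSurjective hπs : Sylow 2 (H F ⧸ B)) : Subgroup (H F ⧸ B))
      rw [Sylow.coe_mapSurjective]
      exact ⟨v, hvT, rfl⟩)
    (by
      intro g hg
      obtain ⟨x, rfl⟩ := hπs g
      have hg' : π (x * v * x⁻¹) ∈ (T : Subgroup (H F)).map π := by
        rw [map_mul, map_mul, map_inv]
        exact hg
      obtain ⟨y, hy, hyx⟩ := hg'
      have h1 : x * v * x⁻¹ ∈ (T : Subgroup (H F)) := by
        have h2 : y⁻¹ * (x * v * x⁻¹) ∈ B := by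
          rw [← QuotientGroup.eq]
          exact hyx
        have h3 : x * v * x⁻¹ = y * (y⁻¹ * (x * v * x⁻¹)) := by group
        rw [h3]
        refine Subgroup.mul_mem _ hy ?_
        rcases hBmem _ h2 with h4 | h4
        · rw [h4]; exact Subgroup.one_mem _
        · rw [h4]; exact heT
      rw [hT] at h1
      obtain ⟨y, hy, hyv⟩ := h1
      have hyv' : (x : G) * F u' * (x : G)⁻¹ = F y := hyv.symm
      rw [← map_inv, ← map_mul, ← map_mul]
      have h5 : (x * v * x⁻¹ : H F) = v ∨ (x * v * x⁻¹ : H F) = v * e := by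
        rcases conj_u' P x.2 hy hyv' with rfl | rfl
        · left; exact Subtype.ext hyv'
        · right
          apply Subtype.ext
          show (x : G) * F u' * (x : G)⁻¹ = F u' * F e1
          rw [hyv', ← map_mul, B1_facts.2.2.2.2.2.2.2.2.2.2.2.2.1]
      rcases h5 with h5 | h5
      · rw [h5]
      · rw [h5, map_mul]
        have : π e = 1 := (QuotientGroup.eq_one_iff e).2 (Subgroup.mem_zpowers e)
        rw [this, mul_one])
  have h1 := hNc (π ⟨h, hh⟩)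
  rw [← map_mul, ← map_inv, ← map_mul, ← map_inv, ← map_mul] at h1
  have hB2 : IsPGroup 2 B := by
    refine IsPGroup.of_card (n := 1) ?_
    rw [Nat.card_zpowers, pow_one]
    apply orderOf_eq_prime
    · rw [pow_two, hee]
    · intro h2
      have h3 : F e1 = 1 := congrArg Subtype.val h2
      exact B1_facts.2.2.2.2.2.2.1 (P.inj (by rw [h3, map_one]))
  obtain ⟨b, hb, o, ho, hbo⟩ := AltGen.exists_mul_of_central B (by
    intro b hb x
    rcases hBmem b hb with rfl | rfl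
    · rw [mul_one, one_mul]
    · exact Subtype.ext (Subgroup.mem_centralizer_singleton_iff.1 x.2)) hB2 N hN hNodd h1
  refine ⟨b, ?_, o, ⟨o, ho, rfl⟩, congrArg Subtype.val hbo⟩
  rcases hBmem b hb with rfl | rfl
  · exact Or.inl rfl
  · exact Or.inr rfl

/-- the subgroup `B₁` of `G` -/
def BF (F : M64 →* G) : Subgroup G := B1sub.map F

theorem B1_le_H : BF F ≤ H F := by
  rintro _ ⟨x, hx, rfl⟩
  exact F_mem_H (S1_of_A _ (B1_A x hx))

theorem card_BF (P : AltPat S F) : Nat.card (BF F) = 4 := by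
  have h1 : Nat.card B1sub = 4 := by
    have : Fintype.card {x : M64 // InB1 x} = 4 := by decide +kernel
    rw [← this, ← Nat.card_eq_fintype_card]
    rfl
  rw [BF, Subgroup.card_map_of_injective P.inj, h1]

theorem isPGroup_BF (P : AltPat S F) : IsPGroup 2 (BF F) :=
  IsPGroup.of_card (n := 2) (by rw [card_BF P]; norm_num)

/-- `H = O(H) N_H(B₁)` -/
theorem exists_norm (P : AltPat S F) {h : G} (hh : h ∈ H F) :
    ∃ o ∈ Th (F e1), ∀ x, InB1 x → ∃ y, InB1 y ∧ (o * h) * F x * (o * h)⁻¹ = F y := by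
  set N : Subgroup (H F) := Cfsg.pPrimeCore 2 (H F) with hN
  have hNn : N.Normal := Lib.Cores.pPrimeCore_normal 2
  set Q : Subgroup (H F) := (BF F).subgroupOf (H F) with hQ
  have hQp : IsPGroup 2 Q := (isPGroup_BF P).comap_subtype
  have he : F e1 ∈ H F := e1_mem_H F
  have hv : F u' ∈ H F := u'_mem_H F
  have heQ : (⟨F e1, he⟩ : H F) ∈ Q := ⟨e1, Or.inr (Or.inl rfl), rfl⟩
  have hvQ : (⟨F u', hv⟩ : H F) ∈ Q := ⟨u', Or.inr (Or.inr (Or.inl rfl)), rfl⟩
  have h1 : (⟨h, hh⟩ : H F) * ⟨F e1, he⟩ * (⟨h, hh⟩ : H F)⁻¹ ∈ Q ⊔ N := by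
    have e : (⟨h, hh⟩ : H F) * ⟨F e1, he⟩ * (⟨h, hh⟩ : H F)⁻¹ = ⟨F e1, he⟩ := by
      apply Subtype.ext
      show h * F e1 * h⁻¹ = F e1
      rw [Subgroup.mem_centralizer_singleton_iff.1 hh]; group
    rw [e]; exact Subgroup.mem_sup_left heQ
  have h2 : (⟨h, hh⟩ : H F) * ⟨F u', hv⟩ * (⟨h, hh⟩ : H F)⁻¹ ∈ Q ⊔ N := by
    obtain ⟨b, hb, o, ⟨o', ho', hoo⟩, hbo⟩ := comm_mem P hh
    have hb' : ∃ b' : H F, (b' : G) = b ∧ b' ∈ Q := by
      rcases hb with rfl | rfl
      · exact ⟨1, rfl, Q.one_mem⟩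
      · exact ⟨⟨F e1, he⟩, rfl, heQ⟩
    obtain ⟨b', hb1, hb2⟩ := hb'
    have e : (⟨h, hh⟩ : H F) * ⟨F u', hv⟩ * (⟨h, hh⟩ : H F)⁻¹ = o'⁻¹ * (b'⁻¹ * ⟨F u', hv⟩) := by
      apply Subtype.ext
      show h * F u' * h⁻¹ = (o' : G)⁻¹ * ((b' : G)⁻¹ * F u')
      have hoo' : (o' : G) = o := hoo
      rw [hb1, hoo', ← mul_assoc, ← mul_inv_rev, ← hbo]
      group
    rw [e]
    refine Subgroup.mul_mem _ (Subgroup.mem_sup_right (N.inv_mem ho')) (Subgroup.mem_sup_left ?_)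
    exact Q.mul_mem (Q.inv_mem hb2) hvQ
  obtain ⟨m, hm, hmn⟩ := PLocal.CoprimeLift.exists_normalizing_lift N Q
    (Lib.Cores.pPrimeCore_coprime 2) hQp ⟨h, hh⟩ (by
      rintro ⟨x, hx⟩ ⟨q, hq, hqx⟩
      have hqx' : F q = x := hqx
      rcases hq with rfl | rfl | rfl | rfl
      · have : (⟨x, hx⟩ : H F) = 1 := Subtype.ext (by
          show x = 1
          rw [← hqx', map_one])
        rw [this, mul_one, mul_inv_cancel]
        exact Subgroup.one_mem _
      · have : (⟨x, hx⟩ : H F) = ⟨F e1, he⟩ := Subtype.ext hqx'.symm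
        rw [this]; exact h1
      · have : (⟨x, hx⟩ : H F) = ⟨F u', hv⟩ := Subtype.ext hqx'.symm
        rw [this]; exact h2
      · have : (⟨x, hx⟩ : H F) = ⟨F e1, he⟩ * ⟨F u', hv⟩ := Subtype.ext (by
          show x = F e1 * F u'
          rw [← hqx', map_mul])
        rw [this]
        have e : (⟨h, hh⟩ : H F) * (⟨F e1, he⟩ * ⟨F u', hv⟩) * (⟨h, hh⟩ : H F)⁻¹ =
            ((⟨h, hh⟩ : H F) * ⟨F e1, he⟩ * (⟨h, hh⟩ : H F)⁻¹) * ((⟨h, hh⟩ : H F) * ⟨F u', hv⟩ * (⟨h, hh⟩ : H F)⁻¹) := by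
          group
        rw [e]
        exact Subgroup.mul_mem _ h1 h2)
  refine ⟨m, ⟨m, hm, rfl⟩, ?_⟩
  intro x hx
  have h3 := (Subgroup.mem_normalizer_iff.1 hmn ⟨F x, B1_le_H ⟨x, hx, rfl⟩⟩).1 ⟨x, hx, rfl⟩
  obtain ⟨y, hy, hyx⟩ := h3
  exact ⟨y, hy, hyx.symm⟩

/-- `O(J)` as a subgroup of `G` -/
def OJ (F : M64 →* G) : Subgroup G := (Cfsg.pPrimeCore 2 (J F)).map (J F).subtype

theorem odd_OJ (F : M64 →* G) : Odd (Nat.card (OJ F)) := by
  rw [OJ, Subgroup.card_map_of_injective (J F).subtype_injective]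
  exact Nat.coprime_two_right.1 (Lib.Cores.pPrimeCore_coprime 2)

/-- an element normalizing `B₁` normalizes `J` and `O(J)` -/
theorem conj_J {n : G} (hn : ∀ x, InB1 x → ∃ y, InB1 y ∧ n * F x * n⁻¹ = F y) {j : G} (hj : j ∈ J F) :
    n⁻¹ * j * n ∈ J F := by
  have hall : ∀ x, InB1 x → j * F x = F x * j := by
    have h1 := Subgroup.mem_centralizer_singleton_iff.1 hj.1
    have h2 := Subgroup.mem_centralizer_singleton_iff.1 hj.2
    rintro x (rfl | rfl | rfl | rfl)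
    · rw [map_one, mul_one, one_mul]
    · exact h1
    · exact h2
    · rw [map_mul, ← mul_assoc, h1, mul_assoc, h2, mul_assoc]
  have key : ∀ x, InB1 x → n⁻¹ * j * n ∈ Subgroup.centralizer {F x} := by
    intro x hx
    obtain ⟨y, hy, hxy⟩ := hn x hx
    rw [Subgroup.mem_centralizer_singleton_iff]
    have h1 := hall y hy
    rw [← hxy] at h1
    calc n⁻¹ * j * n * F x = n⁻¹ * (j * (n * F x * n⁻¹)) * n := by group
      _ = n⁻¹ * ((n * F x * n⁻¹) * j) * n := by rw [h1]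
      _ = F x * (n⁻¹ * j * n) := by group
  exact ⟨key e1 (Or.inr (Or.inl rfl)), key u' (Or.inr (Or.inr (Or.inl rfl)))⟩

/-- an element of the normalizer of a subgroup normalizes its odd core -/
theorem conj_core (K : Subgroup G) {n : G} (hn : ∀ k ∈ K, n * k * n⁻¹ ∈ K) :
    ∀ d ∈ (Cfsg.pPrimeCore 2 K).map K.subtype, n * d * n⁻¹ ∈ (Cfsg.pPrimeCore 2 K).map K.subtype := by
  have hnn : n ∈ Subgroup.normalizer (K : Set G) := Subgroup.mem_normalizer_fintype hn
  have hn' : ∀ k ∈ K, n⁻¹ * k * n ∈ K := by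
    intro k hk
    have := (Subgroup.mem_normalizer_iff.1 (Subgroup.inv_mem _ hnn) k).1 hk
    rwa [inv_inv] at this
  set D := (Cfsg.pPrimeCore 2 K).map K.subtype with hD
  have hDn : ∀ k ∈ K, ∀ d ∈ D, k * d * k⁻¹ ∈ D := by
    rintro k hk _ ⟨d, hd, rfl⟩
    have h1 : (Cfsg.pPrimeCore 2 K).Normal := Lib.Cores.pPrimeCore_normal 2
    exact ⟨⟨k, hk⟩ * d * ⟨k, hk⟩⁻¹, h1.conj_mem d hd _, rfl⟩
  have h1 : D.map (MulAut.conj n).toMonoidHom ≤ D := by
    apply AltGen.le_core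
    · rintro _ ⟨_, ⟨d, hd, rfl⟩, rfl⟩
      exact hn _ d.2
    · have h2 : Nat.card (D.map (MulAut.conj n).toMonoidHom) = Nat.card D :=
        Subgroup.card_map_of_injective (MulAut.conj n).injective
      rw [h2, hD, Subgroup.card_map_of_injective K.subtype_injective]
      exact Nat.coprime_two_right.1 (Lib.Cores.pPrimeCore_coprime 2)
    · rintro k hk _ ⟨d, hd, rfl⟩
      refine ⟨(n⁻¹ * k * n) * d * (n⁻¹ * k * n)⁻¹, hDn _ (hn' k hk) d hd, ?_⟩
      show n * ((n⁻¹ * k * n) * d * (n⁻¹ * k * n)⁻¹) * n⁻¹ = k * (n * d * n⁻¹) * k⁻¹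
      group
  intro d hd
  exact h1 ⟨d, hd, rfl⟩

/-- `O(J) ≤ O(H)` -/
theorem OJ_le (P : AltPat S F) : OJ F ≤ Th (F e1) := by
  have hJH : J F ≤ H F := inf_le_left
  have hOJH : OJ F ≤ H F := (Subgroup.map_subtype_le _).trans hJH
  have hsup : Th (F e1) ⊔ OJ F ≤ Th (F e1) := by
    refine AltGen.le_core (H F) _ (sup_le (Th_le _) hOJH) ?_ ?_
    · apply AltGen.odd_sup _ _ (odd_Th _) (odd_OJ F)
      intro e he d hd
      exact conj_mem_Th (Subgroup.mem_centralizer_singleton_iff.1 (hOJH he)) hd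
    · intro h hh
      obtain ⟨o, ho, hn⟩ := exists_norm P hh
      have hoh : o * h ∈ H F := (H F).mul_mem (Th_le _ ho) hh
      have h1 : ∀ d ∈ Th (F e1) ⊔ OJ F, (o * h) * d * (o * h)⁻¹ ∈ Th (F e1) ⊔ OJ F := by
        have h2 : Th (F e1) ⊔ OJ F ≤ (Th (F e1) ⊔ OJ F).comap (MulAut.conj (o * h)).toMonoidHom := by
          refine sup_le ?_ ?_
          · intro d hd
            exact Subgroup.mem_sup_left (conj_mem_Th (Subgroup.mem_centralizer_singleton_iff.1 hoh) hd)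
          · intro d hd
            refine Subgroup.mem_sup_right (conj_core (J F) ?_ d hd)
            intro k hk
            have hni : ∀ x, InB1 x → ∃ y, InB1 y ∧ (o * h)⁻¹ * F x * (o * h)⁻¹⁻¹ = F y := by
              have hmem : (o * h) ∈ Subgroup.normalizer (BF F : Set G) := by
                apply Subgroup.mem_normalizer_fintype
                rintro _ ⟨x, hx, rfl⟩
                obtain ⟨y, hy, hxy⟩ := hn x hx
                exact ⟨y, hy, hxy.symm⟩
              intro x hx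
              obtain ⟨y, hy, hxy⟩ := (Subgroup.mem_normalizer_iff.1 (Subgroup.inv_mem _ hmem) (F x)).1 ⟨x, hx, rfl⟩
              exact ⟨y, hy, hxy.symm⟩
            have := conj_J hni hk
            rwa [inv_inv] at this
        intro d hd
        exact h2 hd
      intro d hd
      have h3 := h1 d hd
      have ho' : o ∈ Th (F e1) ⊔ OJ F := Subgroup.mem_sup_left ho
      have e : h * d * h⁻¹ = o⁻¹ * ((o * h) * d * (o * h)⁻¹) * o := by group
      rw [e]
      exact Subgroup.mul_mem _ (Subgroup.mul_mem _ (Subgroup.inv_mem _ ho') h3) ho'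
  exact le_sup_right.trans hsup

end Cfsg.Agent.SylowSp4.AltZ
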