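import Mathlib
import Cfsg.Agent.TwoFusion.A7NoSwap

/-!
# `A₇`: the self-centralising four-group of a Sylow 2-subgroup

`cases` : for involutions `u`, `w` of a 2-subgroup of `A₇` with `(u w)² ≠ 1`, exactly one of `⟨u, (u w)²⟩`, `⟨w, (u w)²⟩`
is centralised by an element of order 3, the other one is self-centralising.
-/

set_option autoImplicit false

open Equiv

namespace Cfsg.Agent.SylowSp4.CentUA7P

open Cfsg.Agent.TwoFusion.A7NoSwap

/-- the centraliser of `⟨t0, v3⟩` in `S₇` -/
theorem cent_cases {c : Perm (Fin 7)} (ht : c * t0 = t0 * c)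
    (hv3 : c * v3 = v3 * c) (hv4 : c * v4 = v4 * c) (hs : Perm.sign c = 1) :
    c = 1 ∨ c = t0 ∨ c = v3 ∨ c = v4 := by
  have ht' : ∀ x, t0 x = x → t0 (c x) = c x := by
    intro x hx
    have := congrArg (fun f : Perm (Fin 7) => f x) ht
    simp only [Perm.mul_apply] at this
    rw [← this, hx]
  have hv3' : ∀ x, v3 x = x → v3 (c x) = c x := by
    intro x hx
    have := congrArg (fun f : Perm (Fin 7) => f x) hv3
    simp only [Perm.mul_apply] at this
    rw [← this, hx]
  have hv4' : ∀ x, v4 x = x → v4 (c x) = c x := by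
    intro x hx
    have := congrArg (fun f : Perm (Fin 7) => f x) hv4
    simp only [Perm.mul_apply] at this
    rw [← this, hx]
  have h6 : c 6 = 6 := fix1 _ (ht' 6 (by decide)) (hv3' 6 (by decide))
  have hne : ∀ x, x ≠ 6 → c x ≠ 6 := by
    intro x hx h
    exact hx (c.injective (h.trans h6.symm))
  have h4 : c 4 = 4 ∨ c 4 = 5 := by
    rcases fix2 _ (ht' 4 (by decide)) with h | h | h
    · exact Or.inl h
    · exact Or.inr h
    · exact absurd h (hne 4 (by decide))
  have h5 : c 5 = 4 ∨ c 5 = 5 := by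
    rcases fix2 _ (ht' 5 (by decide)) with h | h | h
    · exact Or.inl h
    · exact Or.inr h
    · exact absurd h (hne 5 (by decide))
  have h2 : c 2 = 2 ∨ c 2 = 3 := by
    rcases fix3 _ (hv3' 2 (by decide)) with h | h | h
    · exact Or.inl h
    · exact Or.inr h
    · exact absurd h (hne 2 (by decide))
  have h3' : c 3 = 2 ∨ c 3 = 3 := by
    rcases fix3 _ (hv3' 3 (by decide)) with h | h | h
    · exact Or.inl h
    · exact Or.inr h
    · exact absurd h (hne 3 (by decide))
  have h0 : c 0 = 0 ∨ c 0 = 1 := by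
    rcases fix4 _ (hv4' 0 (by decide)) with h | h | h
    · exact Or.inl h
    · exact Or.inr h
    · exact absurd h (hne 0 (by decide))
  have h1 : c 1 = 0 ∨ c 1 = 1 := by
    rcases fix4 _ (hv4' 1 (by decide)) with h | h | h
    · exact Or.inl h
    · exact Or.inr h
    · exact absurd h (hne 1 (by decide))
  have hinj := c.injective
  have n45 : c 4 ≠ c 5 := fun h => absurd (hinj h) (by decide)
  have n23 : c 2 ≠ c 3 := fun h => absurd (hinj h) (by decide)
  have n01 : c 0 ≠ c 1 := fun h => absurd (hinj h) (by decide)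
  have key : ∀ d : Perm (Fin 7), c 0 = d 0 → c 1 = d 1 → c 2 = d 2 → c 3 = d 3 → c 4 = d 4 → c 5 = d 5 → c 6 = d 6 →
      c = d := by
    intro d e0 e1 e2 e3 e4 e5 e6
    ext x
    congr 1
    fin_cases x
    · exact e0
    · exact e1
    · exact e2
    · exact e3
    · exact e4
    · exact e5
    · exact e6
  have k0 : (c 0 = 0 ∧ c 1 = 1) ∨ (c 0 = 1 ∧ c 1 = 0) := by
    rcases h0 with a | a <;> rcases h1 with b | b
    · exact absurd (a.trans b.symm) n01
    · exact Or.inl ⟨a, b⟩
    · exact Or.inr ⟨a, b⟩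
    · exact absurd (a.trans b.symm) n01
  have k2 : (c 2 = 2 ∧ c 3 = 3) ∨ (c 2 = 3 ∧ c 3 = 2) := by
    rcases h2 with a | a <;> rcases h3' with b | b
    · exact absurd (a.trans b.symm) n23
    · exact Or.inl ⟨a, b⟩
    · exact Or.inr ⟨a, b⟩
    · exact absurd (a.trans b.symm) n23
  have k4 : (c 4 = 4 ∧ c 5 = 5) ∨ (c 4 = 5 ∧ c 5 = 4) := by
    rcases h4 with a | a <;> rcases h5 with b | b
    · exact absurd (a.trans b.symm) n45
    · exact Or.inl ⟨a, b⟩
    · exact Or.inr ⟨a, b⟩
    · exact absurd (a.trans b.symm) n45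
  rcases k0 with ⟨a0, a1⟩ | ⟨a0, a1⟩ <;> rcases k2 with ⟨a2, a3⟩ | ⟨a2, a3⟩ <;> rcases k4 with ⟨a4, a5⟩ | ⟨a4, a5⟩
  · left
    exact key 1 a0 a1 a2 a3 a4 a5 h6
  · exfalso
    have : c = swap 4 5 := key (swap 4 5) (a0.trans (by decide)) (a1.trans (by decide)) (a2.trans (by decide))
      (a3.trans (by decide)) (a4.trans (by decide)) (a5.trans (by decide)) (h6.trans (by decide))
    rw [this, Perm.sign_swap (by decide)] at hs
    exact absurd hs (by decide)
  · exfalso
    have : c = swap 2 3 := key (swap 2 3) (a0.trans (by decide)) (a1.trans (by decide)) (a2.trans (by decide))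
      (a3.trans (by decide)) (a4.trans (by decide)) (a5.trans (by decide)) (h6.trans (by decide))
    rw [this, Perm.sign_swap (by decide)] at hs
    exact absurd hs (by decide)
  · right; right; right
    exact key v4 (a0.trans (by decide)) (a1.trans (by decide)) (a2.trans (by decide))
      (a3.trans (by decide)) (a4.trans (by decide)) (a5.trans (by decide)) (h6.trans (by decide))
  · exfalso
    have : c = swap 0 1 := key (swap 0 1) (a0.trans (by decide)) (a1.trans (by decide)) (a2.trans (by decide))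
      (a3.trans (by decide)) (a4.trans (by decide)) (a5.trans (by decide)) (h6.trans (by decide))
    rw [this, Perm.sign_swap (by decide)] at hs
    exact absurd hs (by decide)
  · right; right; left
    exact key v3 (a0.trans (by decide)) (a1.trans (by decide)) (a2.trans (by decide))
      (a3.trans (by decide)) (a4.trans (by decide)) (a5.trans (by decide)) (h6.trans (by decide))
  · right; left
    exact key t0 (a0.trans (by decide)) (a1.trans (by decide)) (a2.trans (by decide))
      (a3.trans (by decide)) (a4.trans (by decide)) (a5.trans (by decide)) (h6.trans (by decide))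
  · exfalso
    have : c = swap 0 1 * swap 2 3 * swap 4 5 := key _ (a0.trans (by decide)) (a1.trans (by decide))
      (a2.trans (by decide)) (a3.trans (by decide)) (a4.trans (by decide)) (a5.trans (by decide)) (h6.trans (by decide))
    rw [this, Perm.sign_mul, Perm.sign_mul, Perm.sign_swap (by decide), Perm.sign_swap (by decide),
      Perm.sign_swap (by decide)] at hs
    exact absurd hs (by decide)

theorem v3v4 : v3 * v4 = t0 := by decide +kernel

/-- the centraliser of a self-centralising four-group, in `A₇` -/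
theorem cent_of {a t c : alternatingGroup (Fin 7)} (ht : (t : Perm (Fin 7)) = t0)
    (ha : (a : Perm (Fin 7)) = v3 ∨ (a : Perm (Fin 7)) = v4) (h1 : c * a = a * c) (h2 : c * t = t * c) :
    c = 1 ∨ c = t ∨ c = a ∨ c = t * a := by
  have h1' : (c : Perm (Fin 7)) * a = a * c := by simpa using congrArg Subtype.val h1
  have h2' : (c : Perm (Fin 7)) * t0 = t0 * c := by
    have := congrArg Subtype.val h2
    simpa [ht] using this
  have hs : Perm.sign (c : Perm (Fin 7)) = 1 := Perm.mem_alternatingGroup.1 c.2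
  rcases ha with ha | ha
  · rw [ha] at h1'
    have h3 : (c : Perm (Fin 7)) * v4 = v4 * c := by
      rw [← t0v3, ← mul_assoc, h2', mul_assoc, h1', mul_assoc]
    rcases cent_cases h2' h1' h3 hs with h | h | h | h
    · exact Or.inl (Subtype.ext h)
    · exact Or.inr (Or.inl (Subtype.ext (h.trans ht.symm)))
    · exact Or.inr (Or.inr (Or.inl (Subtype.ext (h.trans ha.symm))))
    · refine Or.inr (Or.inr (Or.inr (Subtype.ext (h.trans ?_))))
      rw [Subgroup.coe_mul, ht, ha, t0v3]
  · rw [ha] at h1'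
    have h3 : (c : Perm (Fin 7)) * v3 = v3 * c := by
      rw [← t0v4, ← mul_assoc, h2', mul_assoc, h1', mul_assoc]
    rcases cent_cases h2' h3 h1' hs with h | h | h | h
    · exact Or.inl (Subtype.ext h)
    · exact Or.inr (Or.inl (Subtype.ext (h.trans ht.symm)))
    · refine Or.inr (Or.inr (Or.inr (Subtype.ext (h.trans ?_))))
      rw [Subgroup.coe_mul, ht, ha, t0v4]
    · exact Or.inr (Or.inr (Or.inl (Subtype.ext (h.trans ha.symm))))

/-- the centraliser of `⟨a, t⟩` is `⟨a, t⟩` -/
def Self (a t : alternatingGroup (Fin 7)) : Prop :=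
  ∀ c : alternatingGroup (Fin 7), c * a = a * c → c * t = t * c → c = 1 ∨ c = t ∨ c = a ∨ c = t * a

theorem self_of_map (σ : alternatingGroup (Fin 7) ≃* alternatingGroup (Fin 7)) {a t : alternatingGroup (Fin 7)}
    (h : Self (σ a) (σ t)) : Self a t := by
  intro c h1 h2
  have h3 := h (σ c) (by rw [← map_mul, h1, map_mul]) (by rw [← map_mul, h2, map_mul])
  rcases h3 with h3 | h3 | h3 | h3
  · exact Or.inl ((map_eq_one_iff σ σ.injective).1 h3)
  · exact Or.inr (Or.inl (σ.injective h3))
  · exact Or.inr (Or.inr (Or.inl (σ.injective h3)))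
  · refine Or.inr (Or.inr (Or.inr (σ.injective ?_)))
    rw [h3, map_mul]

/-- **One of the two four-groups of a Sylow 2-subgroup is centralised by an element of order 3, the other one is
self-centralising.** -/
theorem cases (P : Subgroup (alternatingGroup (Fin 7))) (hP : IsPGroup 2 P) (u w : alternatingGroup (Fin 7))
    (huP : u ∈ P) (hwP : w ∈ P) (hu : u ^ 2 = 1) (hw : w ^ 2 = 1) (h2 : (u * w) ^ 2 ≠ 1) :
    (Pr u ((u * w) ^ 2) ∧ Self w ((u * w) ^ 2)) ∨ (Pr w ((u * w) ^ 2) ∧ Self u ((u * w) ^ 2)) := by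
  obtain ⟨f, hf, hft, hf1, hf3, hf2, hf4⟩ := exists_hom
  have hcard : Nat.card f.range = 8 := by
    rw [← Nat.card_congr (MonoidHom.ofInjective hf).toEquiv, Nat.card_eq_fintype_card, DihedralGroup.card]
  have hidx : f.range.index = 315 := by
    have h := f.range.card_mul_index
    rw [hcard, card_A7] at h
    omega
  have hD2 : IsPGroup 2 f.range := IsPGroup.of_card (n := 3) (by rw [hcard]; rfl)
  let D : Sylow 2 (alternatingGroup (Fin 7)) := hD2.toSylow (by rw [hidx]; decide)
  obtain ⟨Q, hQ⟩ := hP.exists_le_sylow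
  obtain ⟨g, hg⟩ := MulAction.exists_smul_eq (alternatingGroup (Fin 7)) Q D
  have hmem : ∀ x ∈ P, MulAut.conj g x ∈ f.range := by
    intro x hx
    have h1 : x ∈ (Q : Subgroup (alternatingGroup (Fin 7))) := hQ hx
    have h3 : MulAut.conj g x ∈ ((g • Q : Sylow 2 (alternatingGroup (Fin 7))) : Subgroup (alternatingGroup (Fin 7))) := by
      rw [Sylow.coe_subgroup_smul]
      exact Subgroup.smul_mem_pointwise_smul _ _ _ h1
    rw [hg] at h3
    exact h3
  set σ := MulAut.conj g
  obtain ⟨a, ha⟩ := hmem u huP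
  obtain ⟨b, hb⟩ := hmem w hwP
  have h1 : a ^ 2 = 1 := by
    apply hf
    rw [map_pow, ha, ← map_pow, hu, map_one, map_one]
  have h3 : b ^ 2 = 1 := by
    apply hf
    rw [map_pow, hb, ← map_pow, hw, map_one, map_one]
  have h4 : (a * b) ^ 2 ≠ 1 := by
    intro h
    apply h2
    apply (map_eq_one_iff σ σ.injective).mp
    rw [map_pow, map_mul, ← ha, ← hb, ← map_mul, ← map_pow, h, map_one]
  obtain ⟨h5, h6⟩ := dihedral_cases a b h1 h3 h4
  have ht : ((σ ((u * w) ^ 2) : alternatingGroup (Fin 7)) : Perm (Fin 7)) = t0 := by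
    rw [map_pow, map_mul, ← ha, ← hb, ← map_mul, ← map_pow, h5]
    exact hft
  have hpos : ∀ v : DihedralGroup 4, (v = DihedralGroup.sr 0 ∨ v = DihedralGroup.sr 2) →
      Pr (f v) (σ ((u * w) ^ 2)) := by
    rintro v (rfl | rfl)
    · exact pr_of ht (Or.inl hf1)
    · exact pr_of ht (Or.inr hf2)
  have hneg : ∀ v : DihedralGroup 4, (v = DihedralGroup.sr 1 ∨ v = DihedralGroup.sr 3) →
      Self (f v) (σ ((u * w) ^ 2)) := by
    rintro v (rfl | rfl) c
    · exact cent_of ht (Or.inl hf3)
    · exact cent_of ht (Or.inr hf4)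
  rcases h6 with ⟨h7, h8⟩ | ⟨h7, h8⟩
  · left
    refine ⟨(pr_iff σ _ _).1 ?_, self_of_map σ ?_⟩
    · rw [← ha]; exact hpos a h7
    · rw [← hb]; exact hneg b h8
  · right
    refine ⟨(pr_iff σ _ _).1 ?_, self_of_map σ ?_⟩
    · rw [← hb]; exact hpos b h7
    · rw [← ha]; exact hneg a h8

end Cfsg.Agent.SylowSp4.CentUA7P
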