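import Cfsg.Agent.SylowSp4.CentUData
import Cfsg.Agent.SylowSp4.CentUA7P

/-!
# Type `PSp_4(q)`: `L / ⟨ζ⟩` is not `A₇`

The element `r = (x, 1)` of `C(e)` interchanges the two classes of four-groups of `DE`; if `L / ⟨ζ⟩ ≃ A₇` then modulo the
core one of them is centralised by an element of order 3 of `C(t₁) ∩ C(e)`, the other one is self-centralising.
-/

set_option autoImplicit false

namespace Cfsg.Agent.SylowSp4.CentUA7

open QuaternionGroup Cfsg.Agent.SylowSp4.Coord Cfsg.Agent.SylowSp4.Facts Cfsg.Agent.SylowSp4.Pat Subgroup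
open Cfsg.Agent.Walter.OddCoreIn Cfsg.Agent.SylowSp4.Pairs Cfsg.Agent.SylowSp4.CentUCoord
open Cfsg.Agent.SylowSp4.CentULoc Cfsg.Agent.SylowSp4.CentUInst Cfsg.Agent.SylowSp4.CentUMain
open Cfsg.Agent.SylowSp4.FieldPart Cfsg.Agent.SylowSp4.CentUData Cfsg.Agent.SylowSp4.DuoFacts
open Cfsg.Agent.TwoFusion.A7NoSwap Cfsg.Agent.SylowSp4.CentUA7P

section Abstract

variable {L : Type*} [Group L] {ζ : L}

theorem isSimple7 : IsSimpleGroup (alternatingGroup (Fin 7)) := alternatingGroup.isSimpleGroup (by simp)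

/-- `2.A₇` has no odd order normal subgroup modulo the centre. -/
theorem noOdd {ψ : L →* alternatingGroup (Fin 7)} (hψ : Function.Surjective ψ) (hk : ∀ a, ψ a = 1 ↔ a = 1 ∨ a = ζ) :
    NoOdd ζ := by
  intro M hM hodd
  have hs := isSimple7
  have hn : (M.map ψ).Normal := hM.map ψ hψ
  rcases hn.eq_bot_or_eq_top with h | h
  · intro a ha
    have h1 : ψ a ∈ M.map ψ := ⟨a, ha, rfl⟩
    rw [h, mem_bot] at h1
    exact (hk a).1 h1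
  · exfalso
    have h1 : x1 ∈ M.map ψ := by rw [h]; exact mem_top _
    obtain ⟨a, ha, h2⟩ := h1
    obtain ⟨m, hm, h3⟩ := hodd a ha
    have h4 : x1 ^ m = 1 := by
      rw [← h2, ← map_pow, hk]
      exact h3
    obtain ⟨n, rfl⟩ := hm
    rw [pow_succ, pow_mul, pow_two, x1_sq, one_pow, one_mul] at h4
    exact v1_ne (congrArg Subtype.val h4)

end Abstract

variable {G : Type*} [Group G] [Finite G] {P : Sylow 2 G} {k : ℕ} {f : Q k → Q k → G} {s : G}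
  {H L : Type*} [Group H] [Group L] {π : Cn (tt f) →* H} {D : Duo H L} {ι : Q k →* L} {Φ : Subgroup H}
  (p : Pat P k f s)

section Move

include p

omit [Finite G] in
theorem DE_t1 {x : G} (hx : x ∈ DE p.h) : x ∈ Cn (t1 f s) := mem_Cn.2 (comm p.h hx (t1_Dc p))

omit [Finite G] in
theorem DE_mem_e {x : G} (hx : x ∈ DE p.h) : x ∈ Cn (ee f) := mem_Cn.2 (DE_e p.h hx)

/-- the commuting pair `(t₁, t₁ e)` is moved to `(t, s)`, and `DE` into `P` -/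
theorem exists_g0 : ∃ g0 : G, g0 * t1 f s * g0⁻¹ = tt f ∧ g0 * (t1 f s * ee f) * g0⁻¹ = s ∧
    ∀ x ∈ DE p.h, g0 * x * g0⁻¹ ∈ (P : Subgroup G) := by
  obtain ⟨g₂, h3, h4⟩ := pairs p (t1_conj p) (t1e_conj p) (by
    have e1 := t1_e p
    generalize t1 f s = w at e1 ⊢
    rw [mul_assoc w, ← e1]) (by
    intro h5
    have : ee f = 1 := mul_eq_left.1 h5.symm
    apply p.h.t_ne_one
    have h6 := te_u p
    rw [this, mul_one] at h6
    exact (isConj_one_right.1 h6))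
  have hT : IsPGroup 2 ((DE p.h).map (MulAut.conj g₂).toMonoidHom) := (P.isPGroup'.to_le (DE_le p.h)).map _
  obtain ⟨m, hm1, hm2, hm3⟩ := conj_into_ts p hT (by
    rintro _ ⟨x, hx, rfl⟩
    have h5 : g₂ * x * g₂⁻¹ ∈ Cn (g₂ * t1 f s * g₂⁻¹) := mem_Cn_conj (DE_t1 p hx)
    rw [h3] at h5
    exact h5) (by
    rintro _ ⟨x, hx, rfl⟩
    have h5 : g₂ * x * g₂⁻¹ ∈ Cn (g₂ * (t1 f s * ee f) * g₂⁻¹) := by
      refine mem_Cn_conj (mem_Cn.2 ?_)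
      have h6 := mem_Cn.1 (DE_t1 p hx)
      have h7 := mem_Cn.1 (DE_mem_e p hx)
      generalize t1 f s = w at h6 ⊢
      rw [← mul_assoc, h6, mul_assoc, h7, mul_assoc]
    rw [h4] at h5
    exact h5)
  rw [mem_Cn] at hm1 hm2
  refine ⟨m * g₂, ?_, ?_, ?_⟩
  · have e1 : m * g₂ * t1 f s * (m * g₂)⁻¹ = m * (g₂ * t1 f s * g₂⁻¹) * m⁻¹ := by
      generalize t1 f s = w
      group
    rw [e1, h3, hm1, mul_inv_cancel_right]
  · have e1 : m * g₂ * (t1 f s * ee f) * (m * g₂)⁻¹ = m * (g₂ * (t1 f s * ee f) * g₂⁻¹) * m⁻¹ := by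
      generalize t1 f s * ee f = w
      group
    rw [e1, h4, hm2, mul_inv_cancel_right]
  · intro x hx
    have h5 := hm3 _ ⟨x, hx, rfl⟩
    have e1 : m * g₂ * x * (m * g₂)⁻¹ = m * (g₂ * x * g₂⁻¹) * m⁻¹ := by group
    rw [e1]
    exact h5

variable {g0 : G} (h0 : g0 * t1 f s * g0⁻¹ = tt f) (h1 : g0 * (t1 f s * ee f) * g0⁻¹ = s)
  (h2 : ∀ x ∈ DE p.h, g0 * x * g0⁻¹ ∈ (P : Subgroup G))

include h0 h1

omit [Finite G] in
theorem e_ts : g0 * ee f * g0⁻¹ = tt f * s := by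
  have e1 : g0 * ee f * g0⁻¹ = (g0 * t1 f s * g0⁻¹) * (g0 * (t1 f s * ee f) * g0⁻¹) := by
    have e2 := t1_t1e p
    calc g0 * ee f * g0⁻¹ = g0 * (t1 f s * (t1 f s * ee f)) * g0⁻¹ := by rw [e2]
      _ = _ := by
        generalize t1 f s * ee f = u
        generalize t1 f s = w
        group
  rw [e1, h0, h1]

include h2

omit [Finite G] in
/-- the involutions of `DE` are moved to elements `(α, α)` -/
theorem move_inv {x : G} (hx : x ∈ DE p.h) (hxx : x * x = 1) (hx1 : x ≠ 1) :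
    ∃ α : Q k, g0 * x * g0⁻¹ = f α α := by
  have h := p.h
  obtain ⟨h3, h4⟩ := dIII p hx hxx hx1
  set u := g0 * x * g0⁻¹ with hu
  have huP : u ∈ (P : Subgroup G) := h2 x hx
  have huu : u * u = 1 := by
    have : u * u = g0 * (x * x) * g0⁻¹ := by rw [hu]; group
    rw [this, hxx]; group
  have hu1 : u ≠ 1 := by
    intro h5
    apply hx1
    have : x = g0⁻¹ * u * g0 := by rw [hu]; group
    rw [this, h5]; group
  have hcj : IsConj x u := isConj_iff.2 ⟨g0, rfl⟩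
  have hnT : ¬ IsConj (tt f) u := fun h5 => h3 (h5.trans hcj.symm)
  have hTe : IsConj (tt f) (u * (tt f * s)) := by
    refine h4.trans (isConj_iff.2 ⟨g0, ?_⟩)
    rw [← e_ts p h0 h1, hu]; group
  have hus : u * s = s * u := by
    have h5 : u ∈ Cn (g0 * (t1 f s * ee f) * g0⁻¹) := by
      refine mem_Cn_conj (mem_Cn.2 ?_)
      have h6 := mem_Cn.1 (DE_t1 p hx)
      have h7 := mem_Cn.1 (DE_mem_e p hx)
      generalize t1 f s = w at h6 ⊢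
      rw [← mul_assoc, h6, mul_assoc, h7, mul_assoc]
    rw [h1] at h5
    exact mem_Cn.1 h5
  rcases Facts.inv_cases h huP huu with h5 | h5 | ⟨α, β, hα, hβ, h5⟩ | ⟨α, h5⟩ | ⟨α, h5⟩
  · exact absurd h5 hu1
  · exact absurd (by rw [h5]) hnT
  · rw [h5] at hus
    rcases (comm_s_iff h).1 hus with h6 | h6
    · exact ⟨α, by rw [h5, h6]⟩
    · exfalso
      refine not_t_of_u p ?_ hTe
      have h7 := p.u_conj' (z k * β)
      have h8 : f (z k * (z k * β)) (z k * β)⁻¹ * s = u * (tt f * s) := by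
        rw [h5, ← mul_assoc (f α β), tt, h.f_mul_t, zz_mul, ← inv_of_sq_z hβ, inv_inv, h6, zz_mul]
      rwa [h8] at h7
  · exact absurd (h5 ▸ p.t_conj α) hnT
  · exfalso
    have h6 : f (z k * α) α⁻¹ * s = s * f (z k * α) α⁻¹ := by
      rw [h5] at hus
      calc f (z k * α) α⁻¹ * s = (f (z k * α) α⁻¹ * s * s) * s := by rw [mul_assoc (f (z k * α) α⁻¹ * s), h.s_s, mul_one]
        _ = s * f (z k * α) α⁻¹ * (s * s) := by rw [hus]; group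
        _ = _ := by rw [h.s_s, mul_one]
    have h7 : u * (tt f * s) = f α α⁻¹ := by
      have hst : s * tt f = tt f * s := (h.t_comm h.s_mem).symm
      calc u * (tt f * s) = f (z k * α) α⁻¹ * (s * tt f) * s := by rw [h5]; group
        _ = f (z k * α) α⁻¹ * tt f * (s * s) := by rw [hst]; group
        _ = f α α⁻¹ := by rw [h.s_s, mul_one, tt, h.f_mul_t, zz_mul]
    rw [h7] at hTe
    rcases (comm_s_iff h).1 h6 with h8 | h8
    · have h9 : α * α = z k := by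
        have : α⁻¹ * α = 1 := inv_mul_cancel α
        rw [← h8, mul_assoc] at this
        rw [← zz_mul (α * α), this, mul_one]
      refine not_t_of_u p (p.u_conj α α⁻¹ h9 ?_) hTe
      rw [← h8]
      exact mul_sq_z h9
    · have h9 : α = α⁻¹ := z_cancel h8
      have h10 : α * α = 1 := by
        nth_rewrite 2 [h9]
        exact mul_inv_cancel α
      apply ne_one_of_conj p hTe
      rw [← h9]
      rcases one_or_z_of_sq h10 with rfl | rfl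
      · exact h.f_one
      · exact h.f_zz

end Move

section Main

omit [Finite G] in
/-- conjugation by `g0`, from `C(t₁)` to `C(t)` -/
def cj {g0 : G} (h0 : g0 * t1 f s * g0⁻¹ = tt f) : Cn (t1 f s) →* Cn (tt f) where
  toFun x := ⟨g0 * x * g0⁻¹, h0 ▸ mem_Cn_conj x.2⟩
  map_one' := Subtype.ext (by simp)
  map_mul' x y := Subtype.ext (by
    change g0 * ((x : G) * y) * g0⁻¹ = g0 * x * g0⁻¹ * (g0 * y * g0⁻¹)
    generalize (x : G) = u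
    generalize (y : G) = v
    group)

/-- the image of `C(t₁)` in `H` -/
def θ {g0 : G} (h0 : g0 * t1 f s * g0⁻¹ = tt f) (π : Cn (tt f) →* H) : Cn (t1 f s) →* H := π.comp (cj h0)

variable {g0 : G} (h0 : g0 * t1 f s * g0⁻¹ = tt f) (h1 : g0 * (t1 f s * ee f) * g0⁻¹ = s)
  (h2 : ∀ x ∈ DE p.h, g0 * x * g0⁻¹ ∈ (P : Subgroup G))

omit [Finite G] in
theorem θ_apply {x : G} (hx : x ∈ Cn (t1 f s)) (hx' : g0 * x * g0⁻¹ ∈ Cn (tt f)) :
    θ h0 π ⟨x, hx⟩ = π ⟨g0 * x * g0⁻¹, hx'⟩ := rfl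

variable (c : Cent k f s π D ι Φ)

include p

omit p [Finite G] in
theorem t1_e_inf : Cn (t1 f s) ⊓ Cn (t1 f s * ee f) = Cn (t1 f s) ⊓ Cn (ee f) := by
  ext x
  rw [mem_inf, mem_inf, mem_Cn, mem_Cn, mem_Cn]
  generalize t1 f s = w
  refine and_congr_right fun h1 => ?_
  rw [← mul_assoc, h1, mul_assoc w x, mul_assoc w (ee f)]
  exact mul_right_inj w

include c h1

/-- commuting modulo `O(C(e))` is commuting in `H` -/
theorem comm_iff (U : UData f) (hO : NoOdd D.ζ) {g v : G} (hg : g ∈ Cn (t1 f s)) (hge : g ∈ Cn (ee f))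
    (hv : v ∈ Cn (t1 f s)) (hve : v ∈ Cn (ee f)) :
    g * v * g⁻¹ * v⁻¹ ∈ OO (Cn (ee f)) ↔ θ h0 π ⟨g, hg⟩ * θ h0 π ⟨v, hv⟩ = θ h0 π ⟨v, hv⟩ * θ h0 π ⟨g, hg⟩ := by
  have hx1 : g * v * g⁻¹ * v⁻¹ ∈ Cn (t1 f s) := mul_mem (mul_mem (mul_mem hg hv) (inv_mem hg)) (inv_mem hv)
  have hx2 : g * v * g⁻¹ * v⁻¹ ∈ Cn (ee f) := mul_mem (mul_mem (mul_mem hge hve) (inv_mem hge)) (inv_mem hve)
  have hcore := U.core (t1 f s) (t1 f s * ee f) (t1_conj p) (t1e_conj p) (by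
    have e1 := t1_e p
    generalize t1 f s = w at e1 ⊢
    rw [mul_assoc w, ← e1]) (by
    intro h5
    have : ee f = 1 := mul_eq_left.1 h5.symm
    apply p.h.t_ne_one
    have h6 := te_u p
    rw [this, mul_one] at h6
    exact (isConj_one_right.1 h6))
  rw [t1_t1e p] at hcore
  have e1 : g * v * g⁻¹ * v⁻¹ ∈ OO (Cn (ee f)) ↔ g * v * g⁻¹ * v⁻¹ ∈ OO (Cn (t1 f s) ⊓ Cn (t1 f s * ee f)) := by
    rw [← hcore, mem_inf]
    exact ⟨fun h3 => ⟨h3, hx1⟩, fun h3 => h3.1⟩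
  rw [e1, ← mem_inf_conj (g := g0), h0, h1, core_ts p c hO]
  have hs : g0 * (g * v * g⁻¹ * v⁻¹) * g0⁻¹ ∈ Cn s := by
    have h3 : g * v * g⁻¹ * v⁻¹ ∈ Cn (t1 f s) ⊓ Cn (t1 f s * ee f) := by
      rw [t1_e_inf]; exact ⟨hx1, hx2⟩
    have h4 := mem_Cn_conj (g := g0) h3.2
    rwa [h1] at h4
  have e2 : θ h0 π ⟨g * v * g⁻¹ * v⁻¹, hx1⟩ = 1 ↔ g0 * (g * v * g⁻¹ * v⁻¹) * g0⁻¹ ∈ OO (Cn (tt f)) :=
    c.ker (cj h0 ⟨g * v * g⁻¹ * v⁻¹, hx1⟩)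
  have e3 : θ h0 π ⟨g * v * g⁻¹ * v⁻¹, hx1⟩ =
      θ h0 π ⟨g, hg⟩ * θ h0 π ⟨v, hv⟩ * (θ h0 π ⟨g, hg⟩)⁻¹ * (θ h0 π ⟨v, hv⟩)⁻¹ := by
    rw [← map_inv, ← map_inv, ← map_mul, ← map_mul, ← map_mul]
    rfl
  rw [mem_inf, and_iff_left hs, ← e2, e3, mul_inv_eq_one, mul_inv_eq_iff_eq_mul]

include h2

omit [Finite G] in
/-- the image of `DE` lies in the diagonal -/
theorem DE_image {x : G} (hx : x ∈ DE p.h) : ∃ q : Q k, θ h0 π ⟨x, DE_t1 p hx⟩ = δ D (ι q) := by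
  have key : ∀ w (hw : w ∈ DE p.h), w * w = 1 → w ≠ 1 → ∃ q : Q k, θ h0 π ⟨w, DE_t1 p hw⟩ = δ D (ι q) := by
    intro w hw hww hw1
    obtain ⟨α, hα⟩ := move_inv p h0 h1 h2 hw hww hw1
    refine ⟨α, ?_⟩
    rw [δ_apply, ← c.hf α α (f_mem p α α)]
    exact congrArg π (Subtype.ext hα)
  obtain ⟨w₁, hw₁, w₂, hw₂, ⟨a1, a2⟩, ⟨b1, b2⟩, h3⟩ := e_gen p.h hx
  obtain ⟨q₁, hq₁⟩ := key w₁ hw₁ a1 a2
  obtain ⟨q₂, hq₂⟩ := key w₂ hw₂ b1 b2
  rcases h3 with rfl | rfl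
  · refine ⟨q₁ * q₂, ?_⟩
    rw [map_mul, map_mul, ← hq₁, ← hq₂, ← map_mul]
    rfl
  · exact ⟨q₁, hq₁⟩

omit p h1 h2 [Finite G] in
/-- the kernel of `θ` contains no 2-element -/
theorem θ_ne {x : G} (hx : x ∈ Cn (t1 f s)) (hxP : ∃ n : ℕ, x ^ 2 ^ n = 1) (h3 : θ h0 π ⟨x, hx⟩ = 1) [Finite G] : x = 1 := by
  have h4 : g0 * x * g0⁻¹ ∈ OO (Cn (tt f)) := (c.ker (cj h0 ⟨x, hx⟩)).1 h3
  have h5 : ¬ 2 ∣ orderOf (g0 * x * g0⁻¹) := by
    intro h6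
    apply OO_odd (Cn (tt f))
    have := orderOf_dvd_natCard (⟨_, h4⟩ : OO (Cn (tt f)))
    rw [Subgroup.orderOf_mk] at this
    exact h6.trans this
  have h6 : orderOf (g0 * x * g0⁻¹) = orderOf x := (MulAut.conj g0).orderOf_eq x
  rw [h6] at h5
  obtain ⟨n, hn⟩ := hxP
  obtain ⟨j, -, hj⟩ := (Nat.dvd_prime_pow Nat.prime_two).1 (orderOf_dvd_of_pow_eq_one hn)
  rcases Nat.eq_zero_or_pos j with rfl | hj0
  · rw [← orderOf_eq_one_iff, hj, pow_zero]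
  · exfalso
    apply h5
    rw [hj]
    exact dvd_pow_self 2 hj0.ne'

end Main

section Small

theorem odd_mul {Y : Type*} [Group Y] [Finite Y] {O : Subgroup Y} [O.Normal] (hO : ¬ 2 ∣ Nat.card O) {o y : Y}
    (ho : o ∈ O) (hy : Odd (orderOf y)) : Odd (orderOf (o * y)) := by
  have h1 : (o * y) ^ orderOf y ∈ O := by
    rw [← QuotientGroup.eq_one_iff, QuotientGroup.mk_pow, QuotientGroup.mk_mul, (QuotientGroup.eq_one_iff _).2 ho,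
      one_mul, ← QuotientGroup.mk_pow, pow_orderOf_eq_one, QuotientGroup.mk_one]
  have h2 : ((o * y) ^ orderOf y) ^ Nat.card O = 1 := by
    have := pow_card_eq_one' (x := (⟨_, h1⟩ : O))
    exact congrArg Subtype.val this
  rw [← pow_mul] at h2
  have h3 : Odd (Nat.card O) := Nat.not_even_iff_odd.1 fun h => hO h.two_dvd
  exact (hy.mul h3).of_dvd_nat (orderOf_dvd_of_pow_eq_one h2)

theorem eq_one_of_odd {Y : Type*} [Group Y] {x : Y} {n : ℕ} (h1 : x ^ 2 ^ n = 1) (h2 : Odd (orderOf x)) : x = 1 := by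
  obtain ⟨j, -, hj⟩ := (Nat.dvd_prime_pow Nat.prime_two).1 (orderOf_dvd_of_pow_eq_one h1)
  rcases Nat.eq_zero_or_pos j with rfl | hj0
  · rw [← orderOf_eq_one_iff, hj, pow_zero]
  · exfalso
    rw [hj, ← Nat.not_even_iff_odd, even_iff_two_dvd] at h2
    exact h2 (dvd_pow_self 2 hj0.ne')

theorem left_eq_one {Y : Type*} [Group Y] {x y : Y} {n : ℕ} (hc : x * y = y * x) (h1 : x ^ 2 ^ n = 1)
    (hy : Odd (orderOf y)) (hxy : Odd (orderOf (x * y))) : x = 1 := by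
  refine eq_one_of_odd h1 ?_
  have h2 : Commute (x * y) y⁻¹ := by
    rw [commute_iff_eq, mul_inv_cancel_right, hc, inv_mul_cancel_left]
  have h3 := h2.orderOf_mul_dvd_mul_orderOf
  rw [mul_inv_cancel_right, orderOf_inv] at h3
  exact (hxy.mul hy).of_dvd_nat h3

variable {E O : Subgroup G}

omit [Finite G] in
theorem k_conj (hO : E ≤ normalizer (O : Set G)) {r g v : G} (hr : r ∈ E) (h : g * v * g⁻¹ * v⁻¹ ∈ O) :
    (r * g * r⁻¹) * (r * v * r⁻¹) * (r * g * r⁻¹)⁻¹ * (r * v * r⁻¹)⁻¹ ∈ O := by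
  have e1 : (r * g * r⁻¹) * (r * v * r⁻¹) * (r * g * r⁻¹)⁻¹ * (r * v * r⁻¹)⁻¹ = r * (g * v * g⁻¹ * v⁻¹) * r⁻¹ := by
    group
  rw [e1]
  exact conj_mem hO hr h

omit [Finite G] in
theorem k_mul (hO : E ≤ normalizer (O : Set G)) {o g v : G} (ho : o ∈ O) (hv : v ∈ E)
    (h : g * v * g⁻¹ * v⁻¹ ∈ O) : (o * g) * v * (o * g)⁻¹ * v⁻¹ ∈ O := by
  have e1 : (o * g) * v * (o * g)⁻¹ * v⁻¹ = o * (g * v * g⁻¹ * v⁻¹) * (v * o⁻¹ * v⁻¹) := by group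
  rw [e1]
  exact mul_mem (mul_mem ho h) (conj_mem hO hv (inv_mem ho))

end Small

section Trans

variable {ψ : L →* alternatingGroup (Fin 7)} (hk : ∀ a, ψ a = 1 ↔ a = 1 ∨ a = D.ζ)

include hk

omit [Finite G] in
theorem δ_eq_iff {a b : L} : δ D a = δ D b ↔ ψ a = ψ b := by
  rw [← mul_inv_eq_one, ← map_inv, ← map_mul, δ_eq_one_iff, ← hk, map_mul, map_inv, mul_inv_eq_one]

omit [Finite G] in
theorem δ_comm_iff {a b : L} : δ D a * δ D b = δ D b * δ D a ↔ ψ a * ψ b = ψ b * ψ a := by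
  rw [← map_mul, ← map_mul, δ_eq_iff hk, map_mul, map_mul]

variable (c : Cent k f s π D ι Φ)

include c

omit [Finite G] in
theorem exists_ι {a : L} {q : Q k} (h : ψ a = ψ (ι q)) : ∃ q₁, a = ι q₁ := by
  have h1 : ψ (a * (ι q)⁻¹) = 1 := by rw [map_mul, map_inv, h, mul_inv_cancel]
  rcases (hk _).1 h1 with h2 | h2
  · exact ⟨q, mul_inv_eq_one.1 h2⟩
  · refine ⟨z k * q, ?_⟩
    rw [map_mul, c.ι_z, ← h2, inv_mul_cancel_right]

omit [Finite G] hk in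
theorem Φ_δ {g : H} (hg : g ∈ Φ) (q : Q k) : g * δ D (ι q) = δ D (ι q) * g := by
  rw [δ_apply, ← mul_assoc, c.fix₁ g hg, mul_assoc, c.fix₂ g hg, mul_assoc]

omit [Finite G] in
theorem form_comm {a b : L} {g : H} (hg : g ∈ Φ) {q : Q k}
    (h : (D.φ₁ a * D.φ₂ b * g) * δ D (ι q) = δ D (ι q) * (D.φ₁ a * D.φ₂ b * g)) :
    ψ a * ψ (ι q) = ψ (ι q) * ψ a ∧ ψ b * ψ (ι q) = ψ (ι q) * ψ b := by
  have h1 : D.φ₁ a * D.φ₂ b * δ D (ι q) = δ D (ι q) * (D.φ₁ a * D.φ₂ b) := by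
    rw [mul_assoc _ g, Φ_δ c hg, ← mul_assoc, ← mul_assoc (δ D (ι q))] at h
    exact mul_right_cancel h
  have h2 : D.φ₁ (a * ι q) * D.φ₂ (b * ι q) = D.φ₁ (ι q * a) * D.φ₂ (ι q * b) := by
    rw [δ_apply] at h1
    rw [map_mul, map_mul, map_mul, map_mul]
    calc D.φ₁ a * D.φ₁ (ι q) * (D.φ₂ b * D.φ₂ (ι q)) = D.φ₁ a * (D.φ₁ (ι q) * D.φ₂ b) * D.φ₂ (ι q) := by group
      _ = D.φ₁ a * D.φ₂ b * (D.φ₁ (ι q) * D.φ₂ (ι q)) := by rw [D.comm]; group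
      _ = D.φ₁ (ι q) * (D.φ₂ (ι q) * D.φ₁ a) * D.φ₂ b := by rw [h1]; group
      _ = D.φ₁ (ι q) * (D.φ₁ a * D.φ₂ (ι q)) * D.φ₂ b := by rw [D.comm]
      _ = _ := by group
  have hζ : ψ D.ζ = 1 := (hk _).2 (Or.inr rfl)
  rcases (mul_eq_iff D).1 h2 with ⟨h3, h4⟩ | ⟨h3, h4⟩
  · constructor
    · rw [← map_mul, h3, map_mul]
    · rw [← map_mul, h4, map_mul]
  · constructor
    · rw [← map_mul, h3, map_mul, hζ, one_mul, map_mul]
    · rw [← map_mul, h4, map_mul, hζ, one_mul, map_mul]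

end Trans

section Final

/-- The element `r` cannot move a four-group centralised by an element of order 3 to a self-centralising one. -/
theorem no_transfer (c : Cent k f s π D ι Φ) (U : UData f) {ψ : L →* alternatingGroup (Fin 7)}
    (hψ : Function.Surjective ψ) (hk : ∀ a, ψ a = 1 ↔ a = 1 ∨ a = D.ζ)
    {g0 : G} (h0 : g0 * t1 f s * g0⁻¹ = tt f) (h1 : g0 * (t1 f s * ee f) * g0⁻¹ = s)
    (h2 : ∀ x ∈ DE p.h, g0 * x * g0⁻¹ ∈ (P : Subgroup G))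
    {v v' y r : G} (hv : v ∈ DE p.h) (hv' : v' ∈ DE p.h) (hy : y ∈ DE p.h) (hrP : r ∈ (P : Subgroup G))
    (hre : r ∈ Cn (ee f)) (hrv : r * v * r⁻¹ = v') (hry : r * y * r⁻¹ = y) {q q' qy : Q k}
    (hq : θ h0 π ⟨v, DE_t1 p hv⟩ = δ D (ι q)) (hq' : θ h0 π ⟨v', DE_t1 p hv'⟩ = δ D (ι q'))
    (hqy : θ h0 π ⟨y, DE_t1 p hy⟩ = δ D (ι qy)) (hPr : Pr (ψ (ι q)) (ψ (ι qy)))
    (hSelf : Self (ψ (ι q')) (ψ (ι qy))) : False := by
  have hO : NoOdd D.ζ := noOdd hψ hk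
  obtain ⟨c3, hc3, hc1, hcv, hcy⟩ := hPr
  obtain ⟨a, rfl⟩ := hψ c3
  have hδ3 : δ D a ^ 3 = 1 := by
    rw [← map_pow, ← map_one (δ D)]
    exact (δ_eq_iff hk).2 (by rw [map_pow, hc3, map_one])
  have hδo : Odd (orderOf (δ D a)) := (by decide : Odd 3).of_dvd_nat (orderOf_dvd_of_pow_eq_one hδ3)
  obtain ⟨x, hx, hxs⟩ := lift_s p c (h := δ D a) (w_δ D a).symm
  obtain ⟨N, hN, hNo⟩ := Lift.exists_odd_pow π (x := x) (by rw [hx]; exact hδo)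
  -- the element `g` of `C(t₁) ∩ C(e)`
  obtain ⟨g, hg⟩ : ∃ g : G, g0 * g * g0⁻¹ = ((x ^ N : Cn (tt f)) : G) := ⟨g0⁻¹ * ((x ^ N : Cn (tt f)) : G) * g0, by group⟩
  have hgt : g ∈ Cn (t1 f s) := by
    rw [← mem_Cn_conj_iff (g := g0), hg, h0]; exact (x ^ N).2
  have hgte : g ∈ Cn (t1 f s * ee f) := by
    rw [← mem_Cn_conj_iff (g := g0), hg, h1]
    exact pow_mem hxs N
  have hge : g ∈ Cn (ee f) := by
    have h3 : g ∈ Cn (t1 f s) ⊓ Cn (t1 f s * ee f) := ⟨hgt, hgte⟩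
    rw [t1_e_inf] at h3
    exact h3.2
  have hgo : Odd (orderOf g) := by
    have h3 : orderOf (g0 * g * g0⁻¹) = orderOf g := (MulAut.conj g0).orderOf_eq g
    rw [← h3, hg, Subgroup.orderOf_coe]; exact hNo
  have hθg : θ h0 π ⟨g, hgt⟩ = δ D a := by
    rw [← hx, ← hN]
    exact congrArg π (Subtype.ext hg)
  have hcom : ∀ {g v : G} (hg : g ∈ Cn (t1 f s)) (_ : g ∈ Cn (ee f)) (hv : v ∈ Cn (t1 f s)) (_ : v ∈ Cn (ee f)),
      g * v * g⁻¹ * v⁻¹ ∈ OO (Cn (ee f)) ↔ θ h0 π ⟨g, hg⟩ * θ h0 π ⟨v, hv⟩ = θ h0 π ⟨v, hv⟩ * θ h0 π ⟨g, hg⟩ :=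
    fun hg hge hv hve => comm_iff p h0 h1 c U hO hg hge hv hve
  have hOn : Cn (ee f) ≤ normalizer (OO (Cn (ee f)) : Set G) := le_normalizer_OO _
  have hgv : g * v * g⁻¹ * v⁻¹ ∈ OO (Cn (ee f)) := by
    rw [hcom hgt hge (DE_t1 p hv) (DE_mem_e p hv), hθg, hq, δ_comm_iff hk]; exact hcv
  have hgy : g * y * g⁻¹ * y⁻¹ ∈ OO (Cn (ee f)) := by
    rw [hcom hgt hge (DE_t1 p hy) (DE_mem_e p hy), hθg, hqy, δ_comm_iff hk]; exact hcy
  -- the conjugate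
  set g2 := r * g * r⁻¹ with hg2
  have hg2e : g2 ∈ Cn (ee f) := (Cn (ee f)).mul_mem ((Cn (ee f)).mul_mem hre hge) ((Cn (ee f)).inv_mem hre)
  have hg2o : Odd (orderOf g2) := by
    have h3 : orderOf (r * g * r⁻¹) = orderOf g := (MulAut.conj r).orderOf_eq g
    rw [hg2, h3]; exact hgo
  have hg2v : g2 * v' * g2⁻¹ * v'⁻¹ ∈ OO (Cn (ee f)) := by
    rw [← hrv]; exact k_conj hOn hre hgv
  have hg2y : g2 * y * g2⁻¹ * y⁻¹ ∈ OO (Cn (ee f)) := by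
    have := k_conj hOn hre hgy
    rwa [hry] at this
  have hst := U.star (t1 f s) (t1 f s * ee f) (t1_conj p) (t1e_conj p) (by
    have e1 := t1_e p
    generalize t1 f s = w at e1 ⊢
    rw [mul_assoc w, ← e1]) (by
    intro h5
    have : ee f = 1 := mul_eq_left.1 h5.symm
    apply p.h.t_ne_one
    have h6 := te_u p
    rw [this, mul_one] at h6
    exact (isConj_one_right.1 h6)) g2 (by rw [t1_t1e p]; exact hg2e) hg2o
  rw [t1_t1e p] at hst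
  have hON : (Cfsg.oddCore (Cn (ee f))).Normal := Cfsg.Agent.Lib.Cores.pPrimeCore_normal 2
  obtain ⟨o, ho, hoc⟩ := exists_comm (Y := Cn (ee f)) (x := ⟨t1 f s, mem_Cn.2 (t1_e p)⟩) (Subtype.ext (t1_sq p))
    (y := ⟨g2, hg2e⟩) (coe_mem_OO.1 hst)
  have hoO : (o : G) ∈ OO (Cn (ee f)) := coe_mem_OO.2 ho
  set g3 : G := o * g2 with hg3
  have hg3t : g3 ∈ Cn (t1 f s) := mem_Cn.2 (congrArg Subtype.val hoc)
  have hg3e : g3 ∈ Cn (ee f) := (Cn (ee f)).mul_mem o.2 hg2e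
  have hg3o : Odd (orderOf g3) := by
    have h3 := odd_mul (O := Cfsg.oddCore (Cn (ee f))) oddCore_odd ho (y := ⟨g2, hg2e⟩) (by
      rw [Subgroup.orderOf_mk]; exact hg2o)
    rw [← Subgroup.orderOf_coe] at h3
    exact h3
  have hg3v : g3 * v' * g3⁻¹ * v'⁻¹ ∈ OO (Cn (ee f)) := k_mul hOn hoO (DE_mem_e p hv') hg2v
  have hg3y : g3 * y * g3⁻¹ * y⁻¹ ∈ OO (Cn (ee f)) := k_mul hOn hoO (DE_mem_e p hy) hg2y
  rw [hcom hg3t hg3e (DE_t1 p hv') (DE_mem_e p hv'), hq'] at hg3v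
  rw [hcom hg3t hg3e (DE_t1 p hy) (DE_mem_e p hy), hqy] at hg3y
  have hθo : Odd (orderOf (θ h0 π ⟨g3, hg3t⟩)) := by
    refine Odd.of_dvd_nat ?_ (orderOf_map_dvd (θ h0 π) ⟨g3, hg3t⟩)
    rw [Subgroup.orderOf_mk]; exact hg3o
  obtain ⟨x₁, x₂, φ, hφ, hform⟩ := odd_form p c hθo
  rw [hform] at hg3v hg3y hθo
  obtain ⟨hv1, hv2⟩ := form_comm hk c hφ hg3v
  obtain ⟨hy1, hy2⟩ := form_comm hk c hφ hg3y
  have hSι : ∀ x : L, (ψ x = 1 ∨ ψ x = ψ (ι qy) ∨ ψ x = ψ (ι q') ∨ ψ x = ψ (ι qy) * ψ (ι q')) → ∃ q₁, ψ x = ψ (ι q₁) := by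
    rintro x (h3 | h3 | h3 | h3)
    · exact ⟨1, by rw [h3, map_one, map_one]⟩
    · exact ⟨_, h3⟩
    · exact ⟨_, h3⟩
    · exact ⟨qy * q', by rw [h3, map_mul, map_mul]⟩
  obtain ⟨a₁, ha₁⟩ := hSι x₁ (hSelf _ hv1 hy1)
  obtain ⟨a₂, ha₂⟩ := hSι x₂ (hSelf _ hv2 hy2)
  obtain ⟨b₁, rfl⟩ := exists_ι hk c ha₁
  obtain ⟨b₂, rfl⟩ := exists_ι hk c ha₂
  have hQ : ∀ b : Q k, b ^ 2 ^ (k + 2) = 1 := by
    intro b
    rw [← card_Q]
    exact pow_card_eq_one'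
  have hτ : D.φ₁ (ι b₁) * D.φ₂ (ι b₂) = 1 := by
    refine left_eq_one (n := k + 2) (y := φ) ?_ ?_ ?_ hθo
    · rw [mul_assoc, ← c.fix₂ φ hφ, ← mul_assoc, ← c.fix₁ φ hφ, mul_assoc]
    · have h3 : Commute (D.φ₁ (ι b₁)) (D.φ₂ (ι b₂)) := D.comm _ _
      rw [h3.mul_pow, ← map_pow, ← map_pow, ← map_pow, ← map_pow, hQ, hQ, map_one, map_one, map_one, one_mul]
    · refine Odd.of_dvd_nat c.odd ?_
      have := orderOf_dvd_natCard (⟨φ, hφ⟩ : Φ)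
      rwa [Subgroup.orderOf_mk] at this
  rw [hτ, one_mul] at hform
  -- back
  have hv'' : r * v' * r⁻¹ ∈ DE p.h := normE p hrP (mem_Cn.1 hre) hv'
  obtain ⟨q'', hq''⟩ := DE_image p h0 h1 h2 c hv''
  have k1 : g3 * (r * v' * r⁻¹) * g3⁻¹ * (r * v' * r⁻¹)⁻¹ ∈ OO (Cn (ee f)) := by
    rw [hcom hg3t hg3e (DE_t1 p hv'') (DE_mem_e p hv''), hq'', hform]
    exact Φ_δ c hφ q''
  have k2 : g2 * (r * v' * r⁻¹) * g2⁻¹ * (r * v' * r⁻¹)⁻¹ ∈ OO (Cn (ee f)) := by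
    have h3 := k_mul hOn (inv_mem hoO) (DE_mem_e p hv'') k1
    have e1 : (o : G)⁻¹ * g3 = g2 := by rw [hg3, inv_mul_cancel_left]
    rwa [e1] at h3
  have k3 : g * v' * g⁻¹ * v'⁻¹ ∈ OO (Cn (ee f)) := by
    have h3 := k_conj hOn (inv_mem hre) k2
    have e1 : r⁻¹ * g2 * r⁻¹⁻¹ = g := by rw [hg2]; group
    have e2 : r⁻¹ * (r * v' * r⁻¹) * r⁻¹⁻¹ = v' := by group
    rwa [e1, e2] at h3
  rw [hcom hgt hge (DE_t1 p hv') (DE_mem_e p hv'), hθg, hq', δ_comm_iff hk] at k3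
  obtain ⟨q₃, hq₃⟩ := hSι a (hSelf _ k3 hcy)
  apply hc1
  refine eq_one_of_odd (n := k + 2) ?_ ((by decide : Odd 3).of_dvd_nat (orderOf_dvd_of_pow_eq_one hc3))
  rw [hq₃, ← map_pow, ← map_pow, hQ, map_one, map_one]

include p in
/-- **`L / ⟨ζ⟩` is not `A₇`.** -/
theorem no_A7 (hk2 : 2 ≤ k) (c : Cent k f s π D ι Φ) (U : UData f) {ψ : L →* alternatingGroup (Fin 7)}
    (hψ : Function.Surjective ψ) (hk : ∀ a, ψ a = 1 ↔ a = 1 ∨ a = D.ζ) : False := by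
  have h := p.h
  obtain ⟨g0, h0, h1, h2⟩ := exists_g0 p
  have hB : ∀ i, B f s i ∈ DE h := fun i => Or.inr ⟨i, rfl⟩
  have hA : ∀ i, A f i ∈ DE h := fun i => Or.inl ⟨i, rfl⟩
  obtain ⟨q0, hq0⟩ := DE_image p h0 h1 h2 c (hB 0)
  obtain ⟨q1, hq1⟩ := DE_image p h0 h1 h2 c (hB 1)
  have hy : (B f s 0 * B f s 1) * (B f s 0 * B f s 1) = A f (-2) := by
    rw [B_mul_B h, A_mul_A h]
    congr 1
    ring
  have hqy : θ h0 π ⟨A f (-2), DE_t1 p (hA _)⟩ = δ D (ι ((q0 * q1) ^ 2)) := by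
    rw [map_pow, map_mul, map_pow, map_mul, ← hq0, ← hq1, ← map_mul, pow_two, ← map_mul]
    exact congrArg _ (Subtype.ext hy.symm)
  have hrP : f (a 1) 1 ∈ (P : Subgroup G) := h.f_mem _ _
  have hrC : f (a 1) 1 ∈ Cn (ee f) := mem_Cn.2 (by rw [h.f_mul, h.f_mul, one_mul, mul_one, c_def, a_comm_a])
  have hrB : ∀ i, f (a 1) 1 * B f s i * (f (a 1) 1)⁻¹ = B f s (i + 1) := by
    intro i
    rw [mul_inv_eq_iff_eq_mul, B, B, h.f_mul_fs, h.fs_mul_f, a_mul_a, a_mul_a, one_mul, mul_one,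
      a_congr (show 1 + i = i + 1 by ring), a_congr (show hh k - (i + 1) + 1 = hh k - i by ring)]
  have hrA : ∀ i, f (a 1) 1 * A f i * (f (a 1) 1)⁻¹ = A f i := by
    intro i
    rw [mul_inv_eq_iff_eq_mul, A, h.f_mul, h.f_mul, a_comm_a, one_mul, mul_one]
  have hr'B : ∀ i, (f (a 1) 1)⁻¹ * B f s (i + 1) * (f (a 1) 1)⁻¹⁻¹ = B f s i := by
    intro i
    rw [← hrB]; group
  have hr'A : ∀ i, (f (a 1) 1)⁻¹ * A f i * (f (a 1) 1)⁻¹⁻¹ = A f i := by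
    intro i
    nth_rewrite 1 [← hrA i]
    group
  have hsq : ∀ {q : Q k} {x : G} (hx : x ∈ DE h), x * x = 1 → θ h0 π ⟨x, DE_t1 p hx⟩ = δ D (ι q) →
      (ψ (ι q)) ^ 2 = 1 := by
    intro q x hx hxx hq
    rw [← map_pow, ← map_one ψ, ← δ_eq_iff hk, map_pow, ← hq, ← map_pow, map_one]
    have e1 : (⟨x, DE_t1 p hx⟩ : Cn (t1 f s)) ^ 2 = 1 := Subtype.ext (by
      rw [pow_two]; exact hxx)
    rw [e1, map_one]
  have hne : (ψ (ι q0) * ψ (ι q1)) ^ 2 ≠ 1 := by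
    intro h3
    have h4 : ψ (ι ((q0 * q1) ^ 2)) = ψ 1 := by rw [map_pow, map_mul, map_pow, map_mul, h3, map_one]
    rw [← δ_eq_iff hk, ← hqy, map_one] at h4
    have h5 : A f (-2) = 1 := by
      refine θ_ne h0 c (DE_t1 p (hA _)) ?_ h4
      obtain ⟨n, hn⟩ := P.isPGroup' ⟨A f (-2), DE_le h (hA _)⟩
      exact ⟨n, congrArg Subtype.val hn⟩
    rw [A_eq_one_iff h] at h5
    have h6 : ((4 : ℕ) : ZMod (2 * 2 ^ k)) = 0 := by
      push_cast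
      linear_combination -h5
    rw [ZMod.natCast_eq_zero_iff] at h6
    have h7 := Nat.le_of_dvd (by norm_num) h6
    have h8 : 2 ^ 2 ≤ 2 ^ k := Nat.pow_le_pow_right (by norm_num) hk2
    omega
  have hQp : IsPGroup 2 (Q k) := IsPGroup.of_card (n := k + 2) card_Q
  have hRp : IsPGroup 2 (ψ.comp ι).range := by
    rw [MonoidHom.range_eq_map]
    exact (IsPGroup.to_subgroup hQp ⊤).map _
  have e2 : (ψ (ι q0) * ψ (ι q1)) ^ 2 = ψ (ι ((q0 * q1) ^ 2)) := by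
    rw [map_pow, map_mul, map_pow, map_mul]
  rcases cases _ hRp (ψ (ι q0)) (ψ (ι q1)) ⟨q0, rfl⟩ ⟨q1, rfl⟩ (hsq (hB 0) (B_sq h 0) hq0)
    (hsq (hB 1) (B_sq h 1) hq1) hne with ⟨h3, h4⟩ | ⟨h3, h4⟩
  · rw [e2] at h3 h4
    refine no_transfer p c U hψ hk h0 h1 h2 (hB 0) (hB 1) (hA (-2)) hrP hrC ?_ (hrA _) hq0 hq1 hqy h3 h4
    rw [hrB, zero_add]
  · rw [e2] at h3 h4
    refine no_transfer p c U hψ hk h0 h1 h2 (hB 1) (hB 0) (hA (-2)) (inv_mem hrP) (inv_mem hrC) ?_ (hr'A _)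
      hq1 hq0 hqy h3 h4
    have := hr'B 0
    rwa [zero_add] at this

end Final

end Cfsg.Agent.SylowSp4.CentUA7
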