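import Cfsg.Agent.SylowSp4.Coord

/-!
# Type `PSp_4(q)`, `q` odd: involutions, square roots of the central involution, centralizers in `S`
-/

set_option autoImplicit false

namespace Cfsg.Agent.SylowSp4.Facts

open QuaternionGroup Cfsg.Agent.SylowSp4.Coord

/-! ### More facts on `Q k` -/

section Quat

variable {k : ℕ}

/-- `2 ^ k` in `ZMod (2 * 2 ^ k)`. -/
def hh (k : ℕ) : ZMod (2 * 2 ^ k) := ((2 ^ k : ℕ) : ZMod (2 * 2 ^ k))

/-- `2 ^ (k - 1)` in `ZMod (2 * 2 ^ k)`. -/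
def qq (k : ℕ) : ZMod (2 * 2 ^ k) := ((2 ^ (k - 1) : ℕ) : ZMod (2 * 2 ^ k))

theorem xa_mul_xa' (i j : ZMod (2 * 2 ^ k)) : (xa i : Q k) * xa j = a (hh k + j - i) := xa_mul_xa _ _

theorem eq_of_add_self' {i : ZMod (2 * 2 ^ k)} (h : i + i = 0) : i = 0 ∨ i = hh k := eq_of_add_self h

theorem hh_add : hh k + hh k = 0 := two_pow_add

theorem neg_hh : -hh k = hh k := neg_eq_of_add_eq_zero_left hh_add

theorem z_def : z k = a (hh k) := rfl

theorem z_mul_a (i : ZMod (2 * 2 ^ k)) : z k * a i = a (hh k + i) := a_mul_a _ _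

theorem z_mul_xa (i : ZMod (2 * 2 ^ k)) : z k * xa i = xa (i + hh k) := by
  rw [z_def, a_mul_xa, sub_eq_add_neg, neg_hh]

/-- Elements with square `z`. -/
theorem sq_z_cases {g : Q k} (h : g * g = z k) : (∃ i, i + i = hh k ∧ g = a i) ∨ ∃ j, g = xa j := by
  rcases g with i | j
  · left
    rw [a_mul_a] at h
    exact ⟨i, a.inj h, rfl⟩
  · exact Or.inr ⟨j, rfl⟩

theorem a_sq_z {i : ZMod (2 * 2 ^ k)} (h : i + i = hh k) : (a i : Q k) * a i = z k := by
  rw [a_mul_a, h, z_def]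

theorem a_comm_a (i j : ZMod (2 * 2 ^ k)) : (a i : Q k) * a j = a j * a i := by
  rw [a_mul_a, a_mul_a, add_comm]

/-- Only `1`, `z` in the cyclic subgroup commute with an outer element. -/
theorem of_a_comm_xa {i j : ZMod (2 * 2 ^ k)} (h : (a i : Q k) * xa j = xa j * a i) : a i = (1 : Q k) ∨ a i = z k := by
  rw [a_mul_xa, xa_mul_a] at h
  have h1 := xa.inj h
  rcases eq_of_add_self' (i := i) (by linear_combination -h1) with h2 | h2
  · left; rw [h2, ← one_def]
  · right; rw [h2]; rfl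

theorem of_xa_comm_xa {i j : ZMod (2 * 2 ^ k)} (h : (xa i : Q k) * xa j = xa j * xa i) :
    (xa j : Q k) = xa i ∨ (xa j : Q k) = z k * xa i := by
  rw [xa_mul_xa', xa_mul_xa'] at h
  have h1 := a.inj h
  rcases eq_of_add_self' (i := j - i) (by linear_combination h1) with h2 | h2
  · left; rw [sub_eq_zero.1 h2]
  · right
    rw [z_mul_xa]
    congr 1
    rw [← h2]; ring

/-- The elements of order 4 in the cyclic subgroup. -/
theorem of_a_sq_z {i j : ZMod (2 * 2 ^ k)} (hi : i + i = hh k) (hj : j + j = hh k) :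
    (a j : Q k) = a i ∨ (a j : Q k) = z k * a i := by
  rcases eq_of_add_self' (i := j - i) (by linear_combination hj - hi) with h2 | h2
  · left; rw [sub_eq_zero.1 h2]
  · right
    rw [z_mul_a]
    congr 1
    rw [← h2]; ring

/-- A commuting pair of elements of square `z`: equal or inverse. -/
theorem eq_or_of_comm {x y : Q k} (hx : x * x = z k) (hy : y * y = z k) (h : x * y = y * x) :
    y = x ∨ y = z k * x := by
  rcases sq_z_cases hx with ⟨i, hi, rfl⟩ | ⟨i, rfl⟩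
  · rcases sq_z_cases hy with ⟨j, hj, rfl⟩ | ⟨j, rfl⟩
    · exact of_a_sq_z hi hj
    · exfalso
      rcases of_a_comm_xa h with h1 | h1
      · rw [h1, one_mul] at hx
        exact z_ne_one hx.symm
      · rw [h1, z_mul_z] at hx
        exact z_ne_one hx.symm
  · rcases sq_z_cases hy with ⟨j, hj, rfl⟩ | ⟨j, rfl⟩
    · exfalso
      rcases of_a_comm_xa h.symm with h1 | h1
      · rw [h1, one_mul] at hy
        exact z_ne_one hy.symm
      · rw [h1, z_mul_z] at hy
        exact z_ne_one hy.symm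
    · exact of_xa_comm_xa h

theorem two_pow_mul_eq_zero (i : ZMod (2 * 2 ^ k)) : (2 : ZMod (2 * 2 ^ k)) ^ (k + 1) * i = 0 := by
  have h : ((2 * 2 ^ k : ℕ) : ZMod (2 * 2 ^ k)) = 0 := ZMod.natCast_self _
  push_cast at h
  rw [pow_succ', h, zero_mul]

theorem two_pow_cases (n : ℕ) : ∀ i : ZMod (2 * 2 ^ k), (2 : ZMod (2 * 2 ^ k)) ^ n * i = 0 →
    i = 0 ∨ i = hh k ∨ i + i = hh k ∨ ∃ m : ℕ, (m : ZMod (2 * 2 ^ k)) * (i + i) + (m : ZMod (2 * 2 ^ k)) * (i + i) = hh k := by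
  induction n with
  | zero =>
    intro i hi
    rw [pow_zero, one_mul] at hi
    exact Or.inl hi
  | succ n ih =>
    intro i hi
    rcases ih (i + i) (by rw [pow_succ] at hi; linear_combination hi) with h | h | h | ⟨m, h⟩
    · rcases eq_of_add_self' h with h1 | h1
      · exact Or.inl h1
      · exact Or.inr (Or.inl h1)
    · exact Or.inr (Or.inr (Or.inl h))
    · exact Or.inr (Or.inr (Or.inr ⟨1, by push_cast; linear_combination h⟩))
    · exact Or.inr (Or.inr (Or.inr ⟨m * 2, by push_cast; linear_combination h⟩))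

theorem a_pow (i : ZMod (2 * 2 ^ k)) (m : ℕ) : (a i : Q k) ^ m = a ((m : ZMod (2 * 2 ^ k)) * i) := by
  induction m with
  | zero => rw [pow_zero, Nat.cast_zero, zero_mul, one_def]
  | succ m ih =>
    rw [pow_succ, ih, a_mul_a]
    congr 1
    push_cast; ring

/-- Every element of `Q k` is `1`, `z`, has square `z`, or its square has a power with square `z`. -/
theorem pow_cases (g : Q k) : g = 1 ∨ g = z k ∨ g * g = z k ∨ ∃ m : ℕ, (g ^ (2 * m)) * (g ^ (2 * m)) = z k := by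
  rcases g with i | j
  · rcases two_pow_cases (k + 1) i (two_pow_mul_eq_zero i) with h | h | h | ⟨m, h⟩
    · left; rw [h, ← one_def]
    · right; left; rw [h]; rfl
    · right; right; left; exact a_sq_z h
    · right; right; right
      refine ⟨m, ?_⟩
      rw [a_pow, a_mul_a, z_def]
      congr 1
      push_cast
      linear_combination h
  · right; right; left; exact xa_sq j

theorem exists_pow_sq {g : Q k} (h1 : g ≠ 1) (h2 : g ≠ z k) : ∃ m : ℕ, (g ^ m) * (g ^ m) = z k := by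
  rcases pow_cases g with h | h | h | ⟨m, h⟩
  · exact absurd h h1
  · exact absurd h h2
  · exact ⟨1, by rw [pow_one]; exact h⟩
  · exact ⟨2 * m, h⟩

/-- An element of order 4 of the cyclic subgroup. -/
def c (k : ℕ) : Q k := a (qq k)

theorem c_add (hk : 1 ≤ k) : qq k + qq k = hh k := by
  have h : 2 ^ (k - 1) + 2 ^ (k - 1) = 2 ^ k := by
    rw [← two_mul, ← pow_succ', Nat.sub_add_cancel hk]
  rw [qq, hh, ← Nat.cast_add, h]

theorem c_sq (hk : 1 ≤ k) : c k * c k = z k := a_sq_z (c_add hk)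

/-- For `k ≥ 2` the element `c` is a square. -/
theorem exists_sq_c (hk : 2 ≤ k) : ∃ i, (a i : Q k) * a i = c k := by
  refine ⟨((2 ^ (k - 2) : ℕ) : ZMod (2 * 2 ^ k)), ?_⟩
  have h : 2 ^ (k - 2) + 2 ^ (k - 2) = 2 ^ (k - 1) := by
    rw [← two_mul, ← pow_succ']
    congr 1
    omega
  rw [a_mul_a, c, qq, ← Nat.cast_add, h]

theorem eq_c_of_sq (hk : 1 ≤ k) {i : ZMod (2 * 2 ^ k)} (hi : i + i = hh k) : (a i : Q k) = c k ∨ (a i : Q k) = z k * c k :=
  of_a_sq_z (c_add hk) hi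

theorem mul_sq_z {x : Q k} (hx : x * x = z k) : (z k * x) * (z k * x) = z k := by
  rw [mul_assoc, ← mul_assoc x, ← z_comm, mul_assoc, zz_mul, hx]

theorem ne_one_of_sq_z {x : Q k} (hx : x * x = z k) : x ≠ 1 := by
  rintro rfl
  rw [one_mul] at hx
  exact z_ne_one hx.symm

theorem ne_z_of_sq_z {x : Q k} (hx : x * x = z k) : x ≠ z k := by
  rintro rfl
  rw [z_mul_z] at hx
  exact z_ne_one hx.symm

/-- Every element is a product of elements of square `z`. -/
theorem exists_mul_of_sq_z (g : Q k) : ∃ x y : Q k, x * x = z k ∧ y * y = z k ∧ (g = x * y ∨ g = x) := by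
  rcases g with i | j
  · refine ⟨xa (hh k - i), xa 0, xa_sq _, xa_sq _, Or.inl ?_⟩
    rw [xa_mul_xa']
    congr 1
    ring
  · exact ⟨xa j, xa j, xa_sq _, xa_sq _, Or.inr rfl⟩

theorem one_or_z_of_add {m : ZMod (2 * 2 ^ k)} (hm : m + m = 0) : (a m : Q k) = 1 ∨ (a m : Q k) = z k := by
  rcases eq_of_add_self' hm with h | h
  · left; rw [h, one_def]
  · right; rw [h]; rfl

theorem one_or_z_of_sq {g : Q k} (h : g * g = 1) : g = 1 ∨ g = z k := eq_of_sq_one h

/-- `Q / <z>` has no elementary abelian subgroup of order 8. -/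
theorem rank_quat {α β γ : Q k} (h1 : α * α = z k) (h2 : β * β = z k) (h3 : γ * γ = z k)
    (h12 : (α * β) * (α * β) = 1 ∨ (α * β) * (α * β) = z k)
    (h13 : (α * γ) * (α * γ) = 1 ∨ (α * γ) * (α * γ) = z k)
    (h23 : (β * γ) * (β * γ) = 1 ∨ (β * γ) * (β * γ) = z k) :
    (α * β = 1 ∨ α * β = z k) ∨ (α * γ = 1 ∨ α * γ = z k) ∨ (β * γ = 1 ∨ β * γ = z k) ∨
      (α * β * γ = 1 ∨ α * β * γ = z k) := by
  have H := hh_add (k := k)
  rcases sq_z_cases h1 with ⟨i, hi, rfl⟩ | ⟨i, rfl⟩ <;> rcases sq_z_cases h2 with ⟨j, hj, rfl⟩ | ⟨j, rfl⟩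
  · left
    rw [a_mul_a]
    exact one_or_z_of_add (by linear_combination hi + hj + H)
  · rcases sq_z_cases h3 with ⟨l, hl, rfl⟩ | ⟨l, rfl⟩
    · right; left
      rw [a_mul_a]
      exact one_or_z_of_add (by linear_combination hi + hl + H)
    · rcases h23 with h23 | h23
      · exact Or.inr (Or.inr (Or.inl (one_or_z_of_sq h23)))
      · right; right; right
        rw [mul_assoc]
        rw [xa_mul_xa'] at h23 ⊢
        rw [a_mul_a] at h23 ⊢
        have h5 : hh k + l - j + (hh k + l - j) = hh k := a.inj h23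
        exact one_or_z_of_add (by linear_combination h5 + hi + H)
  · rcases sq_z_cases h3 with ⟨l, hl, rfl⟩ | ⟨l, rfl⟩
    · right; right; left
      rw [a_mul_a]
      exact one_or_z_of_add (by linear_combination hj + hl + H)
    · rcases h13 with h13 | h13
      · exact Or.inr (Or.inl (one_or_z_of_sq h13))
      · right; right; right
        rw [xa_mul_a, xa_mul_xa']
        rw [xa_mul_xa', a_mul_a] at h13
        have h5 : hh k + l - i + (hh k + l - i) = hh k := a.inj h13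
        exact one_or_z_of_add (by linear_combination h5 - hj)
  · rcases sq_z_cases h3 with ⟨l, hl, rfl⟩ | ⟨l, rfl⟩
    · rcases h12 with h12 | h12
      · exact Or.inl (one_or_z_of_sq h12)
      · right; right; right
        rw [xa_mul_xa'] at h12 ⊢
        rw [a_mul_a] at h12 ⊢
        have h5 : hh k + j - i + (hh k + j - i) = hh k := a.inj h12
        exact one_or_z_of_add (by linear_combination h5 + hl + H)
    · rcases h12 with h12 | h12
      · exact Or.inl (one_or_z_of_sq h12)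
      rcases h13 with h13 | h13
      · exact Or.inr (Or.inl (one_or_z_of_sq h13))
      right; right; left
      rw [xa_mul_xa', a_mul_a] at h12 h13
      rw [xa_mul_xa']
      have h5 := a.inj h12
      have h6 := a.inj h13
      exact one_or_z_of_add (by linear_combination h6 - h5 + H)

end Quat

/-! ### Facts on `S` -/

section S

variable {G : Type*} [Group G] {S : Subgroup G} {k : ℕ} {f : Q k → Q k → G} {s : G} (h : TSp S k f s)

include h

theorem f_congr_z (α β : Q k) : f (z k * α) β = f α (z k * β) := by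
  rw [h.f_eq_iff]
  right
  exact ⟨rfl, (zz_mul β).symm⟩

/-- (S1) The elements of `S` with square `t`. -/
theorem root_cases {g : G} (hg : g ∈ S) (hsq : g * g = f (z k) 1) :
    ∃ α : Q k, α * α = z k ∧ (g = f α 1 ∨ g = f 1 α) := by
  rcases (h.mem_iff g).1 hg with ⟨α, β, rfl⟩ | ⟨α, β, rfl⟩
  · rw [h.f_mul, h.f_eq_iff] at hsq
    rcases hsq with ⟨h1, h2⟩ | ⟨h1, h2⟩
    · rcases eq_of_sq_one h2 with rfl | rfl
      · exact ⟨α, h1, Or.inl rfl⟩
      · refine ⟨z k * α, mul_sq_z h1, Or.inl ?_⟩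
        rw [f_congr_z h, mul_one]
    · rw [z_mul_z] at h1
      rw [mul_one] at h2
      rcases eq_of_sq_one h1 with rfl | rfl
      · exact ⟨β, h2, Or.inr rfl⟩
      · refine ⟨z k * β, mul_sq_z h2, Or.inr ?_⟩
        rw [← f_congr_z h, mul_one]
  · exfalso
    rw [h.fs_mul_fs, h.f_eq_iff] at hsq
    rcases hsq with ⟨h1, h2⟩ | ⟨h1, h2⟩
    · have h3 : α = β⁻¹ := eq_inv_of_mul_eq_one_right h2
      rw [h3, inv_mul_cancel] at h1
      exact z_ne_one h1.symm
    · rw [z_mul_z] at h1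
      have h3 : α = β⁻¹ := eq_inv_of_mul_eq_one_left h1
      rw [h3, mul_inv_cancel, mul_one] at h2
      exact z_ne_one h2.symm

theorem root_sq {α : Q k} (hα : α * α = z k) : f α 1 * f α 1 = f (z k) 1 := by
  rw [h.f_mul, hα, one_mul]

theorem root_sq' {α : Q k} (hα : α * α = z k) : f 1 α * f 1 α = f (z k) 1 := by
  rw [h.f_mul, hα, one_mul, h.f_one_z]

/-- (S2) The involutions of `S`. -/
theorem inv_cases {g : G} (hg : g ∈ S) (hsq : g * g = 1) :
    g = 1 ∨ g = f (z k) 1 ∨ (∃ α β : Q k, α * α = z k ∧ β * β = z k ∧ g = f α β) ∨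
      (∃ α : Q k, g = f α α⁻¹ * s) ∨ ∃ α : Q k, g = f (z k * α) α⁻¹ * s := by
  rcases (h.mem_iff g).1 hg with ⟨α, β, rfl⟩ | ⟨α, β, rfl⟩
  · rw [h.f_mul, ← h.f_one, h.f_eq_iff] at hsq
    rcases hsq with ⟨h1, h2⟩ | ⟨h1, h2⟩
    · rcases eq_of_sq_one h1 with rfl | rfl
      · rcases eq_of_sq_one h2 with rfl | rfl
        · exact Or.inl h.f_one
        · exact Or.inr (Or.inl h.f_one_z)
      · rcases eq_of_sq_one h2 with rfl | rfl
        · exact Or.inr (Or.inl rfl)
        · exact Or.inl h.f_zz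
    · rw [mul_one] at h1 h2
      exact Or.inr (Or.inr (Or.inl ⟨α, β, h1, h2, rfl⟩))
  · right; right; right
    rw [h.fs_mul_fs, ← h.f_one, h.f_eq_iff] at hsq
    rcases hsq with ⟨h1, -⟩ | ⟨h1, -⟩
    · left
      refine ⟨α, ?_⟩
      rw [eq_inv_of_mul_eq_one_right h1]
    · right
      refine ⟨α, ?_⟩
      rw [mul_one] at h1
      have h2 : β = α⁻¹ * z k := by rw [← h1, inv_mul_cancel_left]
      rw [f_congr_z h, h2, ← z_comm]

/-- `s` conjugated by `(α, 1)`. -/
theorem conj_s (α : Q k) : f α 1 * s * (f α 1)⁻¹ = f α α⁻¹ * s := by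
  rw [h.f_inv, inv_one, mul_assoc, h.s_f, ← mul_assoc, h.f_mul, mul_one, one_mul]

theorem conj_ts (α : Q k) : f α 1 * (f (z k) 1 * s) * (f α 1)⁻¹ = f (z k * α) α⁻¹ * s := by
  rw [h.f_inv, inv_one, mul_assoc, mul_assoc, h.s_f, ← mul_assoc (f (z k) 1), h.f_mul, ← mul_assoc, h.f_mul,
    one_mul, one_mul, mul_one, z_comm]

/-- (S1) the centralizer of a root of `t` -/
theorem centralizer_root {g : G} (hg : g ∈ S) {α : Q k} (hα : α * α = z k) (hc : g * f α 1 = f α 1 * g) :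
    ∃ γ δ : Q k, γ * α = α * γ ∧ g = f γ δ := by
  rcases (h.mem_iff g).1 hg with ⟨γ, δ, rfl⟩ | ⟨γ, δ, rfl⟩
  · refine ⟨γ, δ, ?_, rfl⟩
    rw [h.f_mul, h.f_mul, h.f_eq_iff] at hc
    rcases hc with ⟨h1, -⟩ | ⟨-, h1⟩
    · exact h1
    · rw [mul_one, one_mul] at h1
      exact absurd h1 (ne_z_mul δ)
  · exfalso
    rw [h.fs_mul_f, ← mul_assoc, h.f_mul, mul_left_inj, h.f_eq_iff, mul_one, one_mul] at hc
    rcases hc with ⟨-, h1⟩ | ⟨-, h1⟩
    · exact ne_one_of_sq_z hα (mul_eq_left.1 h1)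
    · rw [z_comm] at h1
      exact ne_z_of_sq_z hα (mul_left_cancel h1)

theorem centralizer_root' {g : G} (hg : g ∈ S) {α : Q k} (hα : α * α = z k) (hc : g * f 1 α = f 1 α * g) :
    ∃ γ δ : Q k, δ * α = α * δ ∧ g = f γ δ := by
  have h1 : s * g * s⁻¹ ∈ S := S.mul_mem (S.mul_mem h.s_mem hg) (S.inv_mem h.s_mem)
  obtain ⟨γ, δ, h2, h3⟩ := centralizer_root h h1 hα (by
    have h4 : f α 1 = s * f 1 α * s⁻¹ := (h.s_conj 1 α).symm
    rw [h4]
    calc s * g * s⁻¹ * (s * f 1 α * s⁻¹) = s * (g * f 1 α) * s⁻¹ := by group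
      _ = s * (f 1 α * g) * s⁻¹ := by rw [hc]
      _ = s * f 1 α * s⁻¹ * (s * g * s⁻¹) := by group)
  refine ⟨δ, γ, h2, ?_⟩
  have h5 : g = s⁻¹ * (s * g * s⁻¹) * s := by group
  rw [h5, h3, h.s_inv, h.s_f, mul_assoc, h.s_s, mul_one]

/-- commuting pairs of elements of the base group -/
theorem comm_iff {α β γ δ : Q k} : f α β * f γ δ = f γ δ * f α β ↔
    (α * γ = γ * α ∧ β * δ = δ * β) ∨ (α * γ = z k * (γ * α) ∧ β * δ = z k * (δ * β)) := by
  rw [h.f_mul, h.f_mul, h.f_eq_iff]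

/-- the centralizer of `s` -/
theorem comm_s_iff {α β : Q k} : f α β * s = s * f α β ↔ α = β ∨ α = z k * β := by
  rw [h.s_f, mul_left_inj, h.f_eq_iff]
  constructor
  · rintro (⟨h1, -⟩ | ⟨h1, -⟩)
    · exact Or.inl h1
    · exact Or.inr h1
  · rintro (h1 | h1)
    · exact Or.inl ⟨h1, h1.symm⟩
    · refine Or.inr ⟨h1, ?_⟩
      rw [h1, zz_mul]

/-- the product of two base elements -/
theorem sq_cases_of_inv {α β : Q k} (hp : f α β * f α β = 1) :
    (α * α = 1 ∧ β * β = 1) ∨ (α * α = z k ∧ β * β = z k) := by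
  rw [h.f_mul, ← h.f_one, h.f_eq_iff, mul_one] at hp
  exact hp

theorem one_or_t {α β : Q k} (hp : f α β * f α β = 1) (hα : α = 1 ∨ α = z k) :
    f α β = 1 ∨ f α β = f (z k) 1 := by
  rcases sq_cases_of_inv h hp with ⟨-, h2⟩ | ⟨h1, -⟩
  · rcases eq_of_sq_one h2 with rfl | rfl <;> rcases hα with rfl | rfl
    · exact Or.inl h.f_one
    · exact Or.inr rfl
    · exact Or.inr h.f_one_z
    · exact Or.inl h.f_zz
  · exfalso
    rcases hα with rfl | rfl
    · rw [one_mul] at h1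
      exact z_ne_one h1.symm
    · rw [z_mul_z] at h1
      exact z_ne_one h1.symm

/-- The base group has no elementary abelian subgroup of order 16. -/
theorem rank {u v w : G} (hu : ∃ α β, u = f α β) (hv : ∃ α β, v = f α β) (hw : ∃ α β, w = f α β)
    (hu2 : u * u = 1) (hv2 : v * v = 1) (hw2 : w * w = 1) (huv : u * v = v * u) (huw : u * w = w * u)
    (hvw : v * w = w * v) :
    (u = 1 ∨ u = f (z k) 1) ∨ (v = 1 ∨ v = f (z k) 1) ∨ (w = 1 ∨ w = f (z k) 1) ∨
      (u * v = 1 ∨ u * v = f (z k) 1) ∨ (u * w = 1 ∨ u * w = f (z k) 1) ∨ (v * w = 1 ∨ v * w = f (z k) 1) ∨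
      (u * v * w = 1 ∨ u * v * w = f (z k) 1) := by
  have huv2 : (u * v) * (u * v) = 1 := by
    have hc : Commute u v := huv
    rw [hc.symm.mul_mul_mul_comm, hu2, hv2, one_mul]
  have huw2 : (u * w) * (u * w) = 1 := by
    have hc : Commute u w := huw
    rw [hc.symm.mul_mul_mul_comm, hu2, hw2, one_mul]
  have hvw2 : (v * w) * (v * w) = 1 := by
    have hc : Commute v w := hvw
    rw [hc.symm.mul_mul_mul_comm, hv2, hw2, one_mul]
  have huvw2 : (u * v * w) * (u * v * w) = 1 := by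
    have hc : Commute (u * v) w := (show Commute u w from huw).mul_left (show Commute v w from hvw)
    rw [hc.symm.mul_mul_mul_comm, huv2, hw2, one_mul]
  obtain ⟨α, α', rfl⟩ := hu
  obtain ⟨β, β', rfl⟩ := hv
  obtain ⟨γ, γ', rfl⟩ := hw
  rcases sq_cases_of_inv h hu2 with ⟨h1, -⟩ | ⟨h1, -⟩
  · exact Or.inl (one_or_t h hu2 (eq_of_sq_one h1))
  rcases sq_cases_of_inv h hv2 with ⟨h2, -⟩ | ⟨h2, -⟩
  · exact Or.inr (Or.inl (one_or_t h hv2 (eq_of_sq_one h2)))
  rcases sq_cases_of_inv h hw2 with ⟨h3, -⟩ | ⟨h3, -⟩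
  · exact Or.inr (Or.inr (Or.inl (one_or_t h hw2 (eq_of_sq_one h3))))
  rw [h.f_mul] at huv2 huw2 hvw2 huvw2
  rw [h.f_mul] at huvw2
  rw [h.f_mul, h.f_mul, h.f_mul, h.f_mul]
  have e : ∀ {x y : Q k}, f x y * f x y = 1 → x * x = 1 ∨ x * x = z k := by
    intro x y hxy
    rcases sq_cases_of_inv h hxy with ⟨h4, -⟩ | ⟨h4, -⟩
    · exact Or.inl h4
    · exact Or.inr h4
  rcases rank_quat h1 h2 h3 (e huv2) (e huw2) (e hvw2) with h4 | h4 | h4 | h4
  · exact Or.inr (Or.inr (Or.inr (Or.inl (one_or_t h huv2 h4))))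
  · exact Or.inr (Or.inr (Or.inr (Or.inr (Or.inl (one_or_t h huw2 h4)))))
  · exact Or.inr (Or.inr (Or.inr (Or.inr (Or.inr (Or.inl (one_or_t h hvw2 h4))))))
  · exact Or.inr (Or.inr (Or.inr (Or.inr (Or.inr (Or.inr (one_or_t h huvw2 h4))))))

/-- squares in `S` lie in the base group -/
theorem sq_mem_base {g : G} (hg : g ∈ S) : ∃ α β : Q k, g * g = f α β := by
  rcases (h.mem_iff g).1 hg with ⟨γ, δ, rfl⟩ | ⟨γ, δ, rfl⟩
  · exact ⟨_, _, h.f_mul _ _ _ _⟩
  · exact ⟨_, _, h.fs_mul_fs _ _ _ _⟩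

/-- The automorphism `τ`: replace `s` by `t s`. -/
theorem tau : TSp S k f (f (z k) 1 * s) where
  hk := h.hk
  f_mul := h.f_mul
  f_zz := h.f_zz
  f_inj := h.f_inj
  s_s := by
    rw [h.fs_mul_fs, mul_one, one_mul, h.f_zz]
  s_f := by
    intro a b
    rw [h.fs_mul_f, ← mul_assoc, h.f_mul, one_mul, mul_one, z_comm]
  s_ne := by
    intro a b e
    exact h.fs_ne _ _ _ _ e
  mem_iff := by
    intro g
    rw [h.mem_iff]
    constructor
    · rintro (h1 | ⟨a, b, rfl⟩)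
      · exact Or.inl h1
      · refine Or.inr ⟨z k * a, b, ?_⟩
        rw [← mul_assoc, h.f_mul, mul_one, ← z_comm, zz_mul]
    · rintro (h1 | ⟨a, b, rfl⟩)
      · exact Or.inl h1
      · refine Or.inr ⟨a * z k, b * 1, ?_⟩
        rw [← mul_assoc, h.f_mul]

/-- Restriction to a subgroup containing `S`. -/
theorem restrict {C : Subgroup G} (hSC : S ≤ C) :
    TSp (S.subgroupOf C) k (fun a b => (⟨f a b, hSC (h.f_mem a b)⟩ : C)) ⟨s, hSC h.s_mem⟩ where
  hk := h.hk
  f_mul a b c d := Subtype.ext (h.f_mul a b c d)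
  f_zz := Subtype.ext h.f_zz
  f_inj a b c d e := h.f_inj a b c d (congrArg Subtype.val e)
  s_s := Subtype.ext h.s_s
  s_f a b := Subtype.ext (h.s_f a b)
  s_ne a b e := h.s_ne a b (congrArg Subtype.val e)
  mem_iff g := by
    rw [Subgroup.mem_subgroupOf, h.mem_iff]
    constructor
    · rintro (⟨a, b, e⟩ | ⟨a, b, e⟩)
      · exact Or.inl ⟨a, b, Subtype.ext e⟩
      · exact Or.inr ⟨a, b, Subtype.ext e⟩
    · rintro (⟨a, b, e⟩ | ⟨a, b, e⟩)
      · exact Or.inl ⟨a, b, congrArg Subtype.val e⟩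
      · exact Or.inr ⟨a, b, congrArg Subtype.val e⟩

end S

end Cfsg.Agent.SylowSp4.Facts
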