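import Cfsg.Agent.SylowSp4.Base
import Cfsg.Agent.SylowSp4.Facts
import Cfsg.Agent.Walter.OddCoreIn

/-!
# The fusion pattern of `PSp_4(q)`

`Pat P k f s` is the output of the fusion analysis (pattern `PSp`): two classes of involutions, represented by
`t = f (z k) 1` and `u = f (c k) (c k)`; `s` is conjugate to `t`, `t s` to `u`, and all `f α β`, `α ^ 2 = β ^ 2 = z`, are
conjugate under `C(t)`.

`Duo H L` : two commuting copies of `L` in `H` with common central involution, swapped by the involution `w`.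
`Cent P H L π D ι Φ` : the structure of `C(t)` modulo its core, `π : C(t) → H` the quotient map.
-/

set_option autoImplicit false

namespace Cfsg.Agent.SylowSp4.Pat

open QuaternionGroup Cfsg.Agent.SylowSp4.Coord Subgroup
open Cfsg.Agent.Walter.OddCoreIn

/-- the central involution `t` -/
abbrev tt {G : Type*} {k : ℕ} (f : Q k → Q k → G) : G := f (z k) 1

/-- the involution `e = (x₀, x₀)` -/
abbrev ee {G : Type*} {k : ℕ} (f : Q k → Q k → G) : G := f (Facts.c k) (Facts.c k)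

/-- The centralizer of an element. -/
abbrev Cn {G : Type*} [Group G] (a : G) : Subgroup G := centralizer ({a} : Set G)

/-- The pattern `PSp`. -/
structure Pat {G : Type*} [Group G] (P : Sylow 2 G) (k : ℕ) (f : Q k → Q k → G) (s : G) : Prop where
  h : TSp (P : Subgroup G) k f s
  ts : IsConj (tt f) s
  uu : ∀ α β : Q k, α * α = z k → β * β = z k → ∃ c ∈ Cn (tt f), c * ee f * c⁻¹ = f α β
  uts : IsConj (ee f) (tt f * s)
  tu : ¬ IsConj (tt f) (ee f)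

/-- Two commuting copies of `L` with common centre `⟨ζ⟩`, swapped by the involution `w`. -/
structure Duo (H L : Type*) [Group H] [Group L] where
  φ₁ : L →* H
  φ₂ : L →* H
  ζ : L
  w : H
  ζζ : ζ * ζ = 1
  ζ_ne : ζ ≠ 1
  comm : ∀ a b, φ₁ a * φ₂ b = φ₂ b * φ₁ a
  z_eq : φ₁ ζ = φ₂ ζ
  ker : ∀ a b, φ₁ a * φ₂ b = 1 → (a = 1 ∧ b = 1) ∨ (a = ζ ∧ b = ζ)
  ww : w * w = 1
  conj : ∀ a, w * φ₁ a * w = φ₂ a

/-- The structure of `C(t)` modulo its core: `H = C(t) / O(C(t)) = (φ₁(L) φ₂(L)) Φ ⟨w⟩`, `Φ` of odd order,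
centralising the image of the base group. -/
structure Cent {G : Type*} [Group G] (k : ℕ) (f : Q k → Q k → G) (s : G) {H L : Type*} [Group H] [Group L]
    (π : Cn (tt f) →* H) (D : Duo H L) (ι : Q k →* L) (Φ : Subgroup H) : Prop where
  surj : Function.Surjective π
  ker : ∀ c : Cn (tt f), π c = 1 ↔ (c : G) ∈ OO (Cn (tt f))
  ι_inj : Function.Injective ι
  ι_z : ι (z k) = D.ζ
  hf : ∀ a b (hc : f a b ∈ Cn (tt f)), π ⟨f a b, hc⟩ = D.φ₁ (ι a) * D.φ₂ (ι b)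
  hw : ∀ hc : s ∈ Cn (tt f), π ⟨s, hc⟩ = D.w
  gen : ∀ h : H, ∃ a b, ∃ g ∈ Φ, h = D.φ₁ a * D.φ₂ b * g ∨ h = D.φ₁ a * D.φ₂ b * D.w * g
  odd : Odd (Nat.card Φ)
  norm₁ : ∀ g ∈ Φ, ∀ a, ∃ b, g * D.φ₁ a * g⁻¹ = D.φ₁ b
  norm₂ : ∀ g ∈ Φ, ∀ a, ∃ b, g * D.φ₂ a * g⁻¹ = D.φ₂ b
  fix₁ : ∀ g ∈ Φ, ∀ a, g * D.φ₁ (ι a) = D.φ₁ (ι a) * g
  fix₂ : ∀ g ∈ Φ, ∀ a, g * D.φ₂ (ι a) = D.φ₂ (ι a) * g
  wΦ : ∀ g ∈ Φ, D.w * g * D.w ∈ Φ
  /-- the centraliser of `φ₁(L) φ₂(L)` -/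
  cen : ∀ h : H, (∀ a, h * D.φ₁ a = D.φ₁ a * h) → (∀ a, h * D.φ₂ a = D.φ₂ a * h) → h = 1 ∨ h = D.φ₁ D.ζ

namespace Pat

variable {G : Type*} [Group G] {P : Sylow 2 G} {k : ℕ} {f : Q k → Q k → G} {s : G} (p : Pat P k f s)

include p

/-- all involutions of `s^S` are conjugate to `t` -/
theorem t_conj (α : Q k) : IsConj (tt f) (f α α⁻¹ * s) := by
  refine p.ts.trans ?_
  rw [isConj_iff]
  exact ⟨f α 1, Facts.conj_s p.h α⟩

theorem u_conj (α β : Q k) (hα : α * α = z k) (hβ : β * β = z k) : IsConj (ee f) (f α β) := by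
  obtain ⟨c, -, hc⟩ := p.uu α β hα hβ
  exact isConj_iff.2 ⟨c, hc⟩

theorem u_conj' (α : Q k) : IsConj (ee f) (f (z k * α) α⁻¹ * s) := by
  refine p.uts.trans ?_
  rw [isConj_iff]
  exact ⟨f α 1, Facts.conj_ts p.h α⟩

/-- The `t`-type involutions of `S`. -/
theorem t_iff {w : G} (hw : w ∈ P) (hww : w * w = 1) (hw1 : w ≠ 1) :
    IsConj (tt f) w ↔ w = tt f ∨ ∃ α, w = f α α⁻¹ * s := by
  constructor
  · intro hc
    rcases Facts.inv_cases p.h hw hww with h | h | ⟨α, β, hα, hβ, h⟩ | h | ⟨α, h⟩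
    · exact absurd h hw1
    · exact Or.inl h
    · exact absurd (hc.trans ((h ▸ p.u_conj α β hα hβ).symm)) p.tu
    · exact Or.inr h
    · exact absurd (hc.trans ((h ▸ p.u_conj' α).symm)) p.tu
  · rintro (h | ⟨α, h⟩)
    · rw [h]
    · rw [h]; exact p.t_conj α

/-- Every involution of `S` is of `t`-type or of `u`-type. -/
theorem t_or_u {w : G} (hw : w ∈ P) (hww : w * w = 1) (hw1 : w ≠ 1) :
    IsConj (tt f) w ∨ IsConj (ee f) w := by
  rcases Facts.inv_cases p.h hw hww with h | h | ⟨α, β, hα, hβ, h⟩ | ⟨α, h⟩ | ⟨α, h⟩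
  · exact absurd h hw1
  · left; rw [h]
  · right; rw [h]; exact p.u_conj α β hα hβ
  · left; rw [h]; exact p.t_conj α
  · right; rw [h]; exact p.u_conj' α

end Pat

end Cfsg.Agent.SylowSp4.Pat
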