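import Cfsg.Agent.SylowSp4.LargeC
import Cfsg.Agent.SylowSp4.Pat
import Cfsg.Agent.S0215

/-!
# Type `PSp_4(q)`, `q = 1, 7 mod 8`: the fusion pattern

`pat`: in a finite simple group with Sylow 2-subgroup of type `PSp_4(q)`, `k ≥ 2`, the fusion is that of `PSp_4(q)`
(after possibly replacing `s` by `t s`).
-/

set_option autoImplicit false

namespace Cfsg.Agent.SylowSp4.Large

open Subgroup QuaternionGroup Cfsg.Agent.SylowSp4.Coord Cfsg.Agent.SylowSp4.Facts Cfsg.Agent.SylowSp4.Base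
open Cfsg.Agent.SylowSp4.CentA Cfsg.Agent.SylowSp4.Extremal Cfsg.Agent.SylowSp4.LargeA
open Cfsg.Agent.SylowSp4.CentG Cfsg.Agent.SylowSp4.Pat

/-- a finite simple group with Sylow 2-subgroup of type `PSp_4(q)` has no subgroup of index two -/
theorem index_ne_two {G : Type*} [Group G] [Finite G] [IsSimpleGroup G] {P : Subgroup G} {k : ℕ}
    {f : Q k → Q k → G} {s : G} (h : TSp P k f s) (H : Subgroup G) : H.index ≠ 2 := by
  intro hH
  have hn : H.Normal := Subgroup.normal_of_index_eq_two hH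
  rcases hn.eq_bot_or_eq_top with h1 | h1
  · rw [h1, Subgroup.index_bot] at hH
    have h2 : Nat.card P ∣ 2 := by
      rw [← hH]
      exact Subgroup.card_subgroup_dvd_card P
    rw [card_eq h] at h2
    have h3 := Nat.le_of_dvd (by norm_num) h2
    have h4 : 2 ^ 4 ≤ 2 ^ (2 * k + 4) := Nat.pow_le_pow_right (by norm_num) (by omega)
    omega
  · rw [h1, Subgroup.index_top] at hH
    omega

section

variable {G : Type*} [Group G] [Finite G] {P : Sylow 2 G} {k : ℕ} {f : Q k → Q k → G} {s : G}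
  (h : TSp (P : Subgroup G) k f s)

include h

/-- `t` is conjugate to another element of `P` -/
theorem exists_fusion [IsSimpleGroup G] : ∃ g : G, g * f (z k) 1 * g⁻¹ ∈ (P : Subgroup G) ∧
    g * f (z k) 1 * g⁻¹ ≠ f (z k) 1 := by
  by_contra hcon
  push Not at hcon
  have ho : orderOf (f (z k) 1) = 2 := by
    apply orderOf_eq_prime
    · rw [sq, h.t_sq]
    · exact h.t_ne_one
  obtain ⟨N, hN, hNo, hNc⟩ := S0215.result P (f (z k) 1) ho (h.f_mem _ _) (fun g hg => hcon g hg)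
  rcases hN.eq_bot_or_eq_top with h1 | h1
  · -- `t` central
    have hZ : f (z k) 1 ∈ Subgroup.center G := by
      rw [Subgroup.mem_center_iff]
      intro g
      have h2 := hNc g
      rw [h1, Subgroup.mem_bot] at h2
      have h3 : f (z k) 1 * g * (f (z k) 1)⁻¹ * g⁻¹ * g * f (z k) 1 = 1 * g * f (z k) 1 := by rw [h2]
      have h4 : f (z k) 1 * g * (f (z k) 1)⁻¹ * g⁻¹ * g * f (z k) 1 = f (z k) 1 * g := by group
      rw [h4, one_mul] at h3
      exact h3.symm
    rcases (inferInstance : (Subgroup.center G).Normal).eq_bot_or_eq_top with h2 | h2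
    · rw [h2, Subgroup.mem_bot] at hZ
      exact h.t_ne_one hZ
    · -- `G` abelian
      have h3 : f (xa 0) 1 * f (a (qq k)) 1 = f (a (qq k)) 1 * f (xa 0) 1 := by
        have h4 : f (xa 0) 1 ∈ Subgroup.center G := by rw [h2]; exact Subgroup.mem_top _
        exact ((Subgroup.mem_center_iff.1 h4) _).symm
      rw [h.f_mul, h.f_mul, h.f_eq_iff] at h3
      rcases h3 with ⟨h4, -⟩ | ⟨-, h4⟩
      · have h5 := a_sq_z (c_add h.hk)
        rcases of_a_comm_xa h4.symm with h6 | h6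
        · exact ne_one_of_sq_z h5 h6
        · exact ne_z_of_sq_z h5 h6
      · rw [mul_one, mul_one] at h4
        exact z_ne_one h4.symm
  · rw [h1, Subgroup.card_top] at hNo
    have h2 : Nat.card (P : Subgroup G) ∣ Nat.card G := Subgroup.card_subgroup_dvd_card _
    rw [card_eq h] at h2
    have h3 : 2 ∣ Nat.card G := dvd_trans (dvd_pow_self 2 (by omega)) h2
    exact Nat.not_even_iff_odd.2 hNo (even_iff_two_dvd.2 h3)

/-- an involution `y ∈ P` outside the base group is conjugate in `P` to `s` or `t s` -/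
theorem out_conj {y : G} (hy : y ∈ (P : Subgroup G)) (hyy : y * y = 1) (hyb : ¬ ∃ α β, y = f α β) :
    IsConj s y ∨ IsConj (f (z k) 1 * s) y := by
  rcases inv_cases h hy hyy with h1 | h1 | ⟨α, β, -, -, h1⟩ | ⟨α, h1⟩ | ⟨α, h1⟩
  · exact absurd ⟨1, 1, by rw [h1, h.f_one]⟩ hyb
  · exact absurd ⟨_, _, h1⟩ hyb
  · exact absurd ⟨_, _, h1⟩ hyb
  · left; exact isConj_iff.2 ⟨f α 1, by rw [conj_s h, h1]⟩
  · right; exact isConj_iff.2 ⟨f α 1, by rw [conj_ts h, h1]⟩

/-- the pattern, given that `t ~ s` -/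
theorem pat_of_ts [IsSimpleGroup G]
    (hu : ∀ α β : Q k, α * α = z k → β * β = z k →
      ∃ g : G, g * f (z k) 1 = f (z k) 1 * g ∧ g * f α β * g⁻¹ = f (c k) (c k))
    (htu : ¬ IsConj (f (z k) 1) (f (c k) (c k))) (hts : IsConj (f (z k) 1) s) : Pat P k f s := by
  have hcs := c_sq h.hk
  have hU : ∀ α β : Q k, α * α = z k → β * β = z k → ¬ IsConj (f (z k) 1) (f α β) := by
    intro α β hα hβ hc
    obtain ⟨g, -, hg⟩ := hu α β hα hβ
    exact htu (hc.trans (isConj_iff.2 ⟨g, hg⟩))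
  -- `t s` is not conjugate to `t`
  have htts : ¬ IsConj (f (z k) 1) (f (z k) 1 * s) := by
    intro htts
    obtain ⟨g₀, hg₀⟩ := isConj_iff.1 hts.symm
    obtain ⟨g, hg, hC⟩ := exists_conj_of_central P (fun y hy => (h.t_comm hy).symm) ⟨g₀, hg₀⟩
    have hUb : ∀ α : Q k, α * α = z k → ∃ γ δ, g * f α α * g⁻¹ = f γ δ := by
      intro α hα
      by_contra hcon
      have h1 := hC (f α α) (h.f_mem _ _) (by rw [h.s_f])
      have h2 : (g * f α α * g⁻¹) * (g * f α α * g⁻¹) = 1 := by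
        calc (g * f α α * g⁻¹) * (g * f α α * g⁻¹) = g * (f α α * f α α) * g⁻¹ := by group
          _ = 1 := by rw [h.f_mul, hα, h.f_zz]; group
      have h3 : IsConj (f (z k) 1) (g * f α α * g⁻¹) := by
        rcases out_conj h h1 h2 hcon with h4 | h4
        · exact hts.trans h4
        · exact htts.trans h4
      exact hU α α hα hα (h3.trans (isConj_iff.2 ⟨g⁻¹, by group⟩))
    have hUb' : ∃ γ δ, g * f (z k * c k) (c k) * g⁻¹ = f γ δ := by
      by_contra hcon
      have h1 := hC (f (z k * c k) (c k)) (h.f_mem _ _) ((comm_s_iff h).2 (Or.inr rfl))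
      have h2 : (g * f (z k * c k) (c k) * g⁻¹) * (g * f (z k * c k) (c k) * g⁻¹) = 1 := by
        calc (g * f (z k * c k) (c k) * g⁻¹) * (g * f (z k * c k) (c k) * g⁻¹) =
              g * (f (z k * c k) (c k) * f (z k * c k) (c k)) * g⁻¹ := by group
          _ = 1 := by rw [h.f_mul, mul_sq_z hcs, hcs, h.f_zz]; group
      have h3 : IsConj (f (z k) 1) (g * f (z k * c k) (c k) * g⁻¹) := by
        rcases out_conj h h1 h2 hcon with h4 | h4
        · exact hts.trans h4
        · exact htts.trans h4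
      exact hU _ _ (mul_sq_z hcs) hcs (h3.trans (isConj_iff.2 ⟨g⁻¹, by group⟩))
    have hmul : ∀ {x y : G}, (g * x * g⁻¹) * (g * y * g⁻¹) = g * (x * y) * g⁻¹ := by
      intro x y; group
    have hsq : ∀ {x : G}, x * x = 1 → (g * x * g⁻¹) * (g * x * g⁻¹) = 1 := by
      intro x hx
      rw [hmul, hx]; group
    have hconj : ∀ {x y : G}, x * y = y * x → (g * x * g⁻¹) * (g * y * g⁻¹) = (g * y * g⁻¹) * (g * x * g⁻¹) := by
      intro x y hxy
      rw [hmul, hmul, hxy]
    have htb : ∃ γ δ, g * f (z k) 1 * g⁻¹ = f γ δ := by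
      have e : f (z k) 1 = f (z k * c k) (c k) * f (c k) (c k) := by
        rw [h.f_mul, mul_assoc, hcs, z_mul_z, h.f_one_z]
      rw [e, ← hmul]
      exact base_mul h hUb' (hUb _ hcs)
    have he2 : f (c k) (c k) * f (c k) (c k) = 1 := by rw [h.f_mul, hcs, h.f_zz]
    have hy2 : f (xa 0) (xa 0) * f (xa 0) (xa 0) = 1 := by rw [h.f_mul, Coord.xa_sq, h.f_zz]
    have hey := e_comm h (h.f_mem (xa 0) (xa 0)) (by rw [h.s_f])
    have hte := h.t_comm (h.f_mem (c k) (c k))
    have hty := h.t_comm (h.f_mem (xa 0) (xa 0))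
    have hr := rank h htb (hUb _ hcs) (hUb _ (Coord.xa_sq 0)) (hsq h.t_sq) (hsq he2) (hsq hy2) (hconj hte) (hconj hty)
      (hconj hey)
    rw [hmul, hmul, hmul, hmul] at hr
    have hfin : ∀ {x : G}, (g * x * g⁻¹ = 1 ∨ g * x * g⁻¹ = f (z k) 1) → (∃ γ δ, x = f γ δ) → x = 1 := by
      rintro x (h1 | h1) hxb
      · have h2 : x = g⁻¹ * (g * x * g⁻¹) * g := by group
        rw [h2, h1]; group
      · exfalso
        rw [← hg] at h1
        have h2 := mul_left_cancel (mul_right_cancel h1)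
        rw [h2] at hxb
        exact s_not_base h hxb
    rcases hr with h1 | h1 | h1 | h1 | h1 | h1 | h1
    · exact h.t_ne_one (hfin h1 ⟨_, _, rfl⟩)
    · have h2 := hfin h1 ⟨_, _, rfl⟩
      rw [← h.f_one, h.f_eq_iff, mul_one] at h2
      rcases h2 with ⟨h3, -⟩ | ⟨h3, -⟩
      · exact ne_one_of_sq_z hcs h3
      · exact ne_z_of_sq_z hcs h3
    · have h2 := hfin h1 ⟨_, _, rfl⟩
      rw [← h.f_one, h.f_eq_iff, mul_one] at h2
      rcases h2 with ⟨h3, -⟩ | ⟨h3, -⟩
      · exact ne_one_of_sq_z (Coord.xa_sq 0) h3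
      · exact ne_z_of_sq_z (Coord.xa_sq 0) h3
    · have h2 := hfin h1 ⟨_, _, h.f_mul _ _ _ _⟩
      rw [h.f_mul, ← h.f_one, h.f_eq_iff, one_mul, mul_one] at h2
      rcases h2 with ⟨-, h3⟩ | ⟨-, h3⟩
      · exact ne_one_of_sq_z hcs h3
      · exact ne_z_of_sq_z hcs h3
    · have h2 := hfin h1 ⟨_, _, h.f_mul _ _ _ _⟩
      rw [h.f_mul, ← h.f_one, h.f_eq_iff, one_mul, mul_one] at h2
      rcases h2 with ⟨-, h3⟩ | ⟨-, h3⟩
      · exact ne_one_of_sq_z (Coord.xa_sq 0) h3
      · exact ne_z_of_sq_z (Coord.xa_sq 0) h3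
    · have h2 := hfin h1 ⟨_, _, h.f_mul _ _ _ _⟩
      rw [h.f_mul, ← h.f_one, h.f_eq_iff, mul_one, c, a_mul_xa] at h2
      rcases h2 with ⟨h3, -⟩ | ⟨h3, -⟩
      · rw [one_def] at h3
        cases h3
      · rw [z_def] at h3
        cases h3
    · have h2 := hfin h1 ⟨_, _, by rw [h.f_mul, h.f_mul]⟩
      rw [h.f_mul, h.f_mul, ← h.f_one, h.f_eq_iff, one_mul, mul_one, c, a_mul_xa] at h2
      rcases h2 with ⟨-, h3⟩ | ⟨-, h3⟩
      · rw [one_def] at h3
        cases h3
      · rw [z_def] at h3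
        cases h3
  -- Thompson transfer: `t s` is conjugate into the base group
  obtain ⟨g, α, β, hg⟩ : ∃ g : G, ∃ α β, g * (f (z k) 1 * s) * g⁻¹ = f α β := by
    by_contra hcon
    push Not at hcon
    obtain ⟨V, hV⟩ := exists_transfer P (base h) (relIndex_base h)
    have h1 := char_trivial (index_ne_two h) V (f (z k) 1 * s)
    have h5 : f (z k) 1 * s ∉ base h := by
      rw [mem_base]
      rintro ⟨α, β, h6⟩
      exact h.fs_ne _ _ _ _ h6
    refine h5 ((hV _ (h.fs_mem _ _) ?_).1 h1)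
    intro n g hg
    have h2 : (f (z k) 1 * s) * (f (z k) 1 * s) = 1 := (tau h).s_s
    rcases Nat.even_or_odd' n with ⟨m, rfl | rfl⟩
    · rw [pow_mul, sq, h2, one_pow, mul_one, mul_inv_cancel]
    · rw [pow_succ, pow_mul, sq, h2, one_pow, one_mul]
      constructor
      · intro h3
        obtain ⟨α, β, h4⟩ := (mem_base h).1 h3
        exact absurd h4 (hcon g α β)
      · intro h3
        exact absurd h3 h5
  have huts : IsConj (f (c k) (c k)) (f (z k) 1 * s) := by
    have h2 : (f (z k) 1 * s) * (f (z k) 1 * s) = 1 := (tau h).s_s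
    have h3 : f α β * f α β = 1 := by
      rw [← hg]
      calc g * (f (z k) 1 * s) * g⁻¹ * (g * (f (z k) 1 * s) * g⁻¹) =
            g * ((f (z k) 1 * s) * (f (z k) 1 * s)) * g⁻¹ := by group
        _ = 1 := by rw [h2]; group
    have h4 : IsConj (f (z k) 1 * s) (f α β) := isConj_iff.2 ⟨g, hg⟩
    rcases sq_cases_of_inv h h3 with ⟨h5, -⟩ | ⟨h5, h6⟩
    · exfalso
      rcases one_or_t h h3 (eq_of_sq_one h5) with h6 | h6
      · rw [h6] at hg
        have h7 : f (z k) 1 * s = 1 := by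
          have : f (z k) 1 * s = g⁻¹ * (g * (f (z k) 1 * s) * g⁻¹) * g := by group
          rw [this, hg]; group
        rw [← h.f_one] at h7
        exact h.fs_ne _ _ _ _ h7
      · rw [h6] at h4
        exact htts h4.symm
    · obtain ⟨g', -, hg'⟩ := hu α β h5 h6
      exact (h4.trans (isConj_iff.2 ⟨g', hg'⟩)).symm
  exact
    { h := h
      ts := hts
      uu := by
        intro α β hα hβ
        obtain ⟨g', hg't, hg'⟩ := hu α β hα hβ
        refine ⟨g'⁻¹, ?_, ?_⟩
        · rw [mem_centralizer_singleton_iff]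
          have : g'⁻¹ * f (z k) 1 = g'⁻¹ * (f (z k) 1 * g') * g'⁻¹ := by group
          rw [this, ← hg't]; group
        · change g'⁻¹ * f (c k) (c k) * g'⁻¹⁻¹ = f α β
          rw [← hg']; group
      uts := huts
      tu := htu }

/-- The fusion pattern of `PSp_4(q)` from the conjugacy of all `f α β` in `C_G(t)`. -/
theorem pat_of_uu [IsSimpleGroup G]
    (hu : ∀ α β : Q k, α * α = z k → β * β = z k →
      ∃ g : G, g * f (z k) 1 = f (z k) 1 * g ∧ g * f α β * g⁻¹ = f (c k) (c k))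
    (htu : ¬ IsConj (f (z k) 1) (f (c k) (c k))) : Pat P k f s ∨ Pat P k f (f (z k) 1 * s) := by
  obtain ⟨g, hgP, hgt⟩ := exists_fusion h
  have h1 : (g * f (z k) 1 * g⁻¹) * (g * f (z k) 1 * g⁻¹) = 1 := by
    calc g * f (z k) 1 * g⁻¹ * (g * f (z k) 1 * g⁻¹) = g * (f (z k) 1 * f (z k) 1) * g⁻¹ := by group
      _ = 1 := by rw [h.t_sq]; group
  have htg : IsConj (f (z k) 1) (g * f (z k) 1 * g⁻¹) := isConj_iff.2 ⟨g, rfl⟩
  by_cases hb : ∃ α β, g * f (z k) 1 * g⁻¹ = f α β
  · exfalso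
    obtain ⟨α, β, hb⟩ := hb
    rw [hb] at h1 hgt htg
    rcases sq_cases_of_inv h h1 with ⟨h5, -⟩ | ⟨h5, h6⟩
    · rcases one_or_t h h1 (eq_of_sq_one h5) with h6 | h6
      · rw [h6] at htg
        exact h.t_ne_one (isConj_one_right.1 htg.symm)
      · exact hgt h6
    · obtain ⟨g', -, hg'⟩ := hu α β h5 h6
      exact htu (htg.trans (isConj_iff.2 ⟨g', hg'⟩))
  · rcases out_conj h hgP h1 hb with h2 | h2
    · exact Or.inl (pat_of_ts h hu htu (htg.trans h2.symm))
    · exact Or.inr (pat_of_ts (tau h) hu htu (htg.trans h2.symm))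

/-- **Fusion for `k ≥ 2`**: the pattern is that of `PSp_4(q)`. -/
theorem pat [IsSimpleGroup G] (hk : 2 ≤ k) : Pat P k f s ∨ Pat P k f (f (z k) 1 * s) := by
  refine pat_of_uu h (fun α β hα hβ => LargeC.uu h hk (index_ne_two h) hα hβ) ?_
  intro hc
  obtain ⟨g, hg⟩ := isConj_iff.1 hc.symm
  exact e_not_conj h hk g hg

end

end Cfsg.Agent.SylowSp4.Large
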