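import Cfsg.Agent.SylowSp4.Output
import Cfsg.Agent.SpFourOdd.LnSL

/-!
# From the structure of `C(t)` to the hypotheses of the recognition theorem: fusion and `C(u)`
-/

set_option autoImplicit false

namespace Cfsg.Agent.SylowSp4.OutputCU

open QuaternionGroup Cfsg.Agent.SylowSp4.Coord Cfsg.Agent.SylowSp4.Pat Subgroup
open Cfsg.Agent.Walter.OddCoreIn Cfsg.Agent.SylowSp4.DuoFacts Cfsg.Agent.SylowSp4.Pairs
open Cfsg.Agent.SylowSp4.Triples Cfsg.Agent.SylowSp4.FieldPart Cfsg.Agent.SylowSp4.FrameTools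
open Cfsg.Agent.SylowSp4.Output

section SL

variable {F : Type*} [Field F] [Finite F]

open SpFourOdd SpFourOdd.LnSL in
/-- `SL₂(F)` is generated by elements of odd order -/
theorem gen_odd (h2 : (2 : F) ≠ 0) : closure {x : Output.SL2 F | Odd (orderOf x)} = ⊤ := by
  obtain ⟨p, hpc⟩ := CharP.exists F
  have : CharP F p := hpc
  have hp : Nat.Prime p := CharP.char_is_prime F p
  have hp2 : p ≠ 2 := by
    rintro rfl
    exact h2 (by exact_mod_cast CharP.cast_eq_zero F 2)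
  have hodd : Odd p := hp.odd_of_ne_two hp2
  have h1 : ∀ t : F, Odd (orderOf (ux t)) := by
    intro t
    refine hodd.of_dvd_nat (orderOf_dvd_of_pow_eq_one ?_)
    rw [ux_pow, CharP.cast_eq_zero, zero_mul, ux_zero]
  have h3 : Odd (orderOf ((nx : Output.SL2 F) * ux 1 * nx⁻¹)) := by
    have : orderOf ((nx : Output.SL2 F) * ux 1 * nx⁻¹) = orderOf (ux (1 : F)) :=
      orderOf_injective (MulAut.conj (nx : Output.SL2 F)).toMonoidHom (MulAut.conj (nx : Output.SL2 F)).injective _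
    rw [this]; exact h1 1
  rw [eq_top_iff, ← closure_ux_nx, closure_le]
  rintro x (⟨t, rfl⟩ | rfl)
  · exact subset_closure (h1 t)
  · have h4 : (nx : Output.SL2 F) = ux 1 * (nx * ux 1 * nx⁻¹) * ux 1 := by
      apply ext2 <;> simp [mul00, mul01, mul10, mul11, inv00, inv01, inv10, inv11]
    change (nx : Output.SL2 F) ∈ closure {x : Output.SL2 F | Odd (orderOf x)}
    rw [h4]
    exact mul_mem (mul_mem (subset_closure (h1 1)) (subset_closure h3)) (subset_closure (h1 1))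

end SL

variable {G : Type*} [Group G] {P : Sylow 2 G} {k : ℕ} {f : Q k → Q k → G} {s : G}
  {H L : Type*} [Group H] [Group L] {π : Cn (tt f) →* H} {D : Duo H L} {ι : Q k →* L} {Φ : Subgroup H}
  (p : Pat P k f s) (c : Cent k f s π D ι Φ) (hK : OO (Cn (tt f)) = ⊥)

theorem inv_mul_prod (u v a b : L) : (D.φ₁ u * D.φ₂ v)⁻¹ * (D.φ₁ a * D.φ₂ b) = D.φ₁ (u⁻¹ * a) * D.φ₂ (v⁻¹ * b) := by
  rw [inv_mul_eq_iff_eq_mul]
  calc D.φ₁ a * D.φ₂ b = D.φ₁ u * D.φ₁ (u⁻¹ * a) * (D.φ₂ v * D.φ₂ (v⁻¹ * b)) := by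
        rw [← map_mul, ← map_mul, mul_inv_cancel_left, mul_inv_cancel_left]
    _ = D.φ₁ u * (D.φ₁ (u⁻¹ * a) * D.φ₂ v) * D.φ₂ (v⁻¹ * b) := by group
    _ = D.φ₁ u * (D.φ₂ v * D.φ₁ (u⁻¹ * a)) * D.φ₂ (v⁻¹ * b) := by rw [D.comm]
    _ = _ := by group

include c in
/-- `φ₁(L) φ₂(L)` is normal in `H` -/
theorem conj_prod (h : H) (a b : L) : ∃ a' b', h * (D.φ₁ a * D.φ₂ b) * h⁻¹ = D.φ₁ a' * D.φ₂ b' := by
  have key : ∀ x y a b : L, (D.φ₁ x * D.φ₂ y) * (D.φ₁ a * D.φ₂ b) * (D.φ₁ x * D.φ₂ y)⁻¹ =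
      D.φ₁ (x * a * x⁻¹) * D.φ₂ (y * b * y⁻¹) := by
    intro x y a b
    calc _ = D.φ₁ x * (D.φ₂ y * D.φ₁ a) * D.φ₂ b * (D.φ₂ y)⁻¹ * (D.φ₁ x)⁻¹ := by group
      _ = D.φ₁ x * D.φ₁ a * (D.φ₂ (y * b * y⁻¹) * D.φ₁ x⁻¹) := by rw [← D.comm, map_mul, map_mul, map_inv, map_inv]; group
      _ = _ := by rw [← D.comm, ← mul_assoc, ← map_mul, ← map_mul]
  obtain ⟨x, y, g, hg, rfl | rfl⟩ := c.gen h
  · obtain ⟨a1, ha1⟩ := c.norm₁ g hg a
    obtain ⟨b1, hb1⟩ := c.norm₂ g hg b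
    refine ⟨x * a1 * x⁻¹, y * b1 * y⁻¹, ?_⟩
    rw [← key x y a1 b1, ← ha1, ← hb1]; group
  · obtain ⟨a1, ha1⟩ := c.norm₁ g hg a
    obtain ⟨b1, hb1⟩ := c.norm₂ g hg b
    refine ⟨x * b1 * x⁻¹, y * a1 * y⁻¹, ?_⟩
    rw [← key x y b1 a1]
    have e : D.φ₁ b1 * D.φ₂ a1 = D.w * (D.φ₁ a1 * D.φ₂ b1) * D.w := by
      calc _ = (D.w * D.φ₂ b1 * D.w) * (D.w * D.φ₁ a1 * D.w) := by rw [D.conj, conj₂]
        _ = D.w * D.φ₂ b1 * (D.w * D.w) * D.φ₁ a1 * D.w := by group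
        _ = _ := by rw [D.ww, mul_one, mul_assoc D.w, ← D.comm]
    rw [e, ← ha1, ← hb1]
    have e2 : D.φ₁ x * D.φ₂ y * (D.w * (g * D.φ₁ a * g⁻¹ * (g * D.φ₂ b * g⁻¹)) * D.w) * (D.φ₁ x * D.φ₂ y)⁻¹ =
        D.φ₁ x * D.φ₂ y * (D.w * (g * D.φ₁ a * g⁻¹ * (g * D.φ₂ b * g⁻¹)) * D.w⁻¹) * (D.φ₁ x * D.φ₂ y)⁻¹ := by
      rw [w_inv]
    rw [e2]; group

include c p in
/-- `w ∉ φ₁(L) φ₂(L)` -/
theorem w_ne (a b : L) : D.w ≠ D.φ₁ a * D.φ₂ b := by
  intro h
  have h1 := D.conj (ι (Facts.c k))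
  have h3 : D.w * D.φ₁ (ι (Facts.c k)) * D.w = D.φ₁ (a * ι (Facts.c k) * a⁻¹) := by
    have h4 : D.w * D.φ₁ (ι (Facts.c k)) * D.w = D.w * D.φ₁ (ι (Facts.c k)) * D.w⁻¹ := by rw [w_inv]
    rw [h4, h]
    calc _ = D.φ₁ a * (D.φ₂ b * D.φ₁ (ι (Facts.c k))) * (D.φ₂ b)⁻¹ * (D.φ₁ a)⁻¹ := by group
      _ = _ := by rw [← D.comm, map_mul, map_mul, map_inv]; group
  rw [h3] at h1
  have h5 : D.φ₁ (a * ι (Facts.c k) * a⁻¹) * D.φ₂ (ι (Facts.c k))⁻¹ = 1 := by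
    rw [h1, map_inv, mul_inv_cancel]
  have h6 : ι (Facts.c k) * ι (Facts.c k) = 1 := by
    rcases D.ker _ _ h5 with ⟨-, h7⟩ | ⟨-, h7⟩
    · rw [inv_eq_one] at h7
      rw [h7, mul_one]
    · rw [inv_eq_iff_eq_inv] at h7
      rw [h7, ← mul_inv_rev, D.ζζ, inv_one]
  rw [← map_mul, Facts.c_sq p.h.hk, c.ι_z] at h6
  exact D.ζ_ne h6

variable {F : Type*} [Field F] (e : L ≃* Output.SL2 F) (h2 : (2 : F) ≠ 0)

/-- field `zk` -/
theorem zk [Finite G] (a b : Output.SL2 F) (ha : a * a = -1) (hb : b * b = -1) :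
    ¬ IsConj (tt f) ((pair p c hK e h2).φ₁ a * (pair p c hK e h2).φ₂ b) := by
  intro hcj
  set x := (pair p c hK e h2).φ₁ a * (pair p c hK e h2).φ₂ b with hx
  have hxψ : x = ψ c hK (D.φ₁ (e.symm a) * D.φ₂ (e.symm b)) := by
    rw [hx, pair_φ₁, pair_φ₂, ← map_mul]
  have hxt : x ∈ Cn (tt f) := by rw [hxψ]; exact ψ_mem c hK _
  have hxx := sq_of_conj p hcj
  obtain ⟨m, hm, hmT⟩ := conj_into P (P_le p) (isPGroup_zpowers_of_sq hxx) (zpowers_le.2 hxt)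
  have hmx := hmT x (mem_zpowers x)
  have hc' : IsConj (tt f) (m * x * m⁻¹) := hcj.trans (isConj_iff.2 ⟨m, rfl⟩)
  have hsqa : e.symm a * e.symm a = D.ζ := by rw [← map_mul, ha, e_symm c e h2]
  have hsqb : e.symm b * e.symm b = D.ζ := by rw [← map_mul, hb, e_symm c e h2]
  rcases (p.t_iff hmx (sq_of_conj p hc') (ne_one_of_conj p hc')).1 hc' with h | ⟨α, h⟩
  · have h1 : x = tt f := by
      rw [mul_inv_eq_iff_eq_mul, ← mem_Cn.1 hm] at h
      exact mul_left_cancel h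
    rw [hxψ, ← ψ_z c hK] at h1
    have h3 := ψ_inj c hK h1
    have h4 : D.φ₁ (e.symm a) * D.φ₂ (e.symm b) = D.φ₁ D.ζ * D.φ₂ 1 := by rw [h3, map_one, mul_one]
    rcases (mul_eq_iff D).1 h4 with ⟨-, h5⟩ | ⟨h5, -⟩
    · rw [h5, one_mul] at hsqb
      exact D.ζ_ne hsqb.symm
    · rw [h5, D.ζζ, one_mul] at hsqa
      exact D.ζ_ne hsqa.symm
  · obtain ⟨h', rfl⟩ := exists_ψ c hK hm
    obtain ⟨a', b', hab⟩ := conj_prod c h' (e.symm a) (e.symm b)
    rw [hxψ, ← map_inv, ← map_mul, ← map_mul, hab, ← ψ_f p c hK] at h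
    have h3 : D.φ₁ a' * D.φ₂ b' = D.φ₁ (ι α) * D.φ₂ (ι α⁻¹) * D.w := by
      apply ψ_inj c hK
      rw [h, map_mul (ψ c hK) _ D.w, ψ_w p c hK]
    have h4 : D.w = D.φ₁ ((ι α)⁻¹ * a') * D.φ₂ ((ι α⁻¹)⁻¹ * b') := by
      rw [← inv_mul_prod, h3]; group
    exact w_ne p c _ _ h4

/-! ### The centralizer of `u = t s` -/

section CU

variable [Finite G] (U : UData f) (Fs : SLFact D.ζ ι)

/-- `δ(L) Φ` -/
def AA (D : Duo H L) (Φ : Subgroup H) : Subgroup H := Φ ⊔ (δ D).range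

include p c U Fs in
theorem Φ_norm : Φ ≤ normalizer ((δ D).range : Set H) := by
  rw [le_normalizer_iff']
  rintro g hg _ ⟨a, rfl⟩
  obtain ⟨b, hb⟩ := c.norm₁ g hg a
  refine ⟨b, ?_⟩
  have hwg := w_comm_Φ p c U Fs hg
  have hwgi : D.w * g⁻¹ = g⁻¹ * D.w := by
    rw [mul_inv_eq_iff_eq_mul, mul_assoc, hwg, inv_mul_cancel_left]
  have h3 : g * D.φ₂ a * g⁻¹ = D.φ₂ b := by
    calc g * D.φ₂ a * g⁻¹ = g * (D.w * D.φ₁ a * D.w) * g⁻¹ := by rw [D.conj]
      _ = (g * D.w) * D.φ₁ a * (D.w * g⁻¹) := by group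
      _ = D.w * (g * D.φ₁ a * g⁻¹) * D.w := by rw [← hwg, hwgi]; group
      _ = _ := by rw [hb, D.conj]
  rw [δ_apply, δ_apply, ← hb, ← h3]; group

include p c U Fs in
theorem mem_AA {x : H} : x ∈ AA D Φ ↔ ∃ g ∈ Φ, ∃ a, x = g * δ D a := by
  rw [AA, mem_sup_iff_mul (Φ_norm p c U Fs)]
  constructor
  · rintro ⟨g, hg, _, ⟨a, rfl⟩, rfl⟩
    exact ⟨g, hg, a, rfl⟩
  · rintro ⟨g, hg, a, rfl⟩
    exact ⟨g, hg, _, ⟨a, rfl⟩, rfl⟩

include p c U Fs in
theorem AA_comm_w {x : H} (hx : x ∈ AA D Φ) : D.w * x = x * D.w := by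
  obtain ⟨g, hg, a, rfl⟩ := (mem_AA p c U Fs).1 hx
  rw [← mul_assoc, w_comm_Φ p c U Fs hg, mul_assoc, w_δ, mul_assoc]

include p U Fs in
theorem ψ_mem_s {x : H} (hx : x ∈ AA D Φ) : ψ c hK x ∈ Cn s := by
  rw [mem_Cn]
  have h1 : ψ c hK x * ψ c hK D.w = ψ c hK D.w * ψ c hK x := by
    rw [← map_mul, ← map_mul, AA_comm_w p c U Fs hx]
  rw [ψ_w p c hK] at h1
  exact h1

include p U Fs in
theorem ψ_mem_u {x : H} (hx : x ∈ AA D Φ) : ψ c hK x ∈ Cn (tt f * s) :=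
  mem_Cn_mul (ψ_mem c hK x) (ψ_mem_s p c hK U Fs hx)

include p c U Fs in
/-- elements of odd order of `C(t) ∩ C(s)` -/
theorem mem_AA_of_odd {h : H} (hw : h * D.w = D.w * h) (ho : Odd (orderOf h)) : h ∈ AA D Φ := by
  have : Finite H := Finite.of_surjective π c.surj
  -- `h = ε β`
  obtain ⟨ε, β, hβ, hεβ, hεε, hεc⟩ : ∃ ε β, β ∈ AA D Φ ∧ h = ε * β ∧ ε * ε = 1 ∧ ε * β = β * ε := by
    have hz := DuoFacts.z_comm c
    have key : ∀ a b : L, D.φ₁ a * D.φ₂ b * D.w = D.w * (D.φ₁ a * D.φ₂ b) →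
        D.φ₁ a * D.φ₂ b = δ D b ∨ D.φ₁ a * D.φ₂ b = D.φ₁ D.ζ * δ D b := by
      intro a b hab
      have h1 : D.φ₁ a * D.φ₂ b = D.φ₁ b * D.φ₂ a := by
        have h3 : D.w * (D.φ₁ a * D.φ₂ b) * D.w = D.φ₁ b * D.φ₂ a := by
          calc _ = (D.w * D.φ₁ a * D.w) * (D.w * D.w)⁻¹ * (D.w * D.φ₂ b * D.w) := by group
            _ = D.φ₂ a * D.φ₁ b := by rw [D.ww, D.conj, conj₂, inv_one, mul_one]
            _ = _ := by rw [D.comm]
        rw [← h3, ← hab, mul_assoc _ D.w D.w, D.ww, mul_one]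
      rcases (mul_eq_iff D).1 h1 with ⟨h3, -⟩ | ⟨h3, -⟩
      · left; rw [h3, δ_apply]
      · right; rw [h3, map_mul, δ_apply, mul_assoc]
    obtain ⟨a, b, g, hg, rfl | rfl⟩ := c.gen h
    · have hwg := w_comm_Φ p c U Fs hg
      have h1 : D.φ₁ a * D.φ₂ b * D.w = D.w * (D.φ₁ a * D.φ₂ b) := by
        rw [mul_assoc _ g, ← hwg, ← mul_assoc, ← mul_assoc D.w] at hw
        exact mul_right_cancel hw
      rcases key a b h1 with h3 | h3
      · refine ⟨1, δ D b * g, mul_mem (mem_sup_right ⟨b, rfl⟩) (mem_sup_left hg), ?_, one_mul 1, by rw [one_mul, mul_one]⟩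
        rw [h3, one_mul]
      · refine ⟨D.φ₁ D.ζ, δ D b * g, mul_mem (mem_sup_right ⟨b, rfl⟩) (mem_sup_left hg), ?_, z_sq D, hz _⟩
        rw [h3, mul_assoc]
    · have hwg := w_comm_Φ p c U Fs hg
      have h1 : D.φ₁ a * D.φ₂ b * D.w = D.w * (D.φ₁ a * D.φ₂ b) := by
        have e1 : D.φ₁ a * D.φ₂ b * D.w * g * D.w = D.φ₁ a * D.φ₂ b * D.w * (D.w * g) := by rw [mul_assoc _ g, hwg]
        have e2 : D.w * (D.φ₁ a * D.φ₂ b * D.w * g) = D.w * (D.φ₁ a * D.φ₂ b) * (D.w * g) := by group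
        rw [e1, e2] at hw
        exact mul_right_cancel hw
      have hwε : D.w * D.w = 1 := D.ww
      rcases key a b h1 with h3 | h3
      · refine ⟨D.w, δ D b * g, mul_mem (mem_sup_right ⟨b, rfl⟩) (mem_sup_left hg), ?_, D.ww, ?_⟩
        · rw [h3, ← w_δ, mul_assoc]
        · rw [← mul_assoc, w_δ, mul_assoc, hwg, mul_assoc]
      · refine ⟨D.φ₁ D.ζ * D.w, δ D b * g, mul_mem (mem_sup_right ⟨b, rfl⟩) (mem_sup_left hg), ?_, ?_, ?_⟩
        · rw [h3, mul_assoc (D.φ₁ D.ζ) (δ D b) D.w, ← w_δ]; group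
        · calc D.φ₁ D.ζ * D.w * (D.φ₁ D.ζ * D.w) = D.φ₁ D.ζ * (D.w * D.φ₁ D.ζ) * D.w := by group
            _ = (D.φ₁ D.ζ * D.φ₁ D.ζ) * (D.w * D.w) := by rw [← hz D.w]; group
            _ = 1 := by rw [z_sq, D.ww, one_mul]
        · calc D.φ₁ D.ζ * D.w * (δ D b * g) = D.φ₁ D.ζ * (D.w * δ D b) * g := by group
            _ = D.φ₁ D.ζ * δ D b * (D.w * g) := by rw [w_δ]; group
            _ = D.φ₁ D.ζ * (δ D b * g * D.w) := by rw [hwg]; group
            _ = (δ D b * g) * (D.φ₁ D.ζ * D.w) := by rw [hz, mul_assoc, ← hz D.w]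
  obtain ⟨n, hn⟩ := ho
  have hcomm : Commute ε β := hεc
  have h1 : h ^ (2 * n + 1) = 1 := by rw [← hn]; exact pow_orderOf_eq_one h
  rw [hεβ, hcomm.mul_pow, pow_succ ε, pow_mul ε, pow_two ε, hεε, one_pow, one_mul] at h1
  have h3 : ε = (β ^ (2 * n + 1))⁻¹ := mul_eq_one_iff_eq_inv.1 h1
  rw [hεβ, h3]
  exact mul_mem (inv_mem (pow_mem hβ _)) hβ

/-- `O(C(u))` -/
abbrev Ou (f : Q k → Q k → G) (s : G) : Subgroup G := OO (Cn (tt f * s))

include p U Fs in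
/-- elements of odd order of `C(u)` lie in `ψ(δ(L) Φ) O(C(u))` -/
theorem odd_mem {y : G} (hy : y ∈ Cn (tt f * s)) (ho : Odd (orderOf y)) : y ∈ (AA D Φ).map (ψ c hK) ⊔ Ou f s := by
  have hst : tt f * s = s * tt f := (mem_Cn.1 (s_comm_t p)).symm
  have h1 := U.star (tt f) s (IsConj.refl _) p.ts hst (Ne.symm (s_ne_t p)) y hy ho
  have h3 : tt f * y * (tt f)⁻¹ * y⁻¹ ∈ Ou f s := by
    have e : tt f * y * (tt f)⁻¹ * y⁻¹ = (y * tt f * y⁻¹ * (tt f)⁻¹)⁻¹ := by group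
    rw [e]; exact inv_mem h1
  have hoO : ∀ x ∈ Ou f s, Odd (orderOf x) := fun x hx => odd_orderOf_of_mem (OO_odd _) hx
  obtain ⟨v, hv, -, hvy⟩ := decomp (t_sq p) (hoO _ h3)
  have hvO : v ∈ Ou f s := (zpowers_le.2 h3) hv
  have hvyu : v * y ∈ Cn (tt f * s) := mul_mem (OO_le _ hvO) hy
  have hvys : v * y ∈ Cn s := mem_Cn_of_mul hvy hvyu
  -- the order of `v * y` is odd
  have hodd : Odd (orderOf (v * y)) := by
    have h4 : zpowers y ≤ normalizer (Ou f s : Set G) := (zpowers_le.2 hy).trans (le_normalizer_OO _)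
    have h5 : ¬ 2 ∣ Nat.card (zpowers y ⊔ Ou f s : Subgroup G) := by
      refine not_dvd_sup Nat.prime_two h4 ?_ (OO_odd _)
      rw [Nat.card_zpowers]
      exact fun h => (Nat.not_even_iff_odd.2 ho) (even_iff_two_dvd.2 h)
    exact odd_orderOf_of_mem h5 (mul_mem (mem_sup_right hvO) (mem_sup_left (mem_zpowers y)))
  obtain ⟨h, hh⟩ := exists_ψ c hK hvy
  have h6 : h ∈ AA D Φ := by
    refine mem_AA_of_odd p c U Fs ?_ ?_
    · apply ψ_inj c hK
      rw [map_mul, map_mul, ψ_w p c hK, hh]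
      exact mem_Cn.1 hvys
    · rw [← hh, orderOf_injective _ (ψ_inj c hK)] at hodd
      exact hodd
  have e : y = v⁻¹ * ψ c hK h := by rw [hh]; group
  rw [e]
  exact mul_mem (mem_sup_right (inv_mem hvO)) (mem_sup_left ⟨h, h6, rfl⟩)

/-- `δ(L) O(C(u))` -/
noncomputable abbrev M0 (c : Cent k f s π D ι Φ) (hK : OO (Cn (tt f)) = ⊥) : Subgroup G := ((δ D).range).map (ψ c hK) ⊔ Ou f s

/-- the subgroup generated by the elements of odd order of `C(u)` -/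
abbrev RR (f : Q k → Q k → G) (s : G) : Subgroup G := closure {y : G | y ∈ Cn (tt f * s) ∧ Odd (orderOf y)}

omit [Finite G] in
theorem RR_conj {y x : G} (hy : y ∈ Cn (tt f * s)) (hx : x ∈ RR f s) : y * x * y⁻¹ ∈ RR f s := by
  have h1 : RR f s ≤ (RR f s).comap (MulAut.conj y).toMonoidHom := by
    rw [closure_le]
    rintro z ⟨hz1, hz2⟩
    refine subset_closure ⟨mul_mem (mul_mem hy hz1) (inv_mem hy), ?_⟩
    have : orderOf ((MulAut.conj y).toMonoidHom z) = orderOf z :=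
      orderOf_injective (MulAut.conj y).toMonoidHom (MulAut.conj y).injective z
    rw [this]; exact hz2
  exact h1 hx

include p U Fs in
theorem RR_le : RR f s ≤ (AA D Φ).map (ψ c hK) ⊔ Ou f s := by
  rw [closure_le]
  rintro y ⟨hy, ho⟩
  exact odd_mem p c hK U Fs hy ho

include e h2 p U Fs in
theorem δ_mem_RR [Finite F] (a : L) : ψ c hK (δ D a) ∈ RR f s := by
  have h1 : (⊤ : Subgroup L) ≤ (RR f s).comap ((ψ c hK).comp (δ D)) := by
    have h3 : closure {x : L | Odd (orderOf x)} = ⊤ := by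
      refine SLTransport.closure_preimage e (s := {x : Output.SL2 F | Odd (orderOf x)}) ?_ (gen_odd h2)
      intro g hg
      change Odd (orderOf (e g)) at hg
      rwa [show orderOf (e g) = orderOf g from orderOf_injective e.toMonoidHom e.injective g] at hg
    rw [← h3, closure_le]
    intro x hx
    refine subset_closure ⟨ψ_mem_u p c hK U Fs (mem_sup_right ⟨x, rfl⟩), ?_⟩
    exact Odd.of_dvd_nat hx (orderOf_map_dvd ((ψ c hK).comp (δ D)) x)
  exact h1 (mem_top a)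

include e h2 p U Fs in
/-- `C(u)` normalises `δ(L) O(C(u))`. -/
theorem k0 [Fintype F] [Finite L] (hodd : Odd (Fintype.card F)) {y : G} (hy : y ∈ Cn (tt f * s)) (a : L) :
    y * ψ c hK (δ D a) * y⁻¹ ∈ M0 c hK := by
  have hfin : Finite H := Finite.of_surjective π c.surj
  have hN : ∀ a, y * ψ c hK (δ D a) * y⁻¹ ∈ (AA D Φ).map (ψ c hK) ⊔ Ou f s := fun a =>
    RR_le p c hK U Fs (RR_conj hy (δ_mem_RR p c hK e h2 U Fs a))
  have hAO : (AA D Φ).map (ψ c hK) ≤ normalizer (Ou f s : Set G) := by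
    refine le_trans ?_ (le_normalizer_OO (Cn (tt f * s)))
    rintro _ ⟨x, hx, rfl⟩
    exact ψ_mem_u p c hK U Fs hx
  have hcases : Fintype.card F = 3 ∨ 3 < Fintype.card F := by
    have h1 : 1 < Fintype.card F := Fintype.one_lt_card
    obtain ⟨n, hn⟩ := hodd
    omega
  rcases hcases with h3 | h3
  · -- `|F| = 3`
    have T := ThreeL.three_of h3 e p.h.hk ι c.ι_inj c.ι_z
    have hAA : AA D Φ = (δ D).range := by
      rw [AA]
      apply le_antisymm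
      · refine sup_le ?_ le_rfl
        intro g hg
        rw [Q3.Φ_one p c Fs T hg]
        exact one_mem _
      · exact le_sup_right
    have h4 := hN a
    rw [hAA] at h4
    exact h4
  · -- the elements of order four
    have key : ∀ x : L, x * x = D.ζ → y * ψ c hK (δ D x) * y⁻¹ ∈ M0 c hK := by
      intro x hx
      have h4 := hN x
      rw [mem_sup_iff_mul hAO] at h4
      obtain ⟨_, ⟨b, hb, rfl⟩, o, ho, h5⟩ := h4
      obtain ⟨g, hg, a', rfl⟩ := (mem_AA p c U Fs).1 hb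
      set v := y * ψ c hK (δ D x) * y⁻¹ with hv
      have hvv : v * v = 1 := by
        have e1 : v * v = y * ψ c hK (δ D (x * x)) * y⁻¹ := by rw [hv, map_mul, map_mul]; group
        rw [e1, hx, (δ_eq_one_iff D).2 (Or.inr rfl), map_one]; group
      -- `ψ g` normalises `M0`
      have hgn : ψ c hK g ∈ normalizer (M0 c hK : Set G) := by
        have h6 : zpowers (ψ c hK g) ≤ normalizer (M0 c hK : Set G) := by
          have h7 : zpowers (ψ c hK g) ≤ normalizer ((((δ D).range).map (ψ c hK) : Subgroup G) : Set G) := by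
            rw [zpowers_le]
            have h8 : Φ.map (ψ c hK) ≤ normalizer ((((δ D).range).map (ψ c hK) : Subgroup G) : Set G) := by
              rw [le_normalizer_iff']
              rintro _ ⟨g, hg, rfl⟩ _ ⟨x, hx, rfl⟩
              exact ⟨g * x * g⁻¹, conj_mem (Φ_norm p c U Fs) hg hx, by rw [map_mul, map_mul, map_inv]⟩
            exact h8 ⟨g, hg, rfl⟩
          have h8 : zpowers (ψ c hK g) ≤ normalizer (Ou f s : Set G) :=
            zpowers_le.2 (hAO ⟨g, mem_sup_left hg, rfl⟩)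
          rw [le_normalizer_iff']
          intro c' hc' m hm
          have h9 : M0 c hK ≤ (M0 c hK).comap (MulAut.conj c').toMonoidHom :=
            sup_le (fun z hz => mem_sup_left (conj_mem h7 hc' hz)) (fun z hz => mem_sup_right (conj_mem h8 hc' hz))
          exact h9 hm
        exact h6 (mem_zpowers _)
      set m := ψ c hK (δ D a') * o with hm
      have hmM : m ∈ M0 c hK := mul_mem (mem_sup_left ⟨δ D a', ⟨a', rfl⟩, rfl⟩) (mem_sup_right ho)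
      have h6 : v = ψ c hK g * m := by rw [h5, hm, map_mul]; group
      have h7 : ψ c hK g * m * (ψ c hK g)⁻¹ ∈ M0 c hK := (mem_normalizer_iff.1 hgn m).1 hmM
      have h8 : ψ c hK g * ψ c hK g ∈ M0 c hK := by
        have e1 : ψ c hK g * ψ c hK g = (ψ c hK g * m * (ψ c hK g)⁻¹)⁻¹ * m⁻¹ := by
          rw [h6] at hvv
          have e2 : (ψ c hK g * m * (ψ c hK g)⁻¹) * (ψ c hK g * ψ c hK g) * m = 1 := by rw [← hvv]; group
          have e3 := mul_eq_one_iff_eq_inv.1 e2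
          rw [← e3]; group
        rw [e1]
        exact mul_mem (inv_mem h7) (inv_mem hmM)
      have hgo : Odd (orderOf (ψ c hK g)) := (Φ_odd p c hg).of_dvd_nat (orderOf_map_dvd (ψ c hK) g)
      rw [h6]
      exact mul_mem (mem_of_sq_mem _ hgo h8) hmM
    have hx : ι (Facts.c k) * ι (Facts.c k) = D.ζ := by rw [← map_mul, Facts.c_sq p.h.hk, c.ι_z]
    have h4 : (⊤ : Subgroup L) ≤
        (M0 c hK).comap ((MulAut.conj y).toMonoidHom.comp ((ψ c hK).comp (δ D))) := by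
      rw [← SLTransport.closure_commutators e D.ζζ D.ζ_ne hx hodd h3, closure_le]
      rintro _ ⟨b, rfl⟩
      have hζb : b * D.ζ = D.ζ * b := (ζ_comm c b).symm
      refine mul_mem ?_ (inv_mem ?_)
      · refine key (b * ι (Facts.c k) * b⁻¹) ?_
        calc b * ι (Facts.c k) * b⁻¹ * (b * ι (Facts.c k) * b⁻¹) = b * (ι (Facts.c k) * ι (Facts.c k)) * b⁻¹ := by group
          _ = D.ζ := by rw [hx, hζb, mul_inv_cancel_right]
      · exact key _ hx
    exact h4 (mem_top a)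

include p U Fs in
/-- **The hypotheses of the recognition theorem.** -/
theorem hyp [Fintype F] [Finite L] (hodd : Odd (Fintype.card F)) : SpFourOdd.Hyp (pair p c hK e h2) where
  cent := fun x hx => centF p c hK e h2 U Fs x hx
  cent0 := fun x h1 h3 => cent0 p c hK e h2 x h1 h3
  zw := p.ts
  zu := fun h => p.tu (h.trans p.uts.symm)
  zk := fun a b ha hb => zk p c hK e h2 a b ha hb
  cu := ⟨Ou f s,
    { odd := Nat.not_even_iff_odd.1 fun h => OO_odd _ h.two_dvd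
      le := fun o ho => mem_Cn.1 (OO_le _ ho)
      norm := fun x hx o ho => conj_mem (le_normalizer_OO _) (mem_Cn.2 hx) ho
      k0 := fun x hx a => by
        have h1 := k0 p c hK e h2 U Fs hodd (mem_Cn.2 hx) (e.symm a)
        have h3 : ((δ D).range).map (ψ c hK) ≤ normalizer (Ou f s : Set G) := by
          refine le_trans ?_ (le_normalizer_OO (Cn (tt f * s)))
          rintro _ ⟨x, hx, rfl⟩
          exact ψ_mem_u p c hK U Fs (mem_sup_right hx)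
        rw [mem_sup_iff_mul h3] at h1
        obtain ⟨_, ⟨_, ⟨b, rfl⟩, rfl⟩, o, ho, h4⟩ := h1
        refine ⟨e b, o, ho, ?_⟩
        rw [pair_φ₁, pair_φ₂, pair_φ₁, pair_φ₂, e.symm_apply_apply, ← map_mul, ← map_mul, ← δ_apply, ← δ_apply]
        exact h4
      star := fun x hx ho =>
        U.star (tt f) s (IsConj.refl _) p.ts ((mem_Cn.1 (s_comm_t p)).symm) (Ne.symm (s_ne_t p)) x (mem_Cn.2 hx) ho }⟩

end CU

end Cfsg.Agent.SylowSp4.OutputCU
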