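import Cfsg.Agent.SylowSp4.DuoFacts

/-!
# The 2-part of `|L|` in the structure `Cent`
-/

set_option autoImplicit false

namespace Cfsg.Agent.SylowSp4.SylL

open Subgroup Cfsg.Agent.SylowSp4.Coord Cfsg.Agent.SylowSp4.Pat Cfsg.Agent.SylowSp4.DuoFacts

variable {G : Type*} [Group G] [Finite G] {P : Sylow 2 G} {k : ℕ} {f : Q k → Q k → G} {s : G}
  {H L : Type*} [Group H] [Group L] [Finite L] {π : Cn (tt f) →* H} {D : Duo H L} {ι : Q k →* L} {Φ : Subgroup H}

/-- The 2-part of `|L|` divides `2 ^ (k + 2)`. -/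
theorem not_dvd (p : Pat P k f s) (c : Cent k f s π D ι Φ) : ¬ 2 ^ (k + 3) ∣ Nat.card L := by
  intro hdvd
  have hfact : Fact (Nat.Prime 2) := ⟨Nat.prime_two⟩
  let m : L × L →* H :=
    { toFun := fun x => D.φ₁ x.1 * D.φ₂ x.2
      map_one' := by rw [Prod.fst_one, Prod.snd_one, map_one, map_one, mul_one]
      map_mul' := fun x y => by
        rw [Prod.fst_mul, Prod.snd_mul, map_mul, map_mul]
        have h1 := D.comm y.1 x.2
        calc D.φ₁ x.1 * D.φ₁ y.1 * (D.φ₂ x.2 * D.φ₂ y.2) = D.φ₁ x.1 * (D.φ₁ y.1 * D.φ₂ x.2) * D.φ₂ y.2 := by group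
          _ = D.φ₁ x.1 * (D.φ₂ x.2 * D.φ₁ y.1) * D.φ₂ y.2 := by rw [h1]
          _ = D.φ₁ x.1 * D.φ₂ x.2 * (D.φ₁ y.1 * D.φ₂ y.2) := by group }
  have hker : Nat.card m.ker = 2 := by
    have h1 : (m.ker : Set (L × L)) = {(1, 1), (D.ζ, D.ζ)} := by
      ext x
      rw [SetLike.mem_coe, MonoidHom.mem_ker]
      change D.φ₁ x.1 * D.φ₂ x.2 = 1 ↔ _
      constructor
      · intro h
        rcases D.ker _ _ h with ⟨h2, h3⟩ | ⟨h2, h3⟩
        · left; exact Prod.ext h2 h3
        · right; exact Prod.ext h2 h3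
      · rintro (rfl | h)
        · rw [map_one, map_one, mul_one]
        · have h' : x = (D.ζ, D.ζ) := h
          rw [h']
          change D.φ₁ D.ζ * D.φ₂ D.ζ = 1
          rw [← D.z_eq, ← map_mul, D.ζζ, map_one]
    have h2 : Nat.card m.ker = Set.ncard (m.ker : Set (L × L)) := Nat.card_coe_set_eq _
    rw [h2, h1, Set.ncard_pair]
    intro h
    exact D.ζ_ne (congrArg Prod.fst h).symm
  have hcard : Nat.card L * Nat.card L = 2 * Nat.card m.range := by
    rw [← Nat.card_prod, ← hker, ← Subgroup.card_mul_index m.ker, Subgroup.index_ker]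
  have h1 : 2 ^ (2 * k + 5) ∣ Nat.card m.range := by
    obtain ⟨r, hr⟩ := hdvd
    have h2 : 2 * (2 ^ (2 * k + 5) * (r * r)) = 2 * Nat.card m.range := by
      rw [← hcard, hr]
      ring
    exact ⟨_, (Nat.eq_of_mul_eq_mul_left (by norm_num) h2).symm⟩
  have hHfin : Finite H := Finite.of_surjective π c.surj
  have h2 : 2 ^ (2 * k + 5) ∣ Nat.card G :=
    (h1.trans (Subgroup.card_subgroup_dvd_card _)).trans
      ((Subgroup.card_dvd_of_surjective π c.surj).trans (Subgroup.card_subgroup_dvd_card _))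
  have h3 := P.card_eq_multiplicity
  have h4 := Base.card_eq p.h
  have h5 : Nat.card (P : Subgroup G) = Nat.card P := rfl
  rw [h5, h3] at h4
  have h6 := Nat.pow_right_injective (le_refl 2) h4
  have h7 := (Nat.Prime.pow_dvd_iff_le_factorization Nat.prime_two (Nat.card_pos (α := G)).ne').1 h2
  omega

end Cfsg.Agent.SylowSp4.SylL
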