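import Cfsg.Agent.SylowSp4.CentT
import Cfsg.Agent.SylowSp4.SylL
import Cfsg.Agent.SylowSp4.Recog
import Cfsg.Agent.SylowSp4.Large
import Cfsg.Agent.SylowSp4.AltModel
import Cfsg.Agent.SylowSp4.SLFactMain
import Cfsg.Agent.SylowSp4.CentUExport
import Cfsg.Agent.SylowSp4.CentUA7
import Cfsg.Agent.SylowSp4.OutputCU

/-!
# Assembly of S0509

`main` derives the statement of S0509 from the two library statements `Hyps.ProductThm`, `Hyps.GW` and from the pieces
`CentOne` (the case `k = 1` of the identification of `C(t)/O(C(t))`), `CoreBot` (`O(C(t)) = 1`), `RecogPSp` (recognition of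
`PSp₄(q)`), `FusTwo` (the case `k = 1` of the fusion), `AltIso` (recognition of `A₈`, `A₉`).
-/

set_option autoImplicit false

namespace Cfsg.Agent.SylowSp4.Assembly

open Subgroup QuaternionGroup Cfsg.Agent.SylowSp4.Coord Cfsg.Agent.SylowSp4.Pat Cfsg.Agent.SylowSp4.CentT
open Cfsg.Agent.Walter.OddCoreIn Cfsg.Agent.SylowSp4.FieldPart

universe u

/-- The identification of `C(t)/O(C(t))`, `k = 1`. -/
def CentOne : Prop :=
  ∀ (G : Type u) [Group G] [Finite G] (P : Sylow 2 G) (f : Q 1 → Q 1 → G) (s : G), Pat P 1 f s →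
    ∃ (L : Type u) (_ : Group L) (_ : Finite L) (D : Duo (HH f) L) (ι : Q 1 →* L) (Φ : Subgroup (HH f)),
      Cent 1 f s (ππ f) D ι Φ ∧ ∃ (F : Type) (_ : Field F) (_ : Fintype F), Odd (Fintype.card F) ∧
        Nonempty (L ≃* Matrix.SpecialLinearGroup (Fin 2) F)

/-- `O(C(t)) = 1` -/
def CoreBot : Prop :=
  ∀ (G : Type u) [Group G] [Finite G] [IsSimpleGroup G] (P : Sylow 2 G) (k : ℕ) (f : Q k → Q k → G) (s : G)
    (_ : Pat P k f s) (L : Type u) [Group L] [Finite L] (D : Duo (HH f) L) (ι : Q k →* L) (Φ : Subgroup (HH f))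
    (_ : Cent k f s (ππ f) D ι Φ) (F : Type) [Field F] [Fintype F], Odd (Fintype.card F) →
    Nonempty (L ≃* Matrix.SpecialLinearGroup (Fin 2) F) → OO (Cn (tt f)) = ⊥

/-- the recognition theorem -/
def RecogPSp : Prop :=
  ∀ (G : Type u) [Group G] [Finite G] [IsSimpleGroup G] (F : Type) [Field F] [Finite F], (2 : F) ≠ 0 →
    ∀ (D : SpFourOdd.Pair G F), SpFourOdd.Hyp D → Nonempty (G ≃* Cfsg.PSp 2 F)

/-- the fusion, `k = 1` -/
def FusTwo : Prop :=
  ∀ (G : Type u) [Group G] [Finite G] [IsSimpleGroup G] (P : Sylow 2 G) (f : Q 1 → Q 1 → G) (s : G),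
    TSp (P : Subgroup G) 1 f s →
    Pat P 1 f s ∨ Pat P 1 f (tt f * s) ∨ ∃ F : AltModel.M64 →* G, AltModel.AltPat P F

/-- the alternating case -/
def AltIso : Prop :=
  ∀ (G : Type u) [Group G] [Finite G] [IsSimpleGroup G] (P : Sylow 2 G) (F : AltModel.M64 →* G),
    AltModel.AltPat P F → Nonempty (G ≃* alternatingGroup (Fin 8)) ∨ Nonempty (G ≃* alternatingGroup (Fin 9))

/-- the pattern `PSp` -/
theorem pat_case (hPT : Hyps.ProductThm.{u}) (hGW : Hyps.GW.{u}) (h1 : CentOne.{u}) (h2 : CoreBot.{u})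
    (h3 : RecogPSp.{u}) {G : Type u} [Group G] [Finite G] [IsSimpleGroup G] {P : Sylow 2 G} {k : ℕ}
    {f : Q k → Q k → G} {s : G} (p : Pat P k f s) :
    ∃ (K : Type) (_ : Field K) (_ : Fintype K), Odd (Fintype.card K) ∧ Nonempty (G ≃* Cfsg.PSp 2 K) := by
  have hcent : ∃ (L : Type u) (_ : Group L) (_ : Finite L) (D : Duo (HH f) L) (ι : Q k →* L) (Φ : Subgroup (HH f)),
      Cent k f s (ππ f) D ι Φ ∧ ∃ (F : Type) (_ : Field F) (_ : Fintype F), Odd (Fintype.card F) ∧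
        Nonempty (L ≃* Matrix.SpecialLinearGroup (Fin 2) F) := by
    rcases Nat.lt_or_ge k 2 with hk | hk
    · have hk1 := p.h.hk
      obtain rfl : k = 1 := by omega
      exact h1 G P f s p
    · obtain ⟨L, i1, i2, D, ι, Φ, c, hc⟩ := exists_cent_large hPT hGW p hk
      refine ⟨L, i1, i2, D, ι, Φ, c, ?_⟩
      rcases hc with hc | ⟨-, ψ, hψ, hker⟩
      · exact hc
      · exact (CentUA7.no_A7 p hk c (CentUExport.uData p) hψ hker).elim
  obtain ⟨L, i1, i2, D, ι, Φ, c, F, i3, i4, hodd, ⟨e⟩⟩ := hcent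
  have hcore := h2 G P k f s p L D ι Φ c F hodd ⟨e⟩
  have h2' : (2 : F) ≠ 0 := Cfsg.Agent.TwoFusion.QuatCoverSL.two_ne_zero_of_odd hodd
  have Fs := SLFactMain.slFact hodd e p.h.hk ι c.ι_inj c.ι_z (SylL.not_dvd p c)
  exact ⟨F, i3, i4, hodd,
    h3 G F h2' _ (OutputCU.hyp p c hcore e h2' (CentUExport.uData p) Fs hodd)⟩

/-- **Assembly.** -/
theorem main (hPT : Hyps.ProductThm.{u}) (hGW : Hyps.GW.{u}) (h1 : CentOne.{u}) (h2 : CoreBot.{u})
    (h3 : RecogPSp.{u}) (h4 : FusTwo.{u}) (h5 : AltIso.{u}) {G : Type u} [Group G] [Finite G] [IsSimpleGroup G]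
    {F : Type*} [Field F] [Fintype F] (hF : Odd (Fintype.card F)) (S : Sylow 2 G) (P : Sylow 2 (Cfsg.PSp 2 F))
    (hS : Nonempty ((S : Subgroup G) ≃* (P : Subgroup (Cfsg.PSp 2 F)))) :
    (∃ (K : Type) (_ : Field K) (_ : Fintype K), Odd (Fintype.card K) ∧ Nonempty (G ≃* Cfsg.PSp 2 K)) ∨
      Nonempty (G ≃* alternatingGroup (Fin 8)) ∨ Nonempty (G ≃* alternatingGroup (Fin 9)) := by
  obtain ⟨k, f, s, h⟩ := Recog.exists_coord hF (S : Subgroup G) P hS
  rcases Nat.lt_or_ge k 2 with hk | hk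
  · have hk1 := h.hk
    obtain rfl : k = 1 := by omega
    rcases h4 G S f s h with p | p | ⟨F', p⟩
    · exact Or.inl (pat_case hPT hGW h1 h2 h3 p)
    · exact Or.inl (pat_case hPT hGW h1 h2 h3 p)
    · exact Or.inr (h5 G S F' p)
  · rcases Large.pat h hk with p | p
    · exact Or.inl (pat_case hPT hGW h1 h2 h3 p)
    · exact Or.inl (pat_case hPT hGW h1 h2 h3 p)

end Cfsg.Agent.SylowSp4.Assembly
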