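import Cfsg.Agent.PermutationGroups.AutQuaternion
import Cfsg.Agent.TwoFusion.LocalIndex

/-!
# Automorphisms of odd order of the quaternion group of order 8
-/

set_option autoImplicit false

namespace Cfsg.Agent.SylowSp4.AutOne

open QuaternionGroup Cfsg.Agent.PermutationGroups.AutQuaternion

/-- an automorphism trivial modulo the centre -/
def Tr (ρ : MulAut (QuaternionGroup 2)) : Prop := ∀ x, ρ x = x ∨ ρ x = x * a 2

theorem D34 : ∀ x y : QuaternionGroup 2, good x y = true →
    (∀ g, cand x y (cand x y (cand x y g)) = g) ∨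
    (∀ g, cand x y (cand x y (cand x y (cand x y g))) = g) := by decide +kernel

/-- the candidate has order dividing three -/
def cubeB (x y : QuaternionGroup 2) : Bool := decide (∀ g, cand x y (cand x y (cand x y g)) = g)

/-- the candidate is trivial -/
def idB (x y : QuaternionGroup 2) : Bool := decide (∀ g, cand x y g = g)

/-- a map trivial modulo the centre -/
def trB (σ : QuaternionGroup 2 → QuaternionGroup 2) : Bool := decide (∀ g, σ g = g ∨ σ g = g * a 2)

theorem DpowB : ∀ x y : QuaternionGroup 2, good x y = true → cubeB x y = true → idB x y = false →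
    ∀ x' y' : QuaternionGroup 2, good x' y' = true → cubeB x' y' = true →
    trB (cand x' y') = true ∨ trB (fun g => cand x' y' (cand x y g)) = true ∨
    trB (fun g => cand x' y' (cand x y (cand x y g))) = true := by
  decide +kernel

theorem Dpow (x y : QuaternionGroup 2) (h1 : good x y = true) (h2 : ∀ g, cand x y (cand x y (cand x y g)) = g)
    (h3 : ¬ ∀ g, cand x y g = g) (x' y' : QuaternionGroup 2) (h4 : good x' y' = true)
    (h5 : ∀ g, cand x' y' (cand x' y' (cand x' y' g)) = g) :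
    (∀ g, cand x' y' g = g ∨ cand x' y' g = g * a 2) ∨
    (∀ g, cand x' y' (cand x y g) = g ∨ cand x' y' (cand x y g) = g * a 2) ∨
    (∀ g, cand x' y' (cand x y (cand x y g)) = g ∨ cand x' y' (cand x y (cand x y g)) = g * a 2) := by
  rcases DpowB x y h1 (decide_eq_true h2) (decide_eq_false h3) x' y' h4 (decide_eq_true h5) with h | h | h
  · exact Or.inl (of_decide_eq_true h)
  · exact Or.inr (Or.inl (of_decide_eq_true h))
  · exact Or.inr (Or.inr (of_decide_eq_true h))

theorem Dfix : ∀ x y : QuaternionGroup 2, good x y = true → (∀ g, cand x y (cand x y (cand x y g)) = g) →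
    (x = a 1 ∨ x = a 3) → ∀ g, cand x y g = g := by decide +kernel

theorem Dtrans : ∀ x y : QuaternionGroup 2, good x y = true → (∀ g, cand x y (cand x y (cand x y g)) = g) →
    (¬ ∀ g, cand x y g = g) → ∀ α : QuaternionGroup 2, α * α = a 2 →
    (α = a 1 ∨ α = a 3) ∨ (cand x y α = a 1 ∨ cand x y α = a 3) ∨
    (cand x y (cand x y α) = a 1 ∨ cand x y (cand x y α) = a 3) := by decide +kernel

theorem sq_of_tr {ρ : MulAut (QuaternionGroup 2)} (h : Tr ρ) : ρ * ρ = 1 := by
  apply MulEquiv.ext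
  intro x
  rw [MulAut.mul_apply, MulAut.one_apply]
  rcases h x with h1 | h1
  · rw [h1, h1]
  · rw [h1, map_mul, h1, map_a_two, mul_assoc]
    have h2 : (a 2 : QuaternionGroup 2) * a 2 = 1 := by decide
    rw [h2, mul_one]

theorem eq_one_of_tr_odd {ρ : MulAut (QuaternionGroup 2)} (h : Tr ρ) (ho : Odd (orderOf ρ)) : ρ = 1 := by
  have h1 : orderOf ρ ∣ 2 := orderOf_dvd_of_pow_eq_one (by rw [sq]; exact sq_of_tr h)
  rcases (Nat.dvd_prime Nat.prime_two).1 h1 with h2 | h2
  · exact orderOf_eq_one_iff.1 h2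
  · rw [h2] at ho; exact absurd ho (by decide)

theorem cube_of_odd {ρ : MulAut (QuaternionGroup 2)} (ho : Odd (orderOf ρ)) : ∀ g, ρ (ρ (ρ g)) = g := by
  rcases D34 _ _ (good_map ρ) with h | h
  · intro g
    have := h g
    rwa [← eq_cand, ← eq_cand, ← eq_cand] at this
  · have h1 : ρ ^ 4 = 1 := by
      apply MulEquiv.ext
      intro g
      have := h g
      rw [← eq_cand, ← eq_cand, ← eq_cand, ← eq_cand] at this
      rw [show (4 : ℕ) = 1 + 1 + 1 + 1 from rfl, pow_add, pow_add, pow_add, pow_one]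
      exact this
    have h2 : orderOf ρ ∣ 2 ^ 2 := orderOf_dvd_of_pow_eq_one h1
    obtain ⟨j, -, hj⟩ := (Nat.dvd_prime_pow Nat.prime_two).1 h2
    have h3 : ρ = 1 := by
      rcases Nat.eq_zero_or_pos j with rfl | h0
      · exact orderOf_eq_one_iff.1 hj
      · exfalso
        rw [hj] at ho
        exact (Nat.not_odd_iff_even.2 ((Nat.even_pow.2 ⟨even_two, h0.ne'⟩))) ho
    intro g
    rw [h3]
    rfl

theorem cand_cube {ρ : MulAut (QuaternionGroup 2)} (ho : Odd (orderOf ρ)) (g : QuaternionGroup 2) :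
    cand (ρ (a 1)) (ρ (xa 0)) (cand (ρ (a 1)) (ρ (xa 0)) (cand (ρ (a 1)) (ρ (xa 0)) g)) = g := by
  rw [← eq_cand, ← eq_cand, ← eq_cand]
  exact cube_of_odd ho g

theorem not_cand {ρ : MulAut (QuaternionGroup 2)} (h1 : ρ ≠ 1) :
    ¬ ∀ g, cand (ρ (a 1)) (ρ (xa 0)) g = g := by
  intro h
  apply h1
  apply MulEquiv.ext
  intro g
  rw [eq_cand ρ g]
  exact h g

/-- Modulo inner automorphisms all automorphisms of odd order are powers of a nontrivial one. -/
theorem exists_pow {ρ τ : MulAut (QuaternionGroup 2)} (hρ : Odd (orderOf ρ)) (h1 : ρ ≠ 1)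
    (hτ : Odd (orderOf τ)) : ∃ i : ℕ, Tr (τ * ρ ^ i) := by
  rcases Dpow _ _ (good_map ρ) (cand_cube hρ) (not_cand h1) _ _ (good_map τ) (cand_cube hτ) with h | h | h
  · refine ⟨0, fun g => ?_⟩
    have := h g
    rw [← eq_cand] at this
    rw [pow_zero, mul_one]
    exact this
  · refine ⟨1, fun g => ?_⟩
    have := h g
    rw [← eq_cand, ← eq_cand] at this
    rw [pow_one]
    exact this
  · refine ⟨2, fun g => ?_⟩
    have := h g
    rw [← eq_cand, ← eq_cand, ← eq_cand] at this
    rw [sq]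
    exact this

/-- an automorphism of odd order fixing `⟨a 1⟩` is trivial -/
theorem eq_one_of_fix {ρ : MulAut (QuaternionGroup 2)} (hρ : Odd (orderOf ρ)) (h : ρ (a 1) = a 1 ∨ ρ (a 1) = a 3) :
    ρ = 1 := by
  apply MulEquiv.ext
  intro g
  have := Dfix _ _ (good_map ρ) (cand_cube hρ) h g
  rw [← eq_cand] at this
  exact this

/-- a nontrivial automorphism of odd order is transitive on the elements of order 4 modulo the centre -/
theorem exists_map {ρ : MulAut (QuaternionGroup 2)} (hρ : Odd (orderOf ρ)) (h1 : ρ ≠ 1) {α : QuaternionGroup 2}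
    (hα : α * α = a 2) : ∃ i : ℕ, (ρ ^ i) α = a 1 ∨ (ρ ^ i) α = a 3 := by
  rcases Dtrans _ _ (good_map ρ) (cand_cube hρ) (not_cand h1) α hα with h | h | h
  · exact ⟨0, h⟩
  · refine ⟨1, ?_⟩
    rw [← eq_cand] at h
    rw [pow_one]
    exact h
  · refine ⟨2, ?_⟩
    rw [← eq_cand, ← eq_cand] at h
    rw [sq]
    exact h

/-- automorphisms trivial modulo the centre are inner -/
theorem inner_of_tr {ρ : MulAut (QuaternionGroup 2)} (h : Tr ρ) : ∃ w : QuaternionGroup 2, ∀ x, ρ x = w * x * w⁻¹ :=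
  Cfsg.Agent.TwoFusion.LocalIndex.quaternion_aut_inner ρ h

theorem tr_conj (w : QuaternionGroup 2) {ρ : MulAut (QuaternionGroup 2)} (h : ∀ x, ρ x = w * x * w⁻¹) : Tr ρ := by
  have key : ∀ w y : QuaternionGroup 2, w * y * w⁻¹ = y ∨ w * y * w⁻¹ = y * a 2 := by decide +kernel
  intro x
  rw [h]
  exact key w x

end Cfsg.Agent.SylowSp4.AutOne
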