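import Cfsg.Agent.SylowSp4.Facts
import Cfsg.Agent.SylowSp4.Extremal

/-!
# Type `PSp_4(q)`, `q` odd: no involution outside the base group is fused into it in the centralizer of `t`
-/

set_option autoImplicit false

namespace Cfsg.Agent.SylowSp4.CentA

open Subgroup QuaternionGroup Cfsg.Agent.SylowSp4.Coord Cfsg.Agent.SylowSp4.Facts Cfsg.Agent.SylowSp4.Extremal
open Cfsg.Agent.Lib.GoldschmidtFusion

section

variable {G : Type*} [Group G] {S : Subgroup G} {k : ℕ} {f : Q k → Q k → G} {s : G} (h : TSp S k f s)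

include h

/-- the centralizer of `s` in `S` -/
theorem cent_s_cases {y : G} (hy : y ∈ S) (hc : y * s = s * y) :
    ∃ α β : Q k, (α = β ∨ α = z k * β) ∧ (y = f α β ∨ y = f α β * s) := by
  rcases (h.mem_iff y).1 hy with ⟨α, β, rfl⟩ | ⟨α, β, rfl⟩
  · exact ⟨α, β, (comm_s_iff h).1 hc, Or.inl rfl⟩
  · refine ⟨α, β, (comm_s_iff h).1 ?_, Or.inr rfl⟩
    rw [mul_assoc, h.s_s, mul_one, ← mul_assoc] at hc
    have h1 := congrArg (fun x => x * s) hc
    simp only [mul_assoc, h.s_s, mul_one] at h1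
    exact h1

theorem f_ne_t (γ : Q k) : f γ γ ≠ f (z k) 1 := by
  rw [Ne, h.f_eq_iff]
  rintro (⟨h1, h2⟩ | ⟨h1, h2⟩)
  · rw [h1] at h2
    exact z_ne_one h2
  · rw [z_mul_z] at h1
    rw [h1, mul_one] at h2
    exact z_ne_one h2.symm

/-- no root of `t` commutes with `s` -/
theorem no_root {y : G} (hy : y ∈ S) (hc : y * s = s * y) : y * y ≠ f (z k) 1 := by
  obtain ⟨α, β, hαβ, rfl | rfl⟩ := cent_s_cases h hy hc
  · rw [h.f_mul]
    rcases hαβ with rfl | rfl
    · exact f_ne_t h _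
    · have e : z k * β * (z k * β) = β * β := by
        rw [mul_assoc, ← mul_assoc β, ← z_comm, mul_assoc, zz_mul]
      rw [e]
      exact f_ne_t h _
  · rw [h.fs_mul_fs]
    rcases hαβ with rfl | rfl
    · exact f_ne_t h _
    · have e : β * (z k * β) = z k * β * β := by rw [← mul_assoc, ← z_comm]
      rw [e]
      exact f_ne_t h _

/-- second coordinate of an element commuting with an element of square `z` outside the cyclic group -/
theorem sq_second {δ : Q k} {j : ZMod (2 * 2 ^ k)}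
    (hc : δ * xa j = xa j * δ ∨ δ * xa j = z k * (xa j * δ)) : δ * δ = 1 ∨ δ * δ = z k := by
  rcases δ with i | i
  · rcases hc with hc | hc
    · rcases of_a_comm_xa hc with h1 | h1
      · left; rw [h1, one_mul]
      · left; rw [h1, z_mul_z]
    · right
      rw [a_mul_xa, xa_mul_a, z_mul_xa] at hc
      have h1 : j - i = j + i + hh k := xa.inj hc
      have h2 := hh_add (k := k)
      exact a_sq_z (by linear_combination -h1 - h2)
  · right
    exact xa_sq i

/-- an element of the base group commuting with `u = (α, β)`, `β` outside the cyclic group, no power of which is a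
root of `t`, is an involution or trivial -/
theorem sq_eq_one {α γ δ : Q k} {j : ZMod (2 * 2 ^ k)} (hc : f γ δ * f α (xa j) = f α (xa j) * f γ δ)
    (hn : ∀ m : ℕ, f γ δ ^ m * f γ δ ^ m ≠ f (z k) 1) : f γ δ * f γ δ = 1 := by
  have h1 : δ * δ = 1 ∨ δ * δ = z k := by
    rcases (comm_iff h).1 hc with ⟨-, h2⟩ | ⟨-, h2⟩
    · exact sq_second h (Or.inl h2)
    · exact sq_second h (Or.inr h2)
  obtain ⟨ε, hε⟩ : ∃ ε, f γ δ * f γ δ = f ε 1 := by
    rcases h1 with h1 | h1
    · exact ⟨γ * γ, by rw [h.f_mul, h1]⟩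
    · exact ⟨z k * (γ * γ), by rw [h.f_mul, h1, f_congr_z h, mul_one]⟩
  by_cases h2 : ε = 1
  · rw [hε, h2, h.f_one]
  by_cases h3 : ε = z k
  · exfalso
    apply hn 1
    rw [pow_one, hε, h3]
  exfalso
  obtain ⟨m, hm⟩ := exists_pow_sq h2 h3
  apply hn (2 * m)
  have hpow : ∀ m : ℕ, (f ε 1) ^ m = f (ε ^ m) 1 := by
    intro m
    induction m with
    | zero => rw [pow_zero, pow_zero, h.f_one]
    | succ m ih => rw [pow_succ, ih, h.f_mul, pow_succ, one_mul]
  rw [pow_mul, sq, hε, hpow, h.f_mul, hm, one_mul]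

/-- the same with the first coordinate -/
theorem sq_eq_one' {β γ δ : Q k} {j : ZMod (2 * 2 ^ k)} (hc : f γ δ * f (xa j) β = f (xa j) β * f γ δ)
    (hn : ∀ m : ℕ, f γ δ ^ m * f γ δ ^ m ≠ f (z k) 1) : f γ δ * f γ δ = 1 := by
  have hsw : ∀ {x y : Q k}, f x y = s * f y x * s⁻¹ := fun {x y} => (h.s_conj y x).symm
  have hpow : ∀ m : ℕ, (f δ γ) ^ m = s * (f γ δ) ^ m * s⁻¹ := by
    intro m
    rw [hsw (x := δ) (y := γ), conj_pow]
  have h1 := sq_eq_one h (α := β) (γ := δ) (δ := γ) (j := j) (by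
    rw [h.f_mul, h.f_mul, h.f_eq_iff] at hc ⊢
    tauto) (by
    intro m hm
    apply hn m
    rw [hpow] at hm
    have h2 : s * (f γ δ ^ m * f γ δ ^ m) * s⁻¹ = f (z k) 1 := by
      rw [← hm]; group
    have h3 : f γ δ ^ m * f γ δ ^ m = s⁻¹ * f (z k) 1 * s := by rw [← h2]; group
    rw [h3, h.s_inv, h.s_f, mul_assoc, h.s_s, mul_one, h.f_one_z])
  rw [h.f_mul, ← h.f_one, h.f_eq_iff] at h1 ⊢
  tauto

/-- products of two elements of `S` outside the base group lie in the base group -/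
theorem mul_base {x y : G} (hx : x ∈ S) (hy : y ∈ S) (hx' : ¬ ∃ α β, x = f α β) (hy' : ¬ ∃ α β, y = f α β) :
    ∃ α β, x * y = f α β := by
  rcases (h.mem_iff x).1 hx with h1 | ⟨α, β, rfl⟩
  · exact absurd h1 hx'
  rcases (h.mem_iff y).1 hy with h1 | ⟨γ, δ, rfl⟩
  · exact absurd h1 hy'
  exact ⟨_, _, h.fs_mul_fs _ _ _ _⟩

theorem base_mul {x y : G} (hx : ∃ α β, x = f α β) (hy : ∃ α β, y = f α β) : ∃ α β, x * y = f α β := by
  obtain ⟨α, β, rfl⟩ := hx
  obtain ⟨γ, δ, rfl⟩ := hy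
  exact ⟨_, _, h.f_mul _ _ _ _⟩

theorem base_inv {x : G} (hx : ∃ α β, x = f α β) : ∃ α β, x⁻¹ = f α β := by
  obtain ⟨α, β, rfl⟩ := hx
  exact ⟨_, _, h.f_inv _ _⟩

theorem not_base_mul {x y : G} (hx : ¬ ∃ α β, x = f α β) (hy : ∃ α β, y = f α β) : ¬ ∃ α β, x * y = f α β := by
  intro h1
  apply hx
  have := base_mul h h1 (base_inv h hy)
  rwa [mul_inv_cancel_right] at this

theorem s_not_base : ¬ ∃ α β, s = f α β := by
  rintro ⟨α, β, e⟩
  exact h.s_ne _ _ e

/-- `e = (c, c)` commutes with the centralizer of `s` -/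
theorem e_comm {y : G} (hy : y ∈ S) (hc : y * s = s * y) : f (c k) (c k) * y = y * f (c k) (c k) := by
  have key : ∀ α β : Q k, (α = β ∨ α = z k * β) → f (c k) (c k) * f α β = f α β * f (c k) (c k) := by
    intro α β hαβ
    have h1 : c k * β = β * c k ∨ c k * β = z k * (β * c k) := by
      rcases β with i | i
      · left; exact a_comm_a _ _
      · right
        have h2 := hh_add (k := k)
        have h3 := c_add h.hk
        rw [c, a_mul_xa, xa_mul_a, z_mul_xa]
        congr 1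
        linear_combination -h3 - h2
    have h4 : (c k * α = α * c k ∧ c k * β = β * c k) ∨
        (c k * α = z k * (α * c k) ∧ c k * β = z k * (β * c k)) := by
      rcases hαβ with rfl | rfl
      · rcases h1 with h1 | h1
        · exact Or.inl ⟨h1, h1⟩
        · exact Or.inr ⟨h1, h1⟩
      · rcases h1 with h1 | h1
        · left
          refine ⟨?_, h1⟩
          rw [← mul_assoc, ← z_comm, mul_assoc, h1, mul_assoc]
        · right
          refine ⟨?_, h1⟩
          rw [← mul_assoc, ← z_comm, mul_assoc, h1, mul_assoc]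
    exact (comm_iff h).2 h4
  obtain ⟨α, β, hαβ, rfl | rfl⟩ := cent_s_cases h hy hc
  · exact key α β hαβ
  · have h2 : f (c k) (c k) * s = s * f (c k) (c k) := by rw [h.s_f]
    rw [← mul_assoc, key α β hαβ, mul_assoc, mul_assoc, h2]

/-- U-type elements with both coordinates in the cyclic subgroup. -/
theorem cyclic_cases {α β : Q k} (hα : α * α = z k) (hβ : β * β = z k) :
    (f α β = f (c k) (c k) ∨ f α β = f (z k) 1 * f (c k) (c k)) ∨ (∃ i, α = xa i) ∨ ∃ i, β = xa i := by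
  rcases sq_z_cases hα with ⟨i, hi, rfl⟩ | ⟨i, rfl⟩
  · rcases sq_z_cases hβ with ⟨j, hj, rfl⟩ | ⟨j, rfl⟩
    · left
      have e : f (z k) 1 * f (c k) (c k) = f (z k * c k) (c k) := by rw [h.f_mul, one_mul]
      rw [e]
      rcases eq_c_of_sq h.hk hi with h1 | h1 <;> rcases eq_c_of_sq h.hk hj with h2 | h2 <;> rw [h1, h2]
      · exact Or.inl rfl
      · right; rw [f_congr_z h]
      · right; rfl
      · left; rw [h.f_z_mul]
    · exact Or.inr (Or.inr ⟨j, rfl⟩)
  · exact Or.inr (Or.inl ⟨i, rfl⟩)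

end

section

variable {G : Type*} [Group G] {P : Subgroup G} {k : ℕ} {f : Q k → Q k → G} {s : G} (h : TSp P k f s)
  (hZ : ∀ g : G, g * f (z k) 1 = f (z k) 1 * g)

include h hZ

theorem conj_t (g : G) : g * f (z k) 1 * g⁻¹ = f (z k) 1 := by rw [hZ, mul_inv_cancel_right]

theorem conj_eq_t {g x : G} (hx : g * x * g⁻¹ = f (z k) 1) : x = f (z k) 1 := by
  have h1 : x = g⁻¹ * (g * x * g⁻¹) * g := by group
  rw [h1, hx, mul_assoc, ← hZ, inv_mul_cancel_left]

theorem conj_eq_one {g x : G} (hx : g * x * g⁻¹ = 1) : x = 1 := by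
  have h1 : x = g⁻¹ * (g * x * g⁻¹) * g := by group
  rw [h1, hx]; group

/-- Main step of (A) for `k ≥ 2`. -/
theorem no_fusion_large (hk : 2 ≤ k) {g : G} (hg : ∃ α β, g * s * g⁻¹ = f α β)
    (hC : ∀ y ∈ P, y * s = s * y → g * y * g⁻¹ ∈ P) : False := by
  have hcs := c_sq h.hk
  have hsP := h.s_mem
  have heP : f (c k) (c k) ∈ P := h.f_mem _ _
  have hes : f (c k) (c k) * s = s * f (c k) (c k) := by rw [h.s_f]
  obtain ⟨i, hi⟩ := exists_sq_c hk
  -- the element `r' = (a', a')` with square `e`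
  have hr : f (a i) (a i) * f (a i) (a i) = f (c k) (c k) := by rw [h.f_mul, hi]
  have hrs : f (a i) (a i) * s = s * f (a i) (a i) := by rw [h.s_f]
  have hrP : f (a i) (a i) ∈ P := h.f_mem _ _
  have he2 : f (c k) (c k) * f (c k) (c k) = 1 := by rw [h.f_mul, hcs, h.f_zz]
  have he1 : f (c k) (c k) ≠ 1 := by
    rw [← h.f_one, Ne, h.f_eq_iff, mul_one]
    rintro (⟨h1, -⟩ | ⟨h1, -⟩)
    · exact ne_one_of_sq_z hcs h1
    · exact ne_z_of_sq_z hcs h1
  have het : f (c k) (c k) ≠ f (z k) 1 := f_ne_t h _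
  -- no power of a conjugate is a root of `t`
  have hno : ∀ y ∈ P, y * s = s * y → ∀ m : ℕ, (g * y * g⁻¹) ^ m * (g * y * g⁻¹) ^ m ≠ f (z k) 1 := by
    intro y hy hys m hm
    rw [conj_pow] at hm
    have h1 : g * (y ^ m * y ^ m) * g⁻¹ = f (z k) 1 := by rw [← hm]; group
    have h2 := conj_eq_t h hZ h1
    exact no_root h (pow_mem hy m) ((show Commute y s from hys).pow_left m) h2
  -- the image of `e` lies in the base group
  have hD : ∃ α β, g * f (c k) (c k) * g⁻¹ = f α β := by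
    obtain ⟨α, β, h1⟩ := sq_mem_base h (hC _ hrP hrs)
    refine ⟨α, β, ?_⟩
    rw [← h1, ← hr]; group
  have hconj : ∀ {x y : G}, x * y = y * x → (g * x * g⁻¹) * (g * y * g⁻¹) = (g * y * g⁻¹) * (g * x * g⁻¹) := by
    intro x y hxy
    have : g * (x * y) * g⁻¹ = g * (y * x) * g⁻¹ := by rw [hxy]
    simpa [mul_assoc] using this
  -- some `u ∈ {s, e}` is moved to an element with a coordinate outside the cyclic subgroup
  have hu : ∃ u, (∀ y ∈ P, y * s = s * y → u * y = y * u) ∧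
      ∃ α β : Q k, g * u * g⁻¹ = f α β ∧ ((∃ i, α = xa i) ∨ ∃ i, β = xa i) := by
    obtain ⟨α, β, h1⟩ := hg
    obtain ⟨γ, δ, h2⟩ := hD
    have hsq1 : f α β * f α β = 1 := by
      rw [← h1]
      calc g * s * g⁻¹ * (g * s * g⁻¹) = g * (s * s) * g⁻¹ := by group
        _ = 1 := by rw [h.s_s]; group
    have hsq2 : f γ δ * f γ δ = 1 := by
      rw [← h2]
      calc g * f (c k) (c k) * g⁻¹ * (g * f (c k) (c k) * g⁻¹) = g * (f (c k) (c k) * f (c k) (c k)) * g⁻¹ := by group
        _ = 1 := by rw [he2]; group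
    have hU1 : α * α = z k ∧ β * β = z k := by
      rcases sq_cases_of_inv h hsq1 with ⟨h3, -⟩ | h3
      · exfalso
        rcases one_or_t h hsq1 (eq_of_sq_one h3) with h4 | h4
        · rw [h4] at h1
          exact s_not_base h ⟨1, 1, by rw [h.f_one]; exact conj_eq_one h hZ h1⟩
        · rw [h4] at h1
          exact s_not_base h ⟨z k, 1, conj_eq_t h hZ h1⟩
      · exact h3
    have hU2 : γ * γ = z k ∧ δ * δ = z k := by
      rcases sq_cases_of_inv h hsq2 with ⟨h3, -⟩ | h3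
      · exfalso
        rcases one_or_t h hsq2 (eq_of_sq_one h3) with h4 | h4
        · rw [h4] at h2
          exact he1 (conj_eq_one h hZ h2)
        · rw [h4] at h2
          exact het (conj_eq_t h hZ h2)
      · exact h3
    rcases cyclic_cases h hU1.1 hU1.2 with h3 | h3
    · rcases cyclic_cases h hU2.1 hU2.2 with h4 | h4
      · exfalso
        have hcan : ∀ {x y : G}, g * x * g⁻¹ = g * y * g⁻¹ → x = y := fun hxy =>
          mul_left_cancel (mul_right_cancel hxy)
        have ht : ∀ x : G, f (z k) 1 * (g * x * g⁻¹) = g * (f (z k) 1 * x) * g⁻¹ := by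
          intro x
          rw [← mul_assoc, ← mul_assoc, ← hZ g, mul_assoc g]
        have htt : ∀ x : G, f (z k) 1 * (f (z k) 1 * x) = x := by
          intro x
          rw [← mul_assoc, h.t_sq, one_mul]
        rcases h3 with h3 | h3 <;> rcases h4 with h4 | h4
        · have : g * s * g⁻¹ = g * f (c k) (c k) * g⁻¹ := by rw [h1, h2, h3, h4]
          exact s_not_base h ⟨_, _, hcan this⟩
        · have : g * (f (z k) 1 * s) * g⁻¹ = g * f (c k) (c k) * g⁻¹ := by
            rw [← ht, h1, h2, h3, h4]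
          have h5 := hcan this
          exact s_not_base h ⟨z k * c k, 1 * c k, by rw [← h.f_mul, ← h5, htt]⟩
        · have : g * s * g⁻¹ = g * (f (z k) 1 * f (c k) (c k)) * g⁻¹ := by
            rw [← ht, h1, h2, h3, h4]
          have h5 := hcan this
          exact s_not_base h ⟨z k * c k, 1 * c k, by rw [← h.f_mul, h5]⟩
        · have : g * s * g⁻¹ = g * f (c k) (c k) * g⁻¹ := by rw [h1, h2, h3, h4]
          exact s_not_base h ⟨_, _, hcan this⟩
      · exact ⟨f (c k) (c k), fun y hy hys => e_comm h hy hys, γ, δ, h2, h4⟩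
    · exact ⟨s, fun y _ hys => hys.symm, α, β, h1, h3⟩
  obtain ⟨u, huc, α, β, hgu, hαβ⟩ := hu
  -- hence elements moved into the base group are involutions
  have hinv : ∀ y ∈ P, y * s = s * y → (∃ α β, g * y * g⁻¹ = f α β) → y * y = 1 := by
    rintro y hy hys ⟨γ, δ, hγδ⟩
    have hn := hno y hy hys
    have hcu : f γ δ * f α β = f α β * f γ δ := by
      rw [← hγδ, ← hgu]
      exact hconj (huc y hy hys).symm
    rw [hγδ] at hn
    have h1 : f γ δ * f γ δ = 1 := by
      rcases hαβ with ⟨j, rfl⟩ | ⟨j, rfl⟩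
      · exact sq_eq_one' h hcu hn
      · exact sq_eq_one h hcu hn
    rw [← hγδ] at h1
    apply conj_eq_one h hZ (g := g)
    rw [← h1]; group
  have hr1 : ¬ ∃ α β, g * f (a i) (a i) * g⁻¹ = f α β := by
    intro h1
    have h2 := hinv _ hrP hrs h1
    rw [hr] at h2
    exact he1 h2
  -- an involution `y = (xa, xa)` moved into the base group
  have hy : ∃ j, ∃ α β, g * f (xa j) (xa j) * g⁻¹ = f α β := by
    by_cases h1 : ∃ α β, g * f (xa 0) (xa 0) * g⁻¹ = f α β
    · exact ⟨0, h1⟩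
    · refine ⟨0 - i, ?_⟩
      have h2 := mul_base h (hC _ hrP hrs) (hC _ (h.f_mem (xa 0) (xa 0)) (by rw [h.s_f])) hr1 h1
      have e : f (xa (0 - i)) (xa (0 - i)) = f (a i) (a i) * f (xa 0) (xa 0) := by
        rw [h.f_mul, a_mul_xa]
      rw [e]
      obtain ⟨γ, δ, h3⟩ := h2
      exact ⟨γ, δ, by rw [← h3]; group⟩
  obtain ⟨j, hy⟩ := hy
  have hyP : f (xa j) (xa j) ∈ P := h.f_mem _ _
  have hys : f (xa j) (xa j) * s = s * f (xa j) (xa j) := by rw [h.s_f]
  have hy2 : f (xa j) (xa j) * f (xa j) (xa j) = 1 := by rw [h.f_mul, Coord.xa_sq, h.f_zz]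
  have hey := e_comm h hyP hys
  have hsq : ∀ {x : G}, x * x = 1 → (g * x * g⁻¹) * (g * x * g⁻¹) = 1 := by
    intro x hx
    calc g * x * g⁻¹ * (g * x * g⁻¹) = g * (x * x) * g⁻¹ := by group
      _ = 1 := by rw [hx]; group
  have hmul : ∀ {x y : G}, (g * x * g⁻¹) * (g * y * g⁻¹) = g * (x * y) * g⁻¹ := by
    intro x y; group
  have hfin : ∀ {x : G}, (g * x * g⁻¹ = 1 ∨ g * x * g⁻¹ = f (z k) 1) → x = 1 ∨ x = f (z k) 1 := by
    rintro x (h1 | h1)
    · exact Or.inl (conj_eq_one h hZ h1)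
    · exact Or.inr (conj_eq_t h hZ h1)
  have hnb : ∀ {x : G}, (x = 1 ∨ x = f (z k) 1) → ∃ α β, x = f α β := by
    rintro x (rfl | rfl)
    · exact ⟨1, 1, h.f_one.symm⟩
    · exact ⟨_, _, rfl⟩
  have hsb := s_not_base h
  have hr := rank h hg hD hy (hsq h.s_s) (hsq he2) (hsq hy2) (hconj hes.symm) (hconj hys.symm) (hconj hey)
  rw [hmul, hmul, hmul, hmul] at hr
  rcases hr with h1 | h1 | h1 | h1 | h1 | h1 | h1
  · exact hsb (hnb (hfin h1))
  · rcases hfin h1 with h2 | h2
    · exact he1 h2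
    · exact het h2
  · rcases hfin h1 with h2 | h2
    · rw [← h.f_one, h.f_eq_iff] at h2
      rcases h2 with ⟨h3, -⟩ | ⟨h3, -⟩
      · rw [one_def] at h3
        cases h3
      · rw [mul_one, z_def] at h3
        cases h3
    · exact f_ne_t h _ h2
  · have h2 := hnb (hfin h1)
    exact not_base_mul h hsb ⟨_, _, rfl⟩ h2
  · have h2 := hnb (hfin h1)
    exact not_base_mul h hsb ⟨_, _, rfl⟩ h2
  · rcases hfin h1 with h2 | h2
    · rw [h.f_mul, ← h.f_one, h.f_eq_iff, c, a_mul_xa] at h2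
      rcases h2 with ⟨h3, -⟩ | ⟨h3, -⟩
      · rw [one_def] at h3
        cases h3
      · rw [mul_one, z_def] at h3
        cases h3
    · rw [h.f_mul] at h2
      exact f_ne_t h _ h2
  · have h2 := hnb (hfin h1)
    rw [mul_assoc] at h2
    exact not_base_mul h hsb (base_mul h ⟨_, _, rfl⟩ ⟨_, _, rfl⟩) h2

end

end Cfsg.Agent.SylowSp4.CentA
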