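import Cfsg.Agent.SylowSp4.CentZ
import Cfsg.Agent.SylowSp4.Closed

/-!
# Type `PSp_4(q)`, `q` odd: the centralizer of `t` in an arbitrary finite group

`CentData h K`: `K` is the subgroup of index two of `C_G(t)` with Sylow 2-subgroup the base group, `t = f (z k) 1`.
`exists_centData` is (A) + (B) + (C) for an arbitrary finite group.
-/

set_option autoImplicit false

namespace Cfsg.Agent.SylowSp4.CentG

open Subgroup QuaternionGroup Cfsg.Agent.SylowSp4.Coord Cfsg.Agent.SylowSp4.Facts Cfsg.Agent.SylowSp4.Base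
open Cfsg.Agent.SylowSp4.CentA

/-- The structure of `C_G(t)` around the Sylow 2-subgroup `P` of type `PSp_4(q)`. -/
structure CentData {G : Type*} [Group G] {P : Subgroup G} {k : ℕ} {f : Q k → Q k → G} {s : G} (h : TSp P k f s)
    (K : Subgroup G) : Prop where
  /-- `K ≤ C_G(t)` -/
  comm : ∀ g ∈ K, g * f (z k) 1 = f (z k) 1 * g
  /-- `K` is normal in `C_G(t)` -/
  conj_mem : ∀ c : G, c * f (z k) 1 = f (z k) 1 * c → ∀ g ∈ K, c * g * c⁻¹ ∈ K
  /-- `C_G(t) = K ∪ K s` -/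
  mem_or : ∀ c : G, c * f (z k) 1 = f (z k) 1 * c → c ∈ K ∨ c * s ∈ K
  s_notMem : s ∉ K
  inf_eq : K ⊓ P = base h
  /-- (A) no involution of `P` outside the base group is fused into it in `C_G(t)` -/
  no_fusion : ∀ x ∈ P, x * x = 1 → (¬ ∃ α β, x = f α β) → ∀ c : G, c * f (z k) 1 = f (z k) 1 * c →
    ¬ ∃ α β, c * x * c⁻¹ = f α β
  /-- (C) the two factors are strongly closed in the base group with respect to `K` -/
  closed₁ : ∀ g ∈ K, ∀ α : Q k, g * f α 1 * g⁻¹ ∈ P → ∃ β, g * f α 1 * g⁻¹ = f β 1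
  closed₂ : ∀ g ∈ K, ∀ α : Q k, g * f 1 α * g⁻¹ ∈ P → ∃ β, g * f 1 α * g⁻¹ = f 1 β

theorem exists_centData {G : Type*} [Group G] [Finite G] {P : Sylow 2 G} {k : ℕ} {f : Q k → Q k → G} {s : G}
    (h : TSp (P : Subgroup G) k f s) : ∃ K : Subgroup G, CentData h K := by
  have hPC : (P : Subgroup G) ≤ centralizer ({f (z k) 1} : Set G) := by
    intro x hx
    rw [mem_centralizer_singleton_iff]
    exact (h.t_comm hx).symm
  have hC := restrict h hPC
  have hp : IsPGroup 2 ((P : Subgroup G).subgroupOf (centralizer ({f (z k) 1} : Set G))) :=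
    P.isPGroup'.comap_of_injective (centralizer ({f (z k) 1} : Set G)).subtype (subtype_injective _)
  have hi : ¬ 2 ∣ ((P : Subgroup G).subgroupOf (centralizer ({f (z k) 1} : Set G))).index := by
    intro hd
    exact P.not_dvd_index (hd.trans (relIndex_dvd_index_of_le hPC))
  let PC : Sylow 2 (centralizer ({f (z k) 1} : Set G)) := hp.toSylow hi
  have hPCt : TSp (PC : Subgroup (centralizer ({f (z k) 1} : Set G))) k
      (fun a b => (⟨f a b, hPC (h.f_mem a b)⟩ : centralizer ({f (z k) 1} : Set G))) ⟨s, hPC h.s_mem⟩ := hC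
  have hZ : ∀ g : centralizer ({f (z k) 1} : Set G),
      g * (⟨f (z k) 1, hPC (h.f_mem _ _)⟩ : centralizer ({f (z k) 1} : Set G)) =
        ⟨f (z k) 1, hPC (h.f_mem _ _)⟩ * g :=
    fun g => Subtype.ext (mem_centralizer_singleton_iff.1 g.2)
  obtain ⟨K, hKn, hKi, hKP, hsK⟩ := CentZ.exists_index_two hPCt hZ
  have hmem : ∀ c : G, c * f (z k) 1 = f (z k) 1 * c → c ∈ centralizer ({f (z k) 1} : Set G) := fun c hc =>
    mem_centralizer_singleton_iff.2 hc
  refine ⟨K.map (centralizer ({f (z k) 1} : Set G)).subtype, ?_, ?_, ?_, ?_, ?_, ?_, ?_, ?_⟩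
  · rintro _ ⟨g, -, rfl⟩
    exact mem_centralizer_singleton_iff.1 g.2
  · rintro c hc _ ⟨g, hg, rfl⟩
    exact ⟨⟨c, hmem c hc⟩ * g * ⟨c, hmem c hc⟩⁻¹, hKn.conj_mem g hg _, rfl⟩
  · intro c hc
    by_cases hcK : (⟨c, hmem c hc⟩ : centralizer ({f (z k) 1} : Set G)) ∈ K
    · exact Or.inl ⟨_, hcK, rfl⟩
    · right
      have h1 := (Subgroup.mul_mem_iff_of_index_two hKi (a := ⟨c, hmem c hc⟩) (b := ⟨s, hPC h.s_mem⟩)).2
        (by constructor
            · intro h2; exact absurd h2 hcK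
            · intro h2; exact absurd h2 hsK)
      exact ⟨_, h1, rfl⟩
  · rintro ⟨g, hg, hgs⟩
    apply hsK
    have : (⟨s, hPC h.s_mem⟩ : centralizer ({f (z k) 1} : Set G)) = g := Subtype.ext hgs.symm
    rw [this]
    exact hg
  · ext x
    rw [mem_inf, mem_base]
    constructor
    · rintro ⟨⟨g, hg, rfl⟩, hgP⟩
      have h1 : g ∈ K ⊓ (PC : Subgroup (centralizer ({f (z k) 1} : Set G))) := ⟨hg, hgP⟩
      rw [hKP, mem_base] at h1
      obtain ⟨a, b, hab⟩ := h1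
      exact ⟨a, b, congrArg Subtype.val hab⟩
    · rintro ⟨a, b, rfl⟩
      have h1 : (⟨f a b, hPC (h.f_mem a b)⟩ : centralizer ({f (z k) 1} : Set G)) ∈
          K ⊓ (PC : Subgroup (centralizer ({f (z k) 1} : Set G))) := by
        rw [hKP, mem_base]
        exact ⟨a, b, rfl⟩
      exact ⟨⟨_, h1.1, rfl⟩, h.f_mem a b⟩
  · rintro x hx hx2 hxb c hc ⟨α, β, hαβ⟩
    refine CentZ.not_conj_base hPCt hZ (x := ⟨x, hPC hx⟩) hx (Subtype.ext hx2) ?_ ⟨c, hmem c hc⟩
      ⟨α, β, Subtype.ext hαβ⟩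
    rintro ⟨a, b, hab⟩
    exact hxb ⟨a, b, congrArg Subtype.val hab⟩
  · rintro _ ⟨g, hg, rfl⟩ α hP
    have h1 := (Closed.closed_in hPCt hZ hKi hKP (α := α) hg).1 hP
    obtain ⟨β, hβ⟩ := h1
    exact ⟨β, congrArg Subtype.val hβ⟩
  · rintro _ ⟨g, hg, rfl⟩ α hP
    have h1 := (Closed.closed_in hPCt hZ hKi hKP (α := α) hg).2 hP
    obtain ⟨β, hβ⟩ := h1
    exact ⟨β, congrArg Subtype.val hβ⟩

end Cfsg.Agent.SylowSp4.CentG
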