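import Cfsg.Agent.SylowSp4.CentA
import Cfsg.Agent.SylowSp4.Base

/-!
# Type `PSp_4(q)`, `q = 3, 5 mod 8`: no fusion of `s` into the base group in the centralizer of `t`
-/

set_option autoImplicit false

namespace Cfsg.Agent.SylowSp4.CentSmall

open Subgroup QuaternionGroup Cfsg.Agent.SylowSp4.Coord Cfsg.Agent.SylowSp4.Facts Cfsg.Agent.SylowSp4.Extremal
open Cfsg.Agent.SylowSp4.CentA Cfsg.Agent.SylowSp4.Base
open Cfsg.Agent.Lib.GoldschmidtFusion

set_option maxRecDepth 100000 in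
theorem comm_or (α β : Q 1) : α * β = β * α ∨ α * β = z 1 * (β * α) := by
  revert α β
  decide

set_option maxRecDepth 100000 in
theorem conj_or (α β : Q 1) : α * β * α⁻¹ = β ∨ α * β * α⁻¹ = z 1 * β := by
  revert α β
  decide

set_option maxRecDepth 100000 in
theorem swap_or (α β γ : Q 1) : α * β * γ⁻¹ = γ * β * α⁻¹ ∨ α * β * γ⁻¹ = z 1 * (γ * β * α⁻¹) := by
  revert α β γ
  decide

set_option maxRecDepth 100000 in
theorem mul_inv_or (β l : Q 1) : β * l⁻¹ = l * β ∨ β * l⁻¹ = z 1 * (l * β) := by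
  revert β l
  decide

set_option maxRecDepth 100000 in
theorem inv_or (α : Q 1) : α⁻¹ = α ∨ α⁻¹ = z 1 * α := by
  revert α
  decide

section

variable {G : Type*} [Group G] {S : Subgroup G} {f : Q 1 → Q 1 → G} {s : G} (h : TSp S 1 f s)

include h

/-- the group `E = C_S(s)` -/
def E (_ : TSp S 1 f s) : Subgroup G := S ⊓ centralizer ({s} : Set G)

omit h in
theorem mem_E (h : TSp S 1 f s) {x : G} : x ∈ E h ↔ x ∈ S ∧ x * s = s * x := by
  rw [E, mem_inf, mem_centralizer_singleton_iff]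

theorem mem_E_of (α β : Q 1) (hαβ : α = β ∨ α = z 1 * β) : f α β ∈ E h :=
  (mem_E h).2 ⟨h.f_mem _ _, (comm_s_iff h).2 hαβ⟩

theorem s_mem_E : s ∈ E h := (mem_E h).2 ⟨h.s_mem, rfl⟩

theorem cases_E {x : G} (hx : x ∈ E h) : ∃ α β : Q 1, (α = β ∨ α = z 1 * β) ∧ (x = f α β ∨ x = f α β * s) :=
  cent_s_cases h ((mem_E h).1 hx).1 ((mem_E h).1 hx).2

theorem t_mem_E : f (z 1) 1 ∈ E h := mem_E_of h _ _ (Or.inr (mul_one _).symm)

/-- `f`-parts of elements of `E` commute -/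
theorem comm_f {α β γ δ : Q 1} (h1 : α = β ∨ α = z 1 * β) (h2 : γ = δ ∨ γ = z 1 * δ) :
    f α β * f γ δ = f γ δ * f α β := by
  have e : ∀ {γ δ : Q 1}, (γ = δ ∨ γ = z 1 * δ) → ∃ i : Bool, f γ δ = f δ δ * (if i then f (z 1) 1 else 1) := by
    rintro γ δ (rfl | rfl)
    · exact ⟨false, by simp⟩
    · exact ⟨true, by simp [h.f_mul_t]⟩
  have ht : ∀ x ∈ S, ∀ i : Bool, x * (if i then f (z 1) 1 else 1) = (if i then f (z 1) 1 else 1) * x := by
    intro x hx i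
    cases i
    · simp
    · simpa using (h.t_comm hx).symm
  obtain ⟨i, hi⟩ := e h1
  obtain ⟨j, hj⟩ := e h2
  have h3 : f β β * f δ δ = f δ δ * f β β := by
    rw [comm_iff h]
    rcases comm_or β δ with h4 | h4
    · exact Or.inl ⟨h4, h4⟩
    · exact Or.inr ⟨h4, h4⟩
  have c1 := ht _ (h.f_mem δ δ) i
  have c2 := ht _ (h.f_mem β β) j
  have c3 : (if i then f (z 1) 1 else 1) * (if j then f (z 1) 1 else 1) =
      (if j then f (z 1) 1 else 1) * (if i then f (z 1) 1 else (1 : G)) := by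
    cases i <;> cases j <;> simp
  rw [hi, hj]
  generalize (if i then f (z 1) 1 else (1 : G)) = u at *
  generalize (if j then f (z 1) 1 else (1 : G)) = v at *
  calc f β β * u * (f δ δ * v) = f β β * (u * f δ δ) * v := by group
    _ = f β β * (f δ δ * u) * v := by rw [c1]
    _ = (f β β * f δ δ) * (u * v) := by group
    _ = (f δ δ * f β β) * (v * u) := by rw [h3, c3]
    _ = f δ δ * (f β β * v) * u := by group
    _ = f δ δ * (v * f β β) * u := by rw [c2]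
    _ = f δ δ * v * (f β β * u) := by group

theorem comm_E {x y : G} (hx : x ∈ E h) (hy : y ∈ E h) : x * y = y * x := by
  obtain ⟨α, β, h1, hx'⟩ := cases_E h hx
  obtain ⟨γ, δ, h2, hy'⟩ := cases_E h hy
  have c1 : Commute (f α β) (f γ δ) := comm_f h h1 h2
  have c2 : Commute (f α β) s := (comm_s_iff h).2 h1
  have c3 : Commute (f γ δ) s := (comm_s_iff h).2 h2
  rcases hx' with rfl | rfl <;> rcases hy' with rfl | rfl
  · exact c1
  · exact c1.mul_right c2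
  · exact c1.mul_left c3.symm
  · exact (c1.mul_left c3.symm).mul_right (c2.mul_left (Commute.refl s))

/-- `S` normalizes `E` -/
theorem conj_E {r x : G} (hr : r ∈ S) (hx : x ∈ E h) : r * x * r⁻¹ ∈ E h := by
  have key : ∀ μ ν : Q 1, f μ ν * x * (f μ ν)⁻¹ ∈ E h := by
    intro μ ν
    rw [h.f_inv]
    obtain ⟨α, β, h1, rfl | rfl⟩ := cases_E h hx
    · rw [h.f_mul, h.f_mul]
      apply mem_E_of h
      rcases h1 with rfl | rfl
      · rcases conj_or μ α with h2 | h2 <;> rcases conj_or ν α with h3 | h3 <;> rw [h2, h3]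
        · exact Or.inl rfl
        · right; rw [zz_mul]
        · exact Or.inr rfl
        · exact Or.inl rfl
      · have e : μ * (z 1 * β) * μ⁻¹ = z 1 * (μ * β * μ⁻¹) := by
          rw [← mul_assoc μ, ← z_comm, mul_assoc, mul_assoc]; simp only [mul_assoc]
        rw [e]
        rcases conj_or μ β with h2 | h2 <;> rcases conj_or ν β with h3 | h3 <;> rw [h2, h3]
        · exact Or.inr rfl
        · exact Or.inl rfl
        · left; rw [zz_mul]
        · right; rw [zz_mul]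
    · have e : f μ ν * (f α β * s) * f μ⁻¹ ν⁻¹ = f (μ * α * ν⁻¹) (ν * β * μ⁻¹) * s := by
        rw [← mul_assoc, h.f_mul, h.fs_mul_f]
      rw [e]
      apply mul_mem _ (s_mem_E h)
      apply mem_E_of h
      rcases h1 with rfl | rfl
      · exact swap_or μ α ν
      · have e2 : μ * (z 1 * β) * ν⁻¹ = z 1 * (μ * β * ν⁻¹) := by
          rw [← mul_assoc μ, ← z_comm, mul_assoc, mul_assoc]; simp only [mul_assoc]
        rw [e2]
        rcases swap_or μ β ν with h2 | h2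
        · right; rw [h2]
        · left; rw [h2, zz_mul]
  rcases (h.mem_iff r).1 hr with ⟨μ, ν, rfl⟩ | ⟨μ, ν, rfl⟩
  · exact key μ ν
  · have h1 : s * x * s⁻¹ = x := by rw [comm_E h (s_mem_E h) hx, mul_inv_cancel_right]
    have e : f μ ν * s * x * (f μ ν * s)⁻¹ = f μ ν * (s * x * s⁻¹) * (f μ ν)⁻¹ := by group
    rw [e, h1]
    exact key μ ν

/-- the centralizer of an involution of `S` outside the base group is `E` -/
theorem mem_E_of_comm {v x : G} (hv : v ∈ S) (hv2 : v * v = 1) (hvb : ¬ ∃ α β, v = f α β) (hx : x ∈ S)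
    (hc : x * v = v * x) : x ∈ E h := by
  obtain ⟨r, hr, hrv⟩ : ∃ r ∈ S, v = r * s * r⁻¹ ∨ v = r * (f (z 1) 1 * s) * r⁻¹ := by
    rcases inv_cases h hv hv2 with h1 | h1 | ⟨α, β, -, -, h1⟩ | ⟨α, h1⟩ | ⟨α, h1⟩
    · exact absurd ⟨1, 1, by rw [h1, h.f_one]⟩ hvb
    · exact absurd ⟨_, _, h1⟩ hvb
    · exact absurd ⟨_, _, h1⟩ hvb
    · exact ⟨f α 1, h.f_mem _ _, Or.inl (by rw [conj_s h, h1])⟩
    · exact ⟨f α 1, h.f_mem _ _, Or.inr (by rw [conj_ts h, h1])⟩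
  have hx1 : r⁻¹ * x * r ∈ S := S.mul_mem (S.mul_mem (S.inv_mem hr) hx) hr
  have h1 : r⁻¹ * x * r ∈ E h := by
    rw [mem_E]
    refine ⟨hx1, ?_⟩
    have hc' : Commute x v := hc
    rcases hrv with rfl | rfl
    · have h2 : r⁻¹ * (x * (r * s * r⁻¹)) * r = r⁻¹ * ((r * s * r⁻¹) * x) * r := by rw [hc]
      simpa [mul_assoc] using h2
    · have h2 : r⁻¹ * (x * (r * (f (z 1) 1 * s) * r⁻¹)) * r = r⁻¹ * ((r * (f (z 1) 1 * s) * r⁻¹) * x) * r := by
        rw [hc]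
      have h3 : (r⁻¹ * x * r) * (f (z 1) 1 * s) = (f (z 1) 1 * s) * (r⁻¹ * x * r) := by
        simpa [mul_assoc] using h2
      have h4 := h.t_comm hx1
      have h5 : f (z 1) 1 * ((r⁻¹ * x * r) * s) = f (z 1) 1 * (s * (r⁻¹ * x * r)) := by
        rw [← mul_assoc, h4, mul_assoc, h3, mul_assoc]
      exact mul_left_cancel h5
  have h2 := conj_E h hr h1
  have e : r * (r⁻¹ * x * r) * r⁻¹ = x := by group
  rwa [e] at h2

end

section

variable {G : Type*} [Group G] [Finite G] {P : Sylow 2 G} {f : Q 1 → Q 1 → G} {s : G} (h : TSp (P : Subgroup G) 1 f s)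
  (hZ : ∀ g : G, g * f (z 1) 1 = f (z 1) 1 * g)

include h

/-- moving `s` into the base group, `C_S(s)` into `S`, normalizes `E` -/
theorem normalizes_E {g : G} (hg : ∃ α β, g * s * g⁻¹ = f α β)
    (hC : ∀ y ∈ (P : Subgroup G), y * s = s * y → g * y * g⁻¹ ∈ (P : Subgroup G)) (hgt : g * f (z 1) 1 * g⁻¹ = f (z 1) 1) :
    g ∈ normalizer (E h : Set G) := by
  have hcs := c_sq h.hk
  have hgt' : ∀ {x : G}, g * x * g⁻¹ = f (z 1) 1 → x = f (z 1) 1 := by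
    intro x hx
    rw [← hgt] at hx
    exact mul_left_cancel (mul_right_cancel hx)
  have hone : ∀ {x : G}, g * x * g⁻¹ = 1 → x = 1 := by
    intro x hx
    have h1 : x = g⁻¹ * (g * x * g⁻¹) * g := by group
    rw [h1, hx]; group
  have hsq : ∀ {x : G}, x * x = 1 → (g * x * g⁻¹) * (g * x * g⁻¹) = 1 := by
    intro x hx
    calc g * x * g⁻¹ * (g * x * g⁻¹) = g * (x * x) * g⁻¹ := by group
      _ = 1 := by rw [hx]; group
  have hmul : ∀ {x y : G}, (g * x * g⁻¹) * (g * y * g⁻¹) = g * (x * y) * g⁻¹ := by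
    intro x y; group
  have hconj : ∀ {x y : G}, x * y = y * x → (g * x * g⁻¹) * (g * y * g⁻¹) = (g * y * g⁻¹) * (g * x * g⁻¹) := by
    intro x y hxy
    rw [hmul, hmul, hxy]
  have hfin : ∀ {x : G}, (g * x * g⁻¹ = 1 ∨ g * x * g⁻¹ = f (z 1) 1) → x = 1 ∨ x = f (z 1) 1 := by
    rintro x (h1 | h1)
    · exact Or.inl (hone h1)
    · exact Or.inr (hgt' h1)
  have hnb : ∀ {x : G}, (x = 1 ∨ x = f (z 1) 1) → ∃ α β, x = f α β := by
    rintro x (rfl | rfl)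
    · exact ⟨1, 1, h.f_one.symm⟩
    · exact ⟨_, _, rfl⟩
  have hsb := s_not_base h
  have he1 : f (c 1) (c 1) ∈ E h := mem_E_of h _ _ (Or.inl rfl)
  have he2 : f (xa 0) (xa 0) ∈ E h := mem_E_of h _ _ (Or.inl rfl)
  have hE12 := comm_E h he1 he2
  have hEs1 := comm_E h (s_mem_E h) he1
  have hEs2 := comm_E h (s_mem_E h) he2
  have hsq1 : f (c 1) (c 1) * f (c 1) (c 1) = 1 := by rw [h.f_mul, hcs, h.f_zz]
  have hsq2 : f (xa 0 : Q 1) (xa 0) * f (xa 0) (xa 0) = 1 := by rw [h.f_mul, Coord.xa_sq, h.f_zz]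
  have hE : ∀ x ∈ E h, g * x * g⁻¹ ∈ (P : Subgroup G) := fun x hx => hC x ((mem_E h).1 hx).1 ((mem_E h).1 hx).2
  -- some involution of `E` is moved out of the base group
  have hv : ∃ y ∈ E h, y * y = 1 ∧ ¬ ∃ α β, g * y * g⁻¹ = f α β := by
    by_contra hcon
    push Not at hcon
    have h1 := hcon _ he1 hsq1
    have h2 := hcon _ he2 hsq2
    have hr := rank h hg h1 h2 (hsq h.s_s) (hsq hsq1) (hsq hsq2) (hconj hEs1) (hconj hEs2) (hconj hE12)
    rw [hmul, hmul, hmul, hmul] at hr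
    rcases hr with h1 | h1 | h1 | h1 | h1 | h1 | h1
    · exact hsb (hnb (hfin h1))
    · rcases hfin h1 with h2 | h2
      · rw [← h.f_one, h.f_eq_iff, mul_one] at h2
        rcases h2 with ⟨h3, -⟩ | ⟨h3, -⟩
        · exact ne_one_of_sq_z hcs h3
        · exact ne_z_of_sq_z hcs h3
      · exact f_ne_t h _ h2
    · rcases hfin h1 with h2 | h2
      · rw [← h.f_one, h.f_eq_iff] at h2
        rcases h2 with ⟨h3, -⟩ | ⟨h3, -⟩
        · rw [one_def] at h3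
          cases h3
        · rw [mul_one, z_def] at h3
          cases h3
      · exact f_ne_t h _ h2
    · have h2 := hnb (hfin h1)
      exact not_base_mul h hsb ⟨_, _, rfl⟩ h2
    · have h2 := hnb (hfin h1)
      exact not_base_mul h hsb ⟨_, _, rfl⟩ h2
    · rcases hfin h1 with h2 | h2
      · rw [h.f_mul, ← h.f_one, h.f_eq_iff, c, a_mul_xa] at h2
        rcases h2 with ⟨h3, -⟩ | ⟨h3, -⟩
        · rw [one_def] at h3
          cases h3
        · rw [mul_one, z_def] at h3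
          cases h3
      · rw [h.f_mul] at h2
        exact f_ne_t h _ h2
    · have h2 := hnb (hfin h1)
      rw [mul_assoc] at h2
      exact not_base_mul h hsb (base_mul h ⟨_, _, rfl⟩ ⟨_, _, rfl⟩) h2
  obtain ⟨y, hyE, hy2, hyb⟩ := hv
  have hle : (E h).map (MulAut.conj g).toMonoidHom ≤ E h := by
    rintro _ ⟨x, hx, rfl⟩
    change g * x * g⁻¹ ∈ E h
    exact mem_E_of_comm h (hE y hyE) (hsq hy2) hyb (hE x hx) (hconj (comm_E h hx hyE))
  exact mem_normalizer_iff_map_conj.2 (map_conj_le_of_le_normalizer hle)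

include hZ

/-- Main step of (A) for `k = 1`. -/
theorem no_fusion_small {g : G} (hg : ∃ α β, g * s * g⁻¹ = f α β)
    (hC : ∀ y ∈ (P : Subgroup G), y * s = s * y → g * y * g⁻¹ ∈ (P : Subgroup G)) : False := by
  have hgt : g * f (z 1) 1 * g⁻¹ = f (z 1) 1 := conj_t h hZ g
  have hgN := normalizes_E h hg hC hgt
  have hgE : ∀ x, x ∈ E h ↔ g * x * g⁻¹ ∈ E h := fun x => mem_normalizer_iff.1 hgN x
  have hcs := c_sq h.hk
  -- `(λ, λ)` moved into the base group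
  obtain ⟨l, hl, hlb⟩ : ∃ l : Q 1, l * l = z 1 ∧ ∃ α β, g * f l l * g⁻¹ = f α β := by
    by_cases h1 : ∃ α β, g * f (c 1) (c 1) * g⁻¹ = f α β
    · exact ⟨c 1, hcs, h1⟩
    by_cases h2 : ∃ α β, g * f (xa 0) (xa 0) * g⁻¹ = f α β
    · exact ⟨xa 0, Coord.xa_sq _, h2⟩
    refine ⟨c 1 * xa 0, ?_, ?_⟩
    · rw [c, a_mul_xa, Coord.xa_sq]
    · have he1 : f (c 1) (c 1) ∈ E h := mem_E_of h _ _ (Or.inl rfl)
      have he2 : f (xa 0) (xa 0) ∈ E h := mem_E_of h _ _ (Or.inl rfl)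
      obtain ⟨γ, δ, h3⟩ := mul_base h ((mem_E h).1 ((hgE _).1 he1)).1 ((mem_E h).1 ((hgE _).1 he2)).1 h1 h2
      exact ⟨γ, δ, by rw [← h3, ← h.f_mul]; group⟩
  have hlE : f l l ∈ E h := mem_E_of h _ _ (Or.inl rfl)
  -- the subgroup `D = E ∩ R` and `M`
  let D : Subgroup G := E h ⊓ base h
  have hmemD : ∀ x, x ∈ D ↔ x ∈ E h ∧ ∃ α β, x = f α β := by
    intro x
    rw [mem_inf, mem_base]
  let M : Subgroup G := normalizer (E h : Set G) ⊓ normalizer (D : Set G)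
  have hnorm : ∀ (X : Subgroup G) (r : G), (∀ x ∈ X, r * x * r⁻¹ ∈ X) → r ∈ normalizer (X : Set G) := by
    intro X r hX
    refine mem_normalizer_iff_map_conj.2 (map_conj_le_of_le_normalizer ?_)
    rintro _ ⟨x, hx, rfl⟩
    exact hX x hx
  have hbase : ∀ r ∈ (P : Subgroup G), ∀ x, (∃ α β, x = f α β) → ∃ α β, r * x * r⁻¹ = f α β := by
    rintro r hr x ⟨α, β, rfl⟩
    rcases (h.mem_iff r).1 hr with ⟨μ, ν, rfl⟩ | ⟨μ, ν, rfl⟩
    · exact ⟨_, _, by rw [h.f_inv, h.f_mul, h.f_mul]⟩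
    · refine ⟨μ * β * μ⁻¹, ν * α * ν⁻¹, ?_⟩
      have e : f μ ν * s * f α β * (f μ ν * s)⁻¹ = f μ ν * (s * f α β * s⁻¹) * (f μ ν)⁻¹ := by group
      rw [e, h.s_conj, h.f_inv, h.f_mul, h.f_mul]
  have hPM : (P : Subgroup G) ≤ M := by
    intro r hr
    refine mem_inf.2 ⟨hnorm _ r fun x hx => conj_E h hr hx, hnorm _ r fun x hx => ?_⟩
    rw [hmemD] at hx ⊢
    exact ⟨conj_E h hr hx.1, hbase r hr x hx.2⟩
  -- the element `ρ`
  have hlt : ∀ x ∈ E h, ∃ y, (y = 1 ∨ y = f (z 1) 1 ∨ y = f l l ∨ y = f (z 1) 1 * f l l) ∧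
      f l 1 * x * (f l 1)⁻¹ = y * x := by
    intro x hx
    obtain ⟨α, β, h1, rfl | rfl⟩ := cases_E h hx
    · rcases conj_or l α with h2 | h2
      · exact ⟨1, Or.inl rfl, by rw [h.f_inv, h.f_mul, h.f_mul, h2]; simp⟩
      · exact ⟨f (z 1) 1, Or.inr (Or.inl rfl), by rw [h.f_inv, h.f_mul, h.f_mul, h2, h.f_mul]; simp⟩
    · have e : f l 1 * (f α β * s) * (f l 1)⁻¹ = f (l * α) (β * l⁻¹) * s := by
        rw [h.f_inv, ← mul_assoc, h.f_mul, h.fs_mul_f]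
        simp
      have h3 := mul_inv_or β l
      rcases h3 with h3 | h3
      · refine ⟨f l l, Or.inr (Or.inr (Or.inl rfl)), ?_⟩
        rw [e, h3, ← mul_assoc, h.f_mul]
      · refine ⟨f (z 1) 1 * f l l, Or.inr (Or.inr (Or.inr rfl)), ?_⟩
        rw [e, h3, h.f_mul, h.f_mul_fs, ← f_congr_z h, one_mul, mul_assoc (z 1)]
  have hrho : g * f l 1 * g⁻¹ ∈ M := by
    have h1 : f l 1 ∈ normalizer (E h : Set G) := (mem_inf.1 (hPM (h.f_mem l 1))).1
    refine mem_inf.2 ⟨mul_mem (mul_mem hgN h1) (inv_mem hgN), hnorm _ _ fun x hx => ?_⟩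
    rw [hmemD] at hx ⊢
    have hx' : g⁻¹ * x * g ∈ E h := by
      rw [hgE]
      have e : g * (g⁻¹ * x * g) * g⁻¹ = x := by group
      rw [e]
      exact hx.1
    obtain ⟨y, hy, hy2⟩ := hlt _ hx'
    have e : g * f l 1 * g⁻¹ * x * (g * f l 1 * g⁻¹)⁻¹ = (g * y * g⁻¹) * x := by
      calc g * f l 1 * g⁻¹ * x * (g * f l 1 * g⁻¹)⁻¹ = g * (f l 1 * (g⁻¹ * x * g) * (f l 1)⁻¹) * g⁻¹ := by group
        _ = g * (y * (g⁻¹ * x * g)) * g⁻¹ := by rw [hy2]
        _ = g * y * g⁻¹ * x := by group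
    have hyE : y ∈ E h ∧ ∃ α β, g * y * g⁻¹ = f α β := by
      rcases hy with rfl | rfl | rfl | rfl
      · exact ⟨one_mem _, 1, 1, by rw [h.f_one]; group⟩
      · exact ⟨t_mem_E h, z 1, 1, hgt⟩
      · exact ⟨hlE, hlb⟩
      · refine ⟨mul_mem (t_mem_E h) hlE, ?_⟩
        obtain ⟨γ, δ, h3⟩ := hlb
        refine ⟨z 1 * γ, 1 * δ, ?_⟩
        rw [← h.f_mul, ← h3]
        nth_rewrite 2 [← hgt]
        group
    rw [e]
    exact ⟨mul_mem ((hgE _).1 hyE.1) hx.1, base_mul h hyE.2 hx.2⟩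
  -- Sylow in `M`
  have hPG : IsPGroup 2 (P : Subgroup G) := P.isPGroup'
  have hPi : ¬ 2 ∣ (P : Subgroup G).relIndex M := by
    intro hd
    exact P.not_dvd_index (hd.trans (relIndex_dvd_index_of_le hPM))
  have hrho4 : (g * f l 1 * g⁻¹) ^ 4 = 1 := by
    have h1 : (f l 1) ^ 4 = 1 := by
      rw [show (4 : ℕ) = 2 * 2 by rfl, pow_mul, sq, sq, root_sq h hl, h.t_sq]
    rw [conj_pow, h1]; group
  have hD2 : IsPGroup 2 (zpowers (g * f l 1 * g⁻¹)) := by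
    rintro ⟨x, hx⟩
    refine ⟨2, Subtype.ext ?_⟩
    obtain ⟨n, rfl⟩ := mem_zpowers_iff.1 hx
    change ((g * f l 1 * g⁻¹) ^ n) ^ (2 ^ 2) = 1
    rw [← zpow_natCast, ← zpow_mul, mul_comm, zpow_mul, zpow_natCast, show 2 ^ 2 = 4 by rfl, hrho4, one_zpow]
  obtain ⟨m, hm, hmD⟩ := exists_conj_le_in hPG hPi ((zpowers_le).2 hrho) hD2
  have hmr : m * (g * f l 1 * g⁻¹) * m⁻¹ ∈ (P : Subgroup G) := hmD ⟨_, mem_zpowers _, rfl⟩
  -- `v₀ = g s g⁻¹ ∈ D`
  have hv0 : g * s * g⁻¹ ∈ D := (hmemD _).2 ⟨(hgE _).1 (s_mem_E h), hg⟩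
  have hmv : m * (g * s * g⁻¹) * m⁻¹ ∈ D := (mem_normalizer_iff.1 (mem_inf.1 hm).2 _).1 hv0
  obtain ⟨-, β, β', hβ⟩ := (hmemD _).1 hmv
  have hsqr : (m * (g * f l 1 * g⁻¹) * m⁻¹) * (m * (g * f l 1 * g⁻¹) * m⁻¹) = f (z 1) 1 := by
    calc (m * (g * f l 1 * g⁻¹) * m⁻¹) * (m * (g * f l 1 * g⁻¹) * m⁻¹) = m * (g * (f l 1 * f l 1) * g⁻¹) * m⁻¹ := by
          group
      _ = f (z 1) 1 := by rw [root_sq h hl, hgt, conj_t h hZ]
  -- it is centralized modulo `t`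
  have hcen : (m * (g * f l 1 * g⁻¹) * m⁻¹) * (m * (g * s * g⁻¹) * m⁻¹) * (m * (g * f l 1 * g⁻¹) * m⁻¹)⁻¹ =
      m * (g * s * g⁻¹) * m⁻¹ ∨
      (m * (g * f l 1 * g⁻¹) * m⁻¹) * (m * (g * s * g⁻¹) * m⁻¹) * (m * (g * f l 1 * g⁻¹) * m⁻¹)⁻¹ =
      f (z 1) 1 * (m * (g * s * g⁻¹) * m⁻¹) := by
    rw [hβ]
    obtain ⟨μ, hμ, h1 | h1⟩ := root_cases h hmr hsqr
    · rw [h1, h.f_inv, h.f_mul, h.f_mul]
      rcases conj_or μ β with h2 | h2
      · left; rw [h2]; simp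
      · right; rw [h2, h.f_mul]; simp
    · rw [h1, h.f_inv, h.f_mul, h.f_mul]
      rcases conj_or μ β' with h2 | h2
      · left; rw [h2]; simp
      · right; rw [h2, h.f_mul, f_congr_z h]; simp
  have hfin : f l 1 * s * (f l 1)⁻¹ = s ∨ f l 1 * s * (f l 1)⁻¹ = f (z 1) 1 * s := by
    have e : (m * (g * f l 1 * g⁻¹) * m⁻¹) * (m * (g * s * g⁻¹) * m⁻¹) * (m * (g * f l 1 * g⁻¹) * m⁻¹)⁻¹ =
        m * g * (f l 1 * s * (f l 1)⁻¹) * (m * g)⁻¹ := by group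
    rw [e] at hcen
    rcases hcen with h1 | h1
    · left
      have e2 : m * (g * s * g⁻¹) * m⁻¹ = m * g * s * (m * g)⁻¹ := by group
      rw [e2] at h1
      exact mul_left_cancel (mul_right_cancel h1)
    · right
      have e2 : f (z 1) 1 * (m * (g * s * g⁻¹) * m⁻¹) = m * g * (f (z 1) 1 * s) * (m * g)⁻¹ := by
        have := hZ (m * g)
        calc f (z 1) 1 * (m * (g * s * g⁻¹) * m⁻¹) = (f (z 1) 1 * (m * g)) * s * (m * g)⁻¹ := by group
          _ = ((m * g) * f (z 1) 1) * s * (m * g)⁻¹ := by rw [this]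
          _ = m * g * (f (z 1) 1 * s) * (m * g)⁻¹ := by group
      rw [e2] at h1
      exact mul_left_cancel (mul_right_cancel h1)
  rw [conj_s h] at hfin
  rcases hfin with h1 | h1
  · have h2 : f l l⁻¹ = 1 := mul_eq_right.1 h1
    rw [← h.f_one, h.f_eq_iff, mul_one] at h2
    rcases h2 with ⟨h3, -⟩ | ⟨h3, -⟩
    · exact ne_one_of_sq_z hl h3
    · exact ne_z_of_sq_z hl h3
  · have h2 : f l l⁻¹ = f (z 1) 1 := mul_right_cancel h1
    rw [h.f_eq_iff, z_mul_z] at h2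
    rcases h2 with ⟨h3, -⟩ | ⟨h3, -⟩
    · exact ne_z_of_sq_z hl h3
    · exact ne_one_of_sq_z hl h3

end

end Cfsg.Agent.SylowSp4.CentSmall
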