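import Cfsg.Agent.SylowSp4.IdPerf
import Cfsg.Agent.SylowSp4.Pat

/-!
# The structure `Cent` of `C(t) / O(C(t))` from the decomposition `Dec`
-/

set_option autoImplicit false

namespace Cfsg.Agent.SylowSp4.CentT

open Subgroup QuaternionGroup Cfsg.Agent.SylowSp4.Coord Cfsg.Agent.SylowSp4.Facts Cfsg.Agent.SylowSp4.Base
open Cfsg.Agent.SylowSp4.CentG Cfsg.Agent.SylowSp4.Decomp Cfsg.Agent.SylowSp4.Pat
open Cfsg.Agent.Walter.OddCoreIn

universe u

/-- Coordinates pass to the image under a homomorphism injective on `S`. -/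
theorem tsp_map {G H : Type*} [Group G] [Group H] {S : Subgroup G} {k : ℕ} {f : Q k → Q k → G} {s : G}
    (h : TSp S k f s) (π : G →* H) (hinj : ∀ x ∈ S, π x = 1 → x = 1) :
    TSp (S.map π) k (fun a b => π (f a b)) (π s) := by
  have hi : ∀ x ∈ S, ∀ y ∈ S, π x = π y → x = y := by
    intro x hx y hy e
    have h1 := hinj (x * y⁻¹) (mul_mem hx (inv_mem hy)) (by rw [map_mul, map_inv, e, mul_inv_cancel])
    exact mul_inv_eq_one.1 h1
  refine
    { hk := h.hk
      f_mul := fun a b c d => by rw [← map_mul, h.f_mul]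
      f_zz := by rw [h.f_zz, map_one]
      f_inj := fun a b c d e => h.f_inj a b c d (hi _ (h.f_mem _ _) _ (h.f_mem _ _) e)
      s_s := by rw [← map_mul, h.s_s, map_one]
      s_f := fun a b => by rw [← map_mul, h.s_f, map_mul]
      s_ne := fun a b e => h.s_ne a b (hi _ h.s_mem _ (h.f_mem _ _) e)
      mem_iff := ?_ }
  intro g
  constructor
  · rintro ⟨x, hx, rfl⟩
    rcases (h.mem_iff x).1 hx with ⟨a, b, rfl⟩ | ⟨a, b, rfl⟩
    · exact Or.inl ⟨a, b, rfl⟩
    · exact Or.inr ⟨a, b, map_mul _ _ _⟩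
  · rintro (⟨a, b, rfl⟩ | ⟨a, b, rfl⟩)
    · exact ⟨_, h.f_mem a b, rfl⟩
    · exact ⟨_, h.fs_mem a b, map_mul _ _ _⟩

section Duo

variable {H : Type*} [Group H] {S : Subgroup H} {k : ℕ} {f : Q k → Q k → H} {s : H} (h : TSp S k f s)
  (hZ : ∀ g, g * f (z k) 1 = f (z k) 1 * g) {L Φ : Subgroup H} (d : Dec f s L Φ)

/-- The two commuting copies of `L`. -/
def duo : Duo H L where
  φ₁ := L.subtype
  φ₂ :=
    { toFun := fun a => s * (a : H) * s
      map_one' := by rw [Subgroup.coe_one, mul_one, h.s_s]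
      map_mul' := fun a b => by
        rw [Subgroup.coe_mul]
        calc s * ((a : H) * b) * s = s * (a : H) * (s * s) * b * s := by rw [h.s_s]; group
          _ = s * (a : H) * s * (s * b * s) := by group }
  ζ := ⟨f (z k) 1, d.q1 _⟩
  w := s
  ζζ := Subtype.ext h.t_sq
  ζ_ne := fun e => h.t_ne_one (congrArg Subtype.val e)
  comm a b := d.comm a a.2 b b.2
  z_eq := by
    change f (z k) 1 = s * f (z k) 1 * s
    rw [hZ, mul_assoc, h.s_s, mul_one]
  ker := by
    rintro ⟨a, ha⟩ ⟨b, hb⟩ e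
    change a * (s * b * s) = 1 at e
    have h1 : s * b * s = a⁻¹ := (inv_eq_of_mul_eq_one_right e).symm
    have h2 : s * b * s ∈ L := by rw [h1]; exact inv_mem ha
    rcases d.inf b hb h2 with rfl | rfl
    · left
      rw [mul_one, h.s_s, mul_one] at e
      exact ⟨Subtype.ext e, rfl⟩
    · right
      have h3 : s * f (z k) 1 * s = f (z k) 1 := by rw [hZ, mul_assoc, h.s_s, mul_one]
      rw [h3] at e
      have h4 : a = f (z k) 1 := by
        have := h.t_sq
        calc a = a * f (z k) 1 * f (z k) 1 := by rw [mul_assoc, this, mul_one]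
          _ = f (z k) 1 := by rw [e, one_mul]
      exact ⟨Subtype.ext h4, rfl⟩
  ww := h.s_s
  conj _ := rfl

theorem duo_φ₁ (a : L) : (duo h hZ d).φ₁ a = a := rfl

theorem duo_φ₂ (a : L) : (duo h hZ d).φ₂ a = s * a * s := rfl

/-- The embedding of the quaternion group. -/
def iota : Q k →* L where
  toFun a := ⟨f a 1, d.q1 a⟩
  map_one' := Subtype.ext h.f_one
  map_mul' a b := Subtype.ext (by
    change f (a * b) 1 = f a 1 * f b 1
    rw [h.f_mul, one_mul])

theorem iota_injective : Function.Injective (iota h d) := by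
  intro a b e
  have h1 : f a 1 = f b 1 := congrArg Subtype.val e
  rcases h.f_inj _ _ _ _ h1 with ⟨h2, -⟩ | ⟨-, h2⟩
  · exact h2
  · rw [mul_one] at h2
    exact absurd h2.symm z_ne_one

end Duo

variable {G : Type u} [Group G] [Finite G] {P : Sylow 2 G} {k : ℕ} {f : Q k → Q k → G} {s : G}

/-- The quotient `C(t) / O(C(t))`. -/
abbrev HH (f : Q k → Q k → G) : Type u := Cn (tt f) ⧸ Cfsg.oddCore (Cn (tt f))

/-- The quotient map. -/
abbrev ππ (f : Q k → Q k → G) : Cn (tt f) →* HH f := QuotientGroup.mk' (Cfsg.oddCore (Cn (tt f)))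

omit [Finite G] in
theorem oddCore_HH [Finite G] : Cfsg.oddCore (HH f) = ⊥ := Lib.Cores.pPrimeCore_quotient_pPrimeCore 2

omit [Finite G] in
theorem ππ_eq_one {c : Cn (tt f)} : ππ f c = 1 ↔ (c : G) ∈ OO (Cn (tt f)) := by
  constructor
  · intro h
    exact ⟨c, (QuotientGroup.eq_one_iff _).1 h, rfl⟩
  · rintro ⟨c', hc', e⟩
    have : c' = c := Subtype.ext e
    rw [← this]
    exact (QuotientGroup.eq_one_iff _).2 hc'

omit [Finite G] in
theorem P_le (h : TSp (P : Subgroup G) k f s) : (P : Subgroup G) ≤ Cn (tt f) := by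
  intro x hx
  rw [mem_centralizer_singleton_iff]
  exact (h.t_comm hx).symm

/-- The coordinates of the image of `P` in `H`. -/
theorem exists_P (h : TSp (P : Subgroup G) k f s) :
    ∃ P' : Sylow 2 (HH f), TSp (P' : Subgroup (HH f)) k (fun a b => ππ f ⟨f a b, P_le h (h.f_mem a b)⟩)
      (ππ f ⟨s, P_le h h.s_mem⟩) := by
  have hp : IsPGroup 2 ((P : Subgroup G).subgroupOf (Cn (tt f))) :=
    P.isPGroup'.comap_of_injective (Cn (tt f)).subtype (subtype_injective _)
  have hi : ¬ 2 ∣ ((P : Subgroup G).subgroupOf (Cn (tt f))).index := by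
    intro hd
    exact P.not_dvd_index (hd.trans (relIndex_dvd_index_of_le (P_le h)))
  let PC : Sylow 2 (Cn (tt f)) := hp.toSylow hi
  have h1 := Facts.restrict h (P_le h)
  have hsurj : Function.Surjective (ππ f) := QuotientGroup.mk'_surjective _
  refine ⟨PC.mapSurjective hsurj, ?_⟩
  refine tsp_map h1 (ππ f) ?_
  intro x hx hx1
  have h2 : x ∈ Cfsg.oddCore (Cn (tt f)) := (QuotientGroup.eq_one_iff _).1 hx1
  have hcop : (Nat.card (Cfsg.oddCore (Cn (tt f)))).Coprime 2 := Lib.Cores.pPrimeCore_coprime 2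
  obtain ⟨j, hj⟩ := hp ⟨x, hx⟩
  have h3 : x ^ 2 ^ j = 1 := congrArg Subtype.val hj
  have h4 : orderOf x ∣ Nat.card (Cfsg.oddCore (Cn (tt f))) := Subgroup.orderOf_dvd_natCard _ h2
  have h5 : Nat.Coprime (orderOf x) (2 ^ j) := Nat.Coprime.pow_right j (Nat.Coprime.coprime_dvd_left h4 hcop)
  have h6 : orderOf x = 1 := Nat.Coprime.eq_one_of_dvd h5 (orderOf_dvd_of_pow_eq_one h3)
  exact orderOf_eq_one_iff.1 h6

/-- `Dec` gives `Cent`. -/
theorem cent_of_dec (h : TSp (P : Subgroup G) k f s) {P' : Sylow 2 (HH f)}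
    (h' : TSp (P' : Subgroup (HH f)) k (fun a b => ππ f ⟨f a b, P_le h (h.f_mem a b)⟩) (ππ f ⟨s, P_le h h.s_mem⟩))
    (hZ : ∀ g : HH f, g * ππ f ⟨f (z k) 1, P_le h (h.f_mem _ _)⟩ = ππ f ⟨f (z k) 1, P_le h (h.f_mem _ _)⟩ * g)
    {L Φ : Subgroup (HH f)}
    (d : Dec (fun a b => ππ f ⟨f a b, P_le h (h.f_mem a b)⟩) (ππ f ⟨s, P_le h h.s_mem⟩) L Φ) :
    Cent k f s (ππ f) (duo h' hZ d) (iota h' d) Φ := by
  set F : Q k → Q k → HH f := fun a b => ππ f ⟨f a b, P_le h (h.f_mem a b)⟩ with hF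
  set σ : HH f := ππ f ⟨s, P_le h h.s_mem⟩ with hσ
  have hss : σ * σ = 1 := h'.s_s
  have hsw : ∀ a, σ * F a 1 * σ = F 1 a := fun a => by rw [h'.s_f, mul_assoc, hss, mul_one]
  exact
    { surj := QuotientGroup.mk'_surjective _
      ker := fun c => ππ_eq_one
      ι_inj := iota_injective h' d
      ι_z := rfl
      hf := fun a b hc => by
        change F a b = F a 1 * (σ * F b 1 * σ)
        rw [hsw, h'.f_mul, mul_one, one_mul]
      hw := fun _ => rfl
      gen := fun g => by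
        obtain ⟨a, ha, b, hb, y, hy, e⟩ := d.gen g
        exact ⟨⟨a, ha⟩, ⟨b, hb⟩, y, hy, e⟩
      odd := d.odd
      norm₁ := fun g hg a => ⟨⟨_, d.norm g hg a a.2⟩, rfl⟩
      norm₂ := fun g hg a => by
        refine ⟨⟨_, d.norm _ (d.sΦ g hg) a a.2⟩, ?_⟩
        change g * (σ * (a : HH f) * σ) * g⁻¹ = σ * (σ * g * σ * (a : HH f) * (σ * g * σ)⁻¹) * σ
        have hsi : σ⁻¹ = σ := inv_eq_of_mul_eq_one_left hss
        calc g * (σ * (a : HH f) * σ) * g⁻¹ = (σ * σ) * g * (σ * (a : HH f) * σ) * g⁻¹ * (σ * σ) := by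
              rw [hss, one_mul, mul_one]
          _ = σ * (σ * g * σ * (a : HH f) * (σ * g⁻¹ * σ)) * σ := by group
          _ = σ * (σ * g * σ * (a : HH f) * (σ * g * σ)⁻¹) * σ := by
              rw [mul_inv_rev, mul_inv_rev, hsi]; group
      fix₁ := fun g hg a => d.fix g hg a
      fix₂ := fun g hg a => by
        change g * (σ * F a 1 * σ) = (σ * F a 1 * σ) * g
        have h1 := d.fix _ (d.sΦ g hg) a
        calc g * (σ * F a 1 * σ) = (σ * σ) * g * (σ * F a 1 * σ) := by rw [hss, one_mul]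
          _ = σ * (σ * g * σ * F a 1) * σ := by group
          _ = σ * (F a 1 * (σ * g * σ)) * σ := by rw [h1]
          _ = (σ * F a 1 * σ) * g * (σ * σ) := by group
          _ = (σ * F a 1 * σ) * g := by rw [hss, mul_one]
      wΦ := fun g hg => d.sΦ g hg
      cen := fun g h1 h2 => d.cen g (fun a ha => h1 ⟨a, ha⟩) (fun a ha => h2 ⟨a, ha⟩) }

/-- The identification of `C(t) / O(C(t))`, `k ≥ 2`. -/
theorem exists_cent_large (hPT : Hyps.ProductThm.{u}) (hGW : Hyps.GW.{u}) (p : Pat P k f s) (hk : 2 ≤ k) :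
    ∃ (L : Type u) (_ : Group L) (_ : Finite L) (D : Duo (HH f) L) (ι : Q k →* L) (Φ : Subgroup (HH f)),
      Cent k f s (ππ f) D ι Φ ∧
      ((∃ (F : Type) (_ : Field F) (_ : Fintype F), Odd (Fintype.card F) ∧
          Nonempty (L ≃* Matrix.SpecialLinearGroup (Fin 2) F)) ∨
        (k = 2 ∧ ∃ ψ : L →* alternatingGroup (Fin 7), Function.Surjective ψ ∧ ∀ a, ψ a = 1 ↔ a = 1 ∨ a = D.ζ)) := by
  have h := p.h
  obtain ⟨P', h'⟩ := exists_P h
  have hsurj : Function.Surjective (ππ f) := QuotientGroup.mk'_surjective _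
  have hZ : ∀ g : HH f, g * ππ f ⟨f (z k) 1, P_le h (h.f_mem _ _)⟩ = ππ f ⟨f (z k) 1, P_le h (h.f_mem _ _)⟩ * g := by
    intro g
    obtain ⟨c, rfl⟩ := hsurj g
    rw [← map_mul, ← map_mul]
    congr 1
    exact Subtype.ext (mem_centralizer_singleton_iff.1 c.2)
  obtain ⟨K, hK⟩ := exists_centData h'
  have ctx : IdBase.Ctx P' k (fun a b => ππ f ⟨f a b, P_le h (h.f_mem a b)⟩) (ππ f ⟨s, P_le h h.s_mem⟩) K :=
    ⟨h', oddCore_HH, hZ, hK, hPT⟩
  have uu : ∀ α : Q k, α * α = z k → ∃ g : HH f, g * ππ f ⟨f α α, P_le h (h.f_mem α α)⟩ * g⁻¹ =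
      ππ f ⟨f (Facts.c k) (Facts.c k), P_le h (h.f_mem _ _)⟩ := by
    intro α hα
    obtain ⟨c, hc, e⟩ := p.uu α α hα hα
    refine ⟨ππ f ⟨c⁻¹, inv_mem hc⟩, ?_⟩
    rw [← map_inv, ← map_mul, ← map_mul]
    congr 1
    apply Subtype.ext
    change c⁻¹ * f α α * c⁻¹⁻¹ = f (Facts.c k) (Facts.c k)
    rw [← e]; group
  obtain ⟨d, hd⟩ := ctx.exists_dec_large hGW hk uu
  exact ⟨_, inferInstance, inferInstance, duo h' hZ d, iota h' d, _, cent_of_dec h h' hZ d, by
    rcases hd with hd | ⟨h2, ψ, hψ, hker⟩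
    · exact Or.inl hd
    · right
      refine ⟨h2, ψ, hψ, fun a => ?_⟩
      rw [hker]
      constructor
      · rintro (h3 | h3)
        · exact Or.inl h3
        · exact Or.inr (Subtype.ext h3)
      · rintro (h3 | h3)
        · exact Or.inl h3
        · exact Or.inr (congrArg Subtype.val h3)⟩

end Cfsg.Agent.SylowSp4.CentT
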