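import Mathlib
import Cfsg.Agent.Lib.EssBridge
import Cfsg.Agent.Transfer.FrobeniusFusion
import Cfsg.Agent.Transfer.NormalPComplement

/-!
# A criterion for 2-nilpotency: a root of a central involution

`P` is a Sylow 2-subgroup of `H`, `t`, `e` are central involutions of `H` (or `1`), `r ∈ P` has square `t` and every
element of `P` with square `t` lies in `r⟨t, e⟩`; `C_P(r)` is abelian and its involutions lie in `⟨t, e⟩`.  Then `P`
controls its own fusion and `H` has a normal 2-complement.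
-/

set_option autoImplicit false

namespace Cfsg.Agent.SylowSp4.CentUNil

open Subgroup Cfsg.Agent.Lib.GoldschmidtFusion Cfsg.Agent.Lib.EssBridge

variable {H : Type*} [Group H]

/-- `g x g⁻¹ = x w` with `w` commuting with `g`, `w` of 2-power order, `g` of odd order, forces `w = 1` -/
theorem eq_one_of_shift {g x w : H} (ho : Odd (orderOf g)) (h : g * x * g⁻¹ = x * w) (hw : g * w * g⁻¹ = w)
    (hw2 : ∃ k : ℕ, w ^ 2 ^ k = 1) : w = 1 := by
  have hk : ∀ k : ℕ, g ^ k * x * (g ^ k)⁻¹ = x * w ^ k := by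
    intro k
    induction k with
    | zero => simp
    | succ k ih =>
      have e : g ^ (k + 1) * x * (g ^ (k + 1))⁻¹ = g * (g ^ k * x * (g ^ k)⁻¹) * g⁻¹ := by
        rw [pow_succ']; group
      have hwk : g * w ^ k * g⁻¹ = w ^ k := by rw [← conj_pow, hw]
      rw [e, ih]
      calc g * (x * w ^ k) * g⁻¹ = (g * x * g⁻¹) * (g * w ^ k * g⁻¹) := by group
        _ = x * w * w ^ k := by rw [h, hwk]
        _ = x * w ^ (k + 1) := by rw [pow_succ', mul_assoc]
  have h1 := hk (orderOf g)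
  rw [pow_orderOf_eq_one, inv_one, mul_one, one_mul] at h1
  have h2 : w ^ orderOf g = 1 := mul_eq_left.1 h1.symm
  obtain ⟨k, h3⟩ := hw2
  have h4 : orderOf w ∣ orderOf g := orderOf_dvd_of_pow_eq_one h2
  have h5 : orderOf w ∣ 2 ^ k := orderOf_dvd_of_pow_eq_one h3
  have h6 : Nat.Coprime (orderOf g) (2 ^ k) := (Nat.coprime_two_right.2 ho).pow_right k
  rw [← orderOf_eq_one_iff]
  exact Nat.eq_one_of_dvd_coprimes h6 h4 h5

/-- The configuration. -/
structure Cfg (P : Subgroup H) (t e r : H) : Prop where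
  tt : t * t = 1
  ee : e * e = 1
  t_cen : ∀ x, t * x = x * t
  e_cen : ∀ x, e * x = x * e
  tP : t ∈ P
  eP : e ∈ P
  rP : r ∈ P
  rr : r * r = t
  root : ∀ x ∈ P, x * x = t → x = r ∨ x = r * t ∨ x = r * e ∨ x = r * (t * e)
  abel : ∀ x ∈ P, x * r = r * x → ∀ y ∈ P, y * r = r * y → x * y = y * x
  inv : ∀ x ∈ P, x * r = r * x → x * x = 1 → x = 1 ∨ x = t ∨ x = e ∨ x = t * e

namespace Cfg

variable {P : Subgroup H} {t e r : H} (h : Cfg P t e r)

include h

/-- the central subgroup `⟨t, e⟩` as a set -/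
theorem conj_cen {g w : H} (hw : w = 1 ∨ w = t ∨ w = e ∨ w = t * e) : g * w * g⁻¹ = w := by
  have ht : g * t * g⁻¹ = t := by rw [← h.t_cen, mul_inv_cancel_right]
  have he : g * e * g⁻¹ = e := by rw [← h.e_cen, mul_inv_cancel_right]
  rcases hw with rfl | rfl | rfl | rfl
  · simp
  · exact ht
  · exact he
  · calc g * (t * e) * g⁻¹ = (g * t * g⁻¹) * (g * e * g⁻¹) := by group
      _ = t * e := by rw [ht, he]

theorem cen_sq {w : H} (hw : w = 1 ∨ w = t ∨ w = e ∨ w = t * e) : w * w = 1 := by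
  rcases hw with rfl | rfl | rfl | rfl
  · simp
  · exact h.tt
  · exact h.ee
  · calc t * e * (t * e) = t * (e * t) * e := by group
      _ = t * (t * e) * e := by rw [h.e_cen t]
      _ = (t * t) * (e * e) := by group
      _ = 1 := by rw [h.tt, h.ee, one_mul]

theorem cen_two {w : H} (hw : w = 1 ∨ w = t ∨ w = e ∨ w = t * e) : ∃ k : ℕ, w ^ 2 ^ k = 1 :=
  ⟨1, by rw [pow_one, pow_two]; exact h.cen_sq hw⟩

theorem cen_comm {w : H} (hw : w = 1 ∨ w = t ∨ w = e ∨ w = t * e) (x : H) : w * x = x * w := by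
  have := h.conj_cen (g := x) hw
  exact (mul_inv_eq_iff_eq_mul.1 this).symm

theorem root' {x : H} (hx : x ∈ P) (hxx : x * x = t) :
    ∃ w, (w = 1 ∨ w = t ∨ w = e ∨ w = t * e) ∧ x = r * w := by
  rcases h.root x hx hxx with h1 | h1 | h1 | h1
  · exact ⟨1, Or.inl rfl, by rw [h1, mul_one]⟩
  · exact ⟨t, Or.inr (Or.inl rfl), h1⟩
  · exact ⟨e, Or.inr (Or.inr (Or.inl rfl)), h1⟩
  · exact ⟨t * e, Or.inr (Or.inr (Or.inr rfl)), h1⟩

theorem conj_sq (g : H) : (g * r * g⁻¹) * (g * r * g⁻¹) = t := by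
  calc (g * r * g⁻¹) * (g * r * g⁻¹) = g * (r * r) * g⁻¹ := by group
    _ = t := by rw [h.rr, ← h.t_cen, mul_inv_cancel_right]

/-- commutation with `r` of an odd-order element normalising `X ∋ r` -/
theorem comm_r {X : Subgroup H} (hX : X ≤ P) (hrX : r ∈ X) {g : H} (hg : g ∈ normalizer (X : Set H))
    (ho : Odd (orderOf g)) : g * r * g⁻¹ = r := by
  have h1 : g * r * g⁻¹ ∈ P := hX ((mem_normalizer_iff.1 hg r).1 hrX)
  obtain ⟨w, hw, h2⟩ := h.root' h1 (h.conj_sq g)
  have h3 := eq_one_of_shift ho h2 (h.conj_cen hw) (h.cen_two hw)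
  rw [h2, h3, mul_one]

/-- an odd-order element normalising `X ∋ r` centralises `C_X(r)` -/
theorem comm_B {X : Subgroup H} (hX : X ≤ P) (hrX : r ∈ X) {g : H} (hg : g ∈ normalizer (X : Set H))
    (ho : Odd (orderOf g)) : ∀ n : ℕ, ∀ b ∈ X, b * r = r * b → b ^ 2 ^ n = 1 → g * b * g⁻¹ = b := by
  have hgr := h.comm_r hX hrX hg ho
  intro n
  induction n with
  | zero =>
    intro b _ _ hb
    rw [pow_zero, pow_one] at hb
    rw [hb]; simp
  | succ n ih =>
    intro b hbX hbr hb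
    have hb2 : g * (b * b) * g⁻¹ = b * b := by
      refine ih (b * b) (mul_mem hbX hbX) ?_ ?_
      · rw [mul_assoc, hbr, ← mul_assoc, hbr, mul_assoc]
      · rw [← pow_two, ← pow_mul, ← pow_succ', hb]
    have h1X : g * b * g⁻¹ ∈ X := (mem_normalizer_iff.1 hg b).1 hbX
    have h1r : g * b * g⁻¹ * r = r * (g * b * g⁻¹) := by
      calc g * b * g⁻¹ * r = g * b * g⁻¹ * (g * r * g⁻¹) := by rw [hgr]
        _ = g * (b * r) * g⁻¹ := by group
        _ = g * (r * b) * g⁻¹ := by rw [hbr]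
        _ = (g * r * g⁻¹) * (g * b * g⁻¹) := by group
        _ = r * (g * b * g⁻¹) := by rw [hgr]
    have hc := h.abel b (hX hbX) hbr _ (hX h1X) h1r
    set w := b⁻¹ * (g * b * g⁻¹) with hw
    have hwX : w ∈ P := hX (mul_mem (inv_mem hbX) h1X)
    have hbr' : b⁻¹ * r = r * b⁻¹ := by
      rw [inv_mul_eq_iff_eq_mul, ← mul_assoc, hbr, mul_inv_cancel_right]
    have hwr : w * r = r * w := by
      rw [hw, mul_assoc, h1r, ← mul_assoc, hbr', mul_assoc]
    have hww : w * w = 1 := by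
      have e1 : w * w = b⁻¹ * (b⁻¹ * (g * b * g⁻¹)) * (g * b * g⁻¹) := by
        have hc' : b⁻¹ * (g * b * g⁻¹) = (g * b * g⁻¹) * b⁻¹ := by
          rw [inv_mul_eq_iff_eq_mul, ← mul_assoc, hc, mul_inv_cancel_right]
        calc w * w = b⁻¹ * ((g * b * g⁻¹) * b⁻¹) * (g * b * g⁻¹) := by rw [hw]; group
          _ = b⁻¹ * (b⁻¹ * (g * b * g⁻¹)) * (g * b * g⁻¹) := by rw [← hc']
      have e2 : b⁻¹ * (b⁻¹ * (g * b * g⁻¹)) * (g * b * g⁻¹) = (b * b)⁻¹ * (g * (b * b) * g⁻¹) := by group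
      rw [e1, e2, hb2, inv_mul_cancel]
    have hwc := h.inv w hwX hwr hww
    have h2 : g * b * g⁻¹ = b * w := by rw [hw]; group
    have h3 := eq_one_of_shift ho h2 (h.conj_cen hwc) (h.cen_two hwc)
    rw [h2, h3, mul_one]

/-- an odd-order element normalising `X ∋ r` centralises `X` -/
theorem comm_X (hP : IsPGroup 2 P) {X : Subgroup H} (hX : X ≤ P) (hrX : r ∈ X) {g : H} (hg : g ∈ normalizer (X : Set H))
    (ho : Odd (orderOf g)) {x : H} (hx : x ∈ X) : g * x * g⁻¹ = x := by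
  have hgr := h.comm_r hX hrX hg ho
  have h1X : g * x * g⁻¹ ∈ X := (mem_normalizer_iff.1 hg x).1 hx
  have hxr : x * r * x⁻¹ ∈ P := hX (mul_mem (mul_mem hx hrX) (inv_mem hx))
  obtain ⟨w, hw, h2⟩ := h.root' hxr (h.conj_sq x)
  have h3 : (g * x * g⁻¹) * r * (g * x * g⁻¹)⁻¹ = r * w := by
    have hgr' : g⁻¹ * r * g = r := by
      nth_rw 1 [← hgr]; group
    calc (g * x * g⁻¹) * r * (g * x * g⁻¹)⁻¹ = g * (x * (g⁻¹ * r * g) * x⁻¹) * g⁻¹ := by group
      _ = g * (r * w) * g⁻¹ := by rw [hgr', h2]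
      _ = (g * r * g⁻¹) * (g * w * g⁻¹) := by group
      _ = r * w := by rw [hgr, h.conj_cen hw]
  set c := x⁻¹ * (g * x * g⁻¹) with hc
  have hcX : c ∈ X := mul_mem (inv_mem hx) h1X
  have hcr : c * r = r * c := by
    have e1 : c * r * c⁻¹ = r := by
      calc c * r * c⁻¹ = x⁻¹ * ((g * x * g⁻¹) * r * (g * x * g⁻¹)⁻¹) * x := by rw [hc]; group
        _ = x⁻¹ * (x * r * x⁻¹) * x := by rw [h3, h2]
        _ = r := by group
    exact mul_inv_eq_iff_eq_mul.1 e1
  obtain ⟨k, hk⟩ := hP ⟨c, hX hcX⟩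
  have hck : c ^ 2 ^ k = 1 := by
    have := congrArg Subtype.val hk
    simpa using this
  have h4 := h.comm_B hX hrX hg ho k c hcX hcr hck
  have h5 : g * x * g⁻¹ = x * c := by rw [hc]; group
  have h6 := eq_one_of_shift ho h5 h4 ⟨k, hck⟩
  rw [h5, h6, mul_one]

end Cfg

variable [Finite H] {t e r : H}

/-- `r` lies in every essential subgroup. -/
theorem r_mem {P : Sylow 2 H} (h : Cfg (P : Subgroup H) t e r) {X : Subgroup H}
    (hX : Cfsg.Agent.Lib.EssDefs.Ess 2 (P : Subgroup H) X) : r ∈ X := by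
  obtain ⟨M, hM⟩ := hX
  have hXP : X ≤ (P : Subgroup H) := hM.lt.le
  have hcen : ∀ w, (w = 1 ∨ w = t ∨ w = e ∨ w = t * e) → w ∈ X := by
    intro w hw
    refine hM.cent (mem_inf.2 ⟨?_, ?_⟩)
    · rw [mem_centralizer_iff]
      intro x _
      exact (h.cen_comm hw x).symm
    · rcases hw with rfl | rfl | rfl | rfl
      · exact one_mem _
      · exact h.tP
      · exact h.eP
      · exact mul_mem h.tP h.eP
  let Z : Subgroup H :=
    { carrier := {w | w = 1 ∨ w = t ∨ w = e ∨ w = t * e}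
      one_mem' := Or.inl rfl
      mul_mem' := by
        rintro a b ha hb
        have te : e * t = t * e := h.e_cen t
        have tt := h.tt
        have ee := h.ee
        have tte : t * (t * e) = e := by rw [← mul_assoc, tt, one_mul]
        have ete : e * (t * e) = t := by rw [← mul_assoc, te, mul_assoc, ee, mul_one]
        have tet : t * e * t = e := by rw [mul_assoc, te, tte]
        have tee : t * e * e = t := by rw [mul_assoc, ee, mul_one]
        have tete : t * e * (t * e) = 1 := h.cen_sq (Or.inr (Or.inr (Or.inr rfl)))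
        rcases ha with rfl | rfl | rfl | rfl <;> rcases hb with rfl | rfl | rfl | rfl <;>
          simp [te, tt, ee, tte, ete, tet, tee, tete]
      inv_mem' := by
        rintro a ha
        have : a⁻¹ = a := inv_eq_of_mul_eq_one_left (h.cen_sq ha)
        change a⁻¹ = 1 ∨ a⁻¹ = t ∨ a⁻¹ = e ∨ a⁻¹ = t * e
        rw [this]
        exact ha }
  have hZmem : ∀ w, w ∈ Z ↔ (w = 1 ∨ w = t ∨ w = e ∨ w = t * e) := fun w => Iff.rfl
  have hrx : ∀ x ∈ (P : Subgroup H), r * x * r⁻¹ * x⁻¹ ∈ Z := by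
    intro x hx
    have h1 : x * r⁻¹ * x⁻¹ ∈ (P : Subgroup H) := mul_mem (mul_mem hx (inv_mem h.rP)) (inv_mem hx)
    have h2 : x * r * x⁻¹ ∈ (P : Subgroup H) := mul_mem (mul_mem hx h.rP) (inv_mem hx)
    obtain ⟨w, hw, h3⟩ := h.root' h2 (h.conj_sq x)
    have h4 : r * x * r⁻¹ * x⁻¹ = w⁻¹ := by
      have e1 : r * x * r⁻¹ * x⁻¹ = r * (x * r * x⁻¹)⁻¹ := by group
      rw [e1, h3, mul_inv_rev, ← mul_assoc]
      have h5 : r * w⁻¹ = w⁻¹ * r := by
        have h6 : w⁻¹ = w := inv_eq_of_mul_eq_one_left (h.cen_sq hw)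
        rw [h6, h.cen_comm hw]
      rw [h5, mul_inv_cancel_right]
    rw [h4]
    exact Z.inv_mem ((hZmem w).2 hw)
  have hrN : r ∈ normalizer (X : Set H) := by
    rw [mem_normalizer_iff]
    intro x
    constructor
    · intro hx
      have h1 := hcen _ ((hZmem _).1 (hrx x (hXP hx)))
      have h2 : r * x * r⁻¹ = (r * x * r⁻¹ * x⁻¹) * x := by group
      rw [h2]
      exact mul_mem h1 hx
    · intro hx
      have hxP : x ∈ (P : Subgroup H) := by
        have h1 : x = r⁻¹ * (r * x * r⁻¹) * r := by group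
        rw [h1]
        exact mul_mem (mul_mem (inv_mem h.rP) (hXP hx)) h.rP
      have h1 := hcen _ ((hZmem _).1 (hrx x hxP))
      have h2 : x = (r * x * r⁻¹ * x⁻¹)⁻¹ * (r * x * r⁻¹) := by group
      rw [h2]
      exact mul_mem (inv_mem h1) hx
  refine mem_of_stab ⟨M, hM⟩ (x := r) ?_ h.rP hrN
  refine Stab.step (B := Z) (fun w hw => hcen w ((hZmem w).1 hw)) le_rfl (fun x hx => hrx x (hXP hx)) ?_
  refine Stab.step (B := ⊥) bot_le ?_ ?_ Stab.bot
  · intro g _
    rw [mem_normalizer_iff]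
    intro w
    constructor
    · intro hw
      rw [h.conj_cen ((hZmem w).1 hw)]
      exact hw
    · intro hw
      have h1 : w = g⁻¹ * (g * w * g⁻¹) * g⁻¹⁻¹ := by group
      rw [h1, h.conj_cen ((hZmem _).1 hw)]
      exact hw
  · intro w hw
    rw [mem_bot]
    have := h.conj_cen (g := r) ((hZmem w).1 hw)
    rw [this, mul_inv_cancel]

/-- The criterion. -/
theorem hasNormalPComplement {P : Sylow 2 H} (h : Cfg (P : Subgroup H) t e r) : Cfsg.HasNormalPComplement 2 H := by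
  have hodd : ∀ n : ℕ, Nat.Coprime n 2 → Odd n := fun n hn => Nat.coprime_two_right.1 hn
  -- an odd-order element of `N(X)` centralises `X`, when `r ∈ X`
  have key : ∀ X : Subgroup H, X ≤ (P : Subgroup H) → r ∈ X → ∀ g ∈ normalizer (X : Set H), Nat.Coprime (orderOf g) 2 →
      g ∈ centralizer (X : Set H) := by
    intro X hX hrX g hg ho
    rw [mem_centralizer_iff]
    intro x hx
    have := h.comm_X P.isPGroup' hX hrX hg (hodd _ ho) hx
    exact (mul_inv_eq_iff_eq_mul.1 this).symm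
  have noEss : ∀ X : Subgroup H, ¬ Cfsg.Agent.Lib.EssDefs.Ess 2 (P : Subgroup H) X := by
    intro X hX
    have hrX := r_mem h hX
    obtain ⟨M, hM⟩ := hX
    apply hM.ne
    refine le_antisymm hM.le ?_
    intro n hn
    obtain ⟨s, hs, c, hc, rfl⟩ := exists_mul_of_pGroup_automizer P hM.not_dvd (key X hM.lt.le hrX) hn
    exact mul_mem (hM.inf_le hs) (hM.sup_le (mem_sup_right hc))
  have hPi : ¬ 2 ∣ ((P : Subgroup H) ⊓ normalizer ((P : Subgroup H) : Set H)).relIndex
      (normalizer ((P : Subgroup H) : Set H)) := by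
    rw [inf_eq_left.2 le_normalizer]
    intro hd
    exact P.not_dvd_index (hd.trans (relIndex_dvd_index_of_le le_normalizer))
  refine Cfsg.Agent.Transfer.FrobeniusFusion.hasNormalPComplement_of_controls_fusion P ?_
  rintro x hx y hy ⟨g, rfl⟩
  have hgen : Gen (P : Subgroup H) (fun X => X = (P : Subgroup H)) (zpowers x) g :=
    Cfsg.Agent.Lib.EssBridge.gen_of_conj P (fun X => X = (P : Subgroup H)) rfl
      (fun X hX => absurd hX (noEss X)) (zpowers_le.2 hx) (zpowers_map_conj_le hy)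
  obtain ⟨n, hn, c, hc, rfl⟩ := hgen.exists_mul (M := normalizer ((P : Subgroup H) : Set H))
    (fun X _ hX => by rw [hX])
  obtain ⟨s, hs, d, hd, rfl⟩ := exists_mul_of_pGroup_automizer P hPi (key _ le_rfl h.rP) hn
  refine ⟨s, hs.1, ?_⟩
  have h1 : c * x * c⁻¹ = x := conj_eq_of_mem_centralizer hc (mem_zpowers x)
  have h2 : d * x * d⁻¹ = x := conj_eq_of_mem_centralizer hd hx
  calc s * x * s⁻¹ = s * (d * (c * x * c⁻¹) * d⁻¹) * s⁻¹ := by rw [h1, h2]
    _ = s * d * c * x * (s * d * c)⁻¹ := by group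

end Cfsg.Agent.SylowSp4.CentUNil
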