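import Mathlib
import Cfsg.Agent.SylowSp4.CentUNil
import Cfsg.Agent.Walter.OddCoreIn
import Cfsg.Prelude.Def_TwoFusion

/-!
# The centralizer of an involution of `u`-type: local structure and strong closure

Abstract form: `Y = C(e)` with Sylow 2-subgroup `P ≥ DE × Dc`, `t` an involution of `Z(P)`, `T` the property of being
conjugate to `t` in the big group.
-/

set_option autoImplicit false

namespace Cfsg.Agent.SylowSp4.CentULoc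

open Subgroup Cfsg.Agent.Lib.GoldschmidtFusion Cfsg.Agent.SylowSp4.CentUNil

/-- The local configuration in `Y = C(e)`. -/
structure Loc {Y : Type*} [Group Y] (P DE Dc : Subgroup Y) (t e r : Y) (T : Y → Prop) : Prop where
  ee : e * e = 1
  e_cen : ∀ x, e * x = x * e
  tt : t * t = 1
  t_comm : ∀ x ∈ P, t * x = x * t
  tP : t ∈ P
  rP : r ∈ P
  rr : r * r = t
  root : ∀ x ∈ P, x * x = t → x = r ∨ x = r * t ∨ x = r * e ∨ x = r * (t * e)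
  abel : ∀ x ∈ P, x * r = r * x → ∀ y ∈ P, y * r = r * y → x * y = y * x
  inv : ∀ x ∈ P, x * r = r * x → x * x = 1 → x = 1 ∨ x = t ∨ x = e ∨ x = t * e
  te_mem : t * e ∈ DE
  te_ne : t * e ≠ 1
  e_mem : e ∈ Dc
  DE_le : DE ≤ P
  Dc_le : Dc ≤ P
  comm : ∀ a ∈ DE, ∀ b ∈ Dc, a * b = b * a
  disj : ∀ a ∈ DE, a ∈ Dc → a = 1
  normE : ∀ x ∈ P, ∀ a ∈ DE, x * a * x⁻¹ ∈ DE
  normc : ∀ x ∈ P, ∀ a ∈ Dc, x * a * x⁻¹ ∈ Dc
  T_conj : ∀ g y, T y → T (g * y * g⁻¹)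
  cIII : ∀ d ∈ P, d * d = 1 → ¬ T d → T (d * e) → d ∈ DE
  dIII : ∀ d ∈ DE, d * d = 1 → d ≠ 1 → ¬ T d ∧ T (d * e)
  cI : ∀ w ∈ P, w * w = 1 → T w → T (w * e) → w ∈ Dc
  dI : ∀ w ∈ Dc, w * w = 1 → w ≠ 1 → w ≠ e → T w ∧ T (w * e)
  E_pow : ∀ a ∈ DE, a * a ≠ 1 → ∃ m : ℕ, a ^ m * a ^ m = t * e
  E_sq : ∀ a ∈ DE, (a * a) * (a * a) = 1 → a * a = 1 ∨ a * a = t * e
  E_refl : ∀ a ∈ DE, ∀ d ∈ DE, a * a ≠ 1 → d * d = 1 → d ≠ 1 → d ≠ t * e → (a * d) * (a * d) = 1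
  E_cent : ∀ d ∈ DE, d * d = 1 → d ≠ 1 → d ≠ t * e → ∀ x ∈ P, x * d = d * x →
    ∃ v, (v = 1 ∨ v = d ∨ v = t * e ∨ v = d * (t * e)) ∧ ∃ c ∈ Dc, x = v * c
  c_gen : ∀ a ∈ Dc, ∃ w₁ ∈ Dc, ∃ w₂ ∈ Dc, (w₁ * w₁ = 1 ∧ w₁ ≠ 1 ∧ w₁ ≠ e) ∧ (w₂ * w₂ = 1 ∧ w₂ ≠ 1 ∧ w₂ ≠ e) ∧
    (a = w₁ * w₂ ∨ a = w₁)
  c_comm : ∀ a ∈ Dc, a * a ≠ 1 → ∀ b ∈ Dc, b * b ≠ 1 → a * b = b * a
  c_inv : ∀ a ∈ Dc, a * a ≠ 1 → ∀ w ∈ Dc, w * w = 1 → w * a = a * w → w = 1 ∨ w = e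
  c_prod : ∀ w₁ ∈ Dc, ∀ w₂ ∈ Dc, (w₁ * w₁ = 1 ∧ w₁ ≠ 1 ∧ w₁ ≠ e) → (w₂ * w₂ = 1 ∧ w₂ ≠ 1 ∧ w₂ ≠ e) →
    w₁ * w₂ = 1 ∨ w₁ * w₂ = e ∨ (w₁ * w₂) * (w₁ * w₂) ≠ 1

theorem odd_of_coprime {n : ℕ} (h : Nat.Coprime n 2) : Odd n := Nat.coprime_two_right.1 h

/-- an element of 2-power order in a subgroup of odd order -/
theorem eq_one_of_mem_odd {G : Type*} [Group G] [Finite G] {K X : Subgroup G} (hK : ¬ 2 ∣ Nat.card K) (hX : IsPGroup 2 X)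
    {x : G} (h1 : x ∈ K) (h2 : x ∈ X) : x = 1 := by
  obtain ⟨k, hk⟩ := hX ⟨x, h2⟩
  have hk' : x ^ 2 ^ k = 1 := by simpa using congrArg Subtype.val hk
  have h3 : orderOf x ∣ 2 ^ k := orderOf_dvd_of_pow_eq_one hk'
  have h4 : orderOf x ∣ Nat.card K := by
    have := orderOf_dvd_natCard (⟨x, h1⟩ : K)
    rwa [orderOf_mk] at this
  obtain ⟨j, -, hj⟩ := (Nat.dvd_prime_pow Nat.prime_two).1 h3
  rcases Nat.eq_zero_or_pos j with rfl | hj0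
  · rw [← orderOf_eq_one_iff, hj, pow_zero]
  · exfalso
    apply hK
    refine dvd_trans ?_ h4
    rw [hj]
    exact dvd_pow_self 2 hj0.ne'

namespace Loc

variable {Y : Type*} [Group Y] {P DE Dc : Subgroup Y} {t e r : Y} {T : Y → Prop} (h : Loc P DE Dc t e r T)

include h

theorem eP : e ∈ P := h.Dc_le h.e_mem

theorem te_comm {x : Y} (hx : x ∈ P) : (t * e) * x = x * (t * e) := by
  rw [mul_assoc, h.e_cen, ← mul_assoc, h.t_comm x hx, mul_assoc]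

theorem te_te : (t * e) * (t * e) = 1 := by
  calc (t * e) * (t * e) = t * (e * t) * e := by group
    _ = t * (t * e) * e := by rw [h.e_cen t]
    _ = (t * t) * (e * e) := by group
    _ = 1 := by rw [h.tt, h.ee, one_mul]

/-- commuting with `t e` is commuting with `t` -/
theorem comm_te_iff {y : Y} : y * (t * e) = (t * e) * y ↔ y * t = t * y := by
  constructor
  · intro h1
    have h2 : y * t * e = t * y * e := by
      rw [mul_assoc, h1, mul_assoc, h.e_cen, ← mul_assoc]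
    exact mul_right_cancel h2
  · intro h1
    rw [← mul_assoc, h1, mul_assoc, mul_assoc, h.e_cen]

theorem conj_e (g : Y) : g * e * g⁻¹ = e := by rw [← h.e_cen, mul_inv_cancel_right]

theorem conj_mul_e (g y : Y) : g * (y * e) * g⁻¹ = (g * y * g⁻¹) * e := by
  calc g * (y * e) * g⁻¹ = (g * y * g⁻¹) * (g * e * g⁻¹) := by group
    _ = (g * y * g⁻¹) * e := by rw [h.conj_e]

theorem T_conj_iff (g y : Y) : T (g * y * g⁻¹) ↔ T y := by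
  constructor
  · intro h1
    have := h.T_conj g⁻¹ _ h1
    have e1 : g⁻¹ * (g * y * g⁻¹) * g⁻¹⁻¹ = y := by group
    rwa [e1] at this
  · exact h.T_conj g y

/-- transfer of the class III property -/
theorem conj_III {g d : Y} (hd : d ∈ DE) (hdd : d * d = 1) (hd1 : d ≠ 1) (hg : g * d * g⁻¹ ∈ P) :
    g * d * g⁻¹ ∈ DE := by
  obtain ⟨h1, h2⟩ := h.dIII d hd hdd hd1
  refine h.cIII _ hg ?_ ?_ ?_
  · calc g * d * g⁻¹ * (g * d * g⁻¹) = g * (d * d) * g⁻¹ := by group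
      _ = 1 := by rw [hdd]; group
  · rwa [h.T_conj_iff]
  · rw [← h.conj_mul_e, h.T_conj_iff]; exact h2

theorem conj_I {g w : Y} (hw : w ∈ Dc) (hww : w * w = 1) (hw1 : w ≠ 1) (hwe : w ≠ e) (hg : g * w * g⁻¹ ∈ P) :
    g * w * g⁻¹ ∈ Dc := by
  obtain ⟨h1, h2⟩ := h.dI w hw hww hw1 hwe
  refine h.cI _ hg ?_ ?_ ?_
  · calc g * w * g⁻¹ * (g * w * g⁻¹) = g * (w * w) * g⁻¹ := by group
      _ = 1 := by rw [hww]; group
  · rwa [h.T_conj_iff]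
  · rw [← h.conj_mul_e, h.T_conj_iff]; exact h2

/-- an element conjugating (the generators of) `Dc` into `P` normalises `Dc` -/
theorem conj_Dc {g : Y} (hg : ∀ a ∈ Dc, g * a * g⁻¹ ∈ P) {a : Y} (ha : a ∈ Dc) : g * a * g⁻¹ ∈ Dc := by
  obtain ⟨w₁, hw₁, w₂, hw₂, ⟨a1, a2, a3⟩, ⟨b1, b2, b3⟩, h1⟩ := h.c_gen a ha
  have h2 := h.conj_I hw₁ a1 a2 a3 (hg _ hw₁)
  have h3 := h.conj_I hw₂ b1 b2 b3 (hg _ hw₂)
  rcases h1 with rfl | rfl
  · have e1 : g * (w₁ * w₂) * g⁻¹ = (g * w₁ * g⁻¹) * (g * w₂ * g⁻¹) := by group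
    rw [e1]
    exact mul_mem h2 h3
  · exact h2

end Loc

/-- The 2-nilpotent structure of `C_Y(t)`. -/
structure Nil {Y : Type*} [Group Y] (P K : Subgroup Y) (t : Y) : Prop where
  le : ∀ k ∈ K, k * t = t * k
  odd : ¬ 2 ∣ Nat.card K
  norm : ∀ h : Y, h * t = t * h → ∀ k ∈ K, h * k * h⁻¹ ∈ K
  gen : ∀ h : Y, h * t = t * h → ∃ k ∈ K, ∃ p ∈ P, h = k * p
  mem : ∀ h : Y, h * t = t * h → Odd (orderOf h) → h ∈ K

theorem Loc.exists_nil {Y : Type*} [Group Y] [Finite Y] {P : Sylow 2 Y} {DE Dc : Subgroup Y} {t e r : Y} {T : Y → Prop}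
    (h : Loc (P : Subgroup Y) DE Dc t e r T) : ∃ K : Subgroup Y, Nil (P : Subgroup Y) K t := by
  set H := centralizer ({t} : Set Y) with hH
  have hmem : ∀ x : Y, x ∈ H ↔ x * t = t * x := fun x => mem_centralizer_singleton_iff
  have hPH : (P : Subgroup Y) ≤ H := fun x hx => (hmem x).2 (h.t_comm x hx).symm
  let P' : Sylow 2 H := P.subtype hPH
  have hP' : ∀ x : H, x ∈ (P' : Subgroup H) ↔ (x : Y) ∈ (P : Subgroup Y) := fun x => by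
    rw [Sylow.coe_subtype, mem_subgroupOf]
  have htH : t ∈ H := (hmem t).2 rfl
  have heH : e ∈ H := (hmem e).2 (h.e_cen t)
  have hrH : r ∈ H := hPH h.rP
  have hc : Cfg (P' : Subgroup H) (⟨t, htH⟩ : H) ⟨e, heH⟩ ⟨r, hrH⟩ := by
    refine ⟨?_, ?_, ?_, ?_, ?_, ?_, ?_, ?_, ?_, ?_, ?_⟩
    · exact Subtype.ext h.tt
    · exact Subtype.ext h.ee
    · intro x; exact Subtype.ext ((hmem _).1 x.2).symm
    · intro x; exact Subtype.ext (h.e_cen x)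
    · exact (hP' _).2 h.tP
    · exact (hP' _).2 h.eP
    · exact (hP' _).2 h.rP
    · exact Subtype.ext h.rr
    · intro x hx hxx
      rcases h.root x ((hP' x).1 hx) (congrArg Subtype.val hxx) with h1 | h1 | h1 | h1
      · exact Or.inl (Subtype.ext h1)
      · exact Or.inr (Or.inl (Subtype.ext h1))
      · exact Or.inr (Or.inr (Or.inl (Subtype.ext h1)))
      · exact Or.inr (Or.inr (Or.inr (Subtype.ext h1)))
    · intro x hx hxr y hy hyr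
      exact Subtype.ext (h.abel x ((hP' x).1 hx) (congrArg Subtype.val hxr) y ((hP' y).1 hy)
        (congrArg Subtype.val hyr))
    · intro x hx hxr hxx
      rcases h.inv x ((hP' x).1 hx) (congrArg Subtype.val hxr) (congrArg Subtype.val hxx) with h1 | h1 | h1 | h1
      · exact Or.inl (Subtype.ext h1)
      · exact Or.inr (Or.inl (Subtype.ext h1))
      · exact Or.inr (Or.inr (Or.inl (Subtype.ext h1)))
      · exact Or.inr (Or.inr (Or.inr (Subtype.ext h1)))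
  obtain ⟨N, hN, hcomp⟩ := Cfsg.Agent.Transfer.NormalPComplement.exists_of_sylow (hasNormalPComplement hc) P'
  have hcop := Cfsg.Agent.Transfer.NormalPComplement.coprime_of_isComplement' P' hcomp
  refine ⟨N.map H.subtype, ?_, ?_, ?_, ?_, ?_⟩
  · rintro _ ⟨k, -, rfl⟩
    exact (hmem _).1 k.2
  · rw [Subgroup.card_map_of_injective (Subgroup.subtype_injective _)]
    intro hd
    have := Nat.Coprime.eq_one_of_dvd hcop.symm hd
    omega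
  · rintro x hx _ ⟨k, hk, rfl⟩
    exact ⟨⟨x, (hmem x).2 hx⟩ * k * ⟨x, (hmem x).2 hx⟩⁻¹, hN.conj_mem k hk _, rfl⟩
  · intro x hx
    have h1 : (⟨x, (hmem x).2 hx⟩ : H) ∈ (⊤ : Subgroup H) := mem_top _
    obtain ⟨⟨⟨n, hn⟩, ⟨p, hp⟩⟩, hnp⟩ := hcomp.2 ⟨x, (hmem x).2 hx⟩
    exact ⟨n, ⟨n, hn, rfl⟩, p, (hP' p).1 hp, (congrArg Subtype.val hnp).symm⟩
  · intro x hx ho
    have h1 := (Cfsg.Agent.Transfer.NormalPComplement.mem_iff_coprime_orderOf P' N hcomp ⟨x, (hmem x).2 hx⟩).2 (by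
      rw [Subgroup.orderOf_mk]; exact Nat.coprime_two_right.2 ho)
    exact ⟨_, h1, rfl⟩

end Cfsg.Agent.SylowSp4.CentULoc
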