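import Mathlib
import Cfsg.Agent.SylowSp4.CentULoc
import Cfsg.Agent.SylowG2.Closed

/-!
# `DE` and `Dc` are strongly closed in the Sylow 2-subgroup of `C(e)`
-/

set_option autoImplicit false

namespace Cfsg.Agent.SylowSp4.CentUClosed

open Subgroup Cfsg.Agent.Lib.GoldschmidtFusion Cfsg.Agent.SylowSp4.CentUNil Cfsg.Agent.SylowSp4.CentULoc

variable {Y : Type*} [Group Y] [Finite Y] {P : Sylow 2 Y} {DE Dc : Subgroup Y} {t e r : Y} {T : Y → Prop}

/-- index of a 2-subgroup in the product with a subgroup of odd order -/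
theorem not_dvd_relIndex {K Q C : Subgroup Y} (hK : ¬ 2 ∣ Nat.card K) (hQK : Q ≤ normalizer (K : Set Y))
    (hQC : Q ≤ C) (hC : ∀ x ∈ C, ∃ k ∈ K, ∃ q ∈ Q, x = k * q) : ¬ 2 ∣ Q.relIndex C := by
  intro hd
  apply hK
  have h1 : C ≤ Q ⊔ K := by
    intro x hx
    obtain ⟨k, hk, q, hq, rfl⟩ := hC x hx
    exact mul_mem (mem_sup_right hk) (mem_sup_left hq)
  have h2 := Cfsg.Agent.Walter.OddCoreIn.card_sup_dvd hQK
  have h3 : Nat.card Q * Q.relIndex (Q ⊔ K) = Nat.card (Q ⊔ K : Subgroup Y) := by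
    have := card_mul_index (Q.subgroupOf (Q ⊔ K))
    rwa [Nat.card_congr (subgroupOfEquivOfLe (le_sup_left : Q ≤ Q ⊔ K)).toEquiv] at this
  rw [← h3] at h2
  have h4 : Q.relIndex (Q ⊔ K) ∣ Nat.card K := Nat.dvd_of_mul_dvd_mul_left Nat.card_pos h2
  have h5 : Q.relIndex C ∣ Q.relIndex (Q ⊔ K) := by
    have := relIndex_mul_relIndex Q C (Q ⊔ K) hQC h1
    exact ⟨_, this.symm⟩
  exact (hd.trans h5).trans h4

/-- an element of odd order normalising a centric `X ≤ P` preserves `X ∩ DE` and `X ∩ Dc` -/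
theorem step (h : Loc (P : Subgroup Y) DE Dc t e r T) {K : Subgroup Y} (n : Nil (P : Subgroup Y) K t)
    {X : Subgroup Y} (hX : X ≤ (P : Subgroup Y)) (hcent : centralizer (X : Set Y) ⊓ (P : Subgroup Y) ≤ X) {g : Y}
    (hg : g ∈ normalizer (X : Set Y)) (ho : Odd (orderOf g)) :
    (∀ a ∈ X, a ∈ DE → g * a * g⁻¹ ∈ DE) ∧ (∀ a ∈ X, a ∈ Dc → g * a * g⁻¹ ∈ Dc) := by
  have hgX : ∀ a ∈ X, g * a * g⁻¹ ∈ X := fun a ha => (mem_normalizer_iff.1 hg a).1 ha
  have hXt : ∀ x ∈ X, x * t = t * x := fun x hx => (h.t_comm x (hX hx)).symm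
  have hteP : t * e ∈ (P : Subgroup Y) := mul_mem h.tP h.eP
  have hteX : t * e ∈ X := by
    refine hcent (mem_inf.2 ⟨?_, hteP⟩)
    rw [mem_centralizer_iff]
    intro x hx
    exact (h.te_comm (hX hx)).symm
  -- an element of `K ∩ P` is trivial
  have hKP : ∀ x ∈ K, x ∈ (P : Subgroup Y) → x = 1 := fun x h1 h2 => eq_one_of_mem_odd n.odd P.isPGroup' h1 h2
  by_cases hgt : g * t = t * g
  · have hgK : g ∈ K := n.mem g hgt ho
    have key : ∀ x ∈ X, g * x * g⁻¹ = x := by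
      intro x hx
      have h1 : g * x * g⁻¹ * x⁻¹ ∈ K := by
        have e1 : g * x * g⁻¹ * x⁻¹ = g * (x * g⁻¹ * x⁻¹) := by group
        rw [e1]
        exact mul_mem hgK (n.norm x (hXt x hx) _ (inv_mem hgK))
      have h2 : g * x * g⁻¹ * x⁻¹ ∈ (P : Subgroup Y) := hX (mul_mem (hgX x hx) (inv_mem hx))
      exact mul_inv_eq_one.1 (hKP _ h1 h2)
    exact ⟨fun a ha hE => by rw [key a ha]; exact hE, fun a ha hc => by rw [key a ha]; exact hc⟩
  set d := g * (t * e) * g⁻¹ with hd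
  have hdX : d ∈ X := hgX _ hteX
  have hdE : d ∈ DE := h.conj_III h.te_mem h.te_te h.te_ne (hX hdX)
  have hdd : d * d = 1 := by
    calc d * d = g * ((t * e) * (t * e)) * g⁻¹ := by rw [hd]; group
      _ = 1 := by rw [h.te_te]; group
  have hd1 : d ≠ 1 := by
    intro h1
    apply h.te_ne
    have : t * e = g⁻¹ * d * g := by rw [hd]; group
    rw [this, h1]; group
  have hdte : d ≠ t * e := by
    intro h1
    apply hgt
    rw [← h.comm_te_iff]
    exact mul_inv_eq_iff_eq_mul.1 (hd ▸ h1)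
  -- `X ∩ DE` is elementary abelian
  have hel : ∀ a ∈ X, a ∈ DE → a * a = 1 := by
    intro a haX haE
    by_contra haa
    obtain ⟨m, hm⟩ := h.E_pow a haE haa
    set b := a ^ m with hb
    have hbX : b ∈ X := pow_mem haX m
    have hbE : b ∈ DE := pow_mem haE m
    have hbb : b * b ≠ 1 := by rw [hm]; exact h.te_ne
    have hbd := h.E_refl b hbE d hdE hbb hdd hd1 hdte
    have hbd1 : b * d ≠ 1 := by
      intro h1
      apply hbb
      rw [eq_inv_of_mul_eq_one_left h1, inv_eq_of_mul_eq_one_left hdd, hdd]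
    have h1 : g * (b * d) * g⁻¹ ∈ DE := h.conj_III (mul_mem hbE hdE) hbd hbd1 (hX (hgX _ (mul_mem hbX hdX)))
    have h2 : g * d * g⁻¹ ∈ DE := h.conj_III hdE hdd hd1 (hX (hgX _ hdX))
    have h3 : g * b * g⁻¹ ∈ DE := by
      have e1 : g * b * g⁻¹ = (g * (b * d) * g⁻¹) * (g * d * g⁻¹)⁻¹ := by group
      rw [e1]
      exact mul_mem h1 (inv_mem h2)
    have h4 : (g * b * g⁻¹) * (g * b * g⁻¹) = d := by
      calc (g * b * g⁻¹) * (g * b * g⁻¹) = g * (b * b) * g⁻¹ := by group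
        _ = d := by rw [hm]
    rcases h.E_sq _ h3 (by rw [h4, hdd]) with h5 | h5
    · exact hd1 (h4.symm.trans h5)
    · exact hdte (h4.symm.trans h5)
  have hE : ∀ a ∈ X, a ∈ DE → g * a * g⁻¹ ∈ DE := by
    intro a haX haE
    by_cases ha1 : a = 1
    · rw [ha1, mul_one, mul_inv_cancel]; exact one_mem _
    exact h.conj_III haE (hel a haX haE) ha1 (hX (hgX _ haX))
  refine ⟨hE, ?_⟩
  -- `V = X ∩ DE = {1, te, d, d te}`
  have hV : ∀ a ∈ X, a ∈ DE → (a = 1 ∨ a = d ∨ a = t * e ∨ a = d * (t * e)) := by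
    intro a haX haE
    have h1 : (a * d) * (a * d) = 1 := hel _ (mul_mem haX hdX) (mul_mem haE hdE)
    have haa := hel a haX haE
    have h2 : a * d = d * a := by
      have e1 : a * d = (d⁻¹ * a⁻¹) := by rw [← mul_inv_rev]; exact eq_inv_of_mul_eq_one_left h1
      rw [e1, inv_eq_of_mul_eq_one_left hdd, inv_eq_of_mul_eq_one_left haa]
    obtain ⟨v, hv, c, hc, h3⟩ := h.E_cent d hdE hdd hd1 hdte a (hX haX) h2
    have hvE : v ∈ DE := by
      rcases hv with rfl | rfl | rfl | rfl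
      · exact one_mem _
      · exact hdE
      · exact h.te_mem
      · exact mul_mem hdE h.te_mem
    have h4 : c = 1 := by
      refine h.disj c ?_ hc
      have : c = v⁻¹ * a := by rw [h3]; group
      rw [this]
      exact mul_mem (inv_mem hvE) haE
    rw [h3, h4, mul_one]
    exact hv
  -- `g` preserves `C(V)`
  have hgd : g * d * g⁻¹ = 1 ∨ g * d * g⁻¹ = d ∨ g * d * g⁻¹ = t * e ∨ g * d * g⁻¹ = d * (t * e) :=
    hV _ (hgX _ hdX) (hE _ hdX hdE)
  let C : Subgroup Y := centralizer ({t * e} : Set Y) ⊓ centralizer ({d} : Set Y)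
  have hC : ∀ y, y ∈ C ↔ y * (t * e) = (t * e) * y ∧ y * d = d * y := fun y => by
    rw [mem_inf, mem_centralizer_singleton_iff, mem_centralizer_singleton_iff]
  -- elements of `C` commute with `g d g⁻¹`
  have hCg : ∀ y ∈ C, y * (g * d * g⁻¹) = (g * d * g⁻¹) * y := by
    intro y hy
    obtain ⟨h1, h2⟩ := (hC y).1 hy
    rcases hgd with h3 | h3 | h3 | h3
    · rw [h3]; simp
    · rw [h3, h2]
    · rw [h3, h1]
    · rw [h3]
      calc y * (d * (t * e)) = (y * d) * (t * e) := by group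
        _ = (d * y) * (t * e) := by rw [h2]
        _ = d * (y * (t * e)) := by group
        _ = d * ((t * e) * y) := by rw [h1]
        _ = d * (t * e) * y := by group
  -- `g⁻¹ C g ≤ C`, hence `g C g⁻¹ = C`
  have hCinv : ∀ y ∈ C, g⁻¹ * y * g ∈ C := by
    intro y hy
    obtain ⟨h1, h2⟩ := (hC y).1 hy
    have h3 := hCg y hy
    rw [hC]
    constructor
    · have e1 : t * e = g⁻¹ * d * g := by rw [hd]; group
      calc g⁻¹ * y * g * (t * e) = g⁻¹ * (y * d) * g := by rw [e1]; group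
        _ = g⁻¹ * (d * y) * g := by rw [h2]
        _ = t * e * (g⁻¹ * y * g) := by rw [e1]; group
    · calc g⁻¹ * y * g * d = g⁻¹ * (y * (g * d * g⁻¹)) * g := by group
        _ = g⁻¹ * ((g * d * g⁻¹) * y) * g := by rw [h3]
        _ = d * (g⁻¹ * y * g) := by group
  have hCmap : ∀ y ∈ C, g * y * g⁻¹ ∈ C := by
    have hle : C.map (MulAut.conj g⁻¹).toMonoidHom ≤ C := by
      rintro _ ⟨y, hy, rfl⟩
      have := hCinv y hy
      simpa using this
    have heq : C.map (MulAut.conj g⁻¹).toMonoidHom = C :=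
      map_conj_le_of_le_normalizer hle
    have hgN : g⁻¹ ∈ normalizer (C : Set Y) := mem_normalizer_iff_map_conj.2 heq
    have hgN' : g ∈ normalizer (C : Set Y) := by simpa using inv_mem hgN
    exact fun y hy => (mem_normalizer_iff.1 hgN' y).1 hy
  -- the factorization of `C`
  set Q := (P : Subgroup Y) ⊓ C with hQ
  set K₁ := K ⊓ C with hK₁
  have hK₁odd : ¬ 2 ∣ Nat.card K₁ := fun hd' => n.odd (hd'.trans (card_dvd_of_le inf_le_left))
  have hCK : ∀ y ∈ C, ∀ k ∈ K₁, y * k * y⁻¹ ∈ K₁ := by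
    intro y hy k hk
    refine mem_inf.2 ⟨n.norm y ?_ k hk.1, mul_mem (mul_mem hy hk.2) (inv_mem hy)⟩
    exact h.comm_te_iff.1 ((hC y).1 hy).1
  have hCfac : ∀ y ∈ C, ∃ k ∈ K₁, ∃ q ∈ Q, y = k * q := by
    intro y hy
    obtain ⟨h1, h2⟩ := (hC y).1 hy
    obtain ⟨k, hk, p, hp, rfl⟩ := n.gen y (h.comm_te_iff.1 h1)
    have hkt : k * t = t * k := n.le k hk
    have h3 : p * d * p⁻¹ * d⁻¹ = 1 := by
      refine hKP _ ?_ (mul_mem (mul_mem (mul_mem hp (hX hdX)) (inv_mem hp)) (inv_mem (hX hdX)))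
      have e1 : p * d * p⁻¹ * d⁻¹ = (k⁻¹ * (d * k * d⁻¹)) := by
        have : k * p * d = d * (k * p) := h2
        have h4 : p * d * p⁻¹ = k⁻¹ * d * k := by
          calc p * d * p⁻¹ = k⁻¹ * (k * p * d) * p⁻¹ := by group
            _ = k⁻¹ * (d * (k * p)) * p⁻¹ := by rw [this]
            _ = k⁻¹ * d * k := by group
        rw [h4]; group
      rw [e1]
      exact mul_mem (inv_mem hk) (n.norm d (hXt d hdX) k hk)
    have hpC : p ∈ C := by
      rw [hC]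
      refine ⟨(h.te_comm hp).symm, ?_⟩
      exact mul_inv_eq_iff_eq_mul.1 (mul_inv_eq_one.1 h3)
    have hkC : k ∈ C := by
      have : k = (k * p) * p⁻¹ := by group
      rw [this]
      exact mul_mem hy (inv_mem hpC)
    exact ⟨k, mem_inf.2 ⟨hk, hkC⟩, p, mem_inf.2 ⟨hp, hpC⟩, rfl⟩
  have hQi : ¬ 2 ∣ Q.relIndex C := by
    refine not_dvd_relIndex hK₁odd ?_ inf_le_right hCfac
    refine Cfsg.Agent.Walter.OddCoreIn.le_normalizer_iff'.2 ?_
    intro q hq k hk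
    exact hCK q hq.2 k hk
  have hQp : IsPGroup 2 Q := P.isPGroup'.to_le inf_le_left
  have hDcC : Dc ≤ C := by
    intro c hc
    rw [hC]
    exact ⟨(h.comm _ h.te_mem c hc).symm, (h.comm _ hdE c hc).symm⟩
  have hDcQ : Dc ≤ Q := le_inf h.Dc_le hDcC
  obtain ⟨c, hcC, hc⟩ := exists_conj_le_in (p := 2) hQp hQi
    (D := Q.map (MulAut.conj g).toMonoidHom) (by
      rintro _ ⟨q, hq, rfl⟩
      have := hCmap q hq.2
      simpa using this) (hQp.map _)
  have hcg : ∀ q ∈ Q, (c * g) * q * (c * g)⁻¹ ∈ Q := by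
    intro q hq
    have h1 : c * (g * q * g⁻¹) * c⁻¹ ∈ Q := hc ⟨_, ⟨q, hq, rfl⟩, by simp⟩
    have e1 : (c * g) * q * (c * g)⁻¹ = c * (g * q * g⁻¹) * c⁻¹ := by group
    rw [e1]; exact h1
  have hcgDc : ∀ a ∈ Dc, (c * g) * a * (c * g)⁻¹ ∈ Dc := fun a ha =>
    h.conj_Dc (fun b hb => (hcg b (hDcQ hb)).1) ha
  obtain ⟨k, hk, q, hq, rfl⟩ := hCfac c hcC
  -- `q` normalises `Dc`
  intro a haX haDc
  set b := (k * q * g) * a * (k * q * g)⁻¹ with hb
  have hbDc : b ∈ Dc := hcgDc a haDc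
  have hgaX : g * a * g⁻¹ ∈ (P : Subgroup Y) := hX (hgX _ haX)
  have h1 : q * (g * a * g⁻¹) * q⁻¹ = k⁻¹ * b * k := by rw [hb]; group
  have h2 : k⁻¹ * b * k * b⁻¹ = 1 := by
    refine hKP _ ?_ ?_
    · have e1 : k⁻¹ * b * k * b⁻¹ = k⁻¹ * (b * k * b⁻¹) := by group
      rw [e1]
      exact mul_mem (inv_mem hk.1) (hCK b (hDcC hbDc) k hk).1
    · rw [← h1]
      exact mul_mem (mul_mem (mul_mem hq.1 hgaX) (inv_mem hq.1)) (inv_mem (h.Dc_le hbDc))
  have h3 : q * (g * a * g⁻¹) * q⁻¹ = b := by rw [h1]; exact mul_inv_eq_one.1 h2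
  have h4 : g * a * g⁻¹ = q⁻¹ * b * q⁻¹⁻¹ := by rw [← h3]; group
  rw [h4]
  exact h.normc _ (inv_mem hq.1) b hbDc

/-- both subgroups are strongly closed -/
theorem strongly_closed (h : Loc (P : Subgroup Y) DE Dc t e r T) {x g : Y} (hg : g * x * g⁻¹ ∈ (P : Subgroup Y)) :
    (x ∈ DE → g * x * g⁻¹ ∈ DE) ∧ (x ∈ Dc → g * x * g⁻¹ ∈ Dc) := by
  obtain ⟨K, n⟩ := h.exists_nil
  -- normalisers of centric subgroups
  have key : ∀ X : Subgroup Y, X ≤ (P : Subgroup Y) →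
      ¬ 2 ∣ ((P : Subgroup Y) ⊓ normalizer (X : Set Y)).relIndex (normalizer (X : Set Y)) →
      centralizer (X : Set Y) ⊓ (P : Subgroup Y) ≤ X → ∀ g ∈ normalizer (X : Set Y),
      (∀ a ∈ X, (a ∈ DE → g * a * g⁻¹ ∈ DE) ∧ (a ∈ Dc → g * a * g⁻¹ ∈ Dc)) := by
    intro X hX hXi hXc g hg
    have hmap : ∀ D : Subgroup Y, ∀ g ∈ normalizer (X : Set Y), (∀ a ∈ X, a ∈ D → g * a * g⁻¹ ∈ D) →
        g ∈ normalizer ((X ⊓ D : Subgroup Y) : Set Y) := by
      intro D g hg hD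
      refine mem_normalizer_iff_map_conj.2 (map_conj_le_of_le_normalizer ?_)
      rintro _ ⟨a, ha, rfl⟩
      have h1 : g * a * g⁻¹ ∈ X ⊓ D := mem_inf.2 ⟨(mem_normalizer_iff.1 hg a).1 ha.1, hD a ha.1 ha.2⟩
      simpa using h1
    set N := normalizer (X : Set Y) with hN
    let M : Subgroup Y := (normalizer ((X ⊓ DE : Subgroup Y) : Set Y) ⊓ normalizer ((X ⊓ Dc : Subgroup Y) : Set Y)) ⊓ N
    have hM : M.subgroupOf N = ⊤ := by
      refine Cfsg.Agent.SylowG2.Closed.eq_top_of_odd_mem _ ?_ ?_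
      · have h1 : (P : Subgroup Y) ⊓ N ≤ M := by
          intro y hy
          refine mem_inf.2 ⟨mem_inf.2 ⟨?_, ?_⟩, hy.2⟩
          · exact hmap DE y hy.2 fun a _ ha => h.normE y hy.1 a ha
          · exact hmap Dc y hy.2 fun a _ ha => h.normc y hy.1 a ha
        have h2 : M.relIndex N ∣ ((P : Subgroup Y) ⊓ N).relIndex N := relIndex_dvd_of_le_left N h1
        rw [← Nat.not_even_iff_odd, even_iff_two_dvd]
        exact fun hd => hXi (hd.trans h2)
      · intro y hy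
        have hy' : Odd (orderOf (y : Y)) := by rwa [Subgroup.orderOf_coe]
        obtain ⟨h1, h2⟩ := step h n hX hXc y.2 hy'
        rw [mem_subgroupOf]
        exact mem_inf.2 ⟨mem_inf.2 ⟨hmap DE _ y.2 h1, hmap Dc _ y.2 h2⟩, y.2⟩
    have hgM : g ∈ M := by
      have : (⟨g, hg⟩ : N) ∈ M.subgroupOf N := by rw [hM]; exact mem_top _
      exact this
    intro a ha
    constructor
    · intro haD
      exact ((mem_normalizer_iff.1 hgM.1.1 a).1 (mem_inf.2 ⟨ha, haD⟩)).2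
    · intro haD
      exact ((mem_normalizer_iff.1 hgM.1.2 a).1 (mem_inf.2 ⟨ha, haD⟩)).2
  by_cases hxP : x ∈ (P : Subgroup Y)
  swap
  · exact ⟨fun h1 => absurd (h.DE_le h1) hxP, fun h1 => absurd (h.Dc_le h1) hxP⟩
  let F : Subgroup Y → Prop := fun X => ∀ g ∈ normalizer (X : Set Y),
    (∀ a ∈ X, (a ∈ DE → g * a * g⁻¹ ∈ DE) ∧ (a ∈ Dc → g * a * g⁻¹ ∈ Dc))
  have hPi : ¬ 2 ∣ ((P : Subgroup Y) ⊓ normalizer ((P : Subgroup Y) : Set Y)).relIndex
      (normalizer ((P : Subgroup Y) : Set Y)) := by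
    rw [inf_eq_left.2 le_normalizer]
    intro hd
    exact P.not_dvd_index (hd.trans (relIndex_dvd_index_of_le le_normalizer))
  have hgen : Gen (P : Subgroup Y) F (zpowers x) g :=
    gen_of_conj P F (key _ le_rfl hPi inf_le_right) (fun X hX h1 h2 _ => key X hX.le h1 h2) (zpowers_le.2 hxP)
      (zpowers_map_conj_le hg)
  have hfin : ∀ {A : Subgroup Y} {g : Y}, Gen (P : Subgroup Y) F A g →
      ∀ a ∈ A, (a ∈ DE → g * a * g⁻¹ ∈ DE) ∧ (a ∈ Dc → g * a * g⁻¹ ∈ Dc) := by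
    intro A g hgen
    induction hgen with
    | cent _ hc =>
      intro a ha
      rw [conj_eq_of_mem_centralizer hc ha]
      exact ⟨id, id⟩
    | base _ hF hAX hg =>
      intro a ha
      exact hF _ hg a (hAX ha)
    | @mul A g h' _ _ ih1 ih2 =>
      intro a ha
      have e : h' * g * a * (h' * g)⁻¹ = h' * (g * a * g⁻¹) * h'⁻¹ := by group
      rw [e]
      have h1 := ih1 a ha
      have h2 := ih2 _ (conj_mem_map_conj ha g)
      exact ⟨fun h3 => h2.1 (h1.1 h3), fun h3 => h2.2 (h1.2 h3)⟩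
  exact hfin hgen x (mem_zpowers x)

theorem strongly_closed_DE (h : Loc (P : Subgroup Y) DE Dc t e r T) :
    Cfsg.IsStronglyClosed DE (P : Subgroup Y) :=
  ⟨h.DE_le, fun _ hx _ hg => (strongly_closed h hg).1 hx⟩

theorem strongly_closed_Dc (h : Loc (P : Subgroup Y) DE Dc t e r T) :
    Cfsg.IsStronglyClosed Dc (P : Subgroup Y) :=
  ⟨h.Dc_le, fun _ hx _ hg => (strongly_closed h hg).2 hx⟩

end Cfsg.Agent.SylowSp4.CentUClosed
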