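import Mathlib
import Cfsg.Agent.SylowSp4.Facts

/-!
# Type `PSp_4(q)`: coordinates on `C_S(e)`, `e = (x₀, x₀)`

`A i = (x^i, x^{-i})`, `B i = (x^i, z x^{-i}) s` (the group `DE`), `Cc i = (x^i, x^i)`, `D i = (y_i, y_i⁻¹) s` (the
group `Dc`), where `y_i = xa i` are the elements outside `⟨x⟩`.
-/

set_option autoImplicit false

namespace Cfsg.Agent.SylowSp4.CentUCoord

open QuaternionGroup Cfsg.Agent.SylowSp4.Coord Cfsg.Agent.SylowSp4.Facts

section Quat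

variable {k : ℕ}

theorem a_congr {i j : ZMod (2 * 2 ^ k)} (h : i = j) : (a i : Q k) = a j := by rw [h]

theorem xa_congr {i j : ZMod (2 * 2 ^ k)} (h : i = j) : (xa i : Q k) = xa j := by rw [h]

theorem a_inv (i : ZMod (2 * 2 ^ k)) : (a i : Q k)⁻¹ = a (-i) := by
  apply inv_eq_of_mul_eq_one_left
  rw [a_mul_a, neg_add_cancel, one_def]

theorem xa_inv (i : ZMod (2 * 2 ^ k)) : (xa i : Q k)⁻¹ = xa (i + hh k) := by
  apply inv_eq_of_mul_eq_one_left
  rw [xa_mul_xa', one_def]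
  exact a_congr (by linear_combination)

theorem c_def : c k = a (qq k) := rfl

/-- `c` commutes exactly with the cyclic subgroup -/
theorem comm_c {g : Q k} (hk : 1 ≤ k) (h : g * c k = c k * g) : ∃ i, g = a i := by
  rcases g with i | j
  · exact ⟨i, rfl⟩
  · exfalso
    rcases of_a_comm_xa (i := qq k) (j := j) h.symm with h1 | h1
    · exact ne_one_of_sq_z (c_sq hk) h1
    · exact ne_z_of_sq_z (c_sq hk) h1

theorem comm_c' {g : Q k} (h : g * c k = z k * (c k * g)) : ∃ j, g = xa j := by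
  rcases g with i | j
  · exfalso
    rw [c_def, a_comm_a] at h
    exact ne_z_mul _ h
  · exact ⟨j, rfl⟩

theorem two_qq (hk : 1 ≤ k) : qq k + qq k = hh k := c_add hk

theorem xa_c (hk : 1 ≤ k) (j : ZMod (2 * 2 ^ k)) : (xa j : Q k) * c k = z k * (c k * xa j) := by
  rw [c_def, xa_mul_a, a_mul_xa, z_mul_xa]
  exact xa_congr (by linear_combination two_qq hk)

end Quat

section

variable {G : Type*} [Group G] {S : Subgroup G} {k : ℕ} {f : Q k → Q k → G} {s : G} (h : TSp S k f s)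

/-- `(x^i, x^{-i})` -/
def A (f : Q k → Q k → G) (i : ZMod (2 * 2 ^ k)) : G := f (a i) (a (-i))

/-- `(x^i, z x^{-i}) s` -/
def B (f : Q k → Q k → G) (s : G) (i : ZMod (2 * 2 ^ k)) : G := f (a i) (a (hh k - i)) * s

/-- `(x^i, x^i)` -/
def Cc (f : Q k → Q k → G) (i : ZMod (2 * 2 ^ k)) : G := f (a i) (a i)

/-- `(y_i, y_i⁻¹) s` -/
def D (f : Q k → Q k → G) (s : G) (i : ZMod (2 * 2 ^ k)) : G := f (xa i) (xa (i + hh k)) * s

include h

theorem A_mul_A (i j : ZMod (2 * 2 ^ k)) : A f i * A f j = A f (i + j) := by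
  rw [A, A, A, h.f_mul, a_mul_a, a_mul_a, a_congr (show -i + -j = -(i + j) by ring)]

theorem A_mul_B (i j : ZMod (2 * 2 ^ k)) : A f i * B f s j = B f s (i + j) := by
  rw [A, B, B, h.f_mul_fs, a_mul_a, a_mul_a, a_congr (show -i + (hh k - j) = hh k - (i + j) by ring)]

theorem B_mul_A (i j : ZMod (2 * 2 ^ k)) : B f s i * A f j = B f s (i - j) := by
  rw [B, A, B, h.fs_mul_f, a_mul_a, a_mul_a, a_congr (show i + -j = i - j by ring),
    a_congr (show hh k - i + j = hh k - (i - j) by ring)]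

theorem B_mul_B (i j : ZMod (2 * 2 ^ k)) : B f s i * B f s j = A f (i - j) := by
  rw [B, B, A, h.fs_mul_fs, a_mul_a, a_mul_a, ← h.f_z_mul, z_mul_a, z_mul_a]
  have H := hh_add (k := k)
  rw [a_congr (show hh k + (i + (hh k - j)) = i - j by linear_combination H),
    a_congr (show hh k + (hh k - i + j) = -(i - j) by linear_combination H)]

theorem C_mul_C (i j : ZMod (2 * 2 ^ k)) : Cc f i * Cc f j = Cc f (i + j) := by
  rw [Cc, Cc, Cc, h.f_mul, a_mul_a]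

theorem C_mul_D (i j : ZMod (2 * 2 ^ k)) : Cc f i * D f s j = D f s (j - i) := by
  rw [Cc, D, D, h.f_mul_fs, a_mul_xa, a_mul_xa, xa_congr (show j + hh k - i = j - i + hh k by ring)]

theorem D_mul_C (i j : ZMod (2 * 2 ^ k)) : D f s i * Cc f j = D f s (i + j) := by
  rw [Cc, D, D, h.fs_mul_f, xa_mul_a, xa_mul_a, xa_congr (show i + hh k + j = i + j + hh k by ring)]

theorem D_mul_D (i j : ZMod (2 * 2 ^ k)) : D f s i * D f s j = Cc f (j - i) := by
  rw [D, D, Cc, h.fs_mul_fs, xa_mul_xa', xa_mul_xa']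
  have H := hh_add (k := k)
  rw [a_congr (show hh k + (j + hh k) - i = j - i by linear_combination H),
    a_congr (show hh k + j - (i + hh k) = j - i by ring)]

theorem A_comm_C (i j : ZMod (2 * 2 ^ k)) : A f i * Cc f j = Cc f j * A f i := by
  rw [A, Cc, h.f_mul, h.f_mul, a_comm_a, a_comm_a (-i)]

theorem A_comm_D (i j : ZMod (2 * 2 ^ k)) : A f i * D f s j = D f s j * A f i := by
  rw [A, D, h.f_mul_fs, h.fs_mul_f, a_mul_xa, a_mul_xa, xa_mul_a, xa_mul_a,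
    xa_congr (show j - i = j + -i by ring), xa_congr (show j + hh k - -i = j + hh k + i by ring)]

theorem B_comm_C (i j : ZMod (2 * 2 ^ k)) : B f s i * Cc f j = Cc f j * B f s i := by
  rw [B, Cc, h.fs_mul_f, h.f_mul_fs, a_comm_a, a_comm_a (hh k - i)]

theorem B_comm_D (i j : ZMod (2 * 2 ^ k)) : B f s i * D f s j = D f s j * B f s i := by
  rw [B, D, h.fs_mul_fs, h.fs_mul_fs, a_mul_xa, a_mul_xa, xa_mul_a, xa_mul_a,
    xa_congr (show j + hh k - i = j + (hh k - i) by ring)]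
  have H := hh_add (k := k)
  rw [xa_congr (show j - (hh k - i) = j + hh k + i by linear_combination -H)]

theorem A_eq_iff {i j : ZMod (2 * 2 ^ k)} : A f i = A f j ↔ i = j ∨ i = j + hh k := by
  rw [A, A, h.f_eq_iff, z_mul_a, z_mul_a]
  constructor
  · rintro (⟨h1, -⟩ | ⟨h1, -⟩)
    · exact Or.inl (a.inj h1)
    · exact Or.inr (by rw [a.inj h1]; ring)
  · rintro (rfl | rfl)
    · exact Or.inl ⟨rfl, rfl⟩
    · right
      have H := hh_add (k := k)
      exact ⟨a_congr (by ring), a_congr (by linear_combination -H)⟩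

theorem C_eq_iff {i j : ZMod (2 * 2 ^ k)} : Cc f i = Cc f j ↔ i = j ∨ i = j + hh k := by
  rw [Cc, Cc, h.f_eq_iff, z_mul_a]
  constructor
  · rintro (⟨h1, -⟩ | ⟨h1, -⟩)
    · exact Or.inl (a.inj h1)
    · exact Or.inr (by rw [a.inj h1]; ring)
  · rintro (rfl | rfl)
    · exact Or.inl ⟨rfl, rfl⟩
    · right
      exact ⟨a_congr (by ring), a_congr (by ring)⟩

theorem A_zero : A f 0 = 1 := by
  rw [A, neg_zero, ← one_def, h.f_one]

theorem C_zero : Cc f 0 = 1 := by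
  rw [Cc, ← one_def, h.f_one]

theorem A_eq_one_iff {i : ZMod (2 * 2 ^ k)} : A f i = 1 ↔ i + i = 0 := by
  rw [← A_zero h, A_eq_iff h, zero_add]
  constructor
  · rintro (rfl | rfl)
    · rw [add_zero]
    · exact hh_add
  · exact eq_of_add_self'

theorem C_eq_one_iff {i : ZMod (2 * 2 ^ k)} : Cc f i = 1 ↔ i + i = 0 := by
  rw [← C_zero h, C_eq_iff h, zero_add]
  constructor
  · rintro (rfl | rfl)
    · rw [add_zero]
    · exact hh_add
  · exact eq_of_add_self'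

theorem A_inv (i : ZMod (2 * 2 ^ k)) : (A f i)⁻¹ = A f (-i) := by
  apply inv_eq_of_mul_eq_one_left
  rw [A_mul_A h, neg_add_cancel, A_zero h]

theorem C_inv (i : ZMod (2 * 2 ^ k)) : (Cc f i)⁻¹ = Cc f (-i) := by
  apply inv_eq_of_mul_eq_one_left
  rw [C_mul_C h, neg_add_cancel, C_zero h]

theorem B_sq (i : ZMod (2 * 2 ^ k)) : B f s i * B f s i = 1 := by
  rw [B_mul_B h, sub_self, A_zero h]

theorem D_sq (i : ZMod (2 * 2 ^ k)) : D f s i * D f s i = 1 := by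
  rw [D_mul_D h, sub_self, C_zero h]

theorem B_inv (i : ZMod (2 * 2 ^ k)) : (B f s i)⁻¹ = B f s i := inv_eq_of_mul_eq_one_left (B_sq h i)

theorem D_inv (i : ZMod (2 * 2 ^ k)) : (D f s i)⁻¹ = D f s i := inv_eq_of_mul_eq_one_left (D_sq h i)

theorem B_ne_A (i j : ZMod (2 * 2 ^ k)) : B f s i ≠ A f j := h.fs_ne _ _ _ _

theorem D_ne_C (i j : ZMod (2 * 2 ^ k)) : D f s i ≠ Cc f j := h.fs_ne _ _ _ _

theorem B_ne_one (i : ZMod (2 * 2 ^ k)) : B f s i ≠ 1 := by rw [← A_zero h]; exact B_ne_A h i 0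

theorem D_ne_one (i : ZMod (2 * 2 ^ k)) : D f s i ≠ 1 := by rw [← C_zero h]; exact D_ne_C h i 0

omit [Group G] h in
theorem e_eq : f (c k) (c k) = Cc f (qq k) := rfl

theorem te_eq : f (z k) 1 * f (c k) (c k) = A f (qq k) := by
  rw [h.f_mul, one_mul, A, c_def, z_mul_a, ← h.f_z_mul, z_mul_a, z_mul_a]
  have H := hh_add (k := k)
  have H2 := two_qq h.hk
  rw [a_congr (show hh k + (hh k + qq k) = qq k by linear_combination H),
    a_congr (show hh k + qq k = -qq k by linear_combination H2 + H)]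

/-- The group `DE`. -/
def DE : Subgroup G where
  carrier := {g | (∃ i, g = A f i) ∨ ∃ i, g = B f s i}
  mul_mem' := by
    rintro _ _ (⟨i, rfl⟩ | ⟨i, rfl⟩) (⟨j, rfl⟩ | ⟨j, rfl⟩)
    · exact Or.inl ⟨_, A_mul_A h i j⟩
    · exact Or.inr ⟨_, A_mul_B h i j⟩
    · exact Or.inr ⟨_, B_mul_A h i j⟩
    · exact Or.inl ⟨_, B_mul_B h i j⟩
  one_mem' := Or.inl ⟨0, (A_zero h).symm⟩
  inv_mem' := by
    rintro _ (⟨i, rfl⟩ | ⟨i, rfl⟩)
    · exact Or.inl ⟨_, A_inv h i⟩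
    · exact Or.inr ⟨_, B_inv h i⟩

/-- The group `Dc`. -/
def Dc : Subgroup G where
  carrier := {g | (∃ i, g = Cc f i) ∨ ∃ i, g = D f s i}
  mul_mem' := by
    rintro _ _ (⟨i, rfl⟩ | ⟨i, rfl⟩) (⟨j, rfl⟩ | ⟨j, rfl⟩)
    · exact Or.inl ⟨_, C_mul_C h i j⟩
    · exact Or.inr ⟨_, C_mul_D h i j⟩
    · exact Or.inr ⟨_, D_mul_C h i j⟩
    · exact Or.inl ⟨_, D_mul_D h i j⟩
  one_mem' := Or.inl ⟨0, (C_zero h).symm⟩
  inv_mem' := by
    rintro _ (⟨i, rfl⟩ | ⟨i, rfl⟩)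
    · exact Or.inl ⟨_, C_inv h i⟩
    · exact Or.inr ⟨_, D_inv h i⟩

theorem mem_DE {g : G} : g ∈ DE h ↔ (∃ i, g = A f i) ∨ ∃ i, g = B f s i := Iff.rfl

theorem mem_Dc {g : G} : g ∈ Dc h ↔ (∃ i, g = Cc f i) ∨ ∃ i, g = D f s i := Iff.rfl

theorem DE_le : DE h ≤ S := by
  rintro _ (⟨i, rfl⟩ | ⟨i, rfl⟩)
  · exact h.f_mem _ _
  · exact h.fs_mem _ _

theorem Dc_le : Dc h ≤ S := by
  rintro _ (⟨i, rfl⟩ | ⟨i, rfl⟩)
  · exact h.f_mem _ _
  · exact h.fs_mem _ _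

theorem comm {x y : G} (hx : x ∈ DE h) (hy : y ∈ Dc h) : x * y = y * x := by
  rcases hx with ⟨i, rfl⟩ | ⟨i, rfl⟩ <;> rcases hy with ⟨j, rfl⟩ | ⟨j, rfl⟩
  · exact A_comm_C h i j
  · exact A_comm_D h i j
  · exact B_comm_C h i j
  · exact B_comm_D h i j

theorem e_mem : f (c k) (c k) ∈ Dc h := Or.inl ⟨_, rfl⟩

theorem te_mem : f (z k) 1 * f (c k) (c k) ∈ DE h := Or.inl ⟨_, te_eq h⟩

/-- the elements of the two groups commute with `e` -/
theorem DE_e {x : G} (hx : x ∈ DE h) : x * f (c k) (c k) = f (c k) (c k) * x := comm h hx (e_mem h)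

theorem Dc_e {x : G} (hx : x ∈ Dc h) : x * f (c k) (c k) = f (c k) (c k) * x := by
  have H2 := two_qq h.hk
  have H := hh_add (k := k)
  rcases hx with ⟨j, rfl⟩ | ⟨j, rfl⟩
  · rw [e_eq (f := f), C_mul_C h, C_mul_C h, add_comm]
  · rw [e_eq (f := f), D_mul_C h, C_mul_D h, D, D]
    congr 1
    rw [h.f_eq_iff]
    right
    rw [z_mul_xa, z_mul_xa]
    exact ⟨xa_congr (by linear_combination H2), xa_congr (by linear_combination H2)⟩

theorem disj {x : G} (hx : x ∈ DE h) (hy : x ∈ Dc h) : x = 1 := by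
  have H := hh_add (k := k)
  rcases hx with ⟨i, rfl⟩ | ⟨i, rfl⟩
  · rcases hy with ⟨j, hj⟩ | ⟨j, hj⟩
    · rw [A, Cc, h.f_eq_iff, z_mul_a] at hj
      rw [A_eq_one_iff h]
      rcases hj with ⟨h1, h2⟩ | ⟨h1, h2⟩
      · linear_combination a.inj h1 - a.inj h2
      · linear_combination a.inj h1 - a.inj h2
    · exact absurd hj.symm (h.fs_ne _ _ _ _)
  · exfalso
    rcases hy with ⟨j, hj⟩ | ⟨j, hj⟩
    · exact h.fs_ne _ _ _ _ hj
    · have h1 : f (a i) (a (hh k - i)) = f (xa j) (xa (j + hh k)) := mul_right_cancel hj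
      rw [h.f_eq_iff, z_mul_xa] at h1
      rcases h1 with ⟨h2, -⟩ | ⟨h2, -⟩ <;> exact absurd h2 (by simp)

/-! ### The elements of `C_S(e)` -/

/-- the elements of `S` commuting with `e` -/
theorem cases_e {x : G} (hx : x ∈ S) (hxe : x * f (c k) (c k) = f (c k) (c k) * x) :
    (∃ p q, x = f (a p) (a q)) ∨ (∃ p q, x = f (xa p) (xa q)) ∨ (∃ p q, x = f (a p) (a q) * s) ∨
      ∃ p q, x = f (xa p) (xa q) * s := by
  have key : ∀ α β : Q k, f α β * f (c k) (c k) = f (c k) (c k) * f α β →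
      (∃ p q, f α β = f (a p) (a q)) ∨ ∃ p q, f α β = f (xa p) (xa q) := by
    intro α β hc
    rcases (comm_iff h).1 hc with ⟨h1, h2⟩ | ⟨h1, h2⟩
    · obtain ⟨p, rfl⟩ := comm_c h.hk h1
      obtain ⟨q, rfl⟩ := comm_c h.hk h2
      exact Or.inl ⟨p, q, rfl⟩
    · obtain ⟨p, rfl⟩ := comm_c' h1
      obtain ⟨q, rfl⟩ := comm_c' h2
      exact Or.inr ⟨p, q, rfl⟩
  rcases (h.mem_iff x).1 hx with ⟨α, β, rfl⟩ | ⟨α, β, rfl⟩
  · rcases key α β hxe with h1 | h1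
    · exact Or.inl h1
    · exact Or.inr (Or.inl h1)
  · have h1 : f α β * f (c k) (c k) = f (c k) (c k) * f α β := by
      have h2 : f α β * s * f (c k) (c k) = f α β * f (c k) (c k) * s := by
        rw [mul_assoc, h.s_f, ← mul_assoc]
      rw [h2, ← mul_assoc] at hxe
      exact mul_right_cancel hxe
    rcases key α β h1 with ⟨p, q, h2⟩ | ⟨p, q, h2⟩
    · exact Or.inr (Or.inr (Or.inl ⟨p, q, by rw [h2]⟩))
    · exact Or.inr (Or.inr (Or.inr ⟨p, q, by rw [h2]⟩))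

/-! ### Facts on `DE` -/

theorem qq_cases {i : ZMod (2 * 2 ^ k)} (h4 : (i + i) + (i + i) = 0) :
    i + i = 0 ∨ i = qq k ∨ i = qq k + hh k := by
  rcases eq_of_add_self' h4 with h1 | h1
  · exact Or.inl h1
  · right
    have H2 := two_qq h.hk
    rcases eq_of_add_self' (i := i - qq k) (by linear_combination h1 - H2) with h2 | h2
    · left; linear_combination h2
    · right; linear_combination h2

theorem A_sq_one {i : ZMod (2 * 2 ^ k)} (hi : A f i * A f i = 1) : A f i = 1 ∨ A f i = A f (qq k) := by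
  rw [A_mul_A h, A_eq_one_iff h] at hi
  rcases qq_cases h hi with h1 | h1 | h1
  · exact Or.inl ((A_eq_one_iff h).2 h1)
  · exact Or.inr (by rw [h1])
  · exact Or.inr ((A_eq_iff h).2 (Or.inr h1))

theorem C_sq_one {i : ZMod (2 * 2 ^ k)} (hi : Cc f i * Cc f i = 1) : Cc f i = 1 ∨ Cc f i = Cc f (qq k) := by
  rw [C_mul_C h, C_eq_one_iff h] at hi
  rcases qq_cases h hi with h1 | h1 | h1
  · exact Or.inl ((C_eq_one_iff h).2 h1)
  · exact Or.inr (by rw [h1])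
  · exact Or.inr ((C_eq_iff h).2 (Or.inr h1))

theorem A_pow (i : ZMod (2 * 2 ^ k)) (m : ℕ) : (A f i) ^ m = A f ((m : ZMod (2 * 2 ^ k)) * i) := by
  induction m with
  | zero => rw [pow_zero, Nat.cast_zero, zero_mul, A_zero h]
  | succ m ih =>
    rw [pow_succ, ih, A_mul_A h]
    congr 1
    push_cast; ring

theorem E_pow {x : G} (hx : x ∈ DE h) (hxx : x * x ≠ 1) :
    ∃ m : ℕ, x ^ m * x ^ m = f (z k) 1 * f (c k) (c k) := by
  rcases hx with ⟨i, rfl⟩ | ⟨i, rfl⟩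
  · rw [A_mul_A h, Ne, A_eq_one_iff h] at hxx
    have h1 : (a (i + i) : Q k) ≠ 1 := by
      rw [one_def]
      intro h2
      apply hxx
      rw [a.inj h2, add_zero]
    have h2 : (a (i + i) : Q k) ≠ z k := by
      intro h2
      apply hxx
      rw [a.inj h2]
      exact hh_add
    obtain ⟨m, hm⟩ := exists_pow_sq h1 h2
    refine ⟨m, ?_⟩
    rw [te_eq h, A_pow h, A_mul_A h]
    rw [Facts.a_pow, a_mul_a] at hm
    have h3 : (m : ZMod (2 * 2 ^ k)) * (i + i) + (m : ZMod (2 * 2 ^ k)) * (i + i) = hh k := a.inj hm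
    have H2 := two_qq h.hk
    rw [A_eq_iff h]
    rcases eq_of_add_self' (i := (m : ZMod (2 * 2 ^ k)) * (i + i) - qq k) (by linear_combination h3 - H2) with h4 | h4
    · left; linear_combination h4
    · right; linear_combination h4
  · exact absurd (B_sq h i) hxx

theorem E_sq {x : G} (hx : x ∈ DE h) (hxx : (x * x) * (x * x) = 1) :
    x * x = 1 ∨ x * x = f (z k) 1 * f (c k) (c k) := by
  rcases hx with ⟨i, rfl⟩ | ⟨i, rfl⟩
  · rw [te_eq h]
    rw [A_mul_A h] at hxx ⊢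
    exact A_sq_one h hxx
  · exact Or.inl (B_sq h i)

theorem E_refl {x d : G} (hx : x ∈ DE h) (hd : d ∈ DE h) (hxx : x * x ≠ 1) (hdd : d * d = 1) (hd1 : d ≠ 1)
    (hdt : d ≠ f (z k) 1 * f (c k) (c k)) : (x * d) * (x * d) = 1 := by
  rcases hx with ⟨i, rfl⟩ | ⟨i, rfl⟩
  · rcases hd with ⟨j, rfl⟩ | ⟨j, rfl⟩
    · exfalso
      rcases A_sq_one h hdd with h1 | h1
      · exact hd1 h1
      · exact hdt (h1.trans (te_eq h).symm)
    · rw [A_mul_B h]
      exact B_sq h _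
  · exact absurd (B_sq h i) hxx

theorem XA_mul_B (p q j : ZMod (2 * 2 ^ k)) : f (a p) (a q) * B f s j = f (a (p + j)) (a (q + (hh k - j))) * s := by
  rw [B, h.f_mul_fs, a_mul_a, a_mul_a]

theorem B_mul_XA (p q j : ZMod (2 * 2 ^ k)) : B f s j * f (a p) (a q) = f (a (j + q)) (a (hh k - j + p)) * s := by
  rw [B, h.fs_mul_f, a_mul_a, a_mul_a]

theorem XX_mul_B (p q j : ZMod (2 * 2 ^ k)) :
    f (xa p) (xa q) * B f s j = f (xa (p + j)) (xa (q + (hh k - j))) * s := by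
  rw [B, h.f_mul_fs, xa_mul_a, xa_mul_a]

theorem B_mul_XX (p q j : ZMod (2 * 2 ^ k)) :
    B f s j * f (xa p) (xa q) = f (xa (q - j)) (xa (p - (hh k - j))) * s := by
  rw [B, h.fs_mul_f, a_mul_xa, a_mul_xa]

theorem B_mul_D' (j m : ZMod (2 * 2 ^ k)) :
    B f s j * D f s m = f (xa (m + hh k - j)) (xa (m - (hh k - j))) := by
  rw [B, D, h.fs_mul_fs, a_mul_xa, a_mul_xa]

theorem t_mul (α β : Q k) : f (z k) 1 * f α β = f α (z k * β) := by
  rw [h.f_mul, one_mul, f_congr_z h]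

/-- `t y = (te)(e y)` -/
theorem t_split (y : G) : f (z k) 1 * y = (f (z k) 1 * f (c k) (c k)) * (f (c k) (c k) * y) := by
  have hee : f (c k) (c k) * f (c k) (c k) = 1 := by rw [h.f_mul, c_sq h.hk, h.f_zz]
  calc f (z k) 1 * y = f (z k) 1 * (f (c k) (c k) * f (c k) (c k)) * y := by rw [hee, mul_one]
    _ = (f (z k) 1 * f (c k) (c k)) * (f (c k) (c k) * y) := by group

theorem comm_te {x : G} (hx : x ∈ S) (hxe : x * f (c k) (c k) = f (c k) (c k) * x) :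
    x * (f (z k) 1 * f (c k) (c k)) = (f (z k) 1 * f (c k) (c k)) * x := by
  rw [← mul_assoc, ← h.t_comm hx, mul_assoc, hxe, mul_assoc]

theorem B_te (j : ZMod (2 * 2 ^ k)) :
    B f s j * (f (z k) 1 * f (c k) (c k)) = (f (z k) 1 * f (c k) (c k)) * B f s j :=
  comm_te h (h.fs_mem _ _) (DE_e h (Or.inr ⟨j, rfl⟩))

/-- centralisers of the noncentral involutions of `DE` -/
theorem E_cent_aux {j : ZMod (2 * 2 ^ k)} {x : G} (hxe : (∃ p q, x = f (a p) (a q)) ∨ ∃ p q, x = f (xa p) (xa q))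
    (hxd : x * B f s j = B f s j * x) :
    ∃ v, (v = 1 ∨ v = B f s j ∨ v = f (z k) 1 * f (c k) (c k) ∨ v = B f s j * (f (z k) 1 * f (c k) (c k))) ∧
      ∃ y ∈ Dc h, x = v * y := by
  have H := hh_add (k := k)
  have H2 := two_qq h.hk
  rcases hxe with ⟨p, q, rfl⟩ | ⟨p, q, rfl⟩
  · rw [XA_mul_B h, B_mul_XA h, mul_left_inj, h.f_eq_iff, z_mul_a, z_mul_a] at hxd
    have h1 : q = p ∨ q = p + hh k := by
      rcases hxd with ⟨h1, -⟩ | ⟨h1, -⟩
      · left; linear_combination -(a.inj h1)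
      · right; linear_combination -(a.inj h1) - H
    rcases h1 with h1 | h1
    · exact ⟨1, Or.inl rfl, Cc f p, Or.inl ⟨p, rfl⟩, by rw [one_mul, Cc, h1]⟩
    · refine ⟨_, Or.inr (Or.inr (Or.inl rfl)), f (c k) (c k) * Cc f p, mul_mem (e_mem h) (Or.inl ⟨p, rfl⟩), ?_⟩
      rw [← t_split h, Cc, t_mul h, z_mul_a, h1, add_comm p]
  · rw [XX_mul_B h, B_mul_XX h, mul_left_inj, h.f_eq_iff, z_mul_xa, z_mul_xa] at hxd
    have h1 : q = p + 2 * j ∨ q = p + 2 * j + hh k := by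
      rcases hxd with ⟨h1, -⟩ | ⟨h1, -⟩
      · left; linear_combination -(xa.inj h1)
      · right; linear_combination -(xa.inj h1) - H
    have h2 : B f s j * D f s (p + j + hh k) = f (xa p) (xa (p + 2 * j)) := by
      rw [B_mul_D' h, xa_congr (show p + j + hh k + hh k - j = p by linear_combination H),
        xa_congr (show p + j + hh k - (hh k - j) = p + 2 * j by ring)]
    rcases h1 with h1 | h1
    · exact ⟨B f s j, Or.inr (Or.inl rfl), D f s (p + j + hh k), Or.inr ⟨_, rfl⟩, by rw [h2, h1]⟩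
    · refine ⟨_, Or.inr (Or.inr (Or.inr rfl)), f (c k) (c k) * D f s (p + j + hh k),
        mul_mem (e_mem h) (Or.inr ⟨_, rfl⟩), ?_⟩
      have hBt := B_te h j
      have e1 : B f s j * (f (z k) 1 * f (c k) (c k)) * (f (c k) (c k) * D f s (p + j + hh k)) =
          f (z k) 1 * (B f s j * D f s (p + j + hh k)) := by
        rw [hBt, t_split h (B f s j * D f s (p + j + hh k))]
        have hBe := DE_e h (x := B f s j) (Or.inr ⟨j, rfl⟩)
        calc f (z k) 1 * f (c k) (c k) * B f s j * (f (c k) (c k) * D f s (p + j + hh k)) =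
              f (z k) 1 * f (c k) (c k) * (B f s j * f (c k) (c k)) * D f s (p + j + hh k) := by group
          _ = f (z k) 1 * f (c k) (c k) * (f (c k) (c k) * B f s j) * D f s (p + j + hh k) := by rw [hBe]
          _ = _ := by group
      rw [e1, h2, t_mul h, z_mul_xa, h1]

theorem te_te : (f (z k) 1 * f (c k) (c k)) * (f (z k) 1 * f (c k) (c k)) = 1 := by
  have H := hh_add (k := k)
  have H2 := two_qq h.hk
  rw [te_eq h, A_mul_A h, A_eq_one_iff h]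
  linear_combination 2 * H2 + H

theorem E_cent {d : G} (hd : d ∈ DE h) (hdd : d * d = 1) (hd1 : d ≠ 1) (hdt : d ≠ f (z k) 1 * f (c k) (c k))
    {x : G} (hx : x ∈ S) (hxe : x * f (c k) (c k) = f (c k) (c k) * x) (hxd : x * d = d * x) :
    ∃ v, (v = 1 ∨ v = d ∨ v = f (z k) 1 * f (c k) (c k) ∨ v = d * (f (z k) 1 * f (c k) (c k))) ∧
      ∃ y ∈ Dc h, x = v * y := by
  rcases hd with ⟨j, rfl⟩ | ⟨j, rfl⟩
  · exfalso
    rcases A_sq_one h hdd with h1 | h1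
    · exact hd1 h1
    · exact hdt (h1.trans (te_eq h).symm)
  have hBB := B_sq h (s := s) j
  have hfin : ∀ x : G, ((∃ p q, x = f (a p) (a q) * s) ∨ ∃ p q, x = f (xa p) (xa q) * s) →
      x * B f s j = B f s j * x →
      ∃ v, (v = 1 ∨ v = B f s j ∨ v = f (z k) 1 * f (c k) (c k) ∨ v = B f s j * (f (z k) 1 * f (c k) (c k))) ∧
      ∃ y ∈ Dc h, x = v * y := by
    intro x hx hxd
    have h1 : (∃ p q, x * B f s j = f (a p) (a q)) ∨ ∃ p q, x * B f s j = f (xa p) (xa q) := by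
      rcases hx with ⟨p, q, rfl⟩ | ⟨p, q, rfl⟩
      · left
        exact ⟨p + (hh k - j), q + j, by rw [B, h.fs_mul_fs, a_mul_a, a_mul_a]⟩
      · right
        exact ⟨p + (hh k - j), q + j, by rw [B, h.fs_mul_fs, xa_mul_a, xa_mul_a]⟩
    have h2 : (x * B f s j) * B f s j = B f s j * (x * B f s j) := by
      rw [← mul_assoc, ← hxd]
    obtain ⟨v, hv, y, hy, h3⟩ := E_cent_aux h h1 h2
    have hBy : B f s j * y = y * B f s j := comm h (Or.inr ⟨j, rfl⟩) hy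
    have h4 : x = (v * B f s j) * y := by
      calc x = (x * B f s j) * B f s j := by rw [mul_assoc, hBB, mul_one]
        _ = v * (y * B f s j) := by rw [h3, mul_assoc]
        _ = (v * B f s j) * y := by rw [← hBy, mul_assoc]
    have hBt := B_te h j
    refine ⟨v * B f s j, ?_, y, hy, h4⟩
    rcases hv with rfl | rfl | rfl | rfl
    · exact Or.inr (Or.inl (one_mul _))
    · exact Or.inl hBB
    · exact Or.inr (Or.inr (Or.inr hBt.symm))
    · refine Or.inr (Or.inr (Or.inl ?_))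
      rw [hBt, mul_assoc, hBB, mul_one]
  rcases cases_e h hx hxe with h1 | h1 | h1 | h1
  · exact E_cent_aux h (Or.inl h1) hxd
  · exact E_cent_aux h (Or.inr h1) hxd
  · exact hfin x (Or.inl h1) hxd
  · exact hfin x (Or.inr h1) hxd

/-! ### Facts on `Dc` -/

theorem D_ne_e (i : ZMod (2 * 2 ^ k)) : D f s i ≠ f (c k) (c k) := D_ne_C h i _

theorem c_gen {x : G} (hx : x ∈ Dc h) : ∃ w₁ ∈ Dc h, ∃ w₂ ∈ Dc h,
    (w₁ * w₁ = 1 ∧ w₁ ≠ 1 ∧ w₁ ≠ f (c k) (c k)) ∧ (w₂ * w₂ = 1 ∧ w₂ ≠ 1 ∧ w₂ ≠ f (c k) (c k)) ∧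
    (x = w₁ * w₂ ∨ x = w₁) := by
  have hD : ∀ i, (D f s i * D f s i = 1 ∧ D f s i ≠ 1 ∧ D f s i ≠ f (c k) (c k)) := fun i =>
    ⟨D_sq h i, D_ne_one h i, D_ne_e h i⟩
  rcases hx with ⟨i, rfl⟩ | ⟨i, rfl⟩
  · refine ⟨D f s 0, Or.inr ⟨0, rfl⟩, D f s i, Or.inr ⟨i, rfl⟩, hD 0, hD i, Or.inl ?_⟩
    rw [D_mul_D h, sub_zero]
  · exact ⟨D f s i, Or.inr ⟨i, rfl⟩, D f s i, Or.inr ⟨i, rfl⟩, hD i, hD i, Or.inr rfl⟩

theorem e_gen {x : G} (hx : x ∈ DE h) : ∃ w₁ ∈ DE h, ∃ w₂ ∈ DE h,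
    (w₁ * w₁ = 1 ∧ w₁ ≠ 1) ∧ (w₂ * w₂ = 1 ∧ w₂ ≠ 1) ∧ (x = w₁ * w₂ ∨ x = w₁) := by
  have hD : ∀ i, (B f s i * B f s i = 1 ∧ B f s i ≠ 1) := fun i => ⟨B_sq h i, B_ne_one h i⟩
  rcases hx with ⟨i, rfl⟩ | ⟨i, rfl⟩
  · refine ⟨B f s i, Or.inr ⟨i, rfl⟩, B f s 0, Or.inr ⟨0, rfl⟩, hD i, hD 0, Or.inl ?_⟩
    rw [B_mul_B h, sub_zero]
  · exact ⟨B f s i, Or.inr ⟨i, rfl⟩, B f s i, Or.inr ⟨i, rfl⟩, hD i, hD i, Or.inr rfl⟩

theorem c_comm {x y : G} (hx : x ∈ Dc h) (hxx : x * x ≠ 1) (hy : y ∈ Dc h) (hyy : y * y ≠ 1) : x * y = y * x := by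
  rcases hx with ⟨i, rfl⟩ | ⟨i, rfl⟩
  · rcases hy with ⟨j, rfl⟩ | ⟨j, rfl⟩
    · rw [C_mul_C h, C_mul_C h, add_comm]
    · exact absurd (D_sq h j) hyy
  · exact absurd (D_sq h i) hxx

theorem c_inv {x w : G} (hx : x ∈ Dc h) (hxx : x * x ≠ 1) (hw : w ∈ Dc h) (hww : w * w = 1)
    (hc : w * x = x * w) : w = 1 ∨ w = f (c k) (c k) := by
  rcases hx with ⟨i, rfl⟩ | ⟨i, rfl⟩
  · rcases hw with ⟨j, rfl⟩ | ⟨j, rfl⟩
    · exact C_sq_one h hww
    · exfalso
      apply hxx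
      rw [D_mul_C h, C_mul_D h, D, D, mul_left_inj, h.f_eq_iff, z_mul_xa] at hc
      rw [C_mul_C h, C_eq_one_iff h]
      have H := hh_add (k := k)
      rcases hc with ⟨h1, -⟩ | ⟨h1, -⟩
      · linear_combination 2 * xa.inj h1
      · linear_combination 2 * xa.inj h1 + H
  · exact absurd (D_sq h i) hxx

theorem c_prod {v w : G} (hv : v ∈ Dc h) (hw : w ∈ Dc h) (h1 : v * v = 1 ∧ v ≠ 1 ∧ v ≠ f (c k) (c k))
    (h2 : w * w = 1 ∧ w ≠ 1 ∧ w ≠ f (c k) (c k)) :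
    v * w = 1 ∨ v * w = f (c k) (c k) ∨ (v * w) * (v * w) ≠ 1 := by
  have key : ∀ u ∈ Dc h, (u * u = 1 ∧ u ≠ 1 ∧ u ≠ f (c k) (c k)) → ∃ i, u = D f s i := by
    rintro _ (⟨i, rfl⟩ | ⟨i, rfl⟩) ⟨h3, h4, h5⟩
    · exfalso
      rcases C_sq_one h h3 with h6 | h6
      · exact h4 h6
      · exact h5 h6
    · exact ⟨i, rfl⟩
  obtain ⟨i, rfl⟩ := key v hv h1
  obtain ⟨j, rfl⟩ := key w hw h2
  rw [D_mul_D h]
  by_cases h3 : Cc f (j - i) * Cc f (j - i) = 1
  · rcases C_sq_one h h3 with h4 | h4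
    · exact Or.inl h4
    · exact Or.inr (Or.inl h4)
  · exact Or.inr (Or.inr h3)

/-! ### The root `r` -/

theorem root {x : G} (hx : x ∈ S) (hxe : x * f (c k) (c k) = f (c k) (c k) * x) (hxx : x * x = f (z k) 1) :
    x = f (c k) 1 ∨ x = f (c k) 1 * f (z k) 1 ∨ x = f (c k) 1 * f (c k) (c k) ∨
      x = f (c k) 1 * (f (z k) 1 * f (c k) (c k)) := by
  have hcc := c_sq h.hk
  obtain ⟨α, hα, h1⟩ := root_cases h hx hxx
  have hcα : α * c k = c k * α := by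
    rcases h1 with rfl | rfl
    · rcases (comm_iff h).1 hxe with ⟨h2, -⟩ | ⟨-, h2⟩
      · exact h2
      · rw [one_mul, mul_one] at h2
        exact absurd h2 (ne_z_mul _)
    · rcases (comm_iff h).1 hxe with ⟨-, h2⟩ | ⟨h2, -⟩
      · exact h2
      · rw [one_mul, mul_one] at h2
        exact absurd h2 (ne_z_mul _)
  rcases eq_or_of_comm hcc hα hcα.symm with rfl | rfl
  · rcases h1 with rfl | rfl
    · exact Or.inl rfl
    · right; right; right
      rw [h.f_mul, h.f_mul, one_mul, one_mul, ← mul_assoc, ← z_comm, mul_assoc, hcc, z_mul_z]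
  · rcases h1 with rfl | rfl
    · right; left
      rw [h.f_mul, mul_one, z_comm]
    · right; right; left
      rw [h.f_mul, one_mul, hcc, ← f_congr_z h, mul_one]

theorem cent_r {x : G} (hx : x ∈ S) (hxe : x * f (c k) (c k) = f (c k) (c k) * x)
    (hxr : x * f (c k) 1 = f (c k) 1 * x) : ∃ i j, x = f (a i) (a j) := by
  have hcc := c_sq h.hk
  obtain ⟨γ, δ, h1, rfl⟩ := centralizer_root h hx hcc hxr
  obtain ⟨i, rfl⟩ := comm_c h.hk h1
  rcases (comm_iff h).1 hxe with ⟨-, h2⟩ | ⟨h2, -⟩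
  · obtain ⟨j, rfl⟩ := comm_c h.hk h2
    exact ⟨i, j, rfl⟩
  · exfalso
    rw [h1] at h2
    exact ne_z_mul _ h2

theorem abel {x y : G} (hx : x ∈ S) (hxe : x * f (c k) (c k) = f (c k) (c k) * x)
    (hxr : x * f (c k) 1 = f (c k) 1 * x) (hy : y ∈ S) (hye : y * f (c k) (c k) = f (c k) (c k) * y)
    (hyr : y * f (c k) 1 = f (c k) 1 * y) : x * y = y * x := by
  obtain ⟨i, j, rfl⟩ := cent_r h hx hxe hxr
  obtain ⟨m, n, rfl⟩ := cent_r h hy hye hyr
  rw [h.f_mul, h.f_mul, a_comm_a, a_comm_a j]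

theorem inv {x : G} (hx : x ∈ S) (hxe : x * f (c k) (c k) = f (c k) (c k) * x)
    (hxr : x * f (c k) 1 = f (c k) 1 * x) (hxx : x * x = 1) :
    x = 1 ∨ x = f (z k) 1 ∨ x = f (c k) (c k) ∨ x = f (z k) 1 * f (c k) (c k) := by
  have hcc := c_sq h.hk
  obtain ⟨i, j, rfl⟩ := cent_r h hx hxe hxr
  rcases sq_cases_of_inv h hxx with ⟨h1, -⟩ | ⟨h1, h2⟩
  · rcases one_or_t h hxx (one_or_z_of_sq h1) with h3 | h3
    · exact Or.inl h3
    · exact Or.inr (Or.inl h3)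
  · rw [a_mul_a] at h1 h2
    have h1' := a.inj h1
    have h2' := a.inj h2
    rcases eq_c_of_sq h.hk h1' with h3 | h3 <;> rcases eq_c_of_sq h.hk h2' with h4 | h4 <;> rw [h3, h4]
    · exact Or.inr (Or.inr (Or.inl rfl))
    · right; right; right
      rw [t_mul h]
    · right; right; right
      rw [h.f_mul, one_mul]
    · right; right; left
      rw [h.f_z_mul]

end

end Cfsg.Agent.SylowSp4.CentUCoord
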