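import Cfsg.Agent.SylowSp4.CentUInst
import Cfsg.Agent.SylowSp4.FieldPart

/-!
# The centralizer of an involution of `u`-type: exports, from the product theorem in `C(e)`

`PD p` is the conclusion of the product theorem for the strongly closed subgroups `DE`, `Dc` of `C(e)`.
-/

set_option autoImplicit false

namespace Cfsg.Agent.SylowSp4.CentUData

open QuaternionGroup Cfsg.Agent.SylowSp4.Coord Cfsg.Agent.SylowSp4.Facts Cfsg.Agent.SylowSp4.Pat Subgroup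
open Cfsg.Agent.Walter.OddCoreIn Cfsg.Agent.SylowSp4.Pairs Cfsg.Agent.SylowSp4.CentUCoord
open Cfsg.Agent.SylowSp4.CentULoc Cfsg.Agent.SylowSp4.CentUInst Cfsg.Agent.SylowSp4.CentUMain
open Cfsg.Agent.SylowSp4.FieldPart

section General

variable {G : Type*} [Group G] {M : Subgroup G}

theorem coe_mem_OO {x : M} : (x : G) ∈ OO M ↔ x ∈ Cfsg.oddCore M := by
  constructor
  · rintro ⟨y, hy, h1⟩
    have : y = x := Subtype.ext h1
    rwa [← this]
  · intro hx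
    exact ⟨x, hx, rfl⟩

theorem mem_inf_conj [Finite G] {a b x g : G} :
    g * x * g⁻¹ ∈ OO (Cn (g * a * g⁻¹) ⊓ Cn (g * b * g⁻¹)) ↔ x ∈ OO (Cn a ⊓ Cn b) := by
  rw [Cn_conj, Cn_conj, ← Subgroup.map_inf _ _ _ (MulAut.conj g).injective, OO_conj]
  constructor
  · rintro ⟨y, hy, h1⟩
    have : y = x := (MulAut.conj g).injective h1
    rwa [← this]
  · intro hx
    exact ⟨x, hx, rfl⟩

end General

variable {G : Type*} [Group G] [Finite G] {P : Sylow 2 G} {k : ℕ} {f : Q k → Q k → G} {s : G} (p : Pat P k f s)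

include p

/-- Elements of odd order of `C(t) ∩ C(e)` lie in its core. -/
theorem odd_mem {g : G} (h1 : g ∈ Cn (tt f)) (h2 : g ∈ Cn (ee f)) (ho : Odd (orderOf g)) :
    g ∈ OO (Cn (tt f) ⊓ Cn (ee f)) := by
  obtain ⟨R, hR⟩ := exists_PY p
  have L := loc p hR
  obtain ⟨K, n⟩ := L.exists_nil
  have hK : K.map (Cn (ee f)).subtype ≤ OO (Cn (tt f) ⊓ Cn (ee f)) := by
    refine le_OO ?_ ?_ ?_
    · rintro _ ⟨x, hx, rfl⟩
      exact ⟨mem_Cn.2 (congrArg Subtype.val (n.le x hx)), x.2⟩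
    · rw [le_normalizer_iff']
      rintro a ha _ ⟨x, hx, rfl⟩
      refine ⟨⟨a, ha.2⟩ * x * ⟨a, ha.2⟩⁻¹, n.norm ⟨a, ha.2⟩ (Subtype.ext (mem_Cn.1 ha.1)) x hx, rfl⟩
    · rw [card_map_of_injective (subtype_injective _)]
      exact n.odd
  refine hK ⟨⟨g, h2⟩, n.mem _ (Subtype.ext (mem_Cn.1 h1)) ?_, rfl⟩
  rw [Subgroup.orderOf_mk]; exact ho

omit [Finite G] in
/-- The conclusion of the product theorem in `C(e)`. -/
def PD (p : Pat P k f s) : Prop :=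
  Prod ((DE p.h).subgroupOf (Cn (ee f))) ((Dc p.h).subgroupOf (Cn (ee f)))

omit [Finite G] in
theorem t1_eq : t1 f s = D f s 0 := by
  rw [t1, mul_assoc, p.h.s_f, ← mul_assoc, t_mul p.h, D, z_mul_xa]

omit [Finite G] in
theorem t1_Dc : t1 f s ∈ Dc p.h := by rw [t1_eq p]; exact Or.inr ⟨0, rfl⟩

omit [Finite G] in
theorem t1e_eq : t1 f s * ee f = D f s (qq k) := by
  rw [t1_eq p, D_e p, zero_add]

omit [Finite G] in
theorem t1_e : t1 f s * ee f = ee f * t1 f s := Dc_e p.h (t1_Dc p)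

omit [Finite G] in
theorem t1e_conj : IsConj (tt f) (t1 f s * ee f) := by rw [t1e_eq p]; exact D_t p _

omit [Finite G] in
theorem t1_t1e : t1 f s * (t1 f s * ee f) = ee f := by rw [← mul_assoc, t1_sq p, one_mul]

variable (hp : PD p)

include hp

/-- elements of odd order of `C(e)` centralise `Dc` modulo `O(C(e))` -/
theorem star_e {y : G} (hy : y ∈ Cn (ee f)) (ho : Odd (orderOf y)) {a : G} (ha : a ∈ Dc p.h) :
    y * a * y⁻¹ * a⁻¹ ∈ OO (Cn (ee f)) := by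
  obtain ⟨R, hR⟩ := exists_PY p
  have L := loc p hR
  have h1 := star L hp (y := ⟨y, hy⟩) (by rw [Subgroup.orderOf_mk]; exact ho)
  have h2 := mem_C0.1 h1 ⟨a, mem_Cn.2 (Dc_e p.h ha)⟩ ha
  exact coe_mem_OO.2 h2

/-- `C(e) = O(C(e)) C(Dc) (P ∩ C(e))` -/
theorem gen_e {y : G} (hy : y ∈ Cn (ee f)) :
    ∃ o ∈ OO (Cn (ee f)), ∃ c ∈ Cn (ee f), (∀ a ∈ Dc p.h, c * a = a * c) ∧ ∃ r ∈ (P : Subgroup G) ⊓ Cn (ee f),
      y = o * c * r := by
  obtain ⟨R, hR⟩ := exists_PY p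
  have L := loc p hR
  obtain ⟨o, ho, c, hc, r, hr, h1⟩ := gen L hp ⟨y, hy⟩
  rw [hR] at hr
  refine ⟨o, coe_mem_OO.2 ho, c, c.2, fun a ha => ?_, r, ⟨mem_subgroupOf.1 hr, r.2⟩, congrArg Subtype.val h1⟩
  have h2 := mem_centralizer_iff.1 hc ⟨a, mem_Cn.2 (Dc_e p.h ha)⟩ ha
  exact (congrArg Subtype.val h2).symm

/-- helper497's form -/
theorem Y_gen_of {y : G} (hy : y ∈ Cn (ee f)) :
    ∃ o ∈ OO (Cn (ee f)), ∃ c ∈ Cn (t1 f s) ⊓ Cn (ee f), ∃ r ∈ (P : Subgroup G) ⊓ Cn (ee f), y = o * c * r := by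
  obtain ⟨o, ho, c, hc, h1, r, hr, h2⟩ := gen_e p hp hy
  exact ⟨o, ho, c, ⟨mem_Cn.2 (h1 _ (t1_Dc p)), hc⟩, r, hr, h2⟩

/-- the standard pair: `O(C(e)) ∩ C(t₁) = O(C(t₁) ∩ C(t₁ e))` -/
theorem core_e : OO (Cn (ee f)) ⊓ Cn (t1 f s) = OO (Cn (t1 f s) ⊓ Cn (t1 f s * ee f)) := by
  obtain ⟨R, hR⟩ := exists_PY p
  have L := loc p hR
  have hinf : Cn (t1 f s) ⊓ Cn (t1 f s * ee f) = Cn (t1 f s) ⊓ Cn (ee f) := by
    ext x
    rw [mem_inf, mem_inf, mem_Cn, mem_Cn, mem_Cn]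
    generalize t1 f s = w
    refine and_congr_right fun h1 => ?_
    rw [← mul_assoc, h1, mul_assoc w x, mul_assoc w (ee f)]
    exact mul_right_inj w
  rw [hinf]
  apply le_antisymm
  · refine le_OO ?_ ?_ (not_dvd_of_le inf_le_left (OO_odd _))
    · exact fun x hx => ⟨hx.2, OO_le _ hx.1⟩
    · rw [le_normalizer_iff']
      intro a ha x hx
      refine ⟨conj_mem (le_normalizer_OO _) ha.2 hx.1, ?_⟩
      exact (Cn (t1 f s)).mul_mem ((Cn (t1 f s)).mul_mem ha.1 hx.2) ((Cn (t1 f s)).inv_mem ha.1)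
  · intro x hx
    have hx2 : x ∈ Cn (t1 f s) ⊓ Cn (ee f) := OO_le _ hx
    refine ⟨?_, hx2.1⟩
    have hle : OO (Cn (t1 f s) ⊓ Cn (ee f)) ≤ Cn (ee f) := (OO_le _).trans inf_le_right
    have h1 := core_le L hp (w := ⟨t1 f s, mem_Cn.2 (t1_e p)⟩) (t1_Dc p) (Subtype.ext (t1_sq p))
      (D := (OO (Cn (t1 f s) ⊓ Cn (ee f))).subgroupOf (Cn (ee f))) (by
        rw [Nat.card_congr (Subgroup.subgroupOfEquivOfLe hle).toEquiv]
        exact OO_odd _) (by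
        intro a ha y hy
        have h2 : (a : G) ∈ Cn (t1 f s) ⊓ Cn (ee f) := ⟨mem_Cn.2 (congrArg Subtype.val ha), a.2⟩
        exact conj_mem (le_normalizer_OO _) h2 hy)
    exact coe_mem_OO.2 (h1 (show (⟨x, hx2.2⟩ : Cn (ee f)) ∈ _ from hx))

omit hp in
/-- all commuting pairs of distinct conjugates of `t` are conjugate to `(t₁, t₁ e)` -/
theorem pairs' {a b : G} (ha : IsConj (tt f) a) (hb : IsConj (tt f) b) (hab : a * b = b * a) (hne : a ≠ b) :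
    ∃ g, g * a * g⁻¹ = t1 f s ∧ g * b * g⁻¹ = t1 f s * ee f := by
  obtain ⟨g₁, h1, h2⟩ := pairs p ha hb hab hne
  obtain ⟨g₂, h3, h4⟩ := pairs p (t1_conj p) (t1e_conj p) (by
    have e1 := t1_e p
    generalize t1 f s = w at e1 ⊢
    rw [mul_assoc w, ← e1]) (by
    intro h5
    have : ee f = 1 := mul_eq_left.1 h5.symm
    apply p.h.t_ne_one
    have h6 := te_u p
    rw [this, mul_one] at h6
    exact (isConj_one_right.1 h6))
  refine ⟨g₂⁻¹ * g₁, ?_, ?_⟩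
  · have e1 : g₂⁻¹ * g₁ * a * (g₂⁻¹ * g₁)⁻¹ = g₂⁻¹ * (g₁ * a * g₁⁻¹) * g₂ := by group
    rw [e1, h1]
    have e2 : g₂⁻¹ * (g₂ * t1 f s * g₂⁻¹) * g₂ = t1 f s := by
      generalize t1 f s = w
      group
    rw [h3] at e2
    exact e2
  · have e1 : g₂⁻¹ * g₁ * b * (g₂⁻¹ * g₁)⁻¹ = g₂⁻¹ * (g₁ * b * g₁⁻¹) * g₂ := by group
    rw [e1, h2]
    have e2 : g₂⁻¹ * (g₂ * (t1 f s * ee f) * g₂⁻¹) * g₂ = t1 f s * ee f := by
      generalize t1 f s * ee f = w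
      group
    rw [h4] at e2
    exact e2

/-- **The exports of the centralizer of a `u`-type involution.** -/
theorem udata_of : UData f := by
  constructor
  · intro a b ha hb hab hne y hy ho
    obtain ⟨g, h1, h2⟩ := pairs' p ha hb hab hne
    have h3 : g * (a * b) * g⁻¹ = ee f := by
      have e1 : g * (a * b) * g⁻¹ = (g * a * g⁻¹) * (g * b * g⁻¹) := by group
      rw [e1, h1, h2, t1_t1e p]
    have h4 := star_e p hp (y := g * y * g⁻¹) (by rw [← h3]; exact mem_Cn_conj hy) (by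
      have : orderOf (g * y * g⁻¹) = orderOf y := (MulAut.conj g).orderOf_eq y
      rw [this]; exact ho) (t1_Dc p)
    have e2 : g * y * g⁻¹ * t1 f s * (g * y * g⁻¹)⁻¹ * (t1 f s)⁻¹ = g * (y * a * y⁻¹ * a⁻¹) * g⁻¹ := by
      rw [← h1]; group
    rw [e2, ← h3] at h4
    exact mem_OO_conj_iff.1 h4
  · intro a b ha hb hab hne
    obtain ⟨g, h1, h2⟩ := pairs' p ha hb hab hne
    have h3 : g * (a * b) * g⁻¹ = ee f := by
      have e1 : g * (a * b) * g⁻¹ = (g * a * g⁻¹) * (g * b * g⁻¹) := by group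
      rw [e1, h1, h2, t1_t1e p]
    ext x
    rw [← mem_inf_conj (g := g), h1, h2, ← core_e p hp, mem_inf, mem_inf, ← mem_OO_conj_iff (g := g), h3,
      ← mem_Cn_conj_iff (g := g) (a := a), h1]

end Cfsg.Agent.SylowSp4.CentUData
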