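import Mathlib
import Cfsg.Agent.SylowSp4.CentUClosed
import Cfsg.Agent.Transfer.ThompsonReduction
import Cfsg.Prelude.Def_CaseTheorems

/-!
# The centralizer of an involution of `u`-type: `Dc O(Y)` is normal and centralised by the elements of odd order

`Prod` is the conclusion of Goldschmidt's product theorem for the strongly closed subgroups `DE`, `Dc`.
-/

set_option autoImplicit false

namespace Cfsg.Agent.SylowSp4.CentUMain

open Subgroup Cfsg.Agent.Lib.GoldschmidtFusion Cfsg.Agent.SylowSp4.CentUNil Cfsg.Agent.SylowSp4.CentULoc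
open Cfsg.Agent.SylowSp4.CentUClosed
open Cfsg.Agent.Walter.OddCoreIn
open scoped commutatorElement

section General

variable {Y : Type*} [Group Y] [Finite Y]

theorem coprime_of_not_dvd {n : ℕ} (h : ¬ 2 ∣ n) : n.Coprime 2 :=
  ((Nat.Prime.coprime_iff_not_dvd Nat.prime_two).2 h).symm

theorem oddCore_odd : ¬ 2 ∣ Nat.card (Cfsg.oddCore Y) :=
  (Nat.Prime.coprime_iff_not_dvd Nat.prime_two).1 (Cfsg.Agent.Lib.Cores.pPrimeCore_coprime 2).symm

/-- an odd order subgroup normalised by a normal subgroup containing it -/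
theorem le_oddCore {N D : Subgroup Y} (hN : N.Normal) (hDN : D ≤ N) (hnorm : N ≤ normalizer (D : Set Y))
    (hD : ¬ 2 ∣ Nat.card D) : D ≤ Cfsg.oddCore Y := by
  have h1 : D ≤ OO N := le_OO hDN hnorm hD
  have h2 : OO N = N ⊓ Cfsg.oddCore Y := Cfsg.Agent.Lib.Cores.map_subtype_pPrimeCore 2 hN
  rw [h2] at h1
  exact h1.trans inf_le_right

/-- Frattini: an element commuting with the 2-element `x` modulo the core is a product of a core element and an element
commuting with `x`. -/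
theorem exists_comm {x : Y} (hx : x * x = 1) {y : Y} (hy : y * x * y⁻¹ * x⁻¹ ∈ Cfsg.oddCore Y) :
    ∃ o ∈ Cfsg.oddCore Y, (o * y) * x = x * (o * y) := by
  have hf : Fact (Nat.Prime 2) := ⟨Nat.prime_two⟩
  by_cases hx1 : x = 1
  · exact ⟨1, one_mem _, by rw [hx1]; simp⟩
  set O := Cfsg.oddCore Y with hO
  have hON : O.Normal := Cfsg.Agent.Lib.Cores.pPrimeCore_normal 2
  have hp : ∀ a : Y, a * a = 1 → IsPGroup 2 (zpowers a) := by
    intro a ha
    rintro ⟨b, hb⟩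
    obtain ⟨k, rfl⟩ := mem_zpowers_iff.1 hb
    refine ⟨1, Subtype.ext ?_⟩
    rw [pow_one]
    change (a ^ k) ^ 2 = 1
    rw [← zpow_natCast, ← zpow_mul, mul_comm, zpow_mul, zpow_natCast, pow_two, ha, one_zpow]
  set x' := y * x * y⁻¹ with hx'
  have hx'x' : x' * x' = 1 := by
    calc x' * x' = y * (x * x) * y⁻¹ := by rw [hx']; group
      _ = 1 := by rw [hx]; group
  have h1 : zpowers x' ⊔ O = zpowers x ⊔ O := by
    have e1 : x' = (x' * x⁻¹) * x := by group
    have e2 : x = (x' * x⁻¹)⁻¹ * x' := by group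
    apply le_antisymm
    · refine sup_le ?_ le_sup_right
      rw [zpowers_le, e1]
      exact mul_mem (mem_sup_right hy) (mem_sup_left (mem_zpowers x))
    · refine sup_le ?_ le_sup_right
      rw [zpowers_le, e2]
      exact mul_mem (mem_sup_right (inv_mem hy)) (mem_sup_left (mem_zpowers x'))
  obtain ⟨o, ho, h2⟩ := Cfsg.Agent.Transfer.ThompsonReduction.exists_conj_of_sup_eq (p := 2) (zpowers x) (zpowers x') O
    (hp x hx) (hp x' hx'x') (Cfsg.Agent.Lib.Cores.pPrimeCore_coprime 2) h1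
  refine ⟨o, ho, ?_⟩
  have h3 := (h2 x').1 (mem_zpowers x')
  obtain ⟨k, hk⟩ := mem_zpowers_iff.1 h3
  have h4 : x ^ k = 1 ∨ x ^ k = x := by
    rcases Int.even_or_odd' k with ⟨j, rfl | rfl⟩
    · left
      rw [zpow_mul, zpow_ofNat, pow_two, hx, one_zpow]
    · right
      rw [zpow_add, zpow_mul, zpow_ofNat, pow_two, hx, one_zpow, one_mul, zpow_one]
  rcases h4 with h4 | h4
  · exfalso
    rw [h4] at hk
    apply hx1
    have : x = (o * y)⁻¹ * (o * x' * o⁻¹) * (o * y) := by rw [hx']; group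
    rw [this, ← hk]; group
  · rw [h4] at hk
    have h5 : (o * y) * x * (o * y)⁻¹ = x := by
      refine Eq.trans ?_ hk.symm
      rw [hx']; group
    exact mul_inv_eq_iff_eq_mul.1 h5

end General

section

variable {Y : Type*} [Group Y] [Finite Y] {P : Sylow 2 Y} {DE Dc : Subgroup Y} {t e r : Y} {T : Y → Prop}

/-- The conclusion of the product theorem. -/
def Prod (DE Dc : Subgroup Y) : Prop :=
  ⁅normalClosure (Dc : Set Y), normalClosure (DE : Set Y)⁆ ≤ Cfsg.oddCore Y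

/-- every element commuting with `t e` modulo the core -/
theorem decomp (h : Loc (P : Subgroup Y) DE Dc t e r T) {y : Y}
    (hy : y * (t * e) * y⁻¹ * (t * e)⁻¹ ∈ Cfsg.oddCore Y) : ∃ o ∈ Cfsg.oddCore Y, (o * y) * t = t * (o * y) := by
  obtain ⟨o, ho, h1⟩ := exists_comm h.te_te hy
  exact ⟨o, ho, h.comm_te_iff.1 h1⟩

/-- **`Dc O(Y)` is normal in `Y`.** -/
theorem conj_mem (h : Loc (P : Subgroup Y) DE Dc t e r T) (hprod : Prod DE Dc) (g : Y) {a : Y} (ha : a ∈ Dc) :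
    ∃ b ∈ Dc, ∃ o ∈ Cfsg.oddCore Y, g * a * g⁻¹ = b * o := by
  have hf : Fact (Nat.Prime 2) := ⟨Nat.prime_two⟩
  obtain ⟨K, n⟩ := h.exists_nil
  set O := Cfsg.oddCore Y with hO
  have hON : O.Normal := Cfsg.Agent.Lib.Cores.pPrimeCore_normal 2
  set N := normalClosure (Dc : Set Y) with hN
  have hNn : N.Normal := normalClosure_normal
  have hDcN : Dc ≤ N := le_normalClosure
  -- `N` commutes with `t e` modulo `O`
  have hNte : ∀ x ∈ N, x * (t * e) * x⁻¹ * (t * e)⁻¹ ∈ O := by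
    intro x hx
    have h1 : ⁅x, t * e⁆ ∈ ⁅N, normalClosure (DE : Set Y)⁆ :=
      commutator_mem_commutator hx (le_normalClosure h.te_mem)
    exact hprod h1
  let W : Subgroup Y :=
    { carrier := {y | y * (t * e) * y⁻¹ * (t * e)⁻¹ ∈ O}
      one_mem' := by
        change 1 * (t * e) * 1⁻¹ * (t * e)⁻¹ ∈ O
        rw [one_mul, inv_one, mul_one, mul_inv_cancel]; exact one_mem _
      mul_mem' := by
        intro a b ha hb
        have e1 : a * b * (t * e) * (a * b)⁻¹ * (t * e)⁻¹ =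
            (a * (b * (t * e) * b⁻¹ * (t * e)⁻¹) * a⁻¹) * (a * (t * e) * a⁻¹ * (t * e)⁻¹) := by group
        change a * b * (t * e) * (a * b)⁻¹ * (t * e)⁻¹ ∈ O
        rw [e1]
        exact mul_mem (hON.conj_mem _ hb a) ha
      inv_mem' := by
        intro a ha
        have e1 : a⁻¹ * (t * e) * a⁻¹⁻¹ * (t * e)⁻¹ = a⁻¹ * (a * (t * e) * a⁻¹ * (t * e)⁻¹)⁻¹ * a⁻¹⁻¹ := by group
        change a⁻¹ * (t * e) * a⁻¹⁻¹ * (t * e)⁻¹ ∈ O
        rw [e1]
        exact hON.conj_mem _ (inv_mem ha) _ }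
  have hW : ∀ y, y ∈ W ↔ y * (t * e) * y⁻¹ * (t * e)⁻¹ ∈ O := fun y => Iff.rfl
  have hNW : N ≤ W := fun x hx => hNte x hx
  have hPW : (P : Subgroup Y) ≤ W := by
    intro x hx
    rw [hW, ← h.te_comm hx, mul_inv_cancel_right, mul_inv_cancel]
    exact one_mem _
  have hWdec : ∀ y ∈ W, ∃ o ∈ O, ∃ c : Y, c * t = t * c ∧ y = o * c := by
    intro y hy
    obtain ⟨o, ho, h1⟩ := decomp h ((hW y).1 hy)
    exact ⟨o⁻¹, inv_mem ho, o * y, h1, by group⟩
  -- `N ∩ (O K) ≤ O`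
  have hOK : ¬ 2 ∣ Nat.card (K ⊔ O : Subgroup Y) :=
    not_dvd_sup Nat.prime_two (by
      intro x _
      rw [mem_normalizer_iff]
      intro y
      exact ⟨fun hy => hON.conj_mem y hy x, fun hy => by
        have := hON.conj_mem _ hy x⁻¹
        have e1 : x⁻¹ * (x * y * x⁻¹) * x⁻¹⁻¹ = y := by group
        rwa [e1] at this⟩) n.odd oddCore_odd
  have hNOK : N ⊓ (K ⊔ O) ≤ O := by
    refine le_oddCore hNn inf_le_left ?_ ?_
    · rw [le_normalizer_iff']
      intro x hx y hy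
      refine mem_inf.2 ⟨hNn.conj_mem y hy.1 x, ?_⟩
      obtain ⟨o, ho, c, hc, rfl⟩ := hWdec x (hNW hx)
      have h1 : ∀ y ∈ K ⊔ O, c * y * c⁻¹ ∈ K ⊔ O := by
        have : K ⊔ O ≤ (K ⊔ O).comap (MulAut.conj c).toMonoidHom := by
          refine sup_le ?_ ?_
          · intro y hy
            have : c * y * c⁻¹ ∈ K ⊔ O := mem_sup_left (n.norm c hc y hy)
            simpa using this
          · intro y hy
            have : c * y * c⁻¹ ∈ K ⊔ O := mem_sup_right (hON.conj_mem y hy c)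
            simpa using this
        intro y hy
        have := this hy
        simpa using this
      have e1 : o * c * y * (o * c)⁻¹ = o * (c * y * c⁻¹) * o⁻¹ := by group
      rw [e1]
      exact mul_mem (mul_mem (mem_sup_right ho) (h1 y hy.2)) (mem_sup_right (inv_mem ho))
    · exact not_dvd_of_le inf_le_right hOK
  -- conjugation inside `W`
  have hPWi : ¬ 2 ∣ (P : Subgroup Y).relIndex W := by
    intro hd
    exact P.not_dvd_index (hd.trans (relIndex_dvd_index_of_le hPW))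
  obtain ⟨w, hwW, hw⟩ := exists_conj_le_in (p := 2) P.isPGroup' hPWi (D := Dc.map (MulAut.conj g).toMonoidHom) (by
      rintro _ ⟨b, hb, rfl⟩
      have : g * b * g⁻¹ ∈ W := hNW (hNn.conj_mem b (hDcN hb) g)
      simpa using this) ((P.isPGroup'.to_le h.Dc_le).map _)
  have hwg : ∀ b ∈ Dc, (w * g) * b * (w * g)⁻¹ ∈ (P : Subgroup Y) := by
    intro b hb
    have h1 : w * (g * b * g⁻¹) * w⁻¹ ∈ (P : Subgroup Y) := hw ⟨_, ⟨b, hb, rfl⟩, by simp⟩
    have e1 : (w * g) * b * (w * g)⁻¹ = w * (g * b * g⁻¹) * w⁻¹ := by group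
    rw [e1]; exact h1
  have hb := h.conj_Dc hwg ha
  set b := (w * g) * a * (w * g)⁻¹ with hbdef
  have hga : g * a * g⁻¹ = w⁻¹ * b * w := by rw [hbdef]; group
  obtain ⟨o, ho, c, hc, rfl⟩ := hWdec w hwW
  obtain ⟨k, hk, p, hp, rfl⟩ := n.gen c hc
  -- `o⁻¹ b o = b o₁`
  have h1 : b⁻¹ * (o⁻¹ * b * o) ∈ O := by
    have e1 : b⁻¹ * (o⁻¹ * b * o) = (b⁻¹ * o⁻¹ * b⁻¹⁻¹) * o := by group
    rw [e1]
    exact mul_mem (hON.conj_mem _ (inv_mem ho) _) ho
  -- `k⁻¹ b k = b o₂`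
  have hbt : b * t = t * b := (h.t_comm b (h.Dc_le hb)).symm
  have h2 : b⁻¹ * (k⁻¹ * b * k) ∈ O := by
    refine hNOK (mem_inf.2 ⟨?_, mem_sup_left ?_⟩)
    · refine mul_mem (inv_mem (hDcN hb)) ?_
      have := hNn.conj_mem b (hDcN hb) k⁻¹
      simpa using this
    · have e1 : b⁻¹ * (k⁻¹ * b * k) = (b⁻¹ * k⁻¹ * b⁻¹⁻¹) * k := by group
      rw [e1]
      refine mul_mem (n.norm b⁻¹ ?_ _ (inv_mem hk)) hk
      rw [inv_mul_eq_iff_eq_mul, ← mul_assoc, hbt, mul_inv_cancel_right]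
  refine ⟨p⁻¹ * b * p⁻¹⁻¹, h.normc _ (inv_mem hp) b hb, p⁻¹ * ((b⁻¹ * (k⁻¹ * b * k)) *
    (k⁻¹ * (b⁻¹ * (o⁻¹ * b * o)) * k⁻¹⁻¹)) * p⁻¹⁻¹, ?_, ?_⟩
  · exact hON.conj_mem _ (mul_mem h2 (hON.conj_mem _ h1 _)) _
  · rw [hga]; group

/-- Frattini argument for `Dc`. -/
theorem exists_normalizer (h : Loc (P : Subgroup Y) DE Dc t e r T) (hprod : Prod DE Dc) (y : Y) :
    ∃ o ∈ Cfsg.oddCore Y, o * y ∈ normalizer (Dc : Set Y) := by
  have hf : Fact (Nat.Prime 2) := ⟨Nat.prime_two⟩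
  set O := Cfsg.oddCore Y with hO
  have hON : O.Normal := Cfsg.Agent.Lib.Cores.pPrimeCore_normal 2
  have key : ∀ g : Y, Dc.map (MulAut.conj g).toMonoidHom ≤ Dc ⊔ O := by
    rintro g _ ⟨a, ha, rfl⟩
    obtain ⟨b, hb, o, ho, h1⟩ := conj_mem h hprod g ha
    have : g * a * g⁻¹ ∈ Dc ⊔ O := by
      rw [h1]
      exact mul_mem (mem_sup_left hb) (mem_sup_right ho)
    simpa using this
  have hsup : Dc.map (MulAut.conj y).toMonoidHom ⊔ O = Dc ⊔ O := by
    apply le_antisymm (sup_le (key y) le_sup_right)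
    refine sup_le ?_ le_sup_right
    intro a ha
    obtain ⟨b, hb, o, ho, h1⟩ := conj_mem h hprod y⁻¹ ha
    have e1 : a = (y * b * y⁻¹) * (y * o * y⁻¹) := by
      have : a = y * (y⁻¹ * a * y⁻¹⁻¹) * y⁻¹ := by group
      rw [this, h1]; group
    rw [e1]
    exact mul_mem (mem_sup_left ⟨b, hb, by simp⟩) (mem_sup_right (hON.conj_mem o ho y))
  have hDp : IsPGroup 2 Dc := P.isPGroup'.to_le h.Dc_le
  obtain ⟨o, ho, h2⟩ := Cfsg.Agent.Transfer.ThompsonReduction.exists_conj_of_sup_eq (p := 2) Dc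
    (Dc.map (MulAut.conj y).toMonoidHom) O hDp (hDp.map _) (Cfsg.Agent.Lib.Cores.pPrimeCore_coprime 2) hsup
  refine ⟨o, ho, mem_normalizer_iff_map_conj.2 (map_conj_le_of_le_normalizer ?_)⟩
  rintro _ ⟨a, ha, rfl⟩
  have h3 := (h2 (y * a * y⁻¹)).1 ⟨a, ha, by simp⟩
  have e1 : o * y * a * (o * y)⁻¹ = o * (y * a * y⁻¹) * o⁻¹ := by group
  have h4 : o * y * a * (o * y)⁻¹ ∈ Dc := by rw [e1]; exact h3
  exact h4

omit [Finite Y] in
/-- an odd-order element normalising `Dc` centralises it -/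
theorem centralizes (h : Loc (P : Subgroup Y) DE Dc t e r T) {g : Y} (hg : g ∈ normalizer (Dc : Set Y))
    (ho : Odd (orderOf g)) : g ∈ centralizer (Dc : Set Y) := by
  have hgD : ∀ a ∈ Dc, g * a * g⁻¹ ∈ Dc := fun a ha => (mem_normalizer_iff.1 hg a).1 ha
  have h2 : ∀ a ∈ Dc, ∃ k : ℕ, a ^ 2 ^ k = 1 := by
    intro a ha
    obtain ⟨k, hk⟩ := P.isPGroup' ⟨a, h.Dc_le ha⟩
    exact ⟨k, by simpa using congrArg Subtype.val hk⟩
  have hconj2 : ∀ a, (g * a * g⁻¹) * (g * a * g⁻¹) = g * (a * a) * g⁻¹ := fun a => by group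
  have hge : g * e * g⁻¹ = e := h.conj_e g
  -- the cyclic part
  have c1 : ∀ m : ℕ, ∀ a ∈ Dc, a ^ 2 ^ m = 1 → (a * a ≠ 1 ∨ a = 1 ∨ a = e) → g * a * g⁻¹ = a := by
    intro m
    induction m with
    | zero =>
      intro a _ ha _
      rw [pow_zero, pow_one] at ha
      rw [ha]; group
    | succ m ih =>
      intro a haD ha hcase
      rcases hcase with haa | rfl | rfl
      · have hsq : g * (a * a) * g⁻¹ = a * a := by
          refine ih (a * a) (mul_mem haD haD) ?_ ?_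
          · rw [← pow_two, ← pow_mul, ← pow_succ', ha]
          · by_cases h4 : (a * a) * (a * a) = 1
            · right
              exact h.c_inv a haD haa (a * a) (mul_mem haD haD) h4 (mul_assoc a a a)
            · exact Or.inl h4
        set b := g * a * g⁻¹ with hb
        have hbD : b ∈ Dc := hgD a haD
        have hbb : b * b = a * a := by rw [hb, hconj2, hsq]
        have hcom : a * b = b * a := h.c_comm a haD haa b hbD (by rw [hbb]; exact haa)
        have hw : (a⁻¹ * b) * (a⁻¹ * b) = 1 := by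
          have e0 : b * a⁻¹ = a⁻¹ * b := by
            rw [eq_inv_mul_iff_mul_eq, ← mul_assoc, hcom, mul_inv_cancel_right]
          calc (a⁻¹ * b) * (a⁻¹ * b) = a⁻¹ * (b * a⁻¹) * b := by group
            _ = a⁻¹ * (a⁻¹ * b) * b := by rw [e0]
            _ = (a * a)⁻¹ * (b * b) := by group
            _ = 1 := by rw [hbb, inv_mul_cancel]
        have hwa : (a⁻¹ * b) * a = a * (a⁻¹ * b) := by
          rw [mul_assoc, ← hcom]; group
        have hwc := h.c_inv a haD haa (a⁻¹ * b) (mul_mem (inv_mem haD) hbD) hw hwa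
        have hgw : g * (a⁻¹ * b) * g⁻¹ = a⁻¹ * b := by
          rcases hwc with h5 | h5
          · rw [h5]; group
          · rw [h5, hge]
        have h6 := eq_one_of_shift (g := g) (x := a) (w := a⁻¹ * b) ho (by rw [← hb]; group) hgw ⟨1, by
          rw [pow_one, pow_two]; exact hw⟩
        exact (eq_of_inv_mul_eq_one h6).symm
      · group
      · exact hge
  -- the involutions
  have c2 : ∀ w ∈ Dc, w * w = 1 → w ≠ 1 → w ≠ e → g * w * g⁻¹ = w := by
    intro w hw hww hw1 hwe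
    set w' := g * w * g⁻¹ with hw'
    have hw'D := hgD w hw
    have hw'w' : w' * w' = 1 := by rw [hw', hconj2, hww]; group
    have hw'1 : w' ≠ 1 := by
      intro h1
      apply hw1
      have : w = g⁻¹ * w' * g := by rw [hw']; group
      rw [this, h1]; group
    have hw'e : w' ≠ e := by
      intro h1
      apply hwe
      have : w = g⁻¹ * w' * g⁻¹⁻¹ := by rw [hw']; group
      rw [this, h1, h.conj_e]
    have h3 := h.c_prod w hw w' hw'D ⟨hww, hw1, hwe⟩ ⟨hw'w', hw'1, hw'e⟩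
    have hcD : w * w' ∈ Dc := mul_mem hw hw'D
    obtain ⟨m, hm⟩ := h2 _ hcD
    have h4 : g * (w * w') * g⁻¹ = w * w' := by
      refine c1 m _ hcD hm ?_
      rcases h3 with h3 | h3 | h3
      · exact Or.inr (Or.inl h3)
      · exact Or.inr (Or.inr h3)
      · exact Or.inl h3
    have h5 : g * w * g⁻¹ = w * (w * w') := by
      rw [← mul_assoc, hww, one_mul]
    have h6 := eq_one_of_shift ho h5 h4 ⟨m, hm⟩
    exact h5.trans (by rw [h6, mul_one])
  rw [mem_centralizer_iff]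
  intro a ha
  refine (mul_inv_eq_iff_eq_mul.1 ?_).symm
  by_cases haa : a * a = 1
  · by_cases ha1 : a = 1
    · rw [ha1]; group
    by_cases hae : a = e
    · rw [hae]; exact hge
    exact c2 a ha haa ha1 hae
  · obtain ⟨m, hm⟩ := h2 a ha
    exact c1 m a ha hm (Or.inl haa)

/-- `Y = O(Y) C(Dc) P` -/
theorem gen (h : Loc (P : Subgroup Y) DE Dc t e r T) (hprod : Prod DE Dc) (y : Y) :
    ∃ o ∈ Cfsg.oddCore Y, ∃ c ∈ centralizer (Dc : Set Y), ∃ s ∈ (P : Subgroup Y), y = o * c * s := by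
  have hf : Fact (Nat.Prime 2) := ⟨Nat.prime_two⟩
  obtain ⟨o, ho, h1⟩ := exists_normalizer h hprod y
  have hPN : (P : Subgroup Y) ≤ normalizer (Dc : Set Y) := le_normalizer_iff'.2 fun s hs a ha => h.normc s hs a ha
  obtain ⟨s, hs, c, hc, h2⟩ := exists_mul_of_pGroup_automizer P (B := Dc) (by
      rw [inf_eq_left.2 hPN]
      intro hd
      exact P.not_dvd_index (hd.trans (relIndex_dvd_index_of_le hPN)))
    (fun g hg hg2 => centralizes h hg (odd_of_coprime hg2)) h1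
  refine ⟨o⁻¹, inv_mem ho, s * c * s⁻¹, ?_, s, hs.1, ?_⟩
  · rw [mem_centralizer_iff]
    intro a ha
    have h3 : s⁻¹ * a * s⁻¹⁻¹ ∈ Dc := h.normc s⁻¹ (inv_mem hs.1) a ha
    have h4 := mem_centralizer_iff.1 hc _ h3
    calc a * (s * c * s⁻¹) = s * ((s⁻¹ * a * s⁻¹⁻¹) * c) * s⁻¹ := by group
      _ = s * (c * (s⁻¹ * a * s⁻¹⁻¹)) * s⁻¹ := by rw [h4]
      _ = s * c * s⁻¹ * a := by group
  · have h3 : y = o⁻¹ * (o * y) := by group
    rw [h3, h2]; group

/-- The centraliser of `Dc` modulo the core. -/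
def C0 (Dc : Subgroup Y) : Subgroup Y :=
  (centralizer ((Dc.map (QuotientGroup.mk' (Cfsg.oddCore Y)) : Subgroup (Y ⧸ Cfsg.oddCore Y)) :
    Set (Y ⧸ Cfsg.oddCore Y))).comap (QuotientGroup.mk' (Cfsg.oddCore Y))

omit [Finite Y] in
theorem mem_C0 {Dc : Subgroup Y} {y : Y} : y ∈ C0 Dc ↔ ∀ a ∈ Dc, y * a * y⁻¹ * a⁻¹ ∈ Cfsg.oddCore Y := by
  have key : ∀ a : Y, (QuotientGroup.mk' (Cfsg.oddCore Y) a * QuotientGroup.mk' (Cfsg.oddCore Y) y =
      QuotientGroup.mk' (Cfsg.oddCore Y) y * QuotientGroup.mk' (Cfsg.oddCore Y) a) ↔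
      y * a * y⁻¹ * a⁻¹ ∈ Cfsg.oddCore Y := by
    intro a
    have h0 : y * a * y⁻¹ * a⁻¹ ∈ Cfsg.oddCore Y ↔ QuotientGroup.mk' (Cfsg.oddCore Y) (y * a * y⁻¹ * a⁻¹) = 1 := by
      rw [← MonoidHom.mem_ker, QuotientGroup.ker_mk']
    rw [h0, map_mul, map_mul, map_mul, map_inv, map_inv, mul_inv_eq_one, mul_inv_eq_iff_eq_mul]
    exact eq_comm
  rw [C0, mem_comap, mem_centralizer_iff]
  constructor
  · intro h1 a ha
    exact (key a).1 (h1 _ ⟨a, ha, rfl⟩)
  · rintro h1 _ ⟨a, ha, rfl⟩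
    exact (key a).2 (h1 a ha)

theorem C0_normal (h : Loc (P : Subgroup Y) DE Dc t e r T) (hprod : Prod DE Dc) : (C0 Dc).Normal := by
  have hON : (Cfsg.oddCore Y).Normal := Cfsg.Agent.Lib.Cores.pPrimeCore_normal 2
  refine ⟨fun x hx g => ?_⟩
  rw [mem_C0] at hx ⊢
  intro a ha
  obtain ⟨b, hb, o, ho, h1⟩ := conj_mem h hprod g⁻¹ ha
  -- `g⁻¹ a g = b o`
  have h2 := hx b hb
  have h3 : a = g * (b * o) * g⁻¹ := by rw [← h1]; group
  have e1 : g * x * g⁻¹ * a * (g * x * g⁻¹)⁻¹ * a⁻¹ =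
      g * ((x * b * x⁻¹ * b⁻¹) * (b * (x * o * x⁻¹) * b⁻¹) * (b * o⁻¹ * b⁻¹)) * g⁻¹ := by
    rw [h3]; group
  rw [e1]
  exact hON.conj_mem _ (mul_mem (mul_mem h2 (hON.conj_mem _ (hON.conj_mem _ ho _) _))
    (hON.conj_mem _ (inv_mem ho) _)) _

/-- **(star)** elements of odd order centralise `Dc` modulo the core -/
theorem star (h : Loc (P : Subgroup Y) DE Dc t e r T) (hprod : Prod DE Dc) {y : Y} (hy : Odd (orderOf y)) :
    y ∈ C0 Dc := by
  have hf : Fact (Nat.Prime 2) := ⟨Nat.prime_two⟩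
  have hON : (Cfsg.oddCore Y).Normal := Cfsg.Agent.Lib.Cores.pPrimeCore_normal 2
  have hn := C0_normal h hprod
  have hOC : ∀ o ∈ Cfsg.oddCore Y, o ∈ C0 Dc := by
    intro o ho
    rw [mem_C0]
    intro a _
    have e1 : o * a * o⁻¹ * a⁻¹ = o * (a * o⁻¹ * a⁻¹) := by group
    rw [e1]
    exact mul_mem ho (hON.conj_mem _ (inv_mem ho) a)
  have hcC : ∀ c ∈ centralizer (Dc : Set Y), c ∈ C0 Dc := by
    intro c hc
    rw [mem_C0]
    intro a ha
    rw [← mem_centralizer_iff.1 hc a ha, mul_inv_cancel_right, mul_inv_cancel]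
    exact one_mem _
  have hp : IsPGroup 2 (Y ⧸ C0 Dc) := by
    intro q
    obtain ⟨y, rfl⟩ := QuotientGroup.mk_surjective q
    obtain ⟨o, ho, c, hc, s, hs, rfl⟩ := gen h hprod y
    obtain ⟨k, hk⟩ := P.isPGroup' ⟨s, hs⟩
    refine ⟨k, ?_⟩
    have h1 : ((o * c * s : Y) : Y ⧸ C0 Dc) = (s : Y ⧸ C0 Dc) := by
      rw [QuotientGroup.mk_mul, (QuotientGroup.eq_one_iff _).2 (mul_mem (hOC o ho) (hcC c hc)), one_mul]
    rw [h1, ← QuotientGroup.mk_pow]
    have h2 : s ^ 2 ^ k = 1 := by simpa using congrArg Subtype.val hk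
    rw [h2, QuotientGroup.mk_one]
  have h1 := Cfsg.Agent.Transfer.NormalPComplement.map_eq_one_of_coprime hp (QuotientGroup.mk' (C0 Dc)) (g := y)
    (Nat.coprime_two_right.2 hy)
  rw [← MonoidHom.mem_ker, QuotientGroup.ker_mk'] at h1
  exact h1

/-- cores of centralisers of involutions of `Dc` lie in the core -/
theorem core_le (h : Loc (P : Subgroup Y) DE Dc t e r T) (hprod : Prod DE Dc) {w : Y} (hw : w ∈ Dc) (hww : w * w = 1)
    {D : Subgroup Y} (hD : ¬ 2 ∣ Nat.card D)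
    (hnorm : ∀ c : Y, c * w = w * c → ∀ x ∈ D, c * x * c⁻¹ ∈ D) : D ≤ Cfsg.oddCore Y := by
  have hON : (Cfsg.oddCore Y).Normal := Cfsg.Agent.Lib.Cores.pPrimeCore_normal 2
  have hn := C0_normal h hprod
  have hDC : D ≤ C0 Dc := by
    intro x hx
    refine star h hprod ?_
    rw [← Nat.not_even_iff_odd, even_iff_two_dvd]
    intro h2
    apply hD
    have := orderOf_dvd_natCard (⟨x, hx⟩ : D)
    rw [orderOf_mk] at this
    exact h2.trans this
  have hOC : Cfsg.oddCore Y ≤ C0 Dc := by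
    intro o ho
    rw [mem_C0]
    intro a _
    have e1 : o * a * o⁻¹ * a⁻¹ = o * (a * o⁻¹ * a⁻¹) := by group
    rw [e1]
    exact mul_mem ho (hON.conj_mem _ (inv_mem ho) a)
  have hle : D ⊔ Cfsg.oddCore Y ≤ Cfsg.oddCore Y := by
    refine le_oddCore hn (sup_le hDC hOC) ?_ ?_
    · rw [le_normalizer_iff']
      intro y hy x hx
      obtain ⟨o, ho, h1⟩ := exists_comm hww (mem_C0.1 hy w hw)
      -- `y = o⁻¹ c`
      have h2 : D ⊔ Cfsg.oddCore Y ≤ (D ⊔ Cfsg.oddCore Y).comap (MulAut.conj (o * y)).toMonoidHom := by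
        refine sup_le ?_ ?_
        · intro z hz
          have : (o * y) * z * (o * y)⁻¹ ∈ D ⊔ Cfsg.oddCore Y := mem_sup_left (hnorm _ h1 z hz)
          exact this
        · intro z hz
          have : (o * y) * z * (o * y)⁻¹ ∈ D ⊔ Cfsg.oddCore Y := mem_sup_right (hON.conj_mem z hz _)
          exact this
      have h3 : (o * y) * x * (o * y)⁻¹ ∈ D ⊔ Cfsg.oddCore Y := by
        exact h2 hx
      have e1 : y * x * y⁻¹ = o⁻¹ * ((o * y) * x * (o * y)⁻¹) * o := by group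
      rw [e1]
      exact mul_mem (mul_mem (mem_sup_right (inv_mem ho)) h3) (mem_sup_right ho)
    · refine not_dvd_sup Nat.prime_two ?_ hD oddCore_odd
      exact le_normalizer_iff'.2 fun x _ o ho => hON.conj_mem o ho x
  exact le_sup_left.trans hle

end

end Cfsg.Agent.SylowSp4.CentUMain
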