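import Cfsg.Agent.SylowSp4.CentUCoord
import Cfsg.Agent.SylowSp4.CentUMain
import Cfsg.Agent.SylowSp4.Pairs

/-!
# The centralizer of an involution of `u`-type: the local configuration of `C(e)`

`PY p` : a Sylow 2-subgroup of `C(e)` with underlying subgroup `P ∩ C(e)`; `loc p` : the configuration of `CentULoc`.
-/

set_option autoImplicit false

namespace Cfsg.Agent.SylowSp4.CentUInst

open QuaternionGroup Cfsg.Agent.SylowSp4.Coord Cfsg.Agent.SylowSp4.Facts Cfsg.Agent.SylowSp4.Pat Subgroup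
open Cfsg.Agent.Walter.OddCoreIn Cfsg.Agent.SylowSp4.Pairs Cfsg.Agent.SylowSp4.CentUCoord
open Cfsg.Agent.SylowSp4.CentULoc

section Sylow

variable {G : Type*} [Group G] {S : Subgroup G} {k : ℕ} {f : Q k → Q k → G} {s : G} (h : TSp S k f s)

include h

theorem ee_sq : ee f * ee f = 1 := by
  rw [h.f_mul, c_sq h.hk, h.f_zz]

theorem conj_e_cases {b : G} (hb : b ∈ S) : b * ee f = ee f * b ∨ b * ee f = (tt f * ee f) * b := by
  have key : ∀ α : Q k, α * c k = c k * α ∨ α * c k = z k * (c k * α) := by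
    rintro (i | j)
    · left; rw [c_def, a_comm_a]
    · right; exact xa_c h.hk j
  have key2 : ∀ α β : Q k, f α β * ee f = ee f * f α β ∨ f α β * ee f = (tt f * ee f) * f α β := by
    intro α β
    have e1 : tt f * ee f * f α β = f (z k * (c k * α)) (c k * β) := by
      rw [h.f_mul, h.f_mul, one_mul, mul_assoc]
    rw [e1, h.f_mul, h.f_mul]
    rcases key α with h1 | h1 <;> rcases key β with h2 | h2 <;> rw [h1, h2]
    · exact Or.inl rfl
    · right; rw [f_congr_z h]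
    · exact Or.inr rfl
    · left; rw [h.f_z_mul]
  rcases (h.mem_iff b).1 hb with ⟨α, β, rfl⟩ | ⟨α, β, rfl⟩
  · exact key2 α β
  · have e1 : f α β * s * ee f = f α β * ee f * s := by
      rw [mul_assoc, h.s_f, ← mul_assoc]
    rw [e1, ← mul_assoc, ← mul_assoc, mul_left_inj, mul_left_inj]
    exact key2 α β

theorem y0_e : f (xa 0) 1 * ee f = (tt f * ee f) * f (xa 0) 1 := by
  rw [h.f_mul, h.f_mul, h.f_mul, one_mul, mul_one, xa_c h.hk, mul_assoc]

theorem te_ne_one : tt f * ee f ≠ 1 := by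
  intro h1
  rw [te_eq h, A_eq_one_iff h, two_qq h.hk] at h1
  exact z_ne_one (k := k) (by rw [z_def, h1, one_def])

theorem t_sq' : tt f * tt f = 1 := by rw [h.f_mul, z_mul_z, one_mul, h.f_one]

theorem te_mul_t : tt f * ee f * ee f = tt f := by rw [mul_assoc, ee_sq h, mul_one]

theorem relIndex_e : (S ⊓ Cn (ee f)).relIndex S = 2 := by
  rw [relIndex_eq_two_iff]
  refine ⟨f (xa 0) 1, h.f_mem _ _, fun b hb => ?_⟩
  have ht : ∀ x ∈ S, tt f * x = x * tt f := fun x hx => h.t_comm hx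
  have hy := y0_e h
  have hte : tt f * ee f ≠ ee f := by
    intro h1
    exact h.t_ne_one (mul_eq_right.1 h1)
  have hm : ∀ x ∈ S, x ∈ S ⊓ Cn (ee f) ↔ x * ee f = ee f * x := fun x hx => by
    rw [mem_inf, mem_Cn]
    exact ⟨fun h1 => h1.2, fun h1 => ⟨hx, h1⟩⟩
  rw [hm b hb, hm _ (mul_mem hb (h.f_mem _ _))]
  have h2 : b * f (xa 0) 1 * ee f = tt f * (b * ee f) * f (xa 0) 1 := by
    rw [mul_assoc, hy]
    calc b * (tt f * ee f * f (xa 0) 1) = (b * tt f) * ee f * f (xa 0) 1 := by group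
      _ = _ := by rw [← ht b hb]; group
  rw [h2]
  rcases conj_e_cases h hb with h1 | h1 <;> rw [h1]
  · right
    refine ⟨rfl, fun h3 => hte ?_⟩
    have h4 : tt f * ee f * (b * f (xa 0) 1) = ee f * (b * f (xa 0) 1) := by
      rw [← h3]; group
    exact mul_right_cancel h4
  · left
    refine ⟨?_, fun h3 => hte (mul_right_cancel h3)⟩
    calc tt f * (tt f * ee f * b) * f (xa 0) 1 = (tt f * tt f) * ee f * b * f (xa 0) 1 := by group
      _ = _ := by rw [t_sq' h]; group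

/-- involutions of the centre -/
theorem center_inv {x : G} (hx : x ∈ S) (hxc : ∀ y ∈ S, x * y = y * x) (hxx : x * x = 1) : x = 1 ∨ x = tt f := by
  have hte : tt f * ee f ≠ ee f := by
    intro h1
    exact h.t_ne_one (mul_eq_right.1 h1)
  have hy := y0_e h
  have hyS : f (xa 0) 1 ∈ S := h.f_mem _ _
  rcases CentUCoord.inv h hx (hxc _ (h.f_mem _ _)) (hxc _ (h.f_mem _ _)) hxx with h1 | h1 | h1 | h1
  · exact Or.inl h1
  · exact Or.inr h1
  · exfalso
    have h2 := hxc _ hyS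
    rw [h1] at h2
    exact hte (mul_right_cancel (hy.symm.trans h2.symm))
  · exfalso
    have h2 := hxc _ hyS
    rw [h1] at h2
    have h3 : f (xa 0) 1 * (tt f * ee f) = ee f * f (xa 0) 1 := by
      calc f (xa 0) 1 * (tt f * ee f) = (f (xa 0) 1 * tt f) * ee f := by group
        _ = tt f * (f (xa 0) 1 * ee f) := by rw [← h.t_comm hyS]; group
        _ = (tt f * tt f) * ee f * f (xa 0) 1 := by rw [hy]; group
        _ = _ := by rw [t_sq' h, one_mul]
    exact hte (mul_right_cancel (h2.trans h3))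

end Sylow

variable {G : Type*} [Group G] {P : Sylow 2 G} {k : ℕ} {f : Q k → Q k → G} {s : G} (p : Pat P k f s)

include p

/-- `P ∩ C(e)` is a Sylow 2-subgroup of `C(e)`. -/
theorem exists_PY [Finite G] : ∃ R : Sylow 2 (Cn (ee f)), (R : Subgroup (Cn (ee f))) = (P : Subgroup G).subgroupOf (Cn (ee f)) := by
  have hf : Fact (Nat.Prime 2) := ⟨Nat.prime_two⟩
  have h := p.h
  set E := Cn (ee f) with hE
  have hX : IsPGroup 2 ((P : Subgroup G).subgroupOf E) := P.isPGroup'.comap_of_injective E.subtype E.subtype_injective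
  obtain ⟨R, hR⟩ := hX.exists_le_sylow
  refine ⟨R, le_antisymm ?_ hR⟩
  by_contra hcon
  -- `R` is a Sylow 2-subgroup of `G`
  set R' : Subgroup G := (R : Subgroup E).map E.subtype with hR'
  have hR'p : IsPGroup 2 R' := R.isPGroup'.map _
  have hXR : (P : Subgroup G) ⊓ E ≤ R' := by
    intro x hx
    exact ⟨⟨x, hx.2⟩, hR (mem_subgroupOf.2 hx.1), rfl⟩
  obtain ⟨g, hg⟩ := hR'p.exists_le_sylow
  have hcardR : Nat.card R' = Nat.card R := card_map_of_injective (subtype_injective _)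
  have hlt : ((P : Subgroup G) ⊓ E) < R' := by
    refine lt_of_le_of_ne hXR fun h1 => hcon ?_
    intro x hx
    have h2 : (x : G) ∈ R' := ⟨x, hx, rfl⟩
    rw [← h1] at h2
    exact mem_subgroupOf.2 h2.1
  have hcard : Nat.card ((P : Subgroup G) ⊓ E : Subgroup G) * 2 = Nat.card (P : Subgroup G) := by
    have h1 := relIndex_mul_relIndex (⊥ : Subgroup G) ((P : Subgroup G) ⊓ E) (P : Subgroup G) bot_le inf_le_left
    rw [relIndex_bot_left, relIndex_bot_left, relIndex_e h] at h1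
    exact h1
  have hge : Nat.card (P : Subgroup G) ≤ Nat.card R' := by
    obtain ⟨m, hm⟩ := Subgroup.card_dvd_of_le hlt.le
    have h1 : Nat.card ((P : Subgroup G) ⊓ E : Subgroup G) ≠ Nat.card R' := by
      intro h2
      exact hlt.ne (Subgroup.eq_of_le_of_card_ge hlt.le h2.ge)
    have hpos : 0 < Nat.card ((P : Subgroup G) ⊓ E : Subgroup G) := Nat.card_pos
    have hm2 : 2 ≤ m := by
      by_contra hm1
      have : m = 0 ∨ m = 1 := by omega
      rcases this with rfl | rfl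
      · rw [mul_zero] at hm
        have : 0 < Nat.card R' := Nat.card_pos
        omega
      · rw [mul_one] at hm
        exact h1 hm.symm
    rw [← hcard, hm]
    exact Nat.mul_le_mul_left _ hm2
  have hgR : R' = (g : Subgroup G) := by
    refine Subgroup.eq_of_le_of_card_ge hg ?_
    have h1 : Nat.card (g : Subgroup G) = Nat.card (P : Subgroup G) := Nat.card_congr (g.equiv P).toEquiv
    rw [h1]; exact hge
  obtain ⟨x, hx⟩ := MulAction.exists_smul_eq G g P
  have hxg : ∀ y ∈ R', x * y * x⁻¹ ∈ (P : Subgroup G) := by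
    intro y hy
    rw [hgR] at hy
    have := Subgroup.smul_mem_pointwise_smul _ (MulAut.conj x) _ hy
    rw [← hx, Sylow.coe_subgroup_smul]
    simpa using this
  have hxg' : ∀ y ∈ (P : Subgroup G), x⁻¹ * y * x ∈ R' := by
    intro y hy
    rw [← hx, Sylow.coe_subgroup_smul, mem_pointwise_smul_iff_inv_smul_mem] at hy
    rw [hgR]
    have : (MulAut.conj x)⁻¹ • y = x⁻¹ * y * x := by
      rw [← map_inv]; simp
    rwa [this] at hy
  have heP : ee f ∈ (P : Subgroup G) := h.f_mem _ _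
  have heR : ee f ∈ R' := hXR ⟨heP, mem_Cn.2 rfl⟩
  have h1 := center_inv h (hxg _ heR) (by
    intro y hy
    obtain ⟨w, -, hw⟩ := hxg' y hy
    have h2 : (w : G) * ee f = ee f * w := mem_Cn.1 w.2
    have h3 : x⁻¹ * y * x * ee f = ee f * (x⁻¹ * y * x) := by
      rw [← hw]; exact h2
    calc x * ee f * x⁻¹ * y = x * (ee f * (x⁻¹ * y * x)) * x⁻¹ := by group
      _ = x * (x⁻¹ * y * x * ee f) * x⁻¹ := by rw [h3]
      _ = _ := by group) (by
    calc x * ee f * x⁻¹ * (x * ee f * x⁻¹) = x * (ee f * ee f) * x⁻¹ := by group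
      _ = 1 := by rw [ee_sq h]; group)
  rcases h1 with h1 | h1
  · have h2 : ee f = 1 := by
      have : ee f = x⁻¹ * (x * ee f * x⁻¹) * x := by group
      rw [this, h1]; group
    have h3 : f (c k) (c k) ≠ 1 := by
      rw [← h.f_one, Ne, h.f_eq_iff]
      rintro (⟨h3, -⟩ | ⟨h3, -⟩)
      · exact ne_one_of_sq_z (c_sq h.hk) h3
      · rw [mul_one] at h3
        exact ne_z_of_sq_z (c_sq h.hk) h3
    exact h3 h2
  · exact p.tu (isConj_iff.2 ⟨x, h1⟩).symm

/-! ### Types of the involutions -/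

/-- `B i` is of `u`-type. -/
theorem B_u (i : ZMod (2 * 2 ^ k)) : IsConj (ee f) (B f s i) := by
  have h1 := p.u_conj' (z k * a i)
  have h2 : f (z k * (z k * a i)) (z k * a i)⁻¹ * s = B f s i := by
    rw [B, zz_mul, z_mul_a, a_inv]
    rw [a_congr (show -(hh k + i) = hh k - i by linear_combination -hh_add (k := k))]
  rwa [h2] at h1

/-- `A i s` -/
theorem A_t (i : ZMod (2 * 2 ^ k)) : IsConj (tt f) (f (a i) (a (-i)) * s) := by
  have h1 := p.t_conj (a i)
  rwa [a_inv] at h1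

theorem D_t (i : ZMod (2 * 2 ^ k)) : IsConj (tt f) (D f s i) := by
  have h1 := p.t_conj (xa i)
  rw [xa_inv] at h1
  exact h1

theorem D_e (i : ZMod (2 * 2 ^ k)) : D f s i * ee f = D f s (i + qq k) := D_mul_C p.h i (qq k)

theorem B_e (i : ZMod (2 * 2 ^ k)) : B f s i * ee f = f (a (i + qq k)) (a (-(i + qq k))) * s := by
  rw [B, p.h.fs_mul_f, c_def, a_mul_a, a_mul_a,
    a_congr (show hh k - i + qq k = -(i + qq k) by linear_combination two_qq p.h.hk + hh_add (k := k))]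

theorem te_u : IsConj (ee f) (tt f * ee f) := by
  have h1 := p.u_conj (c k) (z k * c k) (c_sq p.h.hk) (mul_sq_z (c_sq p.h.hk))
  rwa [← t_mul p.h] at h1

theorem not_t_of_u {x : G} (hx : IsConj (ee f) x) : ¬ IsConj (tt f) x := fun h1 => p.tu (h1.trans hx.symm)

/-- `(y z, y⁻¹) s` commuting with `e`: product with `e` is of `u`-type. -/
theorem DD_e (i : ZMod (2 * 2 ^ k)) : IsConj (ee f) (f (z k * xa i) (xa i)⁻¹ * s * ee f) := by
  have h1 := p.u_conj' (xa (i + qq k))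
  have h2 : f (z k * xa (i + qq k)) (xa (i + qq k))⁻¹ * s = f (z k * xa i) (xa i)⁻¹ * s * ee f := by
    rw [p.h.fs_mul_f, xa_inv, xa_inv, c_def, z_mul_xa, z_mul_xa, xa_mul_a,
      xa_congr (show i + qq k + hh k = i + hh k + qq k by ring)]
  rwa [h2] at h1

theorem tT_e (i : ZMod (2 * 2 ^ k)) : IsConj (ee f) (f (a i) (a i)⁻¹ * s * ee f) := by
  have h1 := p.u_conj' (a (i + qq k))
  have h2 : f (z k * a (i + qq k)) (a (i + qq k))⁻¹ * s = f (a i) (a i)⁻¹ * s * ee f := by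
    rw [p.h.fs_mul_f, a_inv, a_inv, c_def, z_mul_a, a_mul_a, a_mul_a, ← p.h.f_z_mul, z_mul_a, z_mul_a]
    have H := hh_add (k := k)
    have H2 := two_qq p.h.hk
    rw [a_congr (show hh k + (hh k + (i + qq k)) = i + qq k by linear_combination H),
      a_congr (show hh k + -(i + qq k) = -i + qq k by linear_combination -H2)]
  rwa [h2] at h1

/-! ### The four class conditions -/

omit p in
theorem conj_mul_e {g x : G} (hg : g * ee f = ee f * g) : g * x * g⁻¹ * ee f = g * (x * ee f) * g⁻¹ := by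
  calc g * x * g⁻¹ * ee f = g * x * (g⁻¹ * (ee f * g)) * g⁻¹ := by group
    _ = g * x * (g⁻¹ * (g * ee f)) * g⁻¹ := by rw [hg]
    _ = _ := by group

theorem cIII {d : G} (hd : d ∈ P) (hde : d * ee f = ee f * d) (hdd : d * d = 1) (h1 : ¬ IsConj (tt f) d)
    (h2 : IsConj (tt f) (d * ee f)) : d ∈ DE p.h := by
  have h := p.h
  rcases Facts.inv_cases h hd hdd with h3 | h3 | ⟨α, β, hα, hβ, h3⟩ | ⟨α, h3⟩ | ⟨α, h3⟩
  · rw [h3]; exact one_mem _
  · exact absurd (by rw [h3]) h1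
  · have h4 : d * ee f ∈ (P : Subgroup G) := mul_mem hd (h.f_mem _ _)
    have h5 : (d * ee f) * (d * ee f) = 1 := by
      calc (d * ee f) * (d * ee f) = d * (ee f * d) * ee f := by group
        _ = (d * d) * (ee f * ee f) := by rw [← hde]; group
        _ = 1 := by rw [hdd, ee_sq h, one_mul]
    have h6 : d * ee f ≠ 1 := ne_one_of_conj p h2
    rcases (p.t_iff h4 h5 h6).1 h2 with h7 | ⟨γ, h7⟩
    · have h8 : d = tt f * ee f := by
        rw [← h7, mul_assoc, ee_sq h, mul_one]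
      rw [h8]; exact te_mem h
    · exfalso
      rw [h3, h.f_mul] at h7
      exact h.fs_ne _ _ _ _ h7.symm
  · exact absurd (h3 ▸ p.t_conj α) h1
  · rcases α with i | j
    · refine Or.inr ⟨hh k + i, ?_⟩
      rw [h3, B, z_mul_a, a_inv]
      have H := hh_add (k := k)
      rw [a_congr (show -i = hh k - (hh k + i) by ring)]
    · exfalso
      refine not_t_of_u p ?_ h2
      rw [h3]
      exact DD_e p j

theorem dIII {d : G} (hd : d ∈ DE p.h) (hdd : d * d = 1) (hd1 : d ≠ 1) :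
    ¬ IsConj (tt f) d ∧ IsConj (tt f) (d * ee f) := by
  have h := p.h
  rcases hd with ⟨i, rfl⟩ | ⟨i, rfl⟩
  · rcases A_sq_one h hdd with h1 | h1
    · exact absurd h1 hd1
    · rw [h1, ← te_eq h]
      refine ⟨not_t_of_u p (te_u p), ?_⟩
      rw [te_mul_t h]
  · refine ⟨not_t_of_u p (B_u p i), ?_⟩
    rw [B_e p]
    exact A_t p _

theorem cI {w : G} (hw : w ∈ P) (hww : w * w = 1) (h1 : IsConj (tt f) w)
    (h2 : IsConj (tt f) (w * ee f)) : w ∈ Dc p.h := by
  have h := p.h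
  rcases (p.t_iff hw hww (ne_one_of_conj p h1)).1 h1 with h3 | ⟨α, h3⟩
  · exfalso
    rw [h3] at h2
    exact not_t_of_u p (te_u p) h2
  · rcases α with i | j
    · exfalso
      refine not_t_of_u p ?_ h2
      rw [h3]
      exact tT_e p i
    · refine Or.inr ⟨j, ?_⟩
      rw [h3, D, xa_inv]

theorem dI {w : G} (hw : w ∈ Dc p.h) (hww : w * w = 1) (hw1 : w ≠ 1) (hwe : w ≠ ee f) :
    IsConj (tt f) w ∧ IsConj (tt f) (w * ee f) := by
  have h := p.h
  rcases hw with ⟨i, rfl⟩ | ⟨i, rfl⟩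
  · exfalso
    rcases C_sq_one h hww with h1 | h1
    · exact hw1 h1
    · exact hwe h1
  · exact ⟨D_t p i, by rw [D_e p]; exact D_t p _⟩

theorem normE {x : G} (hx : x ∈ P) (hxe : x * ee f = ee f * x) {a : G} (ha : a ∈ DE p.h) : x * a * x⁻¹ ∈ DE p.h := by
  have h := p.h
  have key : ∀ w ∈ DE p.h, w * w = 1 → w ≠ 1 → x * w * x⁻¹ ∈ DE p.h := by
    intro w hw hww hw1
    obtain ⟨h1, h2⟩ := dIII p hw hww hw1
    have hwe := DE_e h hw
    refine cIII p (mul_mem (mul_mem hx (DE_le h hw)) (inv_mem hx)) ?_ ?_ ?_ ?_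
    · calc x * w * x⁻¹ * ee f = x * (w * ee f) * x⁻¹ := conj_mul_e hxe
        _ = (x * ee f) * w * x⁻¹ := by rw [hwe]; group
        _ = _ := by rw [hxe]; group
    · calc x * w * x⁻¹ * (x * w * x⁻¹) = x * (w * w) * x⁻¹ := by group
        _ = 1 := by rw [hww]; group
    · exact fun h3 => h1 (h3.trans (isConj_iff.2 ⟨x⁻¹, by group⟩))
    · rw [conj_mul_e hxe]
      exact h2.trans (isConj_iff.2 ⟨x, rfl⟩)
  obtain ⟨w₁, hw₁, w₂, hw₂, ⟨a1, a2⟩, ⟨b1, b2⟩, h1⟩ := e_gen h ha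
  rcases h1 with rfl | rfl
  · have e1 : x * (w₁ * w₂) * x⁻¹ = (x * w₁ * x⁻¹) * (x * w₂ * x⁻¹) := by group
    rw [e1]
    exact mul_mem (key _ hw₁ a1 a2) (key _ hw₂ b1 b2)
  · exact key _ hw₁ a1 a2

theorem normc {x : G} (hx : x ∈ P) (hxe : x * ee f = ee f * x) {a : G} (ha : a ∈ Dc p.h) : x * a * x⁻¹ ∈ Dc p.h := by
  have h := p.h
  have key : ∀ w ∈ Dc p.h, w * w = 1 → w ≠ 1 → w ≠ ee f → x * w * x⁻¹ ∈ Dc p.h := by
    intro w hw hww hw1 hwe
    obtain ⟨h1, h2⟩ := dI p hw hww hw1 hwe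
    refine cI p (mul_mem (mul_mem hx (Dc_le h hw)) (inv_mem hx)) ?_ ?_ ?_
    · calc x * w * x⁻¹ * (x * w * x⁻¹) = x * (w * w) * x⁻¹ := by group
        _ = 1 := by rw [hww]; group
    · exact h1.trans (isConj_iff.2 ⟨x, rfl⟩)
    · rw [conj_mul_e hxe]
      exact h2.trans (isConj_iff.2 ⟨x, rfl⟩)
  obtain ⟨w₁, hw₁, w₂, hw₂, ⟨a1, a2, a3⟩, ⟨b1, b2, b3⟩, h1⟩ := c_gen h ha
  rcases h1 with rfl | rfl
  · have e1 : x * (w₁ * w₂) * x⁻¹ = (x * w₁ * x⁻¹) * (x * w₂ * x⁻¹) := by group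
    rw [e1]
    exact mul_mem (key _ hw₁ a1 a2 a3) (key _ hw₂ b1 b2 b3)
  · exact key _ hw₁ a1 a2 a3

omit p in
/-- the elements of `Y = C(e)` -/
theorem Y_e (y : Cn (ee f)) : (y : G) * ee f = ee f * (y : G) := mem_Cn.1 y.2

omit p in
/-- `t` as an element of `Y` -/
abbrev tY (p : Pat P k f s) : Cn (ee f) := ⟨tt f, mem_Cn.2 (by rw [p.h.t_comm (p.h.f_mem _ _)])⟩

omit p in
/-- `e` as an element of `Y` -/
abbrev eY (_p : Pat P k f s) : Cn (ee f) := ⟨ee f, mem_Cn.2 rfl⟩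

omit p in
/-- `r = (x₀, 1)` as an element of `Y` -/
abbrev rY (p : Pat P k f s) : Cn (ee f) := ⟨f (c k) 1, mem_Cn.2 (by rw [p.h.f_mul, p.h.f_mul, one_mul, mul_one])⟩

/-- **The local configuration of `Y = C(e)`.** -/
theorem loc {R : Subgroup (Cn (ee f))} (hR : R = (P : Subgroup G).subgroupOf (Cn (ee f))) :
    Loc R ((DE p.h).subgroupOf (Cn (ee f))) ((Dc p.h).subgroupOf (Cn (ee f))) (tY p) (eY p) (rY p)
      (fun y => IsConj (tt f) (y : G)) := by
  subst hR
  have h := p.h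
  refine ⟨?_, ?_, ?_, ?_, ?_, ?_, ?_, ?_, ?_, ?_, ?_, ?_, ?_, ?_, ?_, ?_, ?_, ?_, ?_, ?_, ?_, ?_, ?_, ?_, ?_, ?_, ?_, ?_, ?_, ?_, ?_, ?_⟩
  · exact Subtype.ext (ee_sq h)
  · exact fun x => Subtype.ext (Y_e x).symm
  · exact Subtype.ext (t_sq' h)
  · exact fun x hx => Subtype.ext (h.t_comm hx)
  · exact h.f_mem _ _
  · exact h.f_mem _ _
  · exact Subtype.ext (root_sq h (c_sq h.hk))
  · intro x hx hxx
    rcases CentUCoord.root h hx (Y_e x) (congrArg Subtype.val hxx) with h1 | h1 | h1 | h1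
    · exact Or.inl (Subtype.ext h1)
    · exact Or.inr (Or.inl (Subtype.ext h1))
    · exact Or.inr (Or.inr (Or.inl (Subtype.ext h1)))
    · exact Or.inr (Or.inr (Or.inr (Subtype.ext h1)))
  · intro x hx hxr y hy hyr
    exact Subtype.ext (CentUCoord.abel h hx (Y_e x) (congrArg Subtype.val hxr) hy (Y_e y) (congrArg Subtype.val hyr))
  · intro x hx hxr hxx
    rcases CentUCoord.inv h hx (Y_e x) (congrArg Subtype.val hxr) (congrArg Subtype.val hxx) with h1 | h1 | h1 | h1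
    · exact Or.inl (Subtype.ext h1)
    · exact Or.inr (Or.inl (Subtype.ext h1))
    · exact Or.inr (Or.inr (Or.inl (Subtype.ext h1)))
    · exact Or.inr (Or.inr (Or.inr (Subtype.ext h1)))
  · exact te_mem h
  · intro h1
    exact te_ne_one h (congrArg Subtype.val h1)
  · exact e_mem h
  · exact fun x hx => DE_le h hx
  · exact fun x hx => Dc_le h hx
  · exact fun x hx y hy => Subtype.ext (comm h hx hy)
  · exact fun x hx hy => Subtype.ext (disj h hx hy)
  · exact fun x hx a ha => normE p hx (Y_e x) ha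
  · exact fun x hx a ha => normc p hx (Y_e x) ha
  · exact fun g y hy => hy.trans (isConj_iff.2 ⟨(g : G), rfl⟩)
  · exact fun d hd hdd h1 h2 => cIII p hd (Y_e d) (congrArg Subtype.val hdd) h1 h2
  · exact fun d hd hdd hd1 => dIII p hd (congrArg Subtype.val hdd) fun h1 => hd1 (Subtype.ext h1)
  · exact fun w hw hww h1 h2 => cI p hw (congrArg Subtype.val hww) h1 h2
  · exact fun w hw hww hw1 hwe => dI p hw (congrArg Subtype.val hww) (fun h1 => hw1 (Subtype.ext h1))
      fun h1 => hwe (Subtype.ext h1)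
  · intro a ha haa
    obtain ⟨m, hm⟩ := E_pow h ha fun h1 => haa (Subtype.ext h1)
    exact ⟨m, Subtype.ext hm⟩
  · intro a ha haa
    rcases E_sq h ha (congrArg Subtype.val haa) with h1 | h1
    · exact Or.inl (Subtype.ext h1)
    · exact Or.inr (Subtype.ext h1)
  · exact fun a ha d hd haa hdd hd1 hdt => Subtype.ext (E_refl h ha hd (fun h1 => haa (Subtype.ext h1))
      (congrArg Subtype.val hdd) (fun h1 => hd1 (Subtype.ext h1)) fun h1 => hdt (Subtype.ext h1))
  · intro d hd hdd hd1 hdt x hx hxd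
    obtain ⟨v, hv, y, hy, h1⟩ := E_cent h hd (congrArg Subtype.val hdd) (fun h1 => hd1 (Subtype.ext h1))
      (fun h1 => hdt (Subtype.ext h1)) hx (Y_e x) (congrArg Subtype.val hxd)
    have hyY : y ∈ Cn (ee f) := mem_Cn.2 (Dc_e h hy)
    rcases hv with rfl | rfl | rfl | rfl
    · exact ⟨1, Or.inl rfl, ⟨y, hyY⟩, hy, Subtype.ext h1⟩
    · exact ⟨d, Or.inr (Or.inl rfl), ⟨y, hyY⟩, hy, Subtype.ext h1⟩
    · exact ⟨_, Or.inr (Or.inr (Or.inl rfl)), ⟨y, hyY⟩, hy, Subtype.ext h1⟩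
    · exact ⟨_, Or.inr (Or.inr (Or.inr rfl)), ⟨y, hyY⟩, hy, Subtype.ext h1⟩
  · intro a ha
    obtain ⟨w₁, hw₁, w₂, hw₂, ⟨a1, a2, a3⟩, ⟨b1, b2, b3⟩, h1⟩ := c_gen h ha
    refine ⟨⟨w₁, mem_Cn.2 (Dc_e h hw₁)⟩, hw₁, ⟨w₂, mem_Cn.2 (Dc_e h hw₂)⟩, hw₂, ⟨Subtype.ext a1, ?_, ?_⟩,
      ⟨Subtype.ext b1, ?_, ?_⟩, ?_⟩
    · exact fun h2 => a2 (congrArg Subtype.val h2)
    · exact fun h2 => a3 (congrArg Subtype.val h2)
    · exact fun h2 => b2 (congrArg Subtype.val h2)
    · exact fun h2 => b3 (congrArg Subtype.val h2)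
    · rcases h1 with h1 | h1
      · exact Or.inl (Subtype.ext h1)
      · exact Or.inr (Subtype.ext h1)
  · exact fun a ha haa b hb hbb => Subtype.ext (c_comm h ha (fun h1 => haa (Subtype.ext h1)) hb
      fun h1 => hbb (Subtype.ext h1))
  · intro a ha haa w hw hww hwa
    rcases c_inv h ha (fun h1 => haa (Subtype.ext h1)) hw (congrArg Subtype.val hww) (congrArg Subtype.val hwa)
      with h1 | h1
    · exact Or.inl (Subtype.ext h1)
    · exact Or.inr (Subtype.ext h1)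
  · rintro w₁ hw₁ w₂ hw₂ ⟨a1, a2, a3⟩ ⟨b1, b2, b3⟩
    rcases c_prod h hw₁ hw₂ ⟨congrArg Subtype.val a1, fun h1 => a2 (Subtype.ext h1), fun h1 => a3 (Subtype.ext h1)⟩
      ⟨congrArg Subtype.val b1, fun h1 => b2 (Subtype.ext h1), fun h1 => b3 (Subtype.ext h1)⟩ with h1 | h1 | h1
    · exact Or.inl (Subtype.ext h1)
    · exact Or.inr (Or.inl (Subtype.ext h1))
    · exact Or.inr (Or.inr fun h2 => h1 (congrArg Subtype.val h2))

end Cfsg.Agent.SylowSp4.CentUInst
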