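import Cfsg.Agent.SylowSp4.CentSmall

/-!
# Type `PSp_4(q)`, `q` odd: the centralizer of `t`

`P` is a Sylow 2-subgroup with coordinates `TSp P k f s` and `t = f (z k) 1` is central in `G` (apply everything to
the centralizer of `t`).
(A) `not_conj_base`: no involution of `P` outside the base group is conjugate to an element of the base group.
(B) `exists_index_two`: a normal subgroup `K` of index two with `K ⊓ P = base`.
-/

set_option autoImplicit false

namespace Cfsg.Agent.SylowSp4.CentZ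

open Subgroup QuaternionGroup Cfsg.Agent.SylowSp4.Coord Cfsg.Agent.SylowSp4.Facts Cfsg.Agent.SylowSp4.Extremal
open Cfsg.Agent.SylowSp4.CentA Cfsg.Agent.SylowSp4.Base
open Cfsg.Agent.Lib.GoldschmidtFusion

variable {G : Type*} [Group G] [Finite G] {P : Sylow 2 G} {k : ℕ} {f : Q k → Q k → G} {s : G}

theorem no_fusion (h : TSp (P : Subgroup G) k f s) (hZ : ∀ g : G, g * f (z k) 1 = f (z k) 1 * g) {g : G}
    (hg : ∃ α β, g * s * g⁻¹ = f α β)
    (hC : ∀ y ∈ (P : Subgroup G), y * s = s * y → g * y * g⁻¹ ∈ (P : Subgroup G)) : False := by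
  rcases Nat.lt_or_ge k 2 with h1 | h1
  · have hk := h.hk
    obtain rfl : k = 1 := by omega
    exact CentSmall.no_fusion_small h hZ hg hC
  · exact no_fusion_large h hZ h1 hg hC

/-- `s` is not conjugate to an element of the base group. -/
theorem s_not_conj (h : TSp (P : Subgroup G) k f s) (hZ : ∀ g : G, g * f (z k) 1 = f (z k) 1 * g) (g : G) :
    ¬ ∃ α β, g * s * g⁻¹ = f α β := by
  rintro ⟨α, β, hg⟩
  obtain ⟨v, hvP, hv⟩ := exists_extremal P h.s_mem
  by_cases hvb : ∃ α β, v = f α β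
  · obtain ⟨g', hg', hC⟩ := hv s h.s_mem ⟨1, by simp⟩
    rw [← hg'] at hvb
    exact no_fusion h hZ hvb hC
  · obtain ⟨g', hg', hC⟩ := hv (f α β) (h.f_mem _ _) ⟨g, hg⟩
    have hsq : f α β * f α β = 1 := by
      rw [← hg]
      calc g * s * g⁻¹ * (g * s * g⁻¹) = g * (s * s) * g⁻¹ := by group
        _ = 1 := by rw [h.s_s]; group
    have hU : α * α = z k ∧ β * β = z k := by
      rcases sq_cases_of_inv h hsq with ⟨h3, -⟩ | h3
      · exfalso
        rcases one_or_t h hsq (eq_of_sq_one h3) with h4 | h4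
        · rw [h4] at hg
          exact s_not_base h ⟨1, 1, by rw [h.f_one]; exact conj_eq_one h hZ hg⟩
        · rw [h4] at hg
          exact s_not_base h ⟨z k, 1, conj_eq_t h hZ hg⟩
      · exact h3
    have hc : f α 1 * f α β = f α β * f α 1 := by rw [h.f_mul, h.f_mul, one_mul, mul_one]
    have h1 := hC _ (h.f_mem α 1) hc
    have h2 : (g' * f α 1 * g'⁻¹) * (g' * f α 1 * g'⁻¹) = f (z k) 1 := by
      calc (g' * f α 1 * g'⁻¹) * (g' * f α 1 * g'⁻¹) = g' * (f α 1 * f α 1) * g'⁻¹ := by group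
        _ = f (z k) 1 := by rw [root_sq h hU.1, conj_t h hZ]
    have h3 : v * (g' * f α 1 * g'⁻¹) = (g' * f α 1 * g'⁻¹) * v := by
      rw [← hg']
      have : g' * (f α β * f α 1) * g'⁻¹ = g' * (f α 1 * f α β) * g'⁻¹ := by rw [hc]
      simpa [mul_assoc] using this
    obtain ⟨μ, hμ, h4 | h4⟩ := root_cases h h1 h2
    · rw [h4] at h3
      obtain ⟨γ, δ, -, h5⟩ := centralizer_root h hvP hμ h3
      exact hvb ⟨γ, δ, h5⟩
    · rw [h4] at h3
      obtain ⟨γ, δ, -, h5⟩ := centralizer_root' h hvP hμ h3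
      exact hvb ⟨γ, δ, h5⟩

/-- (A) No involution of `P` outside the base group is conjugate to an element of the base group. -/
theorem not_conj_base (h : TSp (P : Subgroup G) k f s) (hZ : ∀ g : G, g * f (z k) 1 = f (z k) 1 * g) {x : G}
    (hx : x ∈ (P : Subgroup G)) (hx2 : x * x = 1) (hxb : ¬ ∃ α β, x = f α β) (g : G) :
    ¬ ∃ α β, g * x * g⁻¹ = f α β := by
  intro hg
  rcases inv_cases h hx hx2 with h1 | h1 | ⟨α, β, -, -, h1⟩ | ⟨α, h1⟩ | ⟨α, h1⟩
  · exact absurd ⟨1, 1, by rw [h1, h.f_one]⟩ hxb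
  · exact absurd ⟨_, _, h1⟩ hxb
  · exact absurd ⟨_, _, h1⟩ hxb
  · rw [← conj_s h] at h1
    apply s_not_conj h hZ (g * f α 1)
    obtain ⟨γ, δ, h2⟩ := hg
    refine ⟨γ, δ, ?_⟩
    rw [← h2, h1]; group
  · rw [← conj_ts h] at h1
    apply s_not_conj (tau h) hZ (g * f α 1)
    obtain ⟨γ, δ, h2⟩ := hg
    refine ⟨γ, δ, ?_⟩
    rw [← h2, h1]; group

/-- (B) There is a normal subgroup `K` of index two with `K ⊓ P = base`. -/
theorem exists_index_two (h : TSp (P : Subgroup G) k f s) (hZ : ∀ g : G, g * f (z k) 1 = f (z k) 1 * g) :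
    ∃ K : Subgroup G, K.Normal ∧ K.index = 2 ∧ K ⊓ (P : Subgroup G) = base h ∧ s ∉ K := by
  obtain ⟨V, hV⟩ := exists_transfer P (base h) (relIndex_base h)
  have htb : f (z k) 1 ∈ base h := (mem_base h).2 ⟨_, _, rfl⟩
  -- the transfer on `s`
  have hs : V s ≠ 1 := by
    intro h1
    have h2 := (hV s h.s_mem ?_).1 h1
    · exact s_not_base h ((mem_base h).1 h2)
    · intro n g hg
      rcases Nat.even_or_odd' n with ⟨m, rfl | rfl⟩
      · rw [pow_mul, sq, h.s_s, one_pow, mul_one, mul_inv_cancel]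
      · rw [pow_succ, pow_mul, sq, h.s_s, one_pow, one_mul]
        constructor
        · intro h3
          exact absurd ((mem_base h).1 h3) (s_not_conj h hZ g)
        · intro h3
          exact absurd ((mem_base h).1 h3) (s_not_base h)
  -- the transfer on roots of `t`
  have hr : ∀ r ∈ (P : Subgroup G), r * r = f (z k) 1 → V r = 1 := by
    intro r hr hr2
    have hrb : ∀ x ∈ (P : Subgroup G), x * x = f (z k) 1 → x ∈ base h := by
      intro x hx hx2
      obtain ⟨α, -, h1 | h1⟩ := root_cases h hx hx2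
      · exact (mem_base h).2 ⟨_, _, h1⟩
      · exact (mem_base h).2 ⟨_, _, h1⟩
    refine (hV r hr ?_).2 (hrb r hr hr2)
    intro n g hg
    rcases Nat.even_or_odd' n with ⟨m, rfl | rfl⟩
    · have h1 : g * r ^ (2 * m) * g⁻¹ = r ^ (2 * m) := by
        rw [pow_mul, sq, hr2, ← conj_pow, conj_t h hZ]
      rw [h1]
    · have h1 : g * r ^ (2 * m + 1) * g⁻¹ = f (z k) 1 ^ m * (g * r * g⁻¹) := by
        have e : g * r ^ (2 * m + 1) * g⁻¹ = (g * (r * r) * g⁻¹) ^ m * (g * r * g⁻¹) := by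
          rw [pow_succ, pow_mul, sq, conj_pow]; group
        rw [e, hr2, conj_t h hZ]
      have h2 : r ^ (2 * m + 1) = f (z k) 1 ^ m * r := by rw [pow_succ, pow_mul, sq, hr2]
      have hgr : g * r * g⁻¹ ∈ (P : Subgroup G) := by
        have h3 : g * r * g⁻¹ = (f (z k) 1 ^ m)⁻¹ * (g * r ^ (2 * m + 1) * g⁻¹) := by rw [h1]; group
        rw [h3]
        exact (P : Subgroup G).mul_mem ((P : Subgroup G).inv_mem (pow_mem (h.f_mem _ _) m)) hg
      have hgr2 : (g * r * g⁻¹) * (g * r * g⁻¹) = f (z k) 1 := by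
        calc (g * r * g⁻¹) * (g * r * g⁻¹) = g * (r * r) * g⁻¹ := by group
          _ = f (z k) 1 := by rw [hr2, conj_t h hZ]
      constructor
      · intro _
        rw [h2]
        exact mul_mem (pow_mem htb m) (hrb r hr hr2)
      · intro _
        rw [h1]
        exact mul_mem (pow_mem htb m) (hrb _ hgr hgr2)
  have hbase : base h ≤ V.ker := by
    intro x hx
    obtain ⟨α, β, rfl⟩ := (mem_base h).1 hx
    have h1 : ∀ α : Q k, V (f α 1) = 1 := by
      intro α
      obtain ⟨x, y, hx, hy, rfl | rfl⟩ := exists_mul_of_sq_z α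
      · have e : f (x * y) 1 = f x 1 * f y 1 := by rw [h.f_mul, one_mul]
        rw [e, map_mul, hr _ (h.f_mem _ _) (root_sq h hx), hr _ (h.f_mem _ _) (root_sq h hy), one_mul]
      · exact hr _ (h.f_mem _ _) (root_sq h hx)
    have h2 : ∀ α : Q k, V (f 1 α) = 1 := by
      intro α
      obtain ⟨x, y, hx, hy, rfl | rfl⟩ := exists_mul_of_sq_z α
      · have e : f 1 (x * y) = f 1 x * f 1 y := by rw [h.f_mul, one_mul]
        rw [e, map_mul, hr _ (h.f_mem _ _) (root_sq' h hx), hr _ (h.f_mem _ _) (root_sq' h hy), one_mul]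
      · exact hr _ (h.f_mem _ _) (root_sq' h hx)
    rw [MonoidHom.mem_ker]
    have e : f α β = f α 1 * f 1 β := by rw [h.f_mul, one_mul, mul_one]
    rw [e, map_mul, h1, h2, one_mul]
  refine ⟨V.ker, inferInstance, ?_, ?_, ?_⟩
  · rw [Subgroup.index_ker]
    have : V.range = ⊤ := by
      rw [eq_top_iff]
      intro x _
      rcases Int.units_eq_one_or x with rfl | rfl
      · exact V.range.one_mem
      · exact ⟨s, (Int.units_eq_one_or _).resolve_left hs⟩
    rw [this, Subgroup.card_top, Nat.card_eq_fintype_card]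
    rfl
  · apply le_antisymm
    · intro x hx
      obtain ⟨hxK, hxP⟩ := mem_inf.1 hx
      rcases (h.mem_iff x).1 hxP with h1 | ⟨α, β, rfl⟩
      · exact (mem_base h).2 h1
      · exfalso
        rw [MonoidHom.mem_ker, map_mul] at hxK
        have h2 : V (f α β) = 1 := hbase ((mem_base h).2 ⟨α, β, rfl⟩)
        rw [h2, one_mul] at hxK
        exact hs hxK
    · intro x hx
      exact mem_inf.2 ⟨hbase hx, base_le h hx⟩
  · rw [MonoidHom.mem_ker]
    exact hs

end Cfsg.Agent.SylowSp4.CentZ
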