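import Mathlib

/-!
# Coordinates on a Sylow 2-subgroup of type `PSp_4(q)`, `q` odd

`Q k = QuaternionGroup (2 ^ k)` is the generalized quaternion group of order `2 ^ (k + 2)`, `z k` its central involution.
`TSp S k f s` says that the subgroup `S` of `G` is `(Q wr 2) / <(z, z)>`: `f a b` is the class of `(a, b)`, the involution
`s` swaps the two factors.  `|S| = 2 ^ (2 k + 4)`.
-/

set_option autoImplicit false

namespace Cfsg.Agent.SylowSp4.Coord

open QuaternionGroup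

/-- The generalized quaternion group of order `2 ^ (k + 2)`. -/
abbrev Q (k : ℕ) : Type := QuaternionGroup (2 ^ k)

/-- The central involution of `Q k`. -/
def z (k : ℕ) : Q k := QuaternionGroup.a ((2 ^ k : ℕ) : ZMod (2 * 2 ^ k))

/-- Coordinates on a 2-group of type `(Q wr 2) / <(z, z)>`. -/
structure TSp {G : Type*} [Group G] (S : Subgroup G) (k : ℕ) (f : Q k → Q k → G) (s : G) : Prop where
  hk : 1 ≤ k
  f_mul : ∀ a b c d, f a b * f c d = f (a * c) (b * d)
  f_zz : f (z k) (z k) = 1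
  f_inj : ∀ a b c d, f a b = f c d → (a = c ∧ b = d) ∨ (a = z k * c ∧ b = z k * d)
  s_s : s * s = 1
  s_f : ∀ a b, s * f a b = f b a * s
  s_ne : ∀ a b, s ≠ f a b
  mem_iff : ∀ g, g ∈ S ↔ (∃ a b, g = f a b) ∨ ∃ a b, g = f a b * s

/-! ### Facts on `Q k` -/

section Quat

variable {k : ℕ}

theorem two_pow_add : ((2 ^ k : ℕ) : ZMod (2 * 2 ^ k)) + ((2 ^ k : ℕ) : ZMod (2 * 2 ^ k)) = 0 := by
  have h : ((2 * 2 ^ k : ℕ) : ZMod (2 * 2 ^ k)) = 0 := ZMod.natCast_self _
  rw [← Nat.cast_add, ← two_mul]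
  exact h

theorem half_ne_zero : ((2 ^ k : ℕ) : ZMod (2 * 2 ^ k)) ≠ 0 := by
  intro h
  rw [ZMod.natCast_eq_zero_iff] at h
  have h2 := Nat.le_of_dvd (by positivity) h
  have : 0 < 2 ^ k := by positivity
  omega

theorem eq_of_add_self {i : ZMod (2 * 2 ^ k)} (h : i + i = 0) : i = 0 ∨ i = ((2 ^ k : ℕ) : ZMod (2 * 2 ^ k)) := by
  have hpos : 0 < 2 ^ k := by positivity
  have : NeZero (2 * 2 ^ k) := ⟨by positivity⟩
  have h1 : ((i.val + i.val : ℕ) : ZMod (2 * 2 ^ k)) = 0 := by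
    rw [Nat.cast_add, ZMod.natCast_zmod_val]
    exact h
  rw [ZMod.natCast_eq_zero_iff] at h1
  have hlt : i.val < 2 * 2 ^ k := ZMod.val_lt i
  obtain ⟨c, hc⟩ := h1
  have hc2 : c < 2 := by
    by_contra hcon
    have : 2 * (2 * 2 ^ k) ≤ 2 * 2 ^ k * c := by
      rw [mul_comm (2 * 2 ^ k) c]
      exact Nat.mul_le_mul_right _ (by omega)
    omega
  interval_cases c
  · left
    have : i.val = 0 := by omega
    exact (ZMod.val_eq_zero i).1 this
  · right
    have h3 : i.val = 2 ^ k := by omega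
    have h4 := ZMod.natCast_zmod_val i
    rw [h3] at h4
    exact h4.symm

theorem z_mul_z : z k * z k = 1 := by
  rw [z, a_mul_a, two_pow_add, ← one_def]

theorem z_ne_one : z k ≠ 1 := by
  rw [z, one_def]
  intro h
  exact half_ne_zero (QuaternionGroup.a.inj h)

theorem z_comm (g : Q k) : z k * g = g * z k := by
  rcases g with i | i
  · rw [z, a_mul_a, a_mul_a, add_comm]
  · rw [z, a_mul_xa, xa_mul_a]
    congr 1
    have h := two_pow_add (k := k)
    have : -((2 ^ k : ℕ) : ZMod (2 * 2 ^ k)) = ((2 ^ k : ℕ) : ZMod (2 * 2 ^ k)) := neg_eq_of_add_eq_zero_left h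
    rw [sub_eq_add_neg, this]

theorem z_inv : (z k)⁻¹ = z k := inv_eq_of_mul_eq_one_left z_mul_z

/-- The square of an element outside the cyclic subgroup is the central involution. -/
theorem xa_sq (i : ZMod (2 * 2 ^ k)) : (xa i : Q k) * xa i = z k := by
  rw [xa_mul_xa, z]
  congr 1
  ring

/-- The unique involution of `Q k`. -/
theorem eq_of_sq_one {g : Q k} (h : g * g = 1) : g = 1 ∨ g = z k := by
  rcases g with i | i
  · rw [a_mul_a, one_def] at h
    rcases eq_of_add_self (QuaternionGroup.a.inj h) with h | h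
    · left; rw [h, ← one_def]
    · right; rw [h, z]
  · rw [xa_sq] at h
    exact absurd h z_ne_one

/-- An element whose square is the central involution. -/
theorem inv_of_sq_z {g : Q k} (h : g * g = z k) : g⁻¹ = z k * g := by
  have h1 : z k * g * g = 1 := by rw [mul_assoc, h, z_mul_z]
  exact inv_eq_of_mul_eq_one_left h1

theorem z_cancel {g h : Q k} (e : z k * g = z k * h) : g = h := mul_left_cancel e

theorem ne_z_mul (g : Q k) : g ≠ z k * g := fun e => z_ne_one (mul_eq_right.1 e.symm)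

theorem zz_mul (g : Q k) : z k * (z k * g) = g := by rw [← mul_assoc, z_mul_z, one_mul]

theorem card_Q : Nat.card (Q k) = 2 ^ (k + 2) := by
  have : NeZero (2 ^ k) := ⟨by positivity⟩
  rw [Nat.card_eq_fintype_card, QuaternionGroup.card, pow_add, mul_comm]
  norm_num

end Quat

namespace TSp

variable {G : Type*} [Group G] {S : Subgroup G} {k : ℕ} {f : Q k → Q k → G} {s : G} (h : TSp S k f s)

include h

theorem f_one : f 1 1 = 1 := by
  have h1 := h.f_mul 1 1 1 1
  rw [one_mul] at h1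
  exact mul_eq_left.1 h1

theorem f_inv (a b : Q k) : (f a b)⁻¹ = f a⁻¹ b⁻¹ := by
  apply inv_eq_of_mul_eq_one_left
  rw [h.f_mul, inv_mul_cancel, inv_mul_cancel, h.f_one]

theorem f_mem (a b : Q k) : f a b ∈ S := (h.mem_iff _).2 (Or.inl ⟨a, b, rfl⟩)

theorem fs_mem (a b : Q k) : f a b * s ∈ S := (h.mem_iff _).2 (Or.inr ⟨a, b, rfl⟩)

theorem s_mem : s ∈ S := by
  have h1 := h.fs_mem 1 1
  rwa [h.f_one, one_mul] at h1

theorem s_inv : s⁻¹ = s := inv_eq_of_mul_eq_one_left h.s_s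

theorem f_z_mul (a b : Q k) : f (z k * a) (z k * b) = f a b := by
  rw [← h.f_mul, h.f_zz, one_mul]

theorem f_eq_iff (a b c d : Q k) : f a b = f c d ↔ (a = c ∧ b = d) ∨ (a = z k * c ∧ b = z k * d) := by
  refine ⟨h.f_inj a b c d, ?_⟩
  rintro (⟨rfl, rfl⟩ | ⟨rfl, rfl⟩)
  · rfl
  · exact h.f_z_mul c d

theorem s_conj (a b : Q k) : s * f a b * s⁻¹ = f b a := by
  rw [h.s_f, mul_assoc, mul_inv_cancel, mul_one]

theorem fs_ne (a b c d : Q k) : f a b * s ≠ f c d := by
  intro e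
  apply h.s_ne (a⁻¹ * c) (b⁻¹ * d)
  rw [← h.f_mul, ← h.f_inv, ← e, inv_mul_cancel_left]

theorem fs_mul_f (a b c d : Q k) : f a b * s * f c d = f (a * d) (b * c) * s := by
  rw [mul_assoc, h.s_f, ← mul_assoc, h.f_mul]

theorem f_mul_fs (a b c d : Q k) : f a b * (f c d * s) = f (a * c) (b * d) * s := by
  rw [← mul_assoc, h.f_mul]

theorem fs_mul_fs (a b c d : Q k) : f a b * s * (f c d * s) = f (a * d) (b * c) := by
  rw [← mul_assoc, h.fs_mul_f, mul_assoc, h.s_s, mul_one]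

/-- The central involution of `S`. -/
theorem t_comm {g : G} (hg : g ∈ S) : f (z k) 1 * g = g * f (z k) 1 := by
  rcases (h.mem_iff g).1 hg with ⟨a, b, rfl⟩ | ⟨a, b, rfl⟩
  · rw [h.f_mul, h.f_mul, z_comm, one_mul, mul_one]
  · rw [h.f_mul_fs, h.fs_mul_f, mul_one, one_mul, h.f_eq_iff (z k * a) b a (b * z k) |>.2]
    right
    refine ⟨rfl, ?_⟩
    rw [← z_comm, zz_mul]

theorem f_one_z : f 1 (z k) = f (z k) 1 := by
  rw [h.f_eq_iff]
  right
  rw [z_mul_z, mul_one]
  exact ⟨rfl, rfl⟩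

theorem f_mul_t (a b : Q k) : f a b * f (z k) 1 = f (z k * a) b := by
  rw [h.f_mul, mul_one, z_comm]

theorem t_ne_one : f (z k) 1 ≠ 1 := by
  rw [← h.f_one, Ne, h.f_eq_iff]
  rintro (⟨h1, -⟩ | ⟨-, h1⟩)
  · exact z_ne_one h1
  · rw [mul_one] at h1
    exact z_ne_one h1.symm

theorem t_sq : f (z k) 1 * f (z k) 1 = 1 := by
  rw [h.f_mul, z_mul_z, one_mul, h.f_one]

end TSp

end Cfsg.Agent.SylowSp4.Coord
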