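import Cfsg.Agent.SylowSp4.TwoBal
import Cfsg.Agent.SylowSp4.FrameTools

/-!
# Cores of the centralizers of the involutions of a quintuple

`t : Fin 5 → G` is a quintuple of distinct commuting involutions with product one, `O a = O(C(a))`. The 15 involutions
`t i`, `t i * t j` and `1` form an elementary abelian group `E`. Under the hypotheses `Data t` the family `O` is
`2`-balanced on `E`, and `W = tt E O` satisfies `C_W(t i) = O (t i)`, `C_W(t i * t j) ⊴ O (t i * t j)` and is normalised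
by `C(t i, t j * t k)`.
-/

set_option autoImplicit false

namespace Cfsg.Agent.SylowSp4.CoreFrame

open Subgroup Cfsg.Agent.SylowSp4.Pat Cfsg.Agent.SylowSp4.Pairs Cfsg.Agent.SylowSp4.FrameTools
open Cfsg.Agent.SylowSp4.TwoBal
open Cfsg.Agent.Walter.OddCoreIn

variable {G : Type*} [Group G]

/-- `O(C(a))` -/
abbrev OC (a : G) : Subgroup G := OO (Cn a)

/-- Five distinct commuting involutions with product one. -/
structure Frame (t : Fin 5 → G) : Prop where
  sq : ∀ i, t i * t i = 1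
  comm : ∀ i j, t i * t j = t j * t i
  ne_one : ∀ i, t i ≠ 1
  inj : ∀ i j, i ≠ j → t i ≠ t j
  prod : t 0 * t 1 * t 2 * t 3 * t 4 = 1

/-- the group generated by the quintuple -/
abbrev EE (t : Fin 5 → G) : Subgroup G := closure (Set.range t)

namespace Frame

variable {t : Fin 5 → G} (h : Frame t)

theorem t_mem (t : Fin 5 → G) (i : Fin 5) : t i ∈ EE t := subset_closure ⟨i, rfl⟩

theorem u_mem (t : Fin 5 → G) (i j : Fin 5) : t i * t j ∈ EE t := mul_mem (t_mem t i) (t_mem t j)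

include h

theorem comm_E : ∀ a ∈ EE t, ∀ b ∈ EE t, a * b = b * a := by
  have key : ∀ i, ∀ a ∈ EE t, a * t i = t i * a := by
    intro i a ha
    have : EE t ≤ centralizer {t i} := by
      rw [closure_le]
      rintro _ ⟨j, rfl⟩
      exact mem_Cn.2 (h.comm j i)
    exact mem_Cn.1 (this ha)
  intro a ha b hb
  have : EE t ≤ centralizer {a} := by
    rw [closure_le]
    rintro _ ⟨j, rfl⟩
    exact mem_Cn.2 (key j a ha).symm
  exact (mem_Cn.1 (this hb)).symm

theorem prod' {i j k l m : Fin 5} (hn : [i, j, k, l, m].Nodup) : t i * t j * t k * t l * t m = 1 := by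
  let _ : CommGroup (EE t) := { (inferInstance : Group (EE t)) with
    mul_comm := fun a b => Subtype.ext (h.comm_E a a.2 b b.2) }
  let t' : Fin 5 → EE t := fun i => ⟨t i, t_mem t i⟩
  have h1 : ∏ x, t' x = 1 := by
    rw [Fin.prod_univ_five]
    exact Subtype.ext h.prod
  let g : Fin 5 → Fin 5 := ![i, j, k, l, m]
  have hg : Function.Injective g := by
    have := List.nodup_iff_injective_get.1 hn
    intro a b hab
    apply this
    have hc : ∀ x : Fin 5, g x = [i, j, k, l, m].get x := by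
      intro x
      fin_cases x <;> rfl
    rw [hc, hc] at hab
    exact hab
  have h2 : ∏ x, t' (g x) = ∏ x, t' x :=
    Function.Bijective.prod_comp (Finite.injective_iff_bijective.1 hg) t'
  rw [h1, Fin.prod_univ_five] at h2
  exact congrArg Subtype.val h2

theorem mul_self_mul (i : Fin 5) (x : G) : t i * (t i * x) = x := by
  rw [← mul_assoc, h.sq, one_mul]

theorem mul_mul_self' (i : Fin 5) (x : G) : x * t i * t i = x := by
  rw [mul_assoc, h.sq, mul_one]

theorem inv (i : Fin 5) : (t i)⁻¹ = t i := inv_eq_of_mul_eq_one_left (h.sq i)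

/-- three = the complementary two -/
theorem triple {i j k l m : Fin 5} (hn : [i, j, k, l, m].Nodup) : t i * t j * t k = t l * t m := by
  have h1 := h.prod' hn
  have h2 : t i * t j * t k = (t l * t m)⁻¹ := by
    rw [← mul_eq_one_iff_eq_inv, ← h1]; group
  rw [h2, mul_inv_rev, h.inv, h.inv, h.comm]

theorem quadruple {i j k l m : Fin 5} (hn : [i, j, k, l, m].Nodup) : t i * t j * (t k * t l) = t m := by
  have h1 := h.prod' hn
  have h2 : t i * t j * (t k * t l) = (t m)⁻¹ := by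
    rw [← mul_eq_one_iff_eq_inv, ← h1]; group
  rw [h2, h.inv]

theorem sq_u (i j : Fin 5) : t i * t j * (t i * t j) = 1 := by
  have e : t i * t j * (t i * t j) = t i * (t j * t i) * t j := by group
  rw [e, h.comm j i, h.mul_self_mul, h.sq]

theorem u_ne_one {i j : Fin 5} (hij : i ≠ j) : t i * t j ≠ 1 := by
  intro h1
  exact h.inj i j hij ((mul_eq_one_iff_eq_inv.1 h1).trans (h.inv j))

omit h in
theorem exists_compl3 : ∀ i j k : Fin 5, [i, j, k].Nodup → ∃ l m, [i, j, k, l, m].Nodup := by decide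

omit h in
theorem exists_compl4 : ∀ i j k l : Fin 5, [i, j, k, l].Nodup → ∃ m, [i, j, k, l, m].Nodup := by decide

omit h in
theorem exists_compl2 : ∀ i j : Fin 5, i ≠ j → ∃ k l m, [i, j, k, l, m].Nodup := by decide

omit h in
theorem exists_compl1 : ∀ i : Fin 5, ∃ j k l m, [i, j, k, l, m].Nodup := by decide

omit h in
theorem all5 {i j k l m : Fin 5} (hn : [i, j, k, l, m].Nodup) (x : Fin 5) :
    i = x ∨ j = x ∨ k = x ∨ l = x ∨ m = x := by
  have h1 : ([i, j, k, l, m] : List (Fin 5)).toFinset = Finset.univ := by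
    apply Finset.eq_univ_of_card
    rw [List.toFinset_card_of_nodup hn]
    rfl
  have h2 : x ∈ ([i, j, k, l, m] : List (Fin 5)).toFinset := by rw [h1]; exact Finset.mem_univ x
  rw [List.mem_toFinset] at h2
  simp only [List.mem_cons, List.not_mem_nil, or_false] at h2
  rcases h2 with h2 | h2 | h2 | h2 | h2 <;> simp [h2]

/-- The elements of `E`. -/
theorem mem_E {x : G} (hx : x ∈ EE t) : x = 1 ∨ (∃ i, x = t i) ∨ ∃ i j, i ≠ j ∧ x = t i * t j := by
  have key : ∀ i, ∀ x, (x = 1 ∨ (∃ i, x = t i) ∨ ∃ i j, i ≠ j ∧ x = t i * t j) →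
      (x * t i = 1 ∨ (∃ j, x * t i = t j) ∨ ∃ j k, j ≠ k ∧ x * t i = t j * t k) := by
    rintro i x (rfl | ⟨j, rfl⟩ | ⟨j, k, hjk, rfl⟩)
    · exact Or.inr (Or.inl ⟨i, one_mul _⟩)
    · by_cases hij : j = i
      · subst hij; exact Or.inl (h.sq _)
      · exact Or.inr (Or.inr ⟨j, i, hij, rfl⟩)
    · by_cases hij : j = i
      · subst hij
        exact Or.inr (Or.inl ⟨k, by rw [h.comm j k, h.mul_mul_self']⟩)
      · by_cases hik : k = i
        · subst hik
          exact Or.inr (Or.inl ⟨j, by rw [h.mul_mul_self']⟩)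
        · obtain ⟨l, m, hn⟩ := exists_compl3 j k i (by
            simp only [List.nodup_cons, List.mem_cons, List.not_mem_nil, or_false, not_or, not_false_eq_true,
              List.nodup_nil, and_true]
            exact ⟨⟨hjk, hij⟩, hik⟩)
          refine Or.inr (Or.inr ⟨l, m, ?_, h.triple hn⟩)
          simp only [List.nodup_cons, List.mem_cons, List.not_mem_nil, or_false, not_or, not_false_eq_true,
              List.nodup_nil, and_true] at hn
          exact hn.2.2.2
  refine closure_induction_right (p := fun x _ => x = 1 ∨ (∃ i, x = t i) ∨ ∃ i j, i ≠ j ∧ x = t i * t j)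
    (Or.inl rfl) ?_ ?_ hx
  · rintro x _ _ ⟨i, rfl⟩ hx
    exact key i x hx
  · rintro x _ _ ⟨i, rfl⟩ hx
    rw [h.inv]
    exact key i x hx

theorem sq_E : ∀ a ∈ EE t, a * a = 1 := by
  intro a ha
  rcases h.mem_E ha with rfl | ⟨i, rfl⟩ | ⟨i, j, -, rfl⟩
  · simp
  · exact h.sq i
  · exact h.sq_u i j

omit h in
theorem nodup4 {i j k l : Fin 5} (h1 : i ≠ j) (h2 : i ≠ k) (h3 : i ≠ l) (h4 : j ≠ k) (h5 : j ≠ l) (h6 : k ≠ l) :
    [i, j, k, l].Nodup := by
  simp [h1, h2, h3, h4, h5, h6]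

theorem t_ne_u {i j k : Fin 5} (hjk : j ≠ k) : t i ≠ t j * t k := by
  intro h1
  by_cases hij : i = j
  · subst hij
    exact h.ne_one k (mul_eq_left.1 h1.symm)
  by_cases hik : i = k
  · subst hik
    exact h.ne_one j (mul_eq_right.1 h1.symm)
  obtain ⟨l, m, hn⟩ := exists_compl3 j k i (by simp [hjk, Ne.symm hij, Ne.symm hik])
  have h2 := h.triple hn
  rw [← h1, h.sq] at h2
  have hlm : l ≠ m := by
    simp only [List.nodup_cons, List.mem_cons, List.not_mem_nil, or_false, not_or, not_false_eq_true,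
              List.nodup_nil, and_true] at hn
    exact hn.2.2.2
  exact h.u_ne_one hlm h2.symm

theorem u_eq {i j k l : Fin 5} (hij : i < j) (hkl : k < l) (h1 : t i * t j = t k * t l) : i = k ∧ j = l := by
  by_cases hik : i = k
  · subst hik
    refine ⟨rfl, ?_⟩
    by_contra hjl
    exact h.inj j l hjl (mul_left_cancel h1)
  by_cases hil : i = l
  · subst hil
    exfalso
    rw [h.comm k i] at h1
    by_cases hjk : j = k
    · omega
    · exact h.inj j k hjk (mul_left_cancel h1)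
  by_cases hjk : j = k
  · subst hjk
    exfalso
    rw [h.comm i j] at h1
    exact h.inj i l hil (mul_left_cancel h1)
  by_cases hjl : j = l
  · subst hjl
    exfalso
    exact h.inj i k hik (mul_right_cancel h1)
  exfalso
  obtain ⟨m, hn⟩ := exists_compl4 i j k l (nodup4 hij.ne hik hil hjk hjl hkl.ne)
  have h2 := h.quadruple hn
  rw [← h1, h.sq_u] at h2
  exact h.ne_one m h2.symm

theorem card_E [Finite G] : 2 ^ 4 ≤ Nat.card (EE t) := by
  let g : Option (Fin 5) ⊕ {p : Fin 5 × Fin 5 // p.1 < p.2} → EE t := fun x =>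
    match x with
    | Sum.inl none => 1
    | Sum.inl (some i) => ⟨t i, t_mem t i⟩
    | Sum.inr p => ⟨t p.1.1 * t p.1.2, u_mem t p.1.1 p.1.2⟩
  have hg : Function.Injective g := by
    intro x y hxy
    have hxy' : ((g x : EE t) : G) = ((g y : EE t) : G) := congrArg _ hxy
    rcases x with (_ | i) | ⟨⟨i, j⟩, hij⟩ <;> rcases y with (_ | k) | ⟨⟨k, l⟩, hkl⟩
    · rfl
    · exact absurd hxy'.symm (h.ne_one k)
    · exact absurd hxy'.symm (h.u_ne_one (LT.lt.ne hkl))
    · exact absurd hxy' (h.ne_one i)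
    · by_cases hik : i = k
      · rw [hik]
      · exact absurd hxy' (h.inj i k hik)
    · exact absurd hxy' (h.t_ne_u (LT.lt.ne hkl))
    · exact absurd hxy' (h.u_ne_one (LT.lt.ne hij))
    · exact absurd hxy'.symm (h.t_ne_u (LT.lt.ne hij))
    · obtain ⟨e1, e2⟩ := h.u_eq hij hkl hxy'
      subst e1 e2
      rfl
  have h1 := Nat.card_le_card_of_injective g hg
  rw [Nat.card_eq_fintype_card] at h1
  have h2 : Fintype.card (Option (Fin 5) ⊕ {p : Fin 5 × Fin 5 // p.1 < p.2}) = 16 := by decide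
  rw [h2] at h1
  exact h1

end Frame

/-- The hypotheses on the cores. -/
structure Data (t : Fin 5 → G) : Prop extends Frame t where
  A : ∀ i j, i ≠ j → OC (t i) ⊓ Cn (t j) ≤ OC (t j)
  B₁ : ∀ i j, i ≠ j → OC (t i) ⊓ Cn (t j) ≤ OC (t i * t j)
  B₂ : ∀ i j, i ≠ j → OC (t i * t j) ⊓ Cn (t i) ≤ OC (t i)
  star : ∀ i j, i ≠ j → ∀ y ∈ Cn (t i * t j), Odd (orderOf y) → y * t i * y⁻¹ * (t i)⁻¹ ∈ OC (t i * t j)
  tor : ∀ i j k l, [i, j, k, l].Nodup → ∀ g ∈ OC (t i * t j), g ∈ Cn (t k) →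
    g * t l * g⁻¹ * (t l)⁻¹ ∈ OC (t k)

namespace Data

variable [Finite G] {t : Fin 5 → G} (h : Data t)

omit [Finite G] in
/-- `O(C(a))` is normalised by `C(a)`. -/
theorem OC_conj {a g x : G} (hg : g ∈ Cn a) (hx : x ∈ OC a) : g * x * g⁻¹ ∈ OC a :=
  conj_mem (le_normalizer_OO (Cn a)) hg hx

omit [Finite G] in
theorem OC_le {a x : G} (hx : x ∈ OC a) : x ∈ Cn a := OO_le _ hx

theorem odd_of_mem {a x : G} (hx : x ∈ OC a) : Odd (orderOf x) := odd_orderOf_of_mem (OO_odd _) hx

omit [Finite G] in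
theorem Cn_conj_mem {a b x : G} (hb : b ∈ Cn a) (hx : x ∈ Cn a) : b * x * b⁻¹ ∈ Cn a :=
  (Cn a).mul_mem ((Cn a).mul_mem hb hx) ((Cn a).inv_mem hb)

include h

omit [Finite G] in
theorem t_Cn (i j : Fin 5) : t i ∈ Cn (t j) := mem_Cn.2 (h.comm i j)

omit [Finite G] in
theorem t_Cnu (i j k : Fin 5) : t i ∈ Cn (t j * t k) := mem_Cn_mul (h.t_Cn i j) (h.t_Cn i k)

/-- **(b0)** -/
theorem b0_pair {i j k : Fin 5} (hij : i ≠ j) (hik : i ≠ k) (hjk : j ≠ k) :
    OC (t i) ⊓ Cn (t j * t k) ≤ OC (t j * t k) := by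
  intro x hx
  refine mem_of_comm (X := OC (t i) ⊓ Cn (t j * t k)) (a := t j) (h.sq j)
    (not_dvd_of_le inf_le_left (OO_odd _)) ?_ hx ?_ ?_
  · rintro y ⟨hy1, hy2⟩
    exact ⟨OC_conj (h.t_Cn j i) hy1, Cn_conj_mem (h.t_Cnu j j k) hy2⟩
  · have h1 := h.star j k hjk x hx.2 (odd_of_mem hx.1)
    have h2 : t j * x * (t j)⁻¹ * x⁻¹ = (x * t j * x⁻¹ * (t j)⁻¹)⁻¹ := by group
    rw [h2]
    exact inv_mem h1
  · rintro y ⟨⟨hy1, hy2⟩, hy3⟩
    exact h.B₁ j k hjk ⟨h.A i j hij ⟨hy1, hy3⟩, mem_Cn_of_mul hy3 hy2⟩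

theorem b0 (i : Fin 5) {c : G} (hc : c ∈ EE t) (hc1 : c ≠ 1) : OC (t i) ⊓ Cn c ≤ OC c := by
  rcases h.mem_E hc with rfl | ⟨j, rfl⟩ | ⟨j, k, hjk, rfl⟩
  · exact absurd rfl hc1
  · by_cases hij : i = j
    · subst hij; exact inf_le_left
    · exact h.A i j hij
  · by_cases hij : i = j
    · subst hij
      rintro x ⟨hx1, hx2⟩
      exact h.B₁ i k hjk ⟨hx1, mem_Cn_of_mul (OC_le hx1) hx2⟩
    · by_cases hik : i = k
      · subst hik
        rintro x ⟨hx1, hx2⟩
        rw [h.comm j i] at hx2 ⊢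
        exact h.B₁ i j hij ⟨hx1, mem_Cn_of_mul (OC_le hx1) hx2⟩
      · exact h.b0_pair hij hik hjk

omit [Finite G] in
theorem B₂' {i j : Fin 5} (hij : i ≠ j) : OC (t i * t j) ⊓ Cn (t j) ≤ OC (t j) := by
  rw [h.comm i j]
  exact h.B₂ j i hij.symm

/-- `t i` inverts `O(C(t i t j)) ∩ C(t k)` modulo `O(C(t k))`. -/
theorem invert {i j k : Fin 5} (hij : i ≠ j) (hik : i ≠ k) {g : G} (hg : g ∈ OC (t i * t j))
    (hk : g ∈ Cn (t k)) : t i * g * (t i)⁻¹ * g ∈ OC (t k) := by
  refine inv_mod (X := OC (t i * t j) ⊓ Cn (t k)) (h.sq i) (not_dvd_of_le inf_le_left (OO_odd _))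
    ?_ ?_ ?_ ⟨hg, hk⟩
  · rintro y ⟨hy1, hy2⟩
    exact ⟨OC_conj (h.t_Cnu i i j) hy1, Cn_conj_mem (h.t_Cn i k) hy2⟩
  · rintro y ⟨-, hy2⟩ d hd
    exact OC_conj hy2 hd
  · rintro y ⟨⟨hy1, hy2⟩, hy3⟩
    exact h.A i k hik ⟨h.B₂ i j hij ⟨hy1, hy3⟩, hy2⟩

theorem main_case {i j l m : Fin 5} (hn : [i, j, l, m].Nodup) {g : G} (h1 : g ∈ OC (t i * t j))
    (h2 : g ∈ OC (t i * t l)) (hm : g ∈ Cn (t m)) : g ∈ OC (t m) := by
  simp only [List.nodup_cons, List.mem_cons, List.not_mem_nil, or_false, not_or, not_false_eq_true,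
              List.nodup_nil, and_true] at hn
  obtain ⟨⟨hij, hil, him⟩, ⟨hjl, hjm⟩, hlm⟩ := hn
  -- `t l` centralises `g` modulo the core
  have e1 : g * t l * g⁻¹ * (t l)⁻¹ ∈ OC (t m) := h.tor i j m l (by simp [hij, hil, him, hjl, hjm, Ne.symm hlm]) g h1 hm
  -- `t l` inverts it
  have e2 : t l * g * (t l)⁻¹ * g ∈ OC (t m) := by
    refine h.invert (i := l) (j := i) (Ne.symm hil) hlm ?_ hm
    rw [h.comm l i]; exact h2
  have e3 : g * g ∈ OC (t m) := by
    have e4 : g * g = (g * t l * g⁻¹ * (t l)⁻¹) * (t l * g * (t l)⁻¹ * g) := by group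
    rw [e4]; exact mul_mem e1 e2
  obtain ⟨n, hn⟩ := odd_of_mem h1
  have e5 : g = (g * g) ^ (n + 1) := by
    rw [← pow_two, ← pow_mul]
    have : 2 * (n + 1) = orderOf g + 1 := by omega
    rw [this, pow_succ, pow_orderOf_eq_one, one_mul]
  rw [e5]
  exact pow_mem e3 _

/-- `2`-balance for the lines `{t i t j, t i t l, t j t l}`. -/
theorem bal_line {i j l : Fin 5} (hn : [i, j, l].Nodup) {c : G} (hc : c ∈ EE t) (hc1 : c ≠ 1) {g : G}
    (h1 : g ∈ OC (t i * t j)) (h2 : g ∈ OC (t i * t l)) (h3 : g ∈ OC (t j * t l)) (hgc : g ∈ Cn c) : g ∈ OC c := by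
  obtain ⟨m, n, hn5⟩ := Frame.exists_compl3 i j l hn
  have hall := Frame.all5 hn5
  simp only [List.nodup_cons, List.mem_cons, List.not_mem_nil, or_false, not_or, not_false_eq_true,
              List.nodup_nil, and_true] at hn5
  obtain ⟨⟨hij, hil, him, hin⟩, ⟨hjl, hjm, hjn⟩, ⟨hlm, hln⟩, hmn⟩ := hn5
  have hji := Ne.symm hij
  have hli := Ne.symm hil
  have hmi := Ne.symm him
  have hni := Ne.symm hin
  have hlj := Ne.symm hjl
  have hmj := Ne.symm hjm
  have hnj := Ne.symm hjn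
  have hml := Ne.symm hlm
  have hnl := Ne.symm hln
  have hnm := Ne.symm hmn
  have h1' : g ∈ OC (t j * t i) := by rw [h.comm]; exact h1
  have h2' : g ∈ OC (t l * t i) := by rw [h.comm]; exact h2
  have h3' : g ∈ OC (t l * t j) := by rw [h.comm]; exact h3
  -- the cases `c = t x`
  have ht : ∀ x, g ∈ Cn (t x) → g ∈ OC (t x) := by
    intro x hx
    rcases hall x with rfl | rfl | rfl | rfl | rfl
    · exact h.B₂ _ _ hij ⟨h1, hx⟩
    · exact h.B₂' hij ⟨h1, hx⟩
    · exact h.B₂' hil ⟨h2, hx⟩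
    · exact h.main_case (i := i) (j := j) (l := l) (m := m) (by simp [*]) h1 h2 hx
    · exact h.main_case (i := i) (j := j) (l := l) (m := n) (by simp [*]) h1 h2 hx
  have fin : ∀ z, g ∈ Cn (t z) → g ∈ OC c := fun z hz => h.b0 z hc hc1 ⟨ht z hz, hgc⟩
  have q : ∀ a b c d e : Fin 5, [a, b, c, d, e].Nodup → g ∈ OC (t a * t b) → g ∈ Cn (t c * t d) →
      g ∈ Cn (t e) := by
    intro a b c d e hn ha hb
    rw [← h.quadruple hn]
    exact mem_Cn_mul (OC_le ha) hb
  rcases h.mem_E hc with rfl | ⟨x, rfl⟩ | ⟨x, y, hxy, rfl⟩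
  · exact absurd rfl hc1
  · exact ht x hgc
  · rcases hall x with rfl | rfl | rfl | rfl | rfl <;> rcases hall y with rfl | rfl | rfl | rfl | rfl
    · exact absurd rfl hxy
    · exact h1
    · exact h2
    · exact fin n (q j l i m n (by simp [*]) h3 hgc)
    · exact fin m (q j l i n m (by simp [*]) h3 hgc)
    · exact h1'
    · exact absurd rfl hxy
    · exact h3
    · exact fin n (q i l j m n (by simp [*]) h2 hgc)
    · exact fin m (q i l j n m (by simp [*]) h2 hgc)
    · exact h2'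
    · exact h3'
    · exact absurd rfl hxy
    · exact fin n (q i j l m n (by simp [*]) h1 hgc)
    · exact fin m (q i j l n m (by simp [*]) h1 hgc)
    · exact fin n (q j l m i n (by simp [*]) h3 hgc)
    · exact fin n (q i l m j n (by simp [*]) h2 hgc)
    · exact fin n (q i j m l n (by simp [*]) h1 hgc)
    · exact absurd rfl hxy
    · exact fin l (q i j m n l (by simp [*]) h1 hgc)
    · exact fin m (q j l n i m (by simp [*]) h3 hgc)
    · exact fin m (q i l n j m (by simp [*]) h2 hgc)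
    · exact fin m (q i j n l m (by simp [*]) h1 hgc)
    · exact fin l (q i j n m l (by simp [*]) h1 hgc)
    · exact absurd rfl hxy

/-- `O` is `2`-balanced on `E`. -/
theorem bal : Bal (EE t) OC where
  comm := h.comm_E
  sq := h.sq_E
  card := h.card_E
  cent := fun a _ _ => OO_le _
  odd := fun a _ _ => OO_odd _
  inv := fun a ha _ b hb x hx => OC_conj (mem_Cn.2 (h.comm_E b hb a ha)) hx
  bal := by
    rintro a ha b hb c hc ha1 hb1 hab hc1 g ⟨⟨⟨hga, hgb⟩, hgab⟩, hgc⟩
    rcases h.mem_E ha with rfl | ⟨i, rfl⟩ | ⟨i, j, hij, rfl⟩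
    · exact absurd rfl ha1
    · exact h.b0 i hc hc1 ⟨hga, hgc⟩
    rcases h.mem_E hb with rfl | ⟨k, rfl⟩ | ⟨k, l, hkl, rfl⟩
    · exact absurd rfl hb1
    · exact h.b0 k hc hc1 ⟨hgb, hgc⟩
    -- two products
    by_cases hik : i = k
    · subst hik
      have hjl : j ≠ l := fun e => hab (by rw [e])
      have e : t i * t j * (t i * t l) = t j * t l := by
        rw [h.comm i j, mul_assoc, h.mul_self_mul]
      rw [e] at hgab
      exact h.bal_line (i := i) (j := j) (l := l) (by simp [*]) hc hc1 hga hgb hgab hgc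
    by_cases hil : i = l
    · subst hil
      have hjk : j ≠ k := fun e => hab (by rw [e, h.comm])
      have e : t i * t j * (t k * t i) = t j * t k := by
        rw [h.comm i j, h.comm k i, mul_assoc, h.mul_self_mul]
      rw [e] at hgab
      rw [h.comm k i] at hgb
      exact h.bal_line (i := i) (j := j) (l := k) (by simp [*]) hc hc1 hga hgb hgab hgc
    by_cases hjk : j = k
    · subst hjk
      have e : t i * t j * (t j * t l) = t i * t l := by
        rw [mul_assoc, h.mul_self_mul]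
      rw [e] at hgab
      exact h.bal_line (i := i) (j := j) (l := l) (by simp [*]) hc hc1 hga hgab hgb hgc
    by_cases hjl : j = l
    · subst hjl
      have e : t i * t j * (t k * t j) = t i * t k := by
        rw [h.comm k j, mul_assoc, h.mul_self_mul]
      rw [e] at hgab
      rw [h.comm k j] at hgb
      exact h.bal_line (i := i) (j := j) (l := k) (by simp [*]) hc hc1 hga hgab hgb hgc
    · obtain ⟨m, hn⟩ := Frame.exists_compl4 i j k l (Frame.nodup4 hij hik hil hjk hjl hkl)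
      rw [h.quadruple hn] at hgab
      exact h.b0 m hc hc1 ⟨hgab, hgc⟩

end Data

end Cfsg.Agent.SylowSp4.CoreFrame
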