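import Cfsg.Agent.SylowSp4.CoreBot
import Cfsg.Agent.SylowSp4.Assembly

/-!
# `O(C(t)) = 1` : the form used in the assembly
-/

set_option autoImplicit false

namespace Cfsg.Agent.SylowSp4.CoreMain

open Cfsg.Agent.SylowSp4

universe u

theorem coreBot : Assembly.CoreBot.{u} := by
  intro G _ _ _ P k f s p L _ _ D ι Φ c F _ _ hodd he
  obtain ⟨e⟩ := he
  exact CoreBot.core_eq_bot p c
    (SLFactMain.slFact hodd e p.h.hk ι c.ι_inj c.ι_z (SylL.not_dvd p c)) e hodd

end Cfsg.Agent.SylowSp4.CoreMain
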