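import Cfsg.Agent.SylowSp4.Facts

/-!
# The decomposition of `H = C(t) / O(C(t))`

`Dec f s L Φ`: `H = (L * L^s) Φ ⟨s⟩`.
-/

set_option autoImplicit false

namespace Cfsg.Agent.SylowSp4.Decomp

open Subgroup Cfsg.Agent.SylowSp4.Coord

structure Dec {H : Type*} [Group H] {k : ℕ} (f : Q k → Q k → H) (s : H) (L Φ : Subgroup H) : Prop where
  q1 : ∀ a, f a 1 ∈ L
  comm : ∀ a ∈ L, ∀ b ∈ L, a * (s * b * s) = (s * b * s) * a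
  inf : ∀ a ∈ L, s * a * s ∈ L → a = 1 ∨ a = f (z k) 1
  gen : ∀ h : H, ∃ a ∈ L, ∃ b ∈ L, ∃ g ∈ Φ, h = a * (s * b * s) * g ∨ h = a * (s * b * s) * s * g
  odd : Odd (Nat.card Φ)
  norm : ∀ g ∈ Φ, ∀ a ∈ L, g * a * g⁻¹ ∈ L
  fix : ∀ g ∈ Φ, ∀ a, g * f a 1 = f a 1 * g
  sΦ : ∀ g ∈ Φ, s * g * s ∈ Φ
  cen : ∀ h : H, (∀ a ∈ L, h * a = a * h) → (∀ a ∈ L, h * (s * a * s) = (s * a * s) * h) → h = 1 ∨ h = f (z k) 1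

end Cfsg.Agent.SylowSp4.Decomp
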