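import Cfsg.Agent.SylowSp4.DuoFacts

/-!
The basic facts on `Duo` and `Cent` are in `DuoFacts.lean`.
-/
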