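import Cfsg.Agent.SylowSp4.Pat
import Cfsg.Agent.SylowSp4.Lift

/-!
# Basic facts on `Duo` and `Cent`
-/

set_option autoImplicit false

namespace Cfsg.Agent.SylowSp4.DuoFacts

open QuaternionGroup Cfsg.Agent.SylowSp4.Coord Cfsg.Agent.SylowSp4.Pat Subgroup
open Cfsg.Agent.Walter.OddCoreIn

section Duo

variable {H L : Type*} [Group H] [Group L] (D : Duo H L)

theorem w_inv : D.w⁻¹ = D.w := inv_eq_of_mul_eq_one_left D.ww

theorem inj₁ : Function.Injective D.φ₁ := by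
  rw [injective_iff_map_eq_one]
  intro a ha
  rcases D.ker a 1 (by rw [ha, map_one, one_mul]) with ⟨h, -⟩ | ⟨-, h⟩
  · exact h
  · exact absurd h.symm D.ζ_ne

theorem inj₂ : Function.Injective D.φ₂ := by
  rw [injective_iff_map_eq_one]
  intro a ha
  rcases D.ker 1 a (by rw [ha, map_one, one_mul]) with ⟨-, h⟩ | ⟨h, -⟩
  · exact h
  · exact absurd h.symm D.ζ_ne

theorem conj₂ (a : L) : D.w * D.φ₂ a * D.w = D.φ₁ a := by
  rw [← D.conj]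
  calc D.w * (D.w * D.φ₁ a * D.w) * D.w = (D.w * D.w) * D.φ₁ a * (D.w * D.w) := by group
    _ = D.φ₁ a := by rw [D.ww, one_mul, mul_one]

theorem w_φ₁ (a : L) : D.w * D.φ₁ a = D.φ₂ a * D.w := by
  rw [← D.conj, mul_assoc, D.ww, mul_one]

theorem w_φ₂ (a : L) : D.w * D.φ₂ a = D.φ₁ a * D.w := by
  rw [← conj₂, mul_assoc, D.ww, mul_one]

/-- the diagonal -/
def δ : L →* H where
  toFun a := D.φ₁ a * D.φ₂ a
  map_one' := by rw [map_one, map_one, one_mul]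
  map_mul' a b := by
    rw [map_mul, map_mul]
    calc D.φ₁ a * D.φ₁ b * (D.φ₂ a * D.φ₂ b) = D.φ₁ a * (D.φ₁ b * D.φ₂ a) * D.φ₂ b := by group
      _ = D.φ₁ a * (D.φ₂ a * D.φ₁ b) * D.φ₂ b := by rw [D.comm]
      _ = _ := by group

theorem δ_apply (a : L) : δ D a = D.φ₁ a * D.φ₂ a := rfl

theorem δ_eq_one_iff {a : L} : δ D a = 1 ↔ a = 1 ∨ a = D.ζ := by
  constructor
  · intro h
    rcases D.ker a a h with h | h
    · exact Or.inl h.1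
    · exact Or.inr h.1
  · rintro (rfl | rfl)
    · exact map_one _
    · rw [δ_apply, ← D.z_eq, ← map_mul, D.ζζ, map_one]

theorem w_δ (a : L) : D.w * δ D a = δ D a * D.w := by
  rw [δ_apply, ← mul_assoc, w_φ₁, mul_assoc, w_φ₂, ← mul_assoc, ← D.comm]

theorem mul_eq_iff {a b c d : L} :
    D.φ₁ a * D.φ₂ b = D.φ₁ c * D.φ₂ d ↔ (a = c ∧ b = d) ∨ (a = D.ζ * c ∧ b = D.ζ * d) := by
  have key : D.φ₁ a * D.φ₂ b = D.φ₁ c * D.φ₂ d ↔ D.φ₁ (a * c⁻¹) * D.φ₂ (b * d⁻¹) = 1 := by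
    rw [map_mul, map_mul, map_inv, map_inv]
    have h1 : D.φ₁ a * (D.φ₁ c)⁻¹ * (D.φ₂ b * (D.φ₂ d)⁻¹) = D.φ₁ a * D.φ₂ b * (D.φ₁ c * D.φ₂ d)⁻¹ := by
      have h2 : (D.φ₁ c)⁻¹ * D.φ₂ b = D.φ₂ b * (D.φ₁ c)⁻¹ := by
        rw [← map_inv, D.comm]
      have h3 : (D.φ₁ c * D.φ₂ d)⁻¹ = (D.φ₁ c)⁻¹ * (D.φ₂ d)⁻¹ := by rw [D.comm, mul_inv_rev]
      rw [h3]
      calc D.φ₁ a * (D.φ₁ c)⁻¹ * (D.φ₂ b * (D.φ₂ d)⁻¹) = D.φ₁ a * ((D.φ₁ c)⁻¹ * D.φ₂ b) * (D.φ₂ d)⁻¹ := by group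
        _ = _ := by rw [h2]; group
    rw [h1, mul_inv_eq_one]
  rw [key]
  constructor
  · intro h
    rcases D.ker _ _ h with ⟨h1, h2⟩ | ⟨h1, h2⟩
    · left
      exact ⟨mul_inv_eq_one.1 h1, mul_inv_eq_one.1 h2⟩
    · right
      exact ⟨mul_inv_eq_iff_eq_mul.1 h1, mul_inv_eq_iff_eq_mul.1 h2⟩
  · rintro (⟨rfl, rfl⟩ | ⟨rfl, rfl⟩)
    · rw [mul_inv_cancel, mul_inv_cancel, map_one, map_one, one_mul]
    · rw [mul_inv_cancel_right, mul_inv_cancel_right, ← D.z_eq, ← map_mul, D.ζζ, map_one]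

end Duo

section Cent

variable {G : Type*} [Group G] {P : Sylow 2 G} {k : ℕ} {f : Q k → Q k → G} {s : G}
  {H L : Type*} [Group H] [Group L] {π : Cn (tt f) →* H} {D : Duo H L} {ι : Q k →* L} {Φ : Subgroup H}

theorem t_mem : tt f ∈ Cn (tt f) := mem_centralizer_singleton_iff.2 rfl

theorem P_le (p : Pat P k f s) : (P : Subgroup G) ≤ Cn (tt f) := fun _ hg =>
  mem_centralizer_singleton_iff.2 (p.h.t_comm hg).symm

theorem f_mem (p : Pat P k f s) (a b : Q k) : f a b ∈ Cn (tt f) := P_le p (p.h.f_mem a b)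

theorem s_mem (p : Pat P k f s) : s ∈ Cn (tt f) := P_le p p.h.s_mem

variable (c : Cent k f s π D ι Φ)

include c

theorem π_t : π ⟨tt f, t_mem⟩ = D.φ₁ D.ζ := by
  rw [c.hf, map_one, map_one, mul_one, c.ι_z]

theorem z_comm (h : H) : D.φ₁ D.ζ * h = h * D.φ₁ D.ζ := by
  obtain ⟨x, rfl⟩ := c.surj h
  rw [← π_t c, ← map_mul, ← map_mul]
  congr 1
  apply Subtype.ext
  exact (mem_centralizer_singleton_iff.1 x.2).symm

theorem ζ_comm (a : L) : D.ζ * a = a * D.ζ := by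
  apply inj₁ D
  rw [map_mul, map_mul, z_comm c]

theorem card_ker [Finite G] : Odd (Nat.card π.ker) := by
  have h1 : π.ker = (OO (Cn (tt f))).subgroupOf (Cn (tt f)) := by
    ext x
    rw [MonoidHom.mem_ker, c.ker, mem_subgroupOf]
  rw [h1, Nat.card_congr (Subgroup.subgroupOfEquivOfLe (OO_le _)).toEquiv]
  exact Nat.not_even_iff_odd.1 fun h => OO_odd (Cn (tt f)) h.two_dvd

/-- An element of `H` either normalises both factors or swaps them. -/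
theorem norm_or_swap (h : H) :
    ((∀ a, ∃ b, h * D.φ₁ a * h⁻¹ = D.φ₁ b) ∧ ∀ a, ∃ b, h * D.φ₂ a * h⁻¹ = D.φ₂ b) ∨
      ((∀ a, ∃ b, h * D.φ₁ a * h⁻¹ = D.φ₂ b) ∧ ∀ a, ∃ b, h * D.φ₂ a * h⁻¹ = D.φ₁ b) := by
  have e1 : ∀ x y a : L, D.φ₁ x * D.φ₂ y * D.φ₁ a * (D.φ₁ x * D.φ₂ y)⁻¹ = D.φ₁ (x * a * x⁻¹) := by
    intro x y a
    rw [map_mul, map_mul, map_inv]
    calc D.φ₁ x * D.φ₂ y * D.φ₁ a * (D.φ₁ x * D.φ₂ y)⁻¹ =
        D.φ₁ x * (D.φ₂ y * D.φ₁ a) * (D.φ₂ y)⁻¹ * (D.φ₁ x)⁻¹ := by group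
      _ = D.φ₁ x * (D.φ₁ a * D.φ₂ y) * (D.φ₂ y)⁻¹ * (D.φ₁ x)⁻¹ := by rw [D.comm]
      _ = _ := by group
  have e2 : ∀ x y a : L, D.φ₁ x * D.φ₂ y * D.φ₂ a * (D.φ₁ x * D.φ₂ y)⁻¹ = D.φ₂ (y * a * y⁻¹) := by
    intro x y a
    rw [map_mul, map_mul, map_inv]
    calc D.φ₁ x * D.φ₂ y * D.φ₂ a * (D.φ₁ x * D.φ₂ y)⁻¹ =
        D.φ₁ x * (D.φ₂ y * D.φ₂ a * (D.φ₂ y)⁻¹) * (D.φ₁ x)⁻¹ := by group
      _ = D.φ₁ x * (D.φ₂ (y * a * y⁻¹)) * (D.φ₁ x)⁻¹ := by rw [map_mul, map_mul, map_inv]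
      _ = D.φ₂ (y * a * y⁻¹) * D.φ₁ x * (D.φ₁ x)⁻¹ := by rw [D.comm]
      _ = D.φ₂ (y * a * y⁻¹) := by group
      _ = _ := by rw [map_mul, map_mul, map_inv]
  obtain ⟨x, y, g, hg, rfl | rfl⟩ := c.gen h
  · left
    constructor
    · intro a
      obtain ⟨b, hb⟩ := c.norm₁ g hg a
      refine ⟨x * b * x⁻¹, ?_⟩
      rw [← e1 x y, ← hb]; group
    · intro a
      obtain ⟨b, hb⟩ := c.norm₂ g hg a
      refine ⟨y * b * y⁻¹, ?_⟩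
      rw [← e2 x y, ← hb]; group
  · right
    have hw : ∀ b, D.w * D.φ₁ b * D.w⁻¹ = D.φ₂ b := fun b => by rw [w_inv, D.conj]
    have hw2 : ∀ b, D.w * D.φ₂ b * D.w⁻¹ = D.φ₁ b := fun b => by rw [w_inv, conj₂]
    constructor
    · intro a
      obtain ⟨b, hb⟩ := c.norm₁ g hg a
      refine ⟨y * b * y⁻¹, ?_⟩
      rw [← e2 x y, ← hw b, ← hb]; group
    · intro a
      obtain ⟨b, hb⟩ := c.norm₂ g hg a
      refine ⟨x * b * x⁻¹, ?_⟩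
      rw [← e1 x y, ← hw2 b, ← hb]; group

/-- An element of odd order normalises both factors. -/
theorem norm_of_odd {h : H} (ho : Odd (orderOf h)) :
    (∀ a, ∃ b, h * D.φ₁ a * h⁻¹ = D.φ₁ b) ∧ ∀ a, ∃ b, h * D.φ₂ a * h⁻¹ = D.φ₂ b := by
  -- the squares normalise both factors
  have hsq : (∀ a, ∃ b, (h * h) * D.φ₁ a * (h * h)⁻¹ = D.φ₁ b) ∧ ∀ a, ∃ b, (h * h) * D.φ₂ a * (h * h)⁻¹ = D.φ₂ b := by
    have e : ∀ y : H, (h * h) * y * (h * h)⁻¹ = h * (h * y * h⁻¹) * h⁻¹ := fun y => by group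
    rcases norm_or_swap c h with ⟨h1, h2⟩ | ⟨h1, h2⟩
    · constructor
      · intro a
        obtain ⟨b, hb⟩ := h1 a
        obtain ⟨b', hb'⟩ := h1 b
        exact ⟨b', by rw [e, hb, hb']⟩
      · intro a
        obtain ⟨b, hb⟩ := h2 a
        obtain ⟨b', hb'⟩ := h2 b
        exact ⟨b', by rw [e, hb, hb']⟩
    · constructor
      · intro a
        obtain ⟨b, hb⟩ := h1 a
        obtain ⟨b', hb'⟩ := h2 b
        exact ⟨b', by rw [e, hb, hb']⟩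
      · intro a
        obtain ⟨b, hb⟩ := h2 a
        obtain ⟨b', hb'⟩ := h1 b
        exact ⟨b', by rw [e, hb, hb']⟩
  have hpow : ∀ n : ℕ, (∀ a, ∃ b, ((h * h) ^ n) * D.φ₁ a * ((h * h) ^ n)⁻¹ = D.φ₁ b) ∧
      ∀ a, ∃ b, ((h * h) ^ n) * D.φ₂ a * ((h * h) ^ n)⁻¹ = D.φ₂ b := by
    intro n
    induction n with
    | zero => exact ⟨fun a => ⟨a, by simp⟩, fun a => ⟨a, by simp⟩⟩
    | succ n ih =>
      have e : ∀ y : H, ((h * h) ^ (n + 1)) * y * ((h * h) ^ (n + 1))⁻¹ =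
          (h * h) ^ n * ((h * h) * y * (h * h)⁻¹) * ((h * h) ^ n)⁻¹ := fun y => by rw [pow_succ]; group
      constructor
      · intro a
        obtain ⟨b, hb⟩ := hsq.1 a
        obtain ⟨b', hb'⟩ := ih.1 b
        exact ⟨b', by rw [e, hb, hb']⟩
      · intro a
        obtain ⟨b, hb⟩ := hsq.2 a
        obtain ⟨b', hb'⟩ := ih.2 b
        exact ⟨b', by rw [e, hb, hb']⟩
  obtain ⟨m, hm⟩ := ho
  have e : (h * h) ^ (m + 1) = h := by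
    rw [← pow_two, ← pow_mul, show 2 * (m + 1) = orderOf h + 1 by omega, pow_succ, pow_orderOf_eq_one, one_mul]
  have := hpow (m + 1)
  rwa [e] at this

end Cent

end Cfsg.Agent.SylowSp4.DuoFacts
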