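import Cfsg.Agent.SylowSp4.FieldPart

/-!
# Generation of `C(t)`

`M` a subgroup of `G` (the normalizer of the signalizer `W`): criteria for `C(t) ≤ M`, and the conjugacy of `t`
and `s` in `M`.
-/

set_option autoImplicit false

namespace Cfsg.Agent.SylowSp4.Final

open QuaternionGroup Cfsg.Agent.SylowSp4.Coord Cfsg.Agent.SylowSp4.Pat Subgroup
open Cfsg.Agent.Walter.OddCoreIn Cfsg.Agent.SylowSp4.DuoFacts Cfsg.Agent.SylowSp4.Pairs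
open Cfsg.Agent.SylowSp4.Triples Cfsg.Agent.SylowSp4.FieldPart

variable {G : Type*} [Group G] [Finite G] {P : Sylow 2 G} {k : ℕ} {f : Q k → Q k → G} {s : G}
  {H L : Type*} [Group H] [Group L] {π : Cn (tt f) →* H} {D : Duo H L} {ι : Q k →* L} {Φ : Subgroup H}

/-- the involution `(y, y)` -/
abbrev ff (f : Q k → Q k → G) : G := f (xa 0) (xa 0)

/-- The image in `H` of a subgroup `M` of `G`. -/
def im (π : Cn (tt f) →* H) (M : Subgroup G) : Subgroup H := (M.subgroupOf (Cn (tt f))).map π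

omit [Finite G] in
theorem mem_im {M : Subgroup G} {h : H} : h ∈ im π M ↔ ∃ x : Cn (tt f), (x : G) ∈ M ∧ π x = h := by
  constructor
  · rintro ⟨x, hx, rfl⟩
    exact ⟨x, mem_subgroupOf.1 hx, rfl⟩
  · rintro ⟨x, hx, rfl⟩
    exact ⟨x, mem_subgroupOf.2 hx, rfl⟩

variable (p : Pat P k f s) (c : Cent k f s π D ι Φ)

include c

omit [Finite G] in
theorem le_of_im {M : Subgroup G} (hK : OO (Cn (tt f)) ≤ M) (h : im π M = ⊤) : Cn (tt f) ≤ M := by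
  intro x hx
  have h1 : π ⟨x, hx⟩ ∈ im π M := by rw [h]; exact mem_top _
  obtain ⟨y, hy, hyx⟩ := mem_im.1 h1
  have h2 : π (⟨x, hx⟩ * y⁻¹) = 1 := by rw [map_mul, map_inv, hyx, mul_inv_cancel]
  have h3 := hK ((c.ker _).1 h2)
  have h4 : (⟨x, hx⟩ * y⁻¹ : Cn (tt f)) * (y : G) = x := by
    change x * (y : G)⁻¹ * y = x
    group
  rw [← h4]
  exact mul_mem h3 hy

include p

/-- Elements commuting with the image of an involution `v` of `C(t)` lift to `C(t) ∩ C(v)`. -/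
theorem mem_im_of_comm {M : Subgroup G} {v : Cn (tt f)} (hv : v * v = 1) (hM : Cn (tt f) ⊓ Cn (v : G) ≤ M) {h : H}
    (hh : h * π v = π v * h) : h ∈ im π M := by
  obtain ⟨x, rfl⟩ := c.surj h
  obtain ⟨κ, hκ, -, hc⟩ := Lift.exists_comm_lift π (card_ker c) hv hh
  rw [mem_im]
  have h1 : ((κ * x : Cn (tt f)) : G) ∈ Cn (v : G) := mem_Cn.2 (congrArg Subtype.val hc)
  exact ⟨κ * x, hM ⟨(κ * x).2, h1⟩, by rw [map_mul, hκ, one_mul]⟩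

theorem mem_im_e {M : Subgroup G} (hM : Cn (tt f) ⊓ Cn (ee f) ≤ M) {h : H}
    (hh : h * δ D (ι (Facts.c k)) = δ D (ι (Facts.c k)) * h) : h ∈ im π M := by
  refine mem_im_of_comm p c (v := ⟨ee f, f_mem p _ _⟩) (Subtype.ext (ee_sq p)) hM ?_
  rw [π_f p c, ← δ_apply]
  exact hh

theorem mem_im_f {M : Subgroup G} (hM : Cn (tt f) ⊓ Cn (ff f) ≤ M) {h : H}
    (hh : h * δ D (ι (xa 0)) = δ D (ι (xa 0)) * h) : h ∈ im π M := by
  refine mem_im_of_comm p c (v := ⟨ff f, f_mem p _ _⟩) (Subtype.ext ?_) hM ?_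
  · change f (xa 0) (xa 0) * f (xa 0) (xa 0) = 1
    rw [p.h.f_mul, Coord.xa_sq, p.h.f_zz]
  · rw [π_f p c, ← δ_apply]
    exact hh

omit [Finite G] in
theorem w_mem_im {M : Subgroup G} (hs : s ∈ M) : D.w ∈ im π M :=
  mem_im.2 ⟨⟨s, s_mem p⟩, hs, c.hw _⟩

omit [Finite G] in
/-- If the image contains `φ₁(L)`, `Φ`, `w` it is everything. -/
theorem im_eq_top {M : Subgroup G} (hs : s ∈ M) (h1 : ∀ a, D.φ₁ a ∈ im π M) (h2 : ∀ g ∈ Φ, g ∈ im π M) :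
    im π M = ⊤ := by
  rw [eq_top_iff]
  intro h _
  have hw := w_mem_im p c hs
  have h3 : ∀ a, D.φ₂ a ∈ im π M := fun a => by
    rw [← D.conj]
    exact mul_mem (mul_mem hw (h1 a)) hw
  obtain ⟨a, b, g, hg, rfl | rfl⟩ := c.gen h
  · exact mul_mem (mul_mem (h1 a) (h3 b)) (h2 g hg)
  · exact mul_mem (mul_mem (mul_mem (h1 a) (h3 b)) hw) (h2 g hg)

theorem Φ_mem_im {M : Subgroup G} (he : Cn (tt f) ⊓ Cn (ee f) ≤ M) : ∀ g ∈ Φ, g ∈ im π M := fun g hg =>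
  mem_im_e p c he (by rw [δ_apply]; exact Φ_comm_f p c hg _ _)

/-- Case 1: `L` is generated by the centralizers of `ι x₀` and `ι y`. -/
theorem le_of_gen {M : Subgroup G} (hK : OO (Cn (tt f)) ≤ M) (hs : s ∈ M) (he : Cn (tt f) ⊓ Cn (ee f) ≤ M)
    (hf : Cn (tt f) ⊓ Cn (ff f) ≤ M)
    (hgen : closure ({a : L | a * ι (Facts.c k) = ι (Facts.c k) * a} ∪ {a | a * ι (xa 0) = ι (xa 0) * a}) = ⊤) :
    Cn (tt f) ≤ M := by
  refine le_of_im c hK (im_eq_top p c hs ?_ (Φ_mem_im p c he))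
  have h1 : closure ({a : L | a * ι (Facts.c k) = ι (Facts.c k) * a} ∪ {a | a * ι (xa 0) = ι (xa 0) * a}) ≤
      (im π M).comap D.φ₁ := by
    rw [closure_le]
    rintro a (ha | ha)
    · have ha' : a * ι (Facts.c k) = ι (Facts.c k) * a := ha
      refine mem_im_e p c he ?_
      rw [δ_apply, ← mul_assoc, ← map_mul, ha', map_mul, mul_assoc, D.comm, ← mul_assoc]
    · have ha' : a * ι (xa 0) = ι (xa 0) * a := ha
      refine mem_im_f p c hf ?_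
      rw [δ_apply, ← mul_assoc, ← map_mul, ha', map_mul, mul_assoc, D.comm, ← mul_assoc]
  intro a
  have h2 : a ∈ (⊤ : Subgroup L) := mem_top a
  rw [← hgen] at h2
  exact h1 h2

/-- Case 2: `L` is generated by the commutators `[a, ι x₀]`. -/
theorem le_of_comm {M : Subgroup G} (hK : OO (Cn (tt f)) ≤ M) (hs : s ∈ M) (he : Cn (tt f) ⊓ Cn (ee f) ≤ M)
    (hts : Cn (tt f) ⊓ Cn s ≤ M) (ht5 : Cn (tt f) ⊓ Cn (tt f * s * ee f) ≤ M)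
    (hgen : closure {g : L | ∃ a, g = a * ι (Facts.c k) * a⁻¹ * (ι (Facts.c k))⁻¹} = ⊤) :
    Cn (tt f) ≤ M := by
  set X := ι (Facts.c k) with hX
  have hXX : X * X = D.ζ := by rw [hX, ← map_mul, Facts.c_sq p.h.hk, c.ι_z]
  have hζ := DuoFacts.ζ_comm c
  -- the diagonal elements
  have hδ : ∀ a, δ D a ∈ im π M := by
    intro a
    refine mem_im_of_comm p c (v := ⟨s, s_mem p⟩) (Subtype.ext (s_sq p)) hts ?_
    rw [c.hw, w_δ]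
  -- the elements commuting with `t s e`
  have h5mem : tt f * s * ee f ∈ Cn (tt f) := mul_mem (mul_mem t_mem (s_mem p)) (f_mem p _ _)
  have hπ5 : π ⟨tt f * s * ee f, h5mem⟩ = D.φ₁ D.ζ * D.w * δ D X := by
    have h1 : (⟨tt f * s * ee f, h5mem⟩ : Cn (tt f)) = ⟨tt f, t_mem⟩ * ⟨s, s_mem p⟩ * ⟨ee f, f_mem p _ _⟩ := rfl
    rw [h1, map_mul, map_mul, π_t c, c.hw, π_f p c, δ_apply]
  have h5sq : (⟨tt f * s * ee f, h5mem⟩ : Cn (tt f)) * ⟨tt f * s * ee f, h5mem⟩ = 1 :=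
    Subtype.ext (sq_of_conj p (conj_tsf p (Facts.c_sq p.h.hk)))
  have h5 : ∀ a, D.φ₁ a * D.φ₂ (X * a * X⁻¹) ∈ im π M := by
    intro a
    refine mem_im_of_comm p c (v := ⟨tt f * s * ee f, h5mem⟩) h5sq ht5 ?_
    rw [hπ5]
    have hXi : X⁻¹ = D.ζ * X := by
      refine inv_eq_of_mul_eq_one_left ?_
      rw [mul_assoc, hXX, D.ζζ]
    have e1 : X * (X * a * X⁻¹) * X⁻¹ = a := by
      have : X * (X * a * X⁻¹) * X⁻¹ = (X * X) * a * (X * X)⁻¹ := by group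
      rw [this, hXX, hζ, mul_inv_cancel_right]
    have e2 : δ D X * (D.φ₁ a * D.φ₂ (X * a * X⁻¹)) = D.φ₁ (X * a * X⁻¹) * D.φ₂ a * δ D X := by
      rw [← mul_inv_eq_iff_eq_mul, δ_apply]
      have h3 : (D.φ₁ X * D.φ₂ X)⁻¹ = D.φ₁ X⁻¹ * D.φ₂ X⁻¹ := by rw [D.comm, mul_inv_rev, map_inv, map_inv]
      rw [h3]
      calc D.φ₁ X * D.φ₂ X * (D.φ₁ a * D.φ₂ (X * a * X⁻¹)) * (D.φ₁ X⁻¹ * D.φ₂ X⁻¹)
          = D.φ₁ X * (D.φ₂ X * D.φ₁ a) * (D.φ₂ (X * a * X⁻¹) * D.φ₁ X⁻¹) * D.φ₂ X⁻¹ := by group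
        _ = D.φ₁ X * (D.φ₁ a * D.φ₂ X) * (D.φ₁ X⁻¹ * D.φ₂ (X * a * X⁻¹)) * D.φ₂ X⁻¹ := by
            rw [D.comm a X, D.comm X⁻¹]
        _ = D.φ₁ X * D.φ₁ a * (D.φ₂ X * D.φ₁ X⁻¹) * D.φ₂ (X * a * X⁻¹) * D.φ₂ X⁻¹ := by group
        _ = D.φ₁ X * D.φ₁ a * (D.φ₁ X⁻¹ * D.φ₂ X) * D.φ₂ (X * a * X⁻¹) * D.φ₂ X⁻¹ := by rw [D.comm X⁻¹ X]
        _ = (D.φ₁ X * D.φ₁ a * D.φ₁ X⁻¹) * (D.φ₂ X * D.φ₂ (X * a * X⁻¹) * D.φ₂ X⁻¹) := by group
        _ = D.φ₁ (X * a * X⁻¹) * D.φ₂ a := by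
            rw [← map_mul, ← map_mul, ← map_mul, ← map_mul, e1]
    have e3 : D.w * (D.φ₁ (X * a * X⁻¹) * D.φ₂ a) = D.φ₁ a * D.φ₂ (X * a * X⁻¹) * D.w := by
      rw [← mul_assoc, w_φ₁, mul_assoc, w_φ₂, ← mul_assoc, ← D.comm]
    calc D.φ₁ a * D.φ₂ (X * a * X⁻¹) * (D.φ₁ D.ζ * D.w * δ D X)
        = (D.φ₁ a * D.φ₂ (X * a * X⁻¹) * D.φ₁ D.ζ) * D.w * δ D X := by group
      _ = (D.φ₁ D.ζ * (D.φ₁ a * D.φ₂ (X * a * X⁻¹))) * D.w * δ D X := by rw [DuoFacts.z_comm c]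
      _ = D.φ₁ D.ζ * (D.φ₁ a * D.φ₂ (X * a * X⁻¹) * D.w) * δ D X := by group
      _ = D.φ₁ D.ζ * D.w * (D.φ₁ (X * a * X⁻¹) * D.φ₂ a * δ D X) := by rw [← e3]; group
      _ = D.φ₁ D.ζ * D.w * δ D X * (D.φ₁ a * D.φ₂ (X * a * X⁻¹)) := by rw [← e2]; group
  -- the commutators in the second factor
  have hw := w_mem_im p c hs
  have hcomm : ∀ a, D.φ₁ (a * X * a⁻¹ * X⁻¹) ∈ im π M := by
    intro a
    have h6 : D.φ₂ (a * (X * a⁻¹ * X⁻¹)) ∈ im π M := by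
      have h7 := mul_mem (hδ a) (h5 a⁻¹)
      have h8 : δ D a * (D.φ₁ a⁻¹ * D.φ₂ (X * a⁻¹ * X⁻¹)) = D.φ₂ (a * (X * a⁻¹ * X⁻¹)) := by
        rw [δ_apply, map_mul D.φ₂ a]
        calc D.φ₁ a * D.φ₂ a * (D.φ₁ a⁻¹ * D.φ₂ (X * a⁻¹ * X⁻¹)) =
              D.φ₁ a * (D.φ₂ a * D.φ₁ a⁻¹) * D.φ₂ (X * a⁻¹ * X⁻¹) := by simp only [mul_assoc]
          _ = D.φ₁ a * (D.φ₁ a⁻¹ * D.φ₂ a) * D.φ₂ (X * a⁻¹ * X⁻¹) := by rw [D.comm a⁻¹ a]
          _ = D.φ₁ a * D.φ₁ a⁻¹ * (D.φ₂ a * D.φ₂ (X * a⁻¹ * X⁻¹)) := by simp only [mul_assoc]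
          _ = _ := by rw [← map_mul D.φ₁, mul_inv_cancel, map_one, one_mul]
      rwa [h8] at h7
    have h9 := mul_mem (mul_mem hw h6) hw
    rw [conj₂] at h9
    have e : a * X * a⁻¹ * X⁻¹ = a * (X * a⁻¹ * X⁻¹) := by group
    rwa [e]
  refine le_of_im c hK (im_eq_top p c hs ?_ (Φ_mem_im p c he))
  intro a
  have h1 : closure {g : L | ∃ a, g = a * X * a⁻¹ * X⁻¹} ≤ (im π M).comap D.φ₁ := by
    rw [closure_le]
    rintro _ ⟨b, rfl⟩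
    exact hcomm b
  have h2 : a ∈ (⊤ : Subgroup L) := mem_top a
  rw [← hgen] at h2
  exact h1 h2

omit c [Finite G] in
/-- `r = (x₀, 1)` centralises `t`, `e` and maps `t₁` to `t₁ e`. -/
theorem conj_t1 : f (Facts.c k) 1 ∈ Cn (tt f) ∧ f (Facts.c k) 1 ∈ Cn (ee f) ∧
    f (Facts.c k) 1 * t1 f s * (f (Facts.c k) 1)⁻¹ = t1 f s * ee f := by
  have hk := p.h.hk
  refine ⟨f_mem p _ _, ?_, ?_⟩
  · rw [mem_Cn, p.h.f_mul, p.h.f_mul, one_mul, mul_one]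
  · rw [mul_inv_eq_iff_eq_mul]
    have h1 : f (Facts.c k) 1 * t1 f s = tt f * s * (f 1 (Facts.c k) * f (xa 0) (xa 0)) := by
      have h2 : f (Facts.c k) 1 * s = s * f 1 (Facts.c k) := (p.h.s_f _ _).symm
      have h3 : f (Facts.c k) 1 * tt f = tt f * f (Facts.c k) 1 := (p.h.t_comm (p.h.f_mem _ _)).symm
      calc f (Facts.c k) 1 * (tt f * s * f (xa 0) (xa 0)) = (f (Facts.c k) 1 * tt f) * s * f (xa 0) (xa 0) := by group
        _ = tt f * (f (Facts.c k) 1 * s) * f (xa 0) (xa 0) := by rw [h3]; group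
        _ = _ := by rw [h2]; group
    rw [h1, t1]
    have h4 : tt f * s * f (xa 0) (xa 0) * ee f * f (Facts.c k) 1 =
        tt f * s * (f (xa 0) (xa 0) * ee f * f (Facts.c k) 1) := by group
    rw [h4, p.h.f_mul, p.h.f_mul, p.h.f_mul, one_mul, mul_one]
    congr 1
    rw [p.h.f_eq_iff]
    right
    have h5 := xc_eq hk
    constructor
    · rw [mul_assoc (xa 0), Facts.c_sq hk, z_comm, ← z_comm (k := k) (xa 0)] <;> skip
      rw [← z_comm, zz_mul]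
    · rw [h5, zz_mul]

/-- `t` and `s` are conjugate in `M`. -/
theorem exists_swap {M : Subgroup G} (hM : Cn (tt f * s * ee f) ⊓ Cn (tt f * s) ≤ M) :
    ∃ m ∈ M, m * tt f * m⁻¹ = s := by
  obtain ⟨hr1, hr2, hr3⟩ := conj_t1 p
  obtain ⟨g, hg1, hg2, hg3⟩ := triples p c (t1_conj p) (t2_conj p) (IsConj.refl (tt f)) (t1_t2_comm p)
    (t1_comm_t p) ((p.h.t_comm (mul_mem (t1_mem p) (ee_mem p))).symm) (t1_ne_t2 p) (t1_ne_t p) (by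
      intro h
      -- `t₁ e = t` is impossible
      have h1 : t1 f s * ee f ∈ P := mul_mem (t1_mem p) (ee_mem p)
      have h2 : t1 f s * ee f = tt f * s * f (xa 0 * Facts.c k) (xa 0 * Facts.c k) := by
        rw [t1, mul_assoc, p.h.f_mul]
      rw [h2, mul_assoc, mul_eq_left, s_comm_diag p] at h
      apply p.h.s_ne (f := f) ((xa 0 * Facts.c k)⁻¹) ((xa 0 * Facts.c k)⁻¹)
      rw [← p.h.f_inv, eq_inv_iff_mul_eq_one, s_comm_diag p]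
      exact h)
  have hprod : g * ee f * g⁻¹ = tt f * s := by
    calc g * ee f * g⁻¹ = g * (t1 f s * (t1 f s * ee f)) * g⁻¹ := by rw [t1_mul_t2 p]
      _ = (g * t1 f s * g⁻¹) * (g * (t1 f s * ee f) * g⁻¹) := by simp only [mul_assoc, inv_mul_cancel_left]
      _ = _ := by rw [hg1, hg2]
  refine ⟨g * f (Facts.c k) 1 * g⁻¹, hM ⟨?_, ?_⟩, ?_⟩
  · rw [← hg3]; exact mem_Cn_conj hr1
  · rw [← hprod]; exact mem_Cn_conj hr2
  · calc g * f (Facts.c k) 1 * g⁻¹ * tt f * (g * f (Facts.c k) 1 * g⁻¹)⁻¹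
        = g * f (Facts.c k) 1 * g⁻¹ * (g * t1 f s * g⁻¹) * (g * f (Facts.c k) 1 * g⁻¹)⁻¹ := by rw [hg1]
      _ = g * (f (Facts.c k) 1 * t1 f s * (f (Facts.c k) 1)⁻¹) * g⁻¹ := by
        simp only [mul_assoc, mul_inv_rev, inv_inv, inv_mul_cancel_left]
      _ = s := by rw [hr3, hg2]

end Cfsg.Agent.SylowSp4.Final
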