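import Cfsg.Agent.SylowSp4.LargeB

/-!
# Type `PSp_4(q)`, `q = 1, 7 mod 8`: fusion, third part

(4a) all elements `f α β`, `α² = β² = z`, are conjugate in `C_G(t)`.
-/

set_option autoImplicit false

namespace Cfsg.Agent.SylowSp4.LargeC

open Subgroup QuaternionGroup Cfsg.Agent.SylowSp4.Coord Cfsg.Agent.SylowSp4.Facts Cfsg.Agent.SylowSp4.Base
open Cfsg.Agent.SylowSp4.CentA Cfsg.Agent.SylowSp4.Extremal Cfsg.Agent.SylowSp4.LargeA Cfsg.Agent.SylowSp4.LargeB
open Cfsg.Agent.SylowSp4.CentG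
open Cfsg.Agent.Lib.GoldschmidtFusion
open Cfsg.Agent.SylowG2.Closed (eq_one_of_shift)

/-- extremal conjugates in the centralizer of `t` -/
theorem exists_extremal_cent {G : Type*} [Group G] [Finite G] {p : ℕ} [Fact p.Prime] (P : Sylow p G) {t x : G}
    (ht : ∀ y ∈ (P : Subgroup G), y * t = t * y) (hx : x ∈ (P : Subgroup G)) :
    ∃ v ∈ (P : Subgroup G), ∀ w ∈ (P : Subgroup G), (∃ g : G, g * t = t * g ∧ g * x * g⁻¹ = w) →
      ∃ g : G, g * t = t * g ∧ g * w * g⁻¹ = v ∧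
        ∀ y ∈ (P : Subgroup G), y * w = w * y → g * y * g⁻¹ ∈ (P : Subgroup G) := by
  have hPC : (P : Subgroup G) ≤ centralizer ({t} : Set G) := fun y hy => mem_centralizer_singleton_iff.2 (ht y hy)
  have hp : IsPGroup p ((P : Subgroup G).subgroupOf (centralizer ({t} : Set G))) :=
    P.isPGroup'.comap_of_injective (centralizer ({t} : Set G)).subtype (subtype_injective _)
  have hi : ¬ p ∣ ((P : Subgroup G).subgroupOf (centralizer ({t} : Set G))).index := by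
    intro hd
    exact P.not_dvd_index (hd.trans (relIndex_dvd_index_of_le hPC))
  let PC : Sylow p (centralizer ({t} : Set G)) := hp.toSylow hi
  obtain ⟨v, hv, hext⟩ := exists_extremal PC (x := ⟨x, hPC hx⟩) hx
  refine ⟨v, hv, ?_⟩
  rintro w hw ⟨g, hgt, hgx⟩
  obtain ⟨g', hg', hC⟩ := hext ⟨w, hPC hw⟩ hw ⟨⟨g, mem_centralizer_singleton_iff.2 hgt⟩, Subtype.ext hgx⟩
  refine ⟨g', mem_centralizer_singleton_iff.1 g'.2, congrArg Subtype.val hg', ?_⟩
  intro y hy hyw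
  exact hC ⟨y, hPC hy⟩ hy (Subtype.ext hyw)

section

variable {G : Type*} [Group G] {S : Subgroup G} {k : ℕ} {f : Q k → Q k → G} {s : G} (h : TSp S k f s)

include h

/-- a root of `t` which is a square in `S` has cyclic coordinate -/
theorem sq_root_cyclic {η : G} (hη : η ∈ S) {μ : Q k} (hμ : μ * μ = z k) (he : η * η = f μ 1) : ∃ i, μ = a i := by
  rcases (h.mem_iff η).1 hη with ⟨γ, δ, rfl⟩ | ⟨γ, δ, rfl⟩
  · rw [h.f_mul, h.f_eq_iff] at he
    rcases γ with i | i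
    · rw [a_mul_a] at he
      rcases he with ⟨h1, -⟩ | ⟨h1, -⟩
      · exact ⟨_, h1.symm⟩
      · rcases μ with j | j
        · exact ⟨j, rfl⟩
        · rw [z_mul_xa] at h1
          cases h1
    · rw [Coord.xa_sq] at he
      exfalso
      rcases he with ⟨h1, -⟩ | ⟨h1, -⟩
      · exact ne_z_of_sq_z hμ h1.symm
      · exact ne_one_of_sq_z hμ (mul_eq_left.1 h1.symm)
  · exfalso
    have hγδ : γ * δ = δ⁻¹ * (δ * γ) * δ := by group
    rw [h.fs_mul_fs, h.f_eq_iff] at he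
    rcases he with ⟨h1, h2⟩ | ⟨h1, h2⟩
    · rw [h2, mul_one, inv_mul_cancel] at hγδ
      rw [hγδ] at h1
      exact ne_one_of_sq_z hμ h1.symm
    · rw [h2, mul_one, mul_assoc, z_comm, inv_mul_cancel_left] at hγδ
      rw [hγδ] at h1
      exact ne_one_of_sq_z hμ (mul_eq_left.1 h1.symm)

/-- an element of odd order of `C_G(t)` normalizing the second factor centralizes it when `k ≥ 2` -/
theorem odd_fix (hk : 2 ≤ k) {g : G} (hgt : g * f (z k) 1 = f (z k) 1 * g) (ho : Odd (orderOf g))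
    (hN : ∀ α : Q k, ∃ β, g * f 1 α * g⁻¹ = f 1 β) (α : Q k) : g * f 1 α * g⁻¹ = f 1 α := by
  have hinj : ∀ {α β : Q k}, f 1 α = f 1 β → α = β := by
    intro α β he
    rw [h.f_eq_iff, mul_one] at he
    rcases he with ⟨-, h1⟩ | ⟨h1, -⟩
    · exact h1
    · exact absurd h1.symm z_ne_one
  have hgt' : g * f 1 (z k) * g⁻¹ = f 1 (z k) := by rw [h.f_one_z, hgt, mul_inv_cancel_right]
  have hmul : ∀ α β : Q k, g * f 1 (α * β) * g⁻¹ = (g * f 1 α * g⁻¹) * (g * f 1 β * g⁻¹) := by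
    intro α β
    have : f 1 (α * β) = f 1 α * f 1 β := by rw [h.f_mul, one_mul]
    rw [this]; group
  have hginj : ∀ {x y : G}, g * x * g⁻¹ = g * y * g⁻¹ → x = y := fun he => mul_left_cancel (mul_right_cancel he)
  -- image of the generator
  obtain ⟨l, hl⟩ : ∃ l, g * f 1 (a 1) * g⁻¹ = f 1 (a l) := by
    obtain ⟨β, hβ⟩ := hN (a 1)
    rcases β with l | l
    · exact ⟨l, hβ⟩
    · exfalso
      have h1 := hmul (a 1) (a 1)
      rw [hβ, h.f_mul, Coord.xa_sq, one_mul, ← hgt'] at h1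
      have h2 := hinj (hginj h1)
      have ha2 : (a 1 : Q k) * a 1 = a 2 := by rw [a_mul_a]; congr 1; norm_num
      rw [ha2] at h2
      exact (a_two_ne hk).2 h2
  have hcyc : ∀ i, ∃ i', g * f 1 (a i) * g⁻¹ = f 1 (a i') := by
    intro i
    have : NeZero (2 * 2 ^ k) := ⟨by positivity⟩
    have hpow : ∀ (m : ℕ) (x : Q k), (f 1 x) ^ m = f 1 (x ^ m) := by
      intro m x
      rw [pow_f h, one_pow]
    have h1 : f 1 (a i) = (f 1 (a 1)) ^ i.val := by
      rw [hpow, a_pow, mul_one, ZMod.natCast_zmod_val]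
    refine ⟨((i.val : ℕ) : ZMod (2 * 2 ^ k)) * l, ?_⟩
    rw [h1, ← conj_pow, hl, hpow, a_pow]
  have hfix : ∀ n : ℕ, ∀ i : ZMod (2 * 2 ^ k), (2 : ZMod (2 * 2 ^ k)) ^ n * i = 0 →
      g * f 1 (a i) * g⁻¹ = f 1 (a i) := by
    intro n
    induction n with
    | zero =>
      intro i hi
      rw [pow_zero, one_mul] at hi
      rw [hi, ← one_def, h.f_one]; group
    | succ n ih =>
      intro i hi
      obtain ⟨i', hi'⟩ := hcyc i
      have h1 := ih (i + i) (by rw [pow_succ] at hi; linear_combination hi)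
      have h2 := hmul (a i) (a i)
      rw [a_mul_a, h1, hi', h.f_mul, a_mul_a, one_mul] at h2
      have h3 := a.inj (hinj h2)
      rcases eq_of_add_self' (i := i' - i) (by linear_combination -h3) with h4 | h4
      · rw [hi', sub_eq_zero.1 h4]
      · exfalso
        have h5 : g * f 1 (a i) * g⁻¹ = f 1 (a i) * f 1 (z k) := by
          rw [hi', h.f_mul, one_mul, ← z_comm, z_mul_a]
          congr 2
          linear_combination h4
        have h6 := eq_one_of_shift ho h5 hgt' (by rw [h.f_mul, z_mul_z, one_mul, h.f_one])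
        rw [h.f_one_z] at h6
        exact h.t_ne_one h6
  have hfix' : ∀ i, g * f 1 (a i) * g⁻¹ = f 1 (a i) := fun i => hfix (k + 1) i (two_pow_mul_eq_zero i)
  rcases α with i | i
  · exact hfix' i
  · obtain ⟨β, hβ⟩ := hN (xa i)
    rcases β with l | l
    · exfalso
      rw [← hfix' l] at hβ
      have h1 := hinj (hginj hβ)
      cases h1
    · -- the shift
      obtain ⟨w, hw⟩ : ∃ w, w = f 1 (a (l - i)) := ⟨_, rfl⟩
      have h1 : g * f 1 (xa i) * g⁻¹ = f 1 (xa i) * w := by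
        rw [hβ, hw, h.f_mul, xa_mul_a, one_mul]
        congr 2
        ring
      have hgw : g * w * g⁻¹ = w := by rw [hw]; exact hfix' _
      have hpw : ∀ n : ℕ, g ^ n * f 1 (xa i) * (g ^ n)⁻¹ = f 1 (xa i) * w ^ n := by
        intro n
        induction n with
        | zero => simp
        | succ n ih =>
          have e : g ^ (n + 1) * f 1 (xa i) * (g ^ (n + 1))⁻¹ = g * (g ^ n * f 1 (xa i) * (g ^ n)⁻¹) * g⁻¹ := by
            rw [pow_succ']; group
          have hwn : g * w ^ n * g⁻¹ = w ^ n := by rw [← conj_pow, hgw]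
          rw [e, ih]
          calc g * (f 1 (xa i) * w ^ n) * g⁻¹ = (g * f 1 (xa i) * g⁻¹) * (g * w ^ n * g⁻¹) := by group
            _ = f 1 (xa i) * w * w ^ n := by rw [h1, hwn]
            _ = f 1 (xa i) * w ^ (n + 1) := by rw [pow_succ', mul_assoc]
      have h2 := hpw (orderOf g)
      rw [pow_orderOf_eq_one, inv_one, mul_one, one_mul] at h2
      have h3 : w ^ orderOf g = 1 := mul_eq_left.1 h2.symm
      have h4 : w ^ (2 ^ (k + 1)) = 1 := by
        rw [hw, pow_f h, a_pow, one_pow]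
        push_cast
        rw [two_pow_mul_eq_zero, ← one_def, h.f_one]
      have h5 : w = 1 := by
        have h6 := orderOf_dvd_of_pow_eq_one h3
        have h7 := orderOf_dvd_of_pow_eq_one h4
        have h8 : Nat.Coprime (orderOf g) (2 ^ (k + 1)) := (Nat.coprime_two_right.2 ho).pow_right _
        have h9 : orderOf w ∣ 1 := by
          rw [← h8.gcd_eq_one]
          exact Nat.dvd_gcd h6 h7
        rw [← orderOf_eq_one_iff]
        exact Nat.dvd_one.1 h9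
      rw [h1, h5, mul_one]

end

section

variable {G : Type*} [Group G] [Finite G] {P : Sylow 2 G} {k : ℕ} {f : Q k → Q k → G} {s : G}
  (h : TSp (P : Subgroup G) k f s)

/-- The Sylow 2-subgroup of `K`. -/
theorem exists_sylow_K {K : Subgroup G} (hK : CentData h K) :
    ∃ PK : Sylow 2 K, (PK : Subgroup K) = (base h).subgroupOf K := by
  have hp : IsPGroup 2 ((base h).subgroupOf K) :=
    (P.isPGroup'.to_le (base_le h)).comap_of_injective K.subtype K.subtype_injective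
  have hbK : base h ≤ K := by rw [← hK.inf_eq]; exact inf_le_left
  have hi : ¬ 2 ∣ ((base h).subgroupOf K).index := by
    intro hd
    -- `P ⊔ K ≤ C(t)`: index two argument
    have hPC : (P : Subgroup G) ≤ centralizer ({f (z k) 1} : Set G) := fun x hx =>
      mem_centralizer_singleton_iff.2 (h.t_comm hx).symm
    have hKC : K ≤ centralizer ({f (z k) 1} : Set G) := fun x hx => mem_centralizer_singleton_iff.2 (hK.comm x hx)
    have hK2 : K.relIndex (centralizer ({f (z k) 1} : Set G)) = 2 := by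
      rw [relIndex, index_eq_two_iff]
      refine ⟨⟨s, hPC h.s_mem⟩, ?_⟩
      rintro ⟨c, hc⟩
      rw [mem_subgroupOf, mem_subgroupOf]
      change Xor (c * s ∈ K) (c ∈ K)
      rcases hK.mem_or c (mem_centralizer_singleton_iff.1 hc) with h1 | h1
      · right
        refine ⟨h1, fun h2 => hK.s_notMem ?_⟩
        have := K.mul_mem (K.inv_mem h1) h2
        rwa [inv_mul_cancel_left] at this
      · left
        refine ⟨h1, fun h2 => hK.s_notMem ?_⟩
        have := K.mul_mem (K.inv_mem h2) h1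
        rwa [inv_mul_cancel_left] at this
    have h1 := relIndex_mul_relIndex (base h) K _ hbK hKC
    have h2 := relIndex_mul_relIndex (base h) (P : Subgroup G) _ (base_le h) hPC
    rw [hK2] at h1
    rw [relIndex_base h, mul_comm] at h2
    have h3 : (base h).relIndex K = (P : Subgroup G).relIndex (centralizer ({f (z k) 1} : Set G)) := by
      apply Nat.eq_of_mul_eq_mul_right (show 0 < 2 by norm_num)
      rw [h1, ← h2]
    apply P.not_dvd_index
    refine dvd_trans ?_ (relIndex_dvd_index_of_le hPC)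
    rw [← h3]
    exact hd
  exact ⟨hp.toSylow hi, rfl⟩

include h

/-- (4a) `f (xa j) 1` is conjugate to `f (c k) 1` by an element of `K` centralizing the second factor. -/
theorem exists_conj_root_fix (hk : 2 ≤ k) (hG : ∀ H : Subgroup G, H.index ≠ 2) {K : Subgroup G} (hK : CentData h K)
    (j : ZMod (2 * 2 ^ k)) :
    ∃ m ∈ K, (∀ α : Q k, m * f 1 α = f 1 α * m) ∧ m * f (xa j) 1 * m⁻¹ = f (c k) 1 := by
  have hk1 := h.hk
  have htc : ∀ y ∈ (P : Subgroup G), y * f (z k) 1 = f (z k) 1 * y := fun y hy => (h.t_comm hy).symm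
  obtain ⟨g₀, hg₀t, hg₀⟩ := exists_conj_root h hk hG j
  obtain ⟨v, hvP, hext⟩ := exists_extremal_cent P htc (h.f_mem (xa j) 1)
  -- the extremal conjugate is a square
  obtain ⟨i, hi, hv⟩ : ∃ i : ZMod (2 * 2 ^ k), i + i = hh k ∧ (v = f (a i) 1 ∨ v = f 1 (a i)) := by
    obtain ⟨c₁, hc₁t, hc₁, hC⟩ := hext (f (c k) 1) (h.f_mem _ _) ⟨g₀, hg₀t, hg₀⟩
    obtain ⟨m, hm⟩ := exists_sq_c hk
    have h1 := hC (f (a m) 1) (h.f_mem _ _) (by rw [h.f_mul, h.f_mul, c, a_comm_a])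
    have h2 : (c₁ * f (a m) 1 * c₁⁻¹) * (c₁ * f (a m) 1 * c₁⁻¹) = v := by
      rw [← hc₁]
      calc (c₁ * f (a m) 1 * c₁⁻¹) * (c₁ * f (a m) 1 * c₁⁻¹) = c₁ * (f (a m) 1 * f (a m) 1) * c₁⁻¹ := by group
        _ = c₁ * f (c k) 1 * c₁⁻¹ := by rw [h.f_mul, hm, one_mul]
    have h3 : v * v = f (z k) 1 := by
      rw [← hc₁]
      calc c₁ * f (c k) 1 * c₁⁻¹ * (c₁ * f (c k) 1 * c₁⁻¹) = c₁ * (f (c k) 1 * f (c k) 1) * c₁⁻¹ := by group
        _ = f (z k) 1 := by rw [root_sq h (c_sq hk1), hc₁t, mul_inv_cancel_right]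
    obtain ⟨μ, hμ, h4 | h4⟩ := root_cases h hvP h3
    · obtain ⟨i, rfl⟩ := sq_root_cyclic h h1 hμ (by rw [h2, h4])
      rw [a_mul_a, z_def] at hμ
      exact ⟨i, a.inj hμ, Or.inl h4⟩
    · have h5 : s * (c₁ * f (a m) 1 * c₁⁻¹) * s⁻¹ ∈ (P : Subgroup G) :=
        (P : Subgroup G).mul_mem ((P : Subgroup G).mul_mem h.s_mem h1) ((P : Subgroup G).inv_mem h.s_mem)
      obtain ⟨i, rfl⟩ := sq_root_cyclic h h5 hμ (by
        calc s * (c₁ * f (a m) 1 * c₁⁻¹) * s⁻¹ * (s * (c₁ * f (a m) 1 * c₁⁻¹) * s⁻¹) =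
              s * ((c₁ * f (a m) 1 * c₁⁻¹) * (c₁ * f (a m) 1 * c₁⁻¹)) * s⁻¹ := by group
          _ = f μ 1 := by rw [h2, h4, h.s_conj])
      rw [a_mul_a, z_def] at hμ
      exact ⟨i, a.inj hμ, Or.inr h4⟩
  -- an element of `P` moving `v` to `f (c k) 1`
  have hfix : ∀ i : ZMod (2 * 2 ^ k), i + i = hh k → ∃ r ∈ (P : Subgroup G), r * f (a i) 1 * r⁻¹ = f (c k) 1 := by
    intro i hi
    rcases eq_c_of_sq hk1 hi with h1 | h1
    · exact ⟨1, one_mem _, by rw [h1]; group⟩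
    · refine ⟨f (xa 0) 1, h.f_mem _ _, ?_⟩
      rw [h1, h.f_inv, h.f_mul, h.f_mul, ← mul_assoc, ← z_comm, mul_assoc (z k), mul_assoc (z k),
        xa_conj_c hk1, zz_mul]
      simp
  obtain ⟨r, hrP, hr⟩ : ∃ r ∈ (P : Subgroup G), r * v * r⁻¹ = f (c k) 1 := by
    obtain ⟨r, hr, hr2⟩ := hfix i hi
    rcases hv with h1 | h1
    · exact ⟨r, hr, by rw [h1, hr2]⟩
    · refine ⟨r * s, mul_mem hr h.s_mem, ?_⟩
      have e : r * s * v * (r * s)⁻¹ = r * (s * v * s⁻¹) * r⁻¹ := by group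
      rw [e, h1, h.s_conj, hr2]
  obtain ⟨c₂, hc₂t, hc₂, hC₂⟩ := hext (f (xa j) 1) (h.f_mem _ _) ⟨1, by simp, by simp⟩
  -- the element `g`
  obtain ⟨g, hg⟩ : ∃ g, g = r * c₂ := ⟨_, rfl⟩
  have hgt : g * f (z k) 1 = f (z k) 1 * g := by
    rw [hg, mul_assoc, hc₂t, ← mul_assoc, htc r hrP, mul_assoc]
  have hgρ : g * f (xa j) 1 * g⁻¹ = f (c k) 1 := by
    rw [← hr, ← hc₂, hg]; group
  have hgQ : ∀ α : Q k, g * f 1 α * g⁻¹ ∈ (P : Subgroup G) := by
    intro α
    have h1 := hC₂ (f 1 α) (h.f_mem _ _) (by rw [h.f_mul, h.f_mul, one_mul, mul_one, one_mul, mul_one])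
    have e : g * f 1 α * g⁻¹ = r * (c₂ * f 1 α * c₂⁻¹) * r⁻¹ := by rw [hg]; group
    rw [e]
    exact mul_mem (mul_mem hrP h1) (inv_mem hrP)
  have hne : ∀ β : Q k, f (c k) 1 ≠ f 1 β := by
    intro β he
    rw [h.f_eq_iff] at he
    rcases he with ⟨h1, -⟩ | ⟨h1, -⟩
    · exact ne_one_of_sq_z (c_sq hk1) h1
    · rw [mul_one] at h1
      exact ne_z_of_sq_z (c_sq hk1) h1
  have hgK : g ∈ K := by
    rcases hK.mem_or g hgt with h1 | h1
    · exact h1
    · exfalso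
      have e : g * s * f 1 (xa j) * (g * s)⁻¹ = f (c k) 1 := by
        have : g * s * f 1 (xa j) * (g * s)⁻¹ = g * (s * f 1 (xa j) * s⁻¹) * g⁻¹ := by group
        rw [this, h.s_conj, hgρ]
      obtain ⟨β, hβ⟩ := hK.closed₂ (g * s) h1 (xa j) (by rw [e]; exact h.f_mem _ _)
      rw [e] at hβ
      exact hne β hβ
  have hgB : ∀ α : Q k, ∃ β, g * f 1 α * g⁻¹ = f 1 β := fun α => hK.closed₂ g hgK α (hgQ α)
  -- the automizer of the second factor in `K`
  obtain ⟨PK, hPK⟩ := exists_sylow_K h hK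
  have hbK : base h ≤ K := by rw [← hK.inf_eq]; exact inf_le_left
  have hfK : ∀ α β, f α β ∈ K := fun α β => hbK ((mem_base h).2 ⟨α, β, rfl⟩)
  let B : Subgroup K :=
    { carrier := {x | ∃ α, (x : G) = f 1 α}
      mul_mem' := by
        rintro x y ⟨α, hα⟩ ⟨β, hβ⟩
        exact ⟨α * β, by rw [Subgroup.coe_mul, hα, hβ, h.f_mul, one_mul]⟩
      one_mem' := ⟨1, by rw [Subgroup.coe_one, h.f_one]⟩
      inv_mem' := by
        rintro x ⟨α, hα⟩
        exact ⟨α⁻¹, by rw [Subgroup.coe_inv, hα, h.f_inv, inv_one]⟩ }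
  have hnorm : ∀ x : K, (∀ α : Q k, ∃ β, (x : G) * f 1 α * (x : G)⁻¹ = f 1 β) → x ∈ normalizer (B : Set K) := by
    intro x hx
    refine mem_normalizer_iff_map_conj.2 (map_conj_le_of_le_normalizer ?_)
    rintro _ ⟨y, ⟨α, hα⟩, rfl⟩
    obtain ⟨β, hβ⟩ := hx α
    refine ⟨β, ?_⟩
    change (x : G) * (y : G) * (x : G)⁻¹ = f 1 β
    rw [hα, hβ]
  have hPKB : (PK : Subgroup K) ≤ normalizer (B : Set K) := by
    intro x hx
    apply hnorm
    intro α
    rw [hPK, mem_subgroupOf, mem_base] at hx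
    obtain ⟨γ, δ, hx⟩ := hx
    exact ⟨δ * α * δ⁻¹, by rw [hx, h.f_inv, h.f_mul, h.f_mul, mul_one, mul_inv_cancel]⟩
  obtain ⟨s₀, hs₀, c₀, hc₀, hsc⟩ := exists_mul_of_pGroup_automizer PK (B := B) (by
      rw [inf_eq_left.2 hPKB]
      intro hd
      exact PK.not_dvd_index (hd.trans (relIndex_dvd_index_of_le hPKB))) (by
      intro x hx hxo
      have hxo' : Odd (orderOf (x : G)) := by
        rw [Subgroup.orderOf_coe]
        exact Nat.coprime_two_right.1 hxo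
      have hxN : ∀ α : Q k, ∃ β, (x : G) * f 1 α * (x : G)⁻¹ = f 1 β := by
        intro α
        have h1 := (mem_normalizer_iff.1 hx ⟨f 1 α, hfK _ _⟩).1 ⟨α, rfl⟩
        obtain ⟨β, hβ⟩ := h1
        exact ⟨β, hβ⟩
      have h2 := odd_fix h hk (hK.comm x x.2) hxo' hxN
      rw [mem_centralizer_iff]
      rintro y ⟨α, hα⟩
      apply Subtype.ext
      rw [Subgroup.coe_mul, Subgroup.coe_mul, hα]
      have h3 := h2 α
      rw [mul_inv_eq_iff_eq_mul] at h3
      exact h3.symm) (n := ⟨g, hgK⟩) (hnorm ⟨g, hgK⟩ hgB)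
  have hcen : ∀ α : Q k, (c₀ : G) * f 1 α = f 1 α * (c₀ : G) := by
    intro α
    have h1 := (mem_centralizer_iff.1 hc₀) ⟨f 1 α, hfK _ _⟩ ⟨α, rfl⟩
    exact (congrArg Subtype.val h1).symm
  have hs₀' : ((s₀ : K) : G) ∈ base h := by
    have h1 := (mem_inf.1 hs₀).1
    rw [hPK, mem_subgroupOf] at h1
    exact h1
  obtain ⟨γ, δ, hγδ⟩ := (mem_base h).1 hs₀'
  have hg2 : g = f γ δ * (c₀ : G) := by
    rw [← hγδ]
    exact congrArg Subtype.val hsc
  have hc₀ρ : (c₀ : G) * f (xa j) 1 * (c₀ : G)⁻¹ = f (γ⁻¹ * c k * γ) 1 := by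
    have e : (c₀ : G) * f (xa j) 1 * (c₀ : G)⁻¹ = (f γ δ)⁻¹ * (g * f (xa j) 1 * g⁻¹) * f γ δ := by
      rw [hg2]; group
    rw [e, hgρ, h.f_inv, h.f_mul, h.f_mul, mul_one, inv_mul_cancel]
  have h1 := c_conj hk1 γ⁻¹
  rw [inv_inv] at h1
  rcases h1 with h1 | h1
  · exact ⟨c₀, c₀.2, hcen, by rw [hc₀ρ, h1]⟩
  · refine ⟨f (xa 0) 1 * c₀, mul_mem (hfK _ _) c₀.2, ?_, ?_⟩
    · intro α
      rw [mul_assoc, hcen, ← mul_assoc, ← mul_assoc, h.f_mul, h.f_mul, one_mul, mul_one, one_mul, mul_one]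
    · have e : f (xa 0) 1 * (c₀ : G) * f (xa j) 1 * (f (xa 0) 1 * (c₀ : G))⁻¹ =
          f (xa 0) 1 * ((c₀ : G) * f (xa j) 1 * (c₀ : G)⁻¹) * (f (xa 0) 1)⁻¹ := by group
      rw [e, hc₀ρ, h1, h.f_inv, h.f_mul, h.f_mul, ← mul_assoc, ← z_comm, mul_assoc (z k), mul_assoc (z k),
        xa_conj_c hk1, zz_mul]
      simp

/-- every root in the first factor is conjugate to `f (c k) 1` by an element of `K` centralizing the second -/
theorem exists_fix₁ (hk : 2 ≤ k) (hG : ∀ H : Subgroup G, H.index ≠ 2) {K : Subgroup G} (hK : CentData h K)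
    {α : Q k} (hα : α * α = z k) :
    ∃ m ∈ K, (∀ β : Q k, m * f 1 β = f 1 β * m) ∧ m * f α 1 * m⁻¹ = f (c k) 1 := by
  have hk1 := h.hk
  rcases sq_z_cases hα with ⟨i, hi, rfl⟩ | ⟨i, rfl⟩
  · have hbK : base h ≤ K := by rw [← hK.inf_eq]; exact inf_le_left
    rcases eq_c_of_sq hk1 hi with h1 | h1
    · exact ⟨1, one_mem _, by simp, by rw [h1]; group⟩
    · refine ⟨f (xa 0) 1, hbK ((mem_base h).2 ⟨_, _, rfl⟩), ?_, ?_⟩
      · intro β
        rw [h.f_mul, h.f_mul, one_mul, mul_one, one_mul, mul_one]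
      · rw [h1, h.f_inv, h.f_mul, h.f_mul, ← mul_assoc, ← z_comm, mul_assoc (z k), mul_assoc (z k),
          xa_conj_c hk1, zz_mul]
        simp
  · exact exists_conj_root_fix h hk hG hK i

/-- the same for the second factor -/
theorem exists_fix₂ (hk : 2 ≤ k) (hG : ∀ H : Subgroup G, H.index ≠ 2) {K : Subgroup G} (hK : CentData h K)
    {α : Q k} (hα : α * α = z k) :
    ∃ m ∈ K, (∀ β : Q k, m * f β 1 = f β 1 * m) ∧ m * f 1 α * m⁻¹ = f 1 (c k) := by
  obtain ⟨m, hmK, hm1, hm2⟩ := exists_fix₁ h hk hG hK hα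
  have hst : s * f (z k) 1 = f (z k) 1 * s := (h.t_comm h.s_mem).symm
  refine ⟨s * m * s⁻¹, hK.conj_mem s hst m hmK, ?_, ?_⟩
  · intro β
    have h1 : f β 1 = s * f 1 β * s⁻¹ := (h.s_conj 1 β).symm
    rw [h1]
    calc s * m * s⁻¹ * (s * f 1 β * s⁻¹) = s * (m * f 1 β) * s⁻¹ := by group
      _ = s * (f 1 β * m) * s⁻¹ := by rw [hm1]
      _ = s * f 1 β * s⁻¹ * (s * m * s⁻¹) := by group
  · have h1 : f 1 α = s * f α 1 * s⁻¹ := (h.s_conj α 1).symm
    rw [h1]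
    calc s * m * s⁻¹ * (s * f α 1 * s⁻¹) * (s * m * s⁻¹)⁻¹ = s * (m * f α 1 * m⁻¹) * s⁻¹ := by group
      _ = f 1 (c k) := by rw [hm2, h.s_conj]

/-- (4a) all `f α β` are conjugate in `C_G(t)`. -/
theorem uu (hk : 2 ≤ k) (hG : ∀ H : Subgroup G, H.index ≠ 2) {α β : Q k} (hα : α * α = z k) (hβ : β * β = z k) :
    ∃ g : G, g * f (z k) 1 = f (z k) 1 * g ∧ g * f α β * g⁻¹ = f (c k) (c k) := by
  obtain ⟨K, hK⟩ := exists_centData h
  obtain ⟨m, hmK, hm1, hm2⟩ := exists_fix₁ h hk hG hK hα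
  obtain ⟨n, hnK, hn1, hn2⟩ := exists_fix₂ h hk hG hK hβ
  refine ⟨n * m, ?_, ?_⟩
  · rw [mul_assoc, hK.comm m hmK, ← mul_assoc, hK.comm n hnK, mul_assoc]
  · have e : f α β = f α 1 * f 1 β := by rw [h.f_mul, one_mul, mul_one]
    have e2 : f (c k) (c k) = f (c k) 1 * f 1 (c k) := by rw [h.f_mul, one_mul, mul_one]
    have h1 : m * f 1 β * m⁻¹ = f 1 β := by rw [hm1, mul_inv_cancel_right]
    have h2 : n * f (c k) 1 * n⁻¹ = f (c k) 1 := by rw [hn1, mul_inv_cancel_right]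
    calc n * m * f α β * (n * m)⁻¹ = n * (m * f α 1 * m⁻¹) * (m * f 1 β * m⁻¹) * n⁻¹ := by rw [e]; group
      _ = (n * f (c k) 1 * n⁻¹) * (n * f 1 β * n⁻¹) := by rw [hm2, h1]; group
      _ = f (c k) (c k) := by rw [h2, hn2, e2]

end

end Cfsg.Agent.SylowSp4.LargeC
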