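import Cfsg.Agent.SylowSp4.Split
import Cfsg.Agent.SylowSp4.CentG
import Cfsg.Agent.SylowSp4.LargeC
import Cfsg.Agent.SylowSp4.Dec
import Cfsg.Agent.SylowSp4.QuatId
import Cfsg.Agent.Walter.OddCoreIn

/-!
# The group `H = C(t) / O(C(t))`: the two normal closures

`Ctx P k f s K`: `H` is a finite group with `O(H) = 1`, Sylow 2-subgroup `P` of type `PSp_4(q)` and `t` central, `K` is the
subgroup of index two with Sylow 2-subgroup the base group.  `N₁`, `N₂` are the `K`-normal closures of the two factors.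
-/

set_option autoImplicit false

namespace Cfsg.Agent.SylowSp4.IdBase

open Subgroup QuaternionGroup Cfsg.Agent.SylowSp4.Coord Cfsg.Agent.SylowSp4.Facts Cfsg.Agent.SylowSp4.Base
open Cfsg.Agent.SylowSp4.CentG Cfsg.Agent.SylowSp4.Decomp
open Cfsg.Agent.Walter.OddCoreIn Cfsg.Agent.Walter.SylowIn

universe u

structure Ctx {H : Type u} [Group H] [Finite H] (P : Sylow 2 H) (k : ℕ) (f : Q k → Q k → H) (s : H)
    (K : Subgroup H) : Prop where
  h : TSp (P : Subgroup H) k f s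
  hO : Cfsg.oddCore H = ⊥
  hZ : ∀ g, g * f (z k) 1 = f (z k) 1 * g
  hK : CentData h K
  hPT : Hyps.ProductThm.{u}

/-- The odd part of an element. -/
theorem exists_odd_pow {G : Type*} [Group G] [Finite G] (n : G) :
    ∃ e : ℕ, Odd (orderOf (n ^ e)) ∧ ∃ j : ℕ, (n * (n ^ e)⁻¹) ^ 2 ^ j = 1 := by
  obtain ⟨j, m, hm, hj⟩ := Nat.exists_eq_two_pow_mul_odd (n := orderOf n) (orderOf_pos n).ne'
  have hco : Nat.Coprime (2 ^ j) m := Nat.Coprime.pow_left j ((Nat.coprime_two_left).2 hm)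
  obtain ⟨e, he1, he2⟩ := Nat.chineseRemainder hco 0 1
  have hodd : Odd (orderOf (n ^ e)) := by
    have h1 : (n ^ e) ^ m = 1 := by
      rw [← pow_mul]
      apply orderOf_dvd_iff_pow_eq_one.1
      rw [hj]
      exact Nat.mul_dvd_mul ((Nat.modEq_zero_iff_dvd).1 he1) (dvd_refl m)
    exact Odd.of_dvd_nat hm (orderOf_dvd_of_pow_eq_one h1)
  refine ⟨e, hodd, j, ?_⟩
  have hcomm : Commute n (n ^ e) := Commute.self_pow n e
  rw [hcomm.inv_right.mul_pow, inv_pow, ← pow_mul, mul_inv_eq_one]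
  rw [pow_eq_pow_iff_modEq, hj]
  have h3 : (2 ^ j * 1) ≡ (2 ^ j * e) [MOD 2 ^ j * m] := Nat.ModEq.mul_left' _ he2.symm
  rw [mul_one] at h3
  rw [mul_comm e]
  exact h3

section Defs

variable {H : Type u} [Group H] {k : ℕ}

/-- the first factor, in `K` -/
def S₁ (f : Q k → Q k → H) (K : Subgroup H) : Set K := {x | ∃ a, (x : H) = f a 1}

/-- the second factor, in `K` -/
def S₂ (f : Q k → Q k → H) (K : Subgroup H) : Set K := {x | ∃ a, (x : H) = f 1 a}

/-- the `K`-normal closure of the first factor -/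
def N₁ (f : Q k → Q k → H) (K : Subgroup H) : Subgroup H := (normalClosure (S₁ f K)).map K.subtype

/-- the `K`-normal closure of the second factor -/
def N₂ (f : Q k → Q k → H) (K : Subgroup H) : Subgroup H := (normalClosure (S₂ f K)).map K.subtype

/-- the centralizer of the base group in `K` -/
def YY (f : Q k → Q k → H) (K : Subgroup H) : Subgroup H := K ⊓ centralizer {x : H | ∃ a b, x = f a b}

end Defs

theorem odd_of_mem_OO {G : Type*} [Group G] [Finite G] {M : Subgroup G} {x : G} (hx : x ∈ OO M) :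
    Odd (orderOf x) := by
  rw [← Nat.not_even_iff_odd, even_iff_two_dvd]
  intro h2
  apply OO_odd M
  have h3 : orderOf x ∣ Nat.card (OO M) := by
    have := orderOf_dvd_natCard (⟨x, hx⟩ : OO M)
    rwa [Subgroup.orderOf_mk] at this
  exact h2.trans h3

namespace Ctx

variable {H : Type u} [Group H] [Finite H] {P : Sylow 2 H} {k : ℕ} {f : Q k → Q k → H} {s : H}
  {K : Subgroup H} (c : Ctx P k f s K)

include c

theorem base_le_K : base c.h ≤ K := by rw [← c.hK.inf_eq]; exact inf_le_left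

theorem f_mem_K (a b : Q k) : f a b ∈ K := c.base_le_K ((mem_base c.h).2 ⟨a, b, rfl⟩)

theorem conj_mem_K {g x : H} (hx : x ∈ K) : g * x * g⁻¹ ∈ K := c.hK.conj_mem g (c.hZ g) x hx

theorem normal_K : K.Normal := ⟨fun x hx g => c.conj_mem_K hx⟩

theorem oddCore_K : Cfsg.oddCore K = ⊥ := by
  have h1 := Lib.Cores.map_subtype_pPrimeCore (G := H) 2 c.normal_K
  have h2 : Cfsg.pPrimeCore 2 H = ⊥ := c.hO
  rw [h2, inf_bot_eq, Subgroup.map_eq_bot_iff, Subgroup.ker_subtype, le_bot_iff] at h1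
  exact h1

theorem s_inv : s⁻¹ = s := c.h.s_inv

theorem exists_fam : ∃ (R : Sylow 2 K) (Q1 Q2 : Subgroup K), (R : Subgroup K) = (base c.h).subgroupOf K ∧
    (Q1 : Set K) = S₁ f K ∧ (Q2 : Set K) = S₂ f K ∧ Split.Fam R Q1 Q2 ⟨f (z k) 1, c.f_mem_K _ _⟩ := by
  have h := c.h
  obtain ⟨R, hR⟩ := LargeC.exists_sylow_K h c.hK
  let Q1 : Subgroup K :=
    { carrier := S₁ f K
      one_mem' := ⟨1, h.f_one.symm⟩
      mul_mem' := by
        rintro x y ⟨a, ha⟩ ⟨b, hb⟩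
        exact ⟨a * b, by rw [Subgroup.coe_mul, ha, hb, h.f_mul, one_mul]⟩
      inv_mem' := by
        rintro x ⟨a, ha⟩
        exact ⟨a⁻¹, by rw [Subgroup.coe_inv, ha, h.f_inv, inv_one]⟩ }
  let Q2 : Subgroup K :=
    { carrier := S₂ f K
      one_mem' := ⟨1, h.f_one.symm⟩
      mul_mem' := by
        rintro x y ⟨a, ha⟩ ⟨b, hb⟩
        exact ⟨a * b, by rw [Subgroup.coe_mul, ha, hb, h.f_mul, one_mul]⟩
      inv_mem' := by
        rintro x ⟨a, ha⟩
        exact ⟨a⁻¹, by rw [Subgroup.coe_inv, ha, h.f_inv, inv_one]⟩ }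
  have hmR : ∀ x : K, x ∈ (R : Subgroup K) ↔ ∃ a b, (x : H) = f a b := by
    intro x
    rw [hR, mem_subgroupOf, mem_base]
  refine ⟨R, Q1, Q2, hR, rfl, rfl, ?_⟩
  exact
    { hO := c.oddCore_K
      tt := Subtype.ext h.t_sq
      t1 := fun e => h.t_ne_one (congrArg Subtype.val e)
      tc := fun g => Subtype.ext (c.hZ g)
      t1m := ⟨z k, rfl⟩
      t2m := ⟨z k, h.f_one_z.symm⟩
      comm := by
        rintro x ⟨a, ha⟩ y ⟨b, hb⟩
        apply Subtype.ext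
        rw [Subgroup.coe_mul, Subgroup.coe_mul, ha, hb, h.f_mul, h.f_mul, one_mul, mul_one, one_mul, mul_one]
      inf := by
        rintro x ⟨a, ha⟩ ⟨b, hb⟩
        rw [ha] at hb
        rcases h.f_inj _ _ _ _ hb with ⟨h1, -⟩ | ⟨h1, -⟩
        · left; apply Subtype.ext; rw [ha, h1]; exact h.f_one
        · right; apply Subtype.ext; rw [ha, h1, mul_one]
      prod := by
        intro r hr
        obtain ⟨a, b, hab⟩ := (hmR r).1 hr
        refine ⟨⟨f a 1, c.f_mem_K _ _⟩, ⟨a, rfl⟩, ⟨f 1 b, c.f_mem_K _ _⟩, ⟨b, rfl⟩, ?_⟩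
        apply Subtype.ext
        rw [Subgroup.coe_mul, hab, h.f_mul, mul_one, one_mul]
      le1 := by
        rintro x ⟨a, ha⟩
        exact (hmR x).2 ⟨a, 1, ha⟩
      le2 := by
        rintro x ⟨a, ha⟩
        exact (hmR x).2 ⟨1, a, ha⟩
      c1 := by
        rintro x ⟨a, ha⟩ g hg
        obtain ⟨α, β, hαβ⟩ := (hmR _).1 hg
        rw [Subgroup.coe_mul, Subgroup.coe_mul, Subgroup.coe_inv, ha] at hαβ
        obtain ⟨b, hb⟩ := c.hK.closed₁ g g.2 a (by rw [hαβ]; exact h.f_mem _ _)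
        exact ⟨b, by rw [Subgroup.coe_mul, Subgroup.coe_mul, Subgroup.coe_inv, ha]; exact hb⟩
      c2 := by
        rintro x ⟨a, ha⟩ g hg
        obtain ⟨α, β, hαβ⟩ := (hmR _).1 hg
        rw [Subgroup.coe_mul, Subgroup.coe_mul, Subgroup.coe_inv, ha] at hαβ
        obtain ⟨b, hb⟩ := c.hK.closed₂ g g.2 a (by rw [hαβ]; exact h.f_mem _ _)
        exact ⟨b, by rw [Subgroup.coe_mul, Subgroup.coe_mul, Subgroup.coe_inv, ha]; exact hb⟩ }

omit c in
theorem _root_.Cfsg.Agent.SylowSp4.IdBase.N₁_le (f : Q k → Q k → H) (K : Subgroup H) : N₁ f K ≤ K :=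
  map_subtype_le _

omit c in
theorem _root_.Cfsg.Agent.SylowSp4.IdBase.N₂_le (f : Q k → Q k → H) (K : Subgroup H) : N₂ f K ≤ K :=
  map_subtype_le _

omit c in
theorem _root_.Cfsg.Agent.SylowSp4.IdBase.conj_N₁ {g x : H} (hg : g ∈ K) (hx : x ∈ N₁ f K) : g * x * g⁻¹ ∈ N₁ f K := by
  obtain ⟨y, hy, rfl⟩ := hx
  exact ⟨⟨g, hg⟩ * y * ⟨g, hg⟩⁻¹, normalClosure_normal.conj_mem y hy _, rfl⟩

omit c in
theorem _root_.Cfsg.Agent.SylowSp4.IdBase.conj_N₂ {g x : H} (hg : g ∈ K) (hx : x ∈ N₂ f K) : g * x * g⁻¹ ∈ N₂ f K := by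
  obtain ⟨y, hy, rfl⟩ := hx
  exact ⟨⟨g, hg⟩ * y * ⟨g, hg⟩⁻¹, normalClosure_normal.conj_mem y hy _, rfl⟩

theorem f_mem_N₁ (a : Q k) : f a 1 ∈ N₁ f K :=
  ⟨⟨f a 1, c.f_mem_K _ _⟩, subset_normalClosure ⟨a, rfl⟩, rfl⟩

theorem f_mem_N₂ (a : Q k) : f 1 a ∈ N₂ f K :=
  ⟨⟨f 1 a, c.f_mem_K _ _⟩, subset_normalClosure ⟨a, rfl⟩, rfl⟩

/-- minimality of `N₁` -/
theorem N₁_min {M : Subgroup H} (hM : ∀ g ∈ K, ∀ x ∈ M, g * x * g⁻¹ ∈ M) (h1 : ∀ a, f a 1 ∈ M) : N₁ f K ≤ M := by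
  have hn : (M.subgroupOf K).Normal := ⟨fun x hx g => mem_subgroupOf.2 (hM g g.2 x (mem_subgroupOf.1 hx))⟩
  have h2 : normalClosure (S₁ f K) ≤ M.subgroupOf K := by
    apply normalClosure_le_normal
    rintro x ⟨a, ha⟩
    exact mem_subgroupOf.2 (by rw [ha]; exact h1 a)
  rintro _ ⟨x, hx, rfl⟩
  exact mem_subgroupOf.1 (h2 hx)

theorem N₂_min {M : Subgroup H} (hM : ∀ g ∈ K, ∀ x ∈ M, g * x * g⁻¹ ∈ M) (h1 : ∀ a, f 1 a ∈ M) : N₂ f K ≤ M := by
  have hn : (M.subgroupOf K).Normal := ⟨fun x hx g => mem_subgroupOf.2 (hM g g.2 x (mem_subgroupOf.1 hx))⟩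
  have h2 : normalClosure (S₂ f K) ≤ M.subgroupOf K := by
    apply normalClosure_le_normal
    rintro x ⟨a, ha⟩
    exact mem_subgroupOf.2 (by rw [ha]; exact h1 a)
  rintro _ ⟨x, hx, rfl⟩
  exact mem_subgroupOf.1 (h2 hx)

theorem s_s : s * s = 1 := c.h.s_s

theorem swap_f (a b : Q k) : s * f a b * s = f b a := by rw [c.h.s_f, mul_assoc, c.s_s, mul_one]

theorem swap_mul (x y : H) : s * (x * y) * s = (s * x * s) * (s * y * s) := by
  calc s * (x * y) * s = s * x * (s * s) * y * s := by rw [c.s_s]; group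
    _ = (s * x * s) * (s * y * s) := by group

theorem swap_swap (x : H) : s * (s * x * s) * s = x := by
  calc s * (s * x * s) * s = (s * s) * x * (s * s) := by group
    _ = x := by rw [c.s_s]; group

theorem swap_inv (x : H) : (s * x * s)⁻¹ = s * x⁻¹ * s := by
  rw [mul_inv_rev, mul_inv_rev, c.s_inv]; group

theorem swap_mem_K {x : H} (hx : x ∈ K) : s * x * s ∈ K := by
  have := c.conj_mem_K (g := s) hx
  rwa [c.s_inv] at this

theorem swap_N₁ {x : H} (hx : x ∈ N₁ f K) : s * x * s ∈ N₂ f K := by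
  have h1 : N₁ f K ≤ (N₂ f K).comap (MulAut.conj s).toMonoidHom := by
    apply c.N₁_min
    · intro g hg x hx
      rw [mem_comap] at hx ⊢
      have e : (MulAut.conj s).toMonoidHom (g * x * g⁻¹) =
          (s * g * s⁻¹) * (MulAut.conj s).toMonoidHom x * (s * g * s⁻¹)⁻¹ := by
        change s * (g * x * g⁻¹) * s⁻¹ = (s * g * s⁻¹) * (s * x * s⁻¹) * (s * g * s⁻¹)⁻¹
        group
      rw [e]
      exact conj_N₂ (c.conj_mem_K hg) hx
    · intro a
      rw [mem_comap]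
      change s * f a 1 * s⁻¹ ∈ _
      rw [c.h.s_conj]
      exact c.f_mem_N₂ a
  have h2 := h1 hx
  rw [mem_comap] at h2
  change s * x * s⁻¹ ∈ _ at h2
  rwa [c.s_inv] at h2

theorem swap_N₂ {x : H} (hx : x ∈ N₂ f K) : s * x * s ∈ N₁ f K := by
  have h1 : N₂ f K ≤ (N₁ f K).comap (MulAut.conj s).toMonoidHom := by
    apply c.N₂_min
    · intro g hg x hx
      rw [mem_comap] at hx ⊢
      have e : (MulAut.conj s).toMonoidHom (g * x * g⁻¹) =
          (s * g * s⁻¹) * (MulAut.conj s).toMonoidHom x * (s * g * s⁻¹)⁻¹ := by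
        change s * (g * x * g⁻¹) * s⁻¹ = (s * g * s⁻¹) * (s * x * s⁻¹) * (s * g * s⁻¹)⁻¹
        group
      rw [e]
      exact conj_N₁ (c.conj_mem_K hg) hx
    · intro a
      rw [mem_comap]
      change s * f 1 a * s⁻¹ ∈ _
      rw [c.h.s_conj]
      exact c.f_mem_N₁ a
  have h2 := h1 hx
  rw [mem_comap] at h2
  change s * x * s⁻¹ ∈ _ at h2
  rwa [c.s_inv] at h2

/-- `[N₁, N₂] = 1` -/
theorem comm_N {x y : H} (hx : x ∈ N₁ f K) (hy : y ∈ N₂ f K) : x * y = y * x := by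
  obtain ⟨R, Q1, Q2, -, h1, h2, hF⟩ := c.exists_fam
  obtain ⟨x, hx, rfl⟩ := hx
  obtain ⟨y, hy, rfl⟩ := hy
  rw [← h1] at hx
  rw [← h2] at hy
  exact congrArg Subtype.val (hF.comm_N c.hPT hx hy)

theorem inf_N {x : H} (hx : x ∈ N₁ f K) (hy : x ∈ N₂ f K) : x = 1 ∨ x = f (z k) 1 := by
  obtain ⟨R, Q1, Q2, -, h1, h2, hF⟩ := c.exists_fam
  obtain ⟨x, hx, rfl⟩ := hx
  obtain ⟨y, hy, e⟩ := hy
  have : y = x := Subtype.ext e
  subst this
  rw [← h1] at hx
  rw [← h2] at hy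
  rcases hF.mem_inf c.hPT hx hy with h3 | h3
  · left; exact congrArg Subtype.val h3
  · right; exact congrArg Subtype.val h3

theorem mem_Q₁ {x : H} (hx : x ∈ N₁ f K) (hP : x ∈ (P : Subgroup H)) : ∃ a, x = f a 1 := by
  obtain ⟨R, Q1, Q2, hR, h1, h2, hF⟩ := c.exists_fam
  have hxK := N₁_le f K hx
  obtain ⟨x, hx, rfl⟩ := hx
  rw [← h1] at hx
  have h3 : x ∈ (R : Subgroup K) := by
    rw [hR, mem_subgroupOf, ← c.hK.inf_eq]
    exact ⟨hxK, hP⟩
  have h4 : x ∈ (Q1 : Set K) := hF.mem_Q1 c.hPT hx h3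
  rw [h1] at h4
  exact h4

theorem t_mem_N₁ : f (z k) 1 ∈ N₁ f K := c.f_mem_N₁ _

/-! ### Sylow facts -/

theorem sylIn_base : SylIn 2 (base c.h) K := by
  obtain ⟨R, hR⟩ := LargeC.exists_sylow_K c.h c.hK
  refine ⟨R, ?_⟩
  rw [hR, subgroupOf_map_subtype, inf_eq_left.2 c.base_le_K]

theorem base_le_N : base c.h ≤ N₁ f K ⊔ N₂ f K := by
  intro x hx
  obtain ⟨a, b, rfl⟩ := (mem_base c.h).1 hx
  have e : f a b = f a 1 * f 1 b := by rw [c.h.f_mul, mul_one, one_mul]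
  rw [e]
  exact mul_mem (mem_sup_left (c.f_mem_N₁ a)) (mem_sup_right (c.f_mem_N₂ b))

theorem mem_sup {x : H} (hx : x ∈ N₁ f K ⊔ N₂ f K) : ∃ a ∈ N₁ f K, ∃ b ∈ N₂ f K, x = a * b := by
  have h1 : N₁ f K ≤ normalizer (N₂ f K : Set H) := by
    rw [le_normalizer_iff']
    intro a ha y hy
    exact conj_N₂ (N₁_le f K ha) hy
  exact (mem_sup_iff_mul h1).1 hx

/-- A 2-element of `K` normalising the base group lies in it. -/
theorem mem_base_of_two {x : H} (hxK : x ∈ K) (hxN : x ∈ normalizer ((base c.h : Subgroup H) : Set H)) {j : ℕ}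
    (h2 : x ^ 2 ^ j = 1) : x ∈ base c.h := by
  have hz : IsPGroup 2 (zpowers x) := by
    have h4 : orderOf x ∣ 2 ^ j := orderOf_dvd_of_pow_eq_one h2
    obtain ⟨i, -, hi⟩ := (Nat.dvd_prime_pow Nat.prime_two).1 h4
    exact IsPGroup.of_card (by rw [Nat.card_zpowers, hi])
  have hsup : IsPGroup 2 (zpowers x ⊔ base c.h : Subgroup H) :=
    IsPGroup.to_sup_of_normal_right' hz c.sylIn_base.isPGroup (zpowers_le.2 hxN)
  have h5 := c.sylIn_base.eq_of_le (le_sup_right : base c.h ≤ zpowers x ⊔ base c.h)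
    (sup_le (zpowers_le.2 hxK) c.base_le_K) hsup
  rw [← h5]
  exact mem_sup_left (Subgroup.mem_zpowers _)

/-- Frattini argument: the odd part normalises the base group. -/
theorem exists_frattini {g : H} (hg : g ∈ K) : ∃ a ∈ N₁ f K, ∃ b ∈ N₂ f K, ∃ n ∈ K, Odd (orderOf n) ∧
    (∀ x ∈ base c.h, n * x * n⁻¹ ∈ base c.h) ∧ g = a * b * n := by
  have hle : N₁ f K ⊔ N₂ f K ≤ K := sup_le (N₁_le f K) (N₂_le f K)
  have hn : K ≤ normalizer ((N₁ f K ⊔ N₂ f K : Subgroup H) : Set H) := by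
    rw [le_normalizer_iff']
    intro g hg x hx
    obtain ⟨a, ha, b, hb, rfl⟩ := c.mem_sup hx
    have e : g * (a * b) * g⁻¹ = (g * a * g⁻¹) * (g * b * g⁻¹) := by group
    rw [e]
    exact mul_mem (mem_sup_left (conj_N₁ hg ha)) (mem_sup_right (conj_N₂ hg hb))
  have hS : SylIn 2 (base c.h) (N₁ f K ⊔ N₂ f K) := c.sylIn_base.of_le c.base_le_N hle
  obtain ⟨m, hm, n, ⟨hnK, hnN⟩, rfl⟩ := hS.frattini hle hn hg
  -- split `n`
  obtain ⟨e, ho, j, h2⟩ := exists_odd_pow n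
  have hb : n * (n ^ e)⁻¹ ∈ base c.h :=
    c.mem_base_of_two (mul_mem hnK (inv_mem (pow_mem hnK e))) (mul_mem hnN (inv_mem (pow_mem hnN e))) h2
  have hm' : m * (n * (n ^ e)⁻¹) ∈ N₁ f K ⊔ N₂ f K := mul_mem hm (c.base_le_N hb)
  obtain ⟨a, ha, b, hb', e1⟩ := c.mem_sup hm'
  refine ⟨a, ha, b, hb', n ^ e, pow_mem hnK e, ho, ?_, ?_⟩
  · intro x hx
    exact (mem_normalizer_iff.1 (pow_mem hnN e) x).1 hx
  · rw [← e1]; group

/-! ### The centralizer of the base group -/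

omit c in
theorem _root_.Cfsg.Agent.SylowSp4.IdBase.mem_YY {x : H} :
    x ∈ YY f K ↔ x ∈ K ∧ ∀ a b, x * f a b = f a b * x := by
  constructor
  · rintro ⟨h1, h2⟩
    refine ⟨h1, fun a b => ?_⟩
    exact (mem_centralizer_iff.1 h2 _ ⟨a, b, rfl⟩).symm
  · rintro ⟨h1, h2⟩
    refine ⟨h1, mem_centralizer_iff.2 ?_⟩
    rintro _ ⟨a, b, rfl⟩
    exact (h2 a b).symm

omit c in
theorem _root_.Cfsg.Agent.SylowSp4.IdBase.center_Q {k : ℕ} (hk : 1 ≤ k) {g : Q k}
    (hg : ∀ x : Q k, x * x = z k → g * x = x * g) : g = 1 ∨ g = z k := by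
  rcases g with i | i
  · exact of_a_comm_xa (hg (xa 0) (Coord.xa_sq 0))
  · exfalso
    rcases eq_or_of_comm (c_sq hk) (Coord.xa_sq i) (hg (Facts.c k) (c_sq hk)).symm with h1 | h1
    · rw [Facts.c] at h1
      exact absurd h1 (by simp)
    · rw [Facts.c, z_mul_a] at h1
      exact absurd h1 (by simp)

/-- A 2-element of `C_K(R)` is `1` or `t`. -/
theorem two_elt {y : H} (hy : y ∈ YY f K) {j : ℕ} (h2 : y ^ 2 ^ j = 1) : y = 1 ∨ y = f (z k) 1 := by
  obtain ⟨hyK, hyc⟩ := mem_YY.1 hy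
  have h1 : y ∈ base c.h := by
    refine c.mem_base_of_two hyK ?_ h2
    rw [mem_normalizer_iff]
    intro x
    constructor
    · intro hx
      obtain ⟨a, b, rfl⟩ := (mem_base c.h).1 hx
      rw [hyc, mul_inv_cancel_right]
      exact hx
    · intro hx
      obtain ⟨a, b, hab⟩ := (mem_base c.h).1 hx
      have e : x = f a b := by
        calc x = y⁻¹ * (y * x * y⁻¹) * y := by group
          _ = y⁻¹ * f a b * y := by rw [hab]
          _ = f a b := by rw [mul_assoc, ← hyc, inv_mul_cancel_left]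
      rw [e]
      exact (mem_base c.h).2 ⟨a, b, rfl⟩
  obtain ⟨a, b, rfl⟩ := (mem_base c.h).1 h1
  have hsymm : ∀ {a b : Q k}, (∀ a' b', f a b * f a' b' = f a' b' * f a b) → a = 1 ∨ a = z k := by
    intro a b hc
    apply center_Q c.h.hk
    intro x _
    rcases (comm_iff c.h).1 (hc x 1) with ⟨h3, -⟩ | ⟨-, h3⟩
    · exact h3
    · rw [mul_one, one_mul] at h3
      exact absurd h3 (ne_z_mul b)
  have ha := hsymm hyc
  have hb : b = 1 ∨ b = z k := by
    apply hsymm (a := b) (b := a)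
    intro a' b'
    have h3 := hyc b' a'
    have h4 := congrArg (fun w => s * w * s) h3
    simp only [c.swap_mul, c.swap_f] at h4
    exact h4
  rcases ha with rfl | rfl <;> rcases hb with rfl | rfl
  · left; exact c.h.f_one
  · right; exact c.h.f_one_z
  · right; rfl
  · left; exact c.h.f_zz

theorem not_four {C : Subgroup H} (hC : C ≤ YY f K) : ¬ 4 ∣ Nat.card C := by
  intro h4
  have : Fact (Nat.Prime 2) := ⟨Nat.prime_two⟩
  obtain ⟨V, hV⟩ := Sylow.exists_subgroup_card_pow_prime 2 (n := 2) (G := C) (by norm_num; exact h4)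
  have h1 : ∀ v : V, ((v : C) : H) = 1 ∨ ((v : C) : H) = f (z k) 1 := by
    intro v
    refine c.two_elt (hC (v : C).2) (j := 2) ?_
    have h5 : v ^ 2 ^ 2 = 1 := by
      rw [← hV]
      exact pow_card_eq_one'
    have h6 := congrArg (fun w : V => ((w : C) : H)) h5
    simpa using h6
  have h2 : Nat.card V ≤ 2 := by
    classical
    have hinj : Function.Injective (fun v : V => if ((v : C) : H) = 1 then (0 : Fin 2) else 1) := by
      intro v w hvw
      apply Subtype.ext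
      apply Subtype.ext
      simp only at hvw
      have hne := c.h.t_ne_one
      rcases h1 v with h3 | h3 <;> rcases h1 w with h5 | h5
      · rw [h3, h5]
      · rw [h3, h5, if_pos rfl, if_neg hne] at hvw
        exact absurd hvw (by decide)
      · rw [h3, h5, if_neg hne, if_pos rfl] at hvw
        exact absurd hvw (by decide)
      · rw [h3, h5]
    have := Nat.card_le_card_of_injective _ hinj
    rwa [Nat.card_fin] at this
  rw [hV] at h2
  norm_num at h2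

theorem odd_mem {C : Subgroup H} (hC : C ≤ YY f K) {y : H} (hy : y ∈ C) (ho : Odd (orderOf y)) : y ∈ OO C :=
  mem_OO_of_not_four (c.not_four hC) hy (by rw [← even_iff_two_dvd]; exact Nat.not_even_iff_odd.2 ho)

theorem split_Y {y : H} (hy : y ∈ YY f K) : ∃ g ∈ OO (YY f K), y = g ∨ y = f (z k) 1 * g := by
  obtain ⟨e, ho, j, h2⟩ := exists_odd_pow y
  refine ⟨y ^ e, c.odd_mem le_rfl (pow_mem hy e) ho, ?_⟩
  rcases c.two_elt (mul_mem hy (inv_mem (pow_mem hy e))) h2 with h3 | h3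
  · left; exact mul_inv_eq_one.1 h3
  · right; exact mul_inv_eq_iff_eq_mul.1 h3

theorem swap_YY {y : H} (hy : y ∈ YY f K) : s * y * s ∈ YY f K := by
  obtain ⟨h1, h2⟩ := mem_YY.1 hy
  refine mem_YY.2 ⟨c.swap_mem_K h1, fun a b => ?_⟩
  have h3 := congrArg (fun w => s * w * s) (h2 b a)
  simp only [c.swap_mul, c.swap_f] at h3
  exact h3

theorem orderOf_swap (y : H) : orderOf (s * y * s) = orderOf y := by
  have e : s * y * s = (MulAut.conj s) y := by
    change _ = s * y * s⁻¹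
    rw [c.s_inv]
  rw [e]
  exact MulEquiv.orderOf_eq _ _

/-- `C_H(N₁ N₂) = ⟨t⟩` -/
theorem cen {h : H} (h1 : ∀ a ∈ N₁ f K, h * a = a * h) (h2 : ∀ a ∈ N₁ f K, h * (s * a * s) = (s * a * s) * h) :
    h = 1 ∨ h = f (z k) 1 := by
  have h2' : ∀ b ∈ N₂ f K, h * b = b * h := by
    intro b hb
    have h3 := h2 _ (c.swap_N₂ hb)
    rwa [c.swap_swap] at h3
  let C : Subgroup H := K ⊓ centralizer (N₁ f K : Set H) ⊓ centralizer (N₂ f K : Set H)
  have hmC : ∀ x, x ∈ C ↔ x ∈ K ∧ (∀ a ∈ N₁ f K, x * a = a * x) ∧ ∀ b ∈ N₂ f K, x * b = b * x := by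
    intro x
    constructor
    · rintro ⟨⟨h3, h4⟩, h5⟩
      exact ⟨h3, fun a ha => (mem_centralizer_iff.1 h4 a ha).symm, fun b hb => (mem_centralizer_iff.1 h5 b hb).symm⟩
    · rintro ⟨h3, h4, h5⟩
      exact ⟨⟨h3, mem_centralizer_iff.2 fun a ha => (h4 a ha).symm⟩,
        mem_centralizer_iff.2 fun b hb => (h5 b hb).symm⟩
  have hCY : C ≤ YY f K := by
    intro x hx
    obtain ⟨h3, h4, h5⟩ := (hmC x).1 hx
    refine mem_YY.2 ⟨h3, fun a b => ?_⟩
    have e : f a b = f a 1 * f 1 b := by rw [c.h.f_mul, mul_one, one_mul]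
    rw [e, ← mul_assoc, h4 _ (c.f_mem_N₁ a), mul_assoc, h5 _ (c.f_mem_N₂ b), mul_assoc]
  have hCK : ∀ g ∈ K, ∀ x ∈ C, g * x * g⁻¹ ∈ C := by
    intro g hg x hx
    obtain ⟨h3, h4, h5⟩ := (hmC x).1 hx
    refine (hmC _).2 ⟨c.conj_mem_K h3, fun a ha => ?_, fun b hb => ?_⟩
    · have h6 := h4 _ (conj_N₁ (K.inv_mem hg) ha)
      rw [inv_inv] at h6
      calc g * x * g⁻¹ * a = g * (x * (g⁻¹ * a * g)) * g⁻¹ := by group
        _ = g * ((g⁻¹ * a * g) * x) * g⁻¹ := by rw [h6]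
        _ = a * (g * x * g⁻¹) := by group
    · have h6 := h5 _ (conj_N₂ (K.inv_mem hg) hb)
      rw [inv_inv] at h6
      calc g * x * g⁻¹ * b = g * (x * (g⁻¹ * b * g)) * g⁻¹ := by group
        _ = g * ((g⁻¹ * b * g) * x) * g⁻¹ := by rw [h6]
        _ = b * (g * x * g⁻¹) := by group
  have hCs : ∀ x ∈ C, s * x * s ∈ C := by
    intro x hx
    obtain ⟨h3, h4, h5⟩ := (hmC x).1 hx
    refine (hmC _).2 ⟨c.swap_mem_K h3, fun a ha => ?_, fun b hb => ?_⟩
    · have h6 : s * (x * (s * a * s)) * s = s * ((s * a * s) * x) * s := by rw [h5 _ (c.swap_N₁ ha)]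
      rw [c.swap_mul x, c.swap_mul (s * a * s) x, c.swap_swap] at h6
      exact h6
    · have h6 : s * (x * (s * b * s)) * s = s * ((s * b * s) * x) * s := by rw [h4 _ (c.swap_N₂ hb)]
      rw [c.swap_mul x, c.swap_mul (s * b * s) x, c.swap_swap] at h6
      exact h6
  have hCn : C.Normal := by
    refine ⟨fun x hx g => ?_⟩
    rcases c.hK.mem_or g (c.hZ g) with hg | hg
    · exact hCK g hg x hx
    · have h7 := hCK _ hg _ (hCs x hx)
      have e : g * x * g⁻¹ = g * s * (s * x * s) * (g * s)⁻¹ := by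
        calc g * x * g⁻¹ = g * (s * s) * x * (s * s) * g⁻¹ := by rw [c.s_s]; group
          _ = g * s * (s * x * s) * (s * g⁻¹) := by group
          _ = g * s * (s * x * s) * (g * s)⁻¹ := by rw [mul_inv_rev, c.s_inv]
      rw [e]
      exact h7
  have hOC : OO C = ⊥ := by
    have h3 := Lib.Cores.map_subtype_pPrimeCore (G := H) 2 hCn
    have h4 : Cfsg.pPrimeCore 2 H = ⊥ := c.hO
    rw [h4, inf_bot_eq] at h3
    exact h3
  by_cases hK : h ∈ K
  · have hC : h ∈ C := (hmC h).2 ⟨hK, h1, h2'⟩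
    obtain ⟨e, ho, j, h3⟩ := exists_odd_pow h
    have h4 := c.odd_mem hCY (pow_mem hC e) ho
    rw [hOC, mem_bot] at h4
    rw [h4, inv_one, mul_one] at h3
    exact c.two_elt (hCY hC) h3
  · exfalso
    have hg : h * s ∈ K := (c.hK.mem_or h (c.hZ h)).resolve_left hK
    have h5 : ∀ a ∈ N₁ f K, a ∈ N₂ f K := by
      intro a ha
      have h6 := conj_N₂ hg (c.swap_N₁ ha)
      have e : h * s * (s * a * s) * (h * s)⁻¹ = a := by
        calc h * s * (s * a * s) * (h * s)⁻¹ = h * (s * s) * a * (s * s⁻¹) * h⁻¹ := by group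
          _ = h * a * h⁻¹ := by rw [c.s_s]; group
          _ = a := by rw [h1 a ha, mul_inv_cancel_right]
      rwa [e] at h6
    have hcm := c.f_mem_N₁ (Facts.c k)
    have hcs := c_sq c.h.hk
    rcases c.inf_N hcm (h5 _ hcm) with h6 | h6
    · rw [← c.h.f_one] at h6
      rcases c.h.f_inj _ _ _ _ h6 with ⟨h7, -⟩ | ⟨-, h7⟩
      · exact ne_one_of_sq_z hcs h7
      · rw [mul_one] at h7
        exact z_ne_one h7.symm
    · rcases c.h.f_inj _ _ _ _ h6 with ⟨h7, -⟩ | ⟨-, h7⟩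
      · exact ne_z_of_sq_z hcs h7
      · rw [mul_one] at h7
        exact z_ne_one h7.symm

/-- The decomposition. -/
theorem dec (hgen : ∀ n ∈ K, Odd (orderOf n) → (∀ x ∈ base c.h, n * x * n⁻¹ ∈ base c.h) →
    ∃ a ∈ N₁ f K, ∃ b ∈ N₂ f K, ∃ y ∈ YY f K, n = a * b * y) : Dec f s (N₁ f K) (OO (YY f K)) where
  q1 := c.f_mem_N₁
  comm a ha b hb := c.comm_N ha (c.swap_N₁ hb)
  inf a ha hb := c.inf_N ha (by
    have := c.swap_N₁ hb
    rwa [c.swap_swap] at this)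
  gen := by
    have key : ∀ g ∈ K, ∃ a ∈ N₁ f K, ∃ b ∈ N₁ f K, ∃ y ∈ OO (YY f K), g = a * (s * b * s) * y := by
      intro g hg
      obtain ⟨a, ha, b, hb, n, hn, hno, hnb, rfl⟩ := c.exists_frattini hg
      obtain ⟨a', ha', b', hb', y, hy, rfl⟩ := hgen n hn hno hnb
      obtain ⟨φ, hφ, h1⟩ := c.split_Y hy
      have key2 : ∃ τ ∈ N₁ f K, y = τ * φ ∧ ∀ g : H, g * τ = τ * g := by
        rcases h1 with h1 | h1
        · exact ⟨1, one_mem _, by rw [h1, one_mul], fun g => by rw [one_mul, mul_one]⟩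
        · exact ⟨_, c.t_mem_N₁, h1, c.hZ⟩
      obtain ⟨τ, hτ, hyτ, hτc⟩ := key2
      refine ⟨a * a' * τ, mul_mem (mul_mem ha ha') hτ, s * (b * b') * s, c.swap_N₂ (mul_mem hb hb'), φ, hφ, ?_⟩
      rw [c.swap_swap, hyτ]
      have e1 := c.comm_N ha' hb
      calc a * b * (a' * b' * (τ * φ)) = a * (b * a') * b' * (τ * φ) := by group
        _ = a * (a' * b) * b' * (τ * φ) := by rw [e1]
        _ = a * a' * (b * b' * τ) * φ := by group
        _ = a * a' * (τ * (b * b')) * φ := by rw [hτc]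
        _ = a * a' * τ * (b * b') * φ := by group
    intro h
    rcases c.hK.mem_or h (c.hZ h) with hh | hh
    · obtain ⟨a, ha, b, hb, y, hy, e⟩ := key h hh
      exact ⟨a, ha, b, hb, y, hy, Or.inl e⟩
    · obtain ⟨a, ha, b, hb, y, hy, e⟩ := key _ hh
      refine ⟨a, ha, b, hb, s * y * s, ?_, Or.inr ?_⟩
      · apply c.odd_mem le_rfl (c.swap_YY (OO_le _ hy))
        rw [c.orderOf_swap]
        exact odd_of_mem_OO hy
      · calc h = h * s * s := by rw [mul_assoc, c.s_s, mul_one]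
          _ = a * (s * b * s) * y * s := by rw [e]
          _ = a * (s * b * s) * (s * s) * y * s := by rw [c.s_s, mul_one]
          _ = a * (s * b * s) * s * (s * y * s) := by group
  odd := by
    rw [← Nat.not_even_iff_odd, even_iff_two_dvd]
    exact OO_odd _
  norm g hg a ha := conj_N₁ (mem_YY.1 (OO_le _ hg)).1 ha
  fix g hg a := (mem_YY.1 (OO_le _ hg)).2 a 1
  sΦ g hg := by
    apply c.odd_mem le_rfl (c.swap_YY (OO_le _ hg))
    rw [c.orderOf_swap]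
    exact odd_of_mem_OO hg
  cen _ h1 h2 := c.cen h1 h2

end Ctx

end Cfsg.Agent.SylowSp4.IdBase
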