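import Cfsg.Agent.SylowSp4.IdPerf
import Cfsg.Agent.SylowSp4.AutOne
import Cfsg.Agent.SylowG2.SLTwoThreeRecog
import Cfsg.Agent.ClassificationK.GTwoFactorGen

/-!
# The group `H = C(t) / O(C(t))` in the case `k = 1`

`dichotomy`: either `N₁ = Q₁` (so `R` is normal in `K`), or `N₁` contains an element `ρ` of odd order normalising and not
centralising `Q₁`.
`gen_one`: modulo `C_K(R)` and `R`, the odd order elements of `K` normalising `R` are generated by `ρ` and `ρ ^ s`.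
`exists_dec_one`: the decomposition of `H`, with `L ≃* SL(2, F)`.
-/

set_option autoImplicit false

namespace Cfsg.Agent.SylowSp4.IdOne

open Subgroup QuaternionGroup Cfsg.Agent.SylowSp4.Coord Cfsg.Agent.SylowSp4.Facts Cfsg.Agent.SylowSp4.Base
open Cfsg.Agent.SylowSp4.CentG Cfsg.Agent.SylowSp4.Decomp Cfsg.Agent.SylowSp4.IdBase Cfsg.Agent.SylowSp4.AutOne
open Cfsg.Agent.Walter.OddCoreIn Cfsg.Agent.Walter.SylowIn

universe u

theorem exists_action {M H : Type*} [Group M] [Group H] (φ : QuaternionGroup 2 →* H) (hφ : Function.Injective φ)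
    (i : M →* H) (hcl : ∀ (g : M) (x : QuaternionGroup 2), ∃ y, i g * φ x * (i g)⁻¹ = φ y) :
    ∃ γ : M →* MulAut (QuaternionGroup 2), ∀ g x, φ (γ g x) = i g * φ x * (i g)⁻¹ := by
  choose σ hσ using hcl
  have h1 : ∀ g x, σ g⁻¹ (σ g x) = x := by
    intro g x
    apply hφ
    rw [← hσ, ← hσ, map_inv]
    group
  have h2 : ∀ g x, σ g (σ g⁻¹ x) = x := by
    intro g x
    have := h1 g⁻¹ x
    rwa [inv_inv] at this
  have h3 : ∀ g x y, σ g (x * y) = σ g x * σ g y := by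
    intro g x y
    apply hφ
    rw [map_mul, ← hσ, ← hσ, ← hσ, map_mul]
    group
  refine ⟨MonoidHom.mk' (fun g =>
    { toFun := σ g, invFun := σ g⁻¹, left_inv := h1 g, right_inv := h2 g, map_mul' := h3 g }) ?_,
    fun g x => (hσ g x).symm⟩
  intro g g'
  apply MulEquiv.ext
  intro x
  apply hφ
  change φ (σ (g * g') x) = φ (σ g (σ g' x))
  rw [← hσ, ← hσ, ← hσ, map_mul]
  group

theorem c_one : Facts.c 1 = a 1 := by decide

theorem z_one : z 1 = a 2 := by decide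

theorem z_c_one : z 1 * Facts.c 1 = a 3 := by decide

variable {H : Type u} [Group H] [Finite H] {P : Sylow 2 H} {f : Q 1 → Q 1 → H} {s : H}
  {K : Subgroup H} (c : Ctx P 1 f s K)

include c

theorem exists_act : ∃ γ₁ γ₂ : (K ⊓ normalizer ((base c.h : Subgroup H) : Set H) : Subgroup H) →*
      MulAut (QuaternionGroup 2),
    (∀ g (x : QuaternionGroup 2), f (γ₁ g x) 1 = (g : H) * f x 1 * (g : H)⁻¹) ∧
    (∀ g (x : QuaternionGroup 2), f 1 (γ₂ g x) = (g : H) * f 1 x * (g : H)⁻¹) := by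
  have h := c.h
  let φ₁ : QuaternionGroup 2 →* H :=
    { toFun := fun x => f x 1
      map_one' := h.f_one
      map_mul' := fun x y => by
        have := h.f_mul x 1 y 1
        rw [one_mul] at this
        exact this.symm }
  let φ₂ : QuaternionGroup 2 →* H :=
    { toFun := fun x => f 1 x
      map_one' := h.f_one
      map_mul' := fun x y => by
        have := h.f_mul 1 x 1 y
        rw [one_mul] at this
        exact this.symm }
  have hb : ∀ g : (K ⊓ normalizer ((base c.h : Subgroup H) : Set H) : Subgroup H), ∀ α β : Q 1,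
      (g : H) * f α β * (g : H)⁻¹ ∈ (P : Subgroup H) := fun g α β =>
    base_le c.h ((mem_normalizer_iff.1 g.2.2 _).1 ((mem_base c.h).2 ⟨α, β, rfl⟩))
  obtain ⟨γ₁, hγ₁⟩ := exists_action φ₁ (fun x y hxy => c.f_left_inj hxy)
    (K ⊓ normalizer ((base c.h : Subgroup H) : Set H) : Subgroup H).subtype
    (fun g x => c.hK.closed₁ g g.2.1 x (hb g x 1))
  obtain ⟨γ₂, hγ₂⟩ := exists_action φ₂ (fun x y hxy => by
      have h1 : s * f 1 x * s = s * f 1 y * s := by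
        have h2 : f 1 x = f 1 y := hxy
        rw [h2]
      rw [c.swap_f, c.swap_f] at h1
      exact c.f_left_inj h1)
    (K ⊓ normalizer ((base c.h : Subgroup H) : Set H) : Subgroup H).subtype
    (fun g x => c.hK.closed₂ g g.2.1 x (hb g 1 x))
  exact ⟨γ₁, γ₂, hγ₁, hγ₂⟩

theorem mem_M {n : H} (hn : n ∈ K) (hnb : ∀ x ∈ base c.h, n * x * n⁻¹ ∈ base c.h) :
    n ∈ (K ⊓ normalizer ((base c.h : Subgroup H) : Set H) : Subgroup H) :=
  ⟨hn, mem_normalizer_fintype hnb⟩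

theorem mem_M_iff {n : H} : n ∈ (K ⊓ normalizer ((base c.h : Subgroup H) : Set H) : Subgroup H) ↔
    n ∈ K ∧ ∀ x ∈ base c.h, n * x * n⁻¹ ∈ base c.h :=
  ⟨fun h => ⟨h.1, fun x hx => (mem_normalizer_iff.1 h.2 x).1 hx⟩, fun h => mem_M c h.1 h.2⟩

theorem norm_base {ρ : H} (h1 : ∀ α, ∃ β, ρ * f α 1 * ρ⁻¹ = f β 1) (h2 : ∀ α, ∃ β, ρ * f 1 α * ρ⁻¹ = f 1 β) :
    ∀ x ∈ base c.h, ρ * x * ρ⁻¹ ∈ base c.h := by
  intro x hx
  obtain ⟨α, β, rfl⟩ := (mem_base c.h).1 hx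
  obtain ⟨α', hα⟩ := h1 α
  obtain ⟨β', hβ⟩ := h2 β
  have e : f α β = f α 1 * f 1 β := by rw [c.h.f_mul, mul_one, one_mul]
  have e2 : ρ * f α β * ρ⁻¹ = f α' β' := by
    calc ρ * f α β * ρ⁻¹ = (ρ * f α 1 * ρ⁻¹) * (ρ * f 1 β * ρ⁻¹) := by rw [e]; group
      _ = f α' β' := by rw [hα, hβ, c.h.f_mul, mul_one, one_mul]
  rw [e2]
  exact (mem_base c.h).2 ⟨α', β', rfl⟩

theorem swap_pow (x : H) (n : ℕ) : (s * x * s) ^ n = s * x ^ n * s := by
  have e : s * x * s = s * x * s⁻¹ := by rw [c.s_inv]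
  rw [e, conj_pow, c.s_inv]

/-- The odd order elements of `K` normalising the base group. -/
theorem gen_one {ρ : H} (hρK : ρ ∈ K) (hρo : Odd (orderOf ρ)) (hρ1 : ∀ α, ∃ β, ρ * f α 1 * ρ⁻¹ = f β 1)
    (hρ2 : ∀ β, ρ * f 1 β = f 1 β * ρ) (hρn : ¬ ∀ α, ρ * f α 1 = f α 1 * ρ) {n : H} (hn : n ∈ K)
    (hno : Odd (orderOf n)) (hnb : ∀ x ∈ base c.h, n * x * n⁻¹ ∈ base c.h) :
    ∃ γ δ : Q 1, ∃ y ∈ YY f K, ∃ p ∈ zpowers ρ, ∃ q ∈ zpowers ρ, n = f γ δ * y * (s * q * s) * p := by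
  have h := c.h
  obtain ⟨γ₁, γ₂, hγ₁, hγ₂⟩ := exists_act c
  have hρ2' : ∀ β, ρ * f 1 β * ρ⁻¹ = f 1 β := fun β => by rw [hρ2, mul_inv_cancel_right]
  have hρM := mem_M c hρK (norm_base c hρ1 fun β => ⟨β, hρ2' β⟩)
  have hsw : ∀ α β : Q 1, s * ρ * s * f α β * (s * ρ * s)⁻¹ = s * (ρ * f β α * ρ⁻¹) * s := by
    intro α β
    rw [c.swap_inv, ← c.swap_f α β]
    group
  have hρ'1 : ∀ α, s * ρ * s * f α 1 * (s * ρ * s)⁻¹ = f α 1 := by
    intro α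
    rw [hsw, hρ2', c.swap_f]
  have hρ'2 : ∀ α, ∃ β, s * ρ * s * f 1 α * (s * ρ * s)⁻¹ = f 1 β := by
    intro α
    obtain ⟨β, hβ⟩ := hρ1 α
    exact ⟨β, by rw [hsw, hβ, c.swap_f]⟩
  have hρ'M := mem_M c (c.swap_mem_K hρK) (norm_base c (fun α => ⟨α, hρ'1 α⟩) hρ'2)
  have hnM := mem_M c hn hnb
  let ρM : (K ⊓ normalizer ((base c.h : Subgroup H) : Set H) : Subgroup H) := ⟨ρ, hρM⟩
  let ρ'M : (K ⊓ normalizer ((base c.h : Subgroup H) : Set H) : Subgroup H) := ⟨s * ρ * s, hρ'M⟩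
  let nM : (K ⊓ normalizer ((base c.h : Subgroup H) : Set H) : Subgroup H) := ⟨n, hnM⟩
  have hinj2 : ∀ {x y : Q 1}, f 1 x = f 1 y → x = y := by
    intro x y hxy
    have h1 : s * f 1 x * s = s * f 1 y * s := by rw [hxy]
    rw [c.swap_f, c.swap_f] at h1
    exact c.f_left_inj h1
  have e1 : γ₁ ρ'M = 1 := by
    apply MulEquiv.ext
    intro x
    apply c.f_left_inj
    rw [hγ₁]
    exact hρ'1 x
  have e2 : γ₂ ρM = 1 := by
    apply MulEquiv.ext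
    intro x
    apply hinj2
    rw [hγ₂]
    exact hρ2' x
  have e3 : γ₂ ρ'M = γ₁ ρM := by
    apply MulEquiv.ext
    intro x
    apply hinj2
    rw [hγ₂]
    change s * ρ * s * f 1 x * (s * ρ * s)⁻¹ = _
    rw [hsw]
    have := hγ₁ ρM x
    change _ = ρ * f x 1 * ρ⁻¹ at this
    rw [← this, c.swap_f]
  have hoM : ∀ (g : (K ⊓ normalizer ((base c.h : Subgroup H) : Set H) : Subgroup H)), Odd (orderOf (g : H)) →
      Odd (orderOf g) := by
    intro g hg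
    rwa [Subgroup.orderOf_coe] at hg
  have hr : Odd (orderOf (γ₁ ρM)) := Odd.of_dvd_nat (hoM ρM hρo) (orderOf_map_dvd γ₁ ρM)
  have hr1 : γ₁ ρM ≠ 1 := by
    intro he
    apply hρn
    intro α
    have := hγ₁ ρM α
    rw [he] at this
    exact (mul_inv_eq_iff_eq_mul.1 this.symm)
  obtain ⟨i, hi⟩ := exists_pow hr hr1 (Odd.of_dvd_nat (hoM nM hno) (orderOf_map_dvd γ₁ nM))
  obtain ⟨j, hj⟩ := exists_pow hr hr1 (Odd.of_dvd_nat (hoM nM hno) (orderOf_map_dvd γ₂ nM))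
  have hm1 : γ₁ (nM * ρM ^ i * ρ'M ^ j) = γ₁ nM * γ₁ ρM ^ i := by
    rw [map_mul, map_mul, map_pow, map_pow, e1, one_pow, mul_one]
  have hm2 : γ₂ (nM * ρM ^ i * ρ'M ^ j) = γ₂ nM * γ₁ ρM ^ j := by
    rw [map_mul, map_mul, map_pow, map_pow, e2, one_pow, mul_one, e3]
  obtain ⟨w₁, hw₁⟩ := inner_of_tr hi
  obtain ⟨w₂, hw₂⟩ := inner_of_tr hj
  rw [← hm1] at hw₁
  rw [← hm2] at hw₂
  set m : H := n * ρ ^ i * (s * ρ * s) ^ j with hm
  have hmc : ((nM * ρM ^ i * ρ'M ^ j : (K ⊓ normalizer ((base c.h : Subgroup H) : Set H) : Subgroup H)) : H) = m := rfl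
  have hmK : m ∈ K := mul_mem (mul_mem hn (pow_mem hρK i)) (pow_mem (c.swap_mem_K hρK) j)
  have a1 : ∀ α : Q 1, m * f α 1 * m⁻¹ = f w₁ w₂ * f α 1 * (f w₁ w₂)⁻¹ := by
    intro α
    have h1 := hγ₁ (nM * ρM ^ i * ρ'M ^ j) α
    rw [hmc, hw₁] at h1
    rw [← h1, h.f_inv, h.f_mul, h.f_mul, mul_one, mul_inv_cancel]
  have a2 : ∀ α : Q 1, m * f 1 α * m⁻¹ = f w₁ w₂ * f 1 α * (f w₁ w₂)⁻¹ := by
    intro α
    have h1 := hγ₂ (nM * ρM ^ i * ρ'M ^ j) α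
    rw [hmc, hw₂] at h1
    rw [← h1, h.f_inv, h.f_mul, h.f_mul, mul_one, mul_inv_cancel]
  refine ⟨w₁, w₂, (f w₁ w₂)⁻¹ * m, ?_, (ρ ^ i)⁻¹, inv_mem (pow_mem (Subgroup.mem_zpowers ρ) i), (ρ ^ j)⁻¹,
    inv_mem (pow_mem (Subgroup.mem_zpowers ρ) j), ?_⟩
  · refine mem_YY.2 ⟨mul_mem (inv_mem (c.f_mem_K _ _)) hmK, fun α β => ?_⟩
    have e : f α β = f α 1 * f 1 β := by rw [h.f_mul, mul_one, one_mul]
    have h3 : m * f α β * m⁻¹ = f w₁ w₂ * f α β * (f w₁ w₂)⁻¹ := by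
      calc m * f α β * m⁻¹ = (m * f α 1 * m⁻¹) * (m * f 1 β * m⁻¹) := by rw [e]; group
        _ = f w₁ w₂ * f α β * (f w₁ w₂)⁻¹ := by rw [a1, a2, e]; group
    calc (f w₁ w₂)⁻¹ * m * f α β = (f w₁ w₂)⁻¹ * (m * f α β * m⁻¹) * m := by group
      _ = f α β * ((f w₁ w₂)⁻¹ * m) := by rw [h3]; group
  · have e4 : s * (ρ ^ j)⁻¹ * s = ((s * ρ * s) ^ j)⁻¹ := by
      rw [swap_pow c, c.swap_inv]
    rw [e4, hm]
    group

/-- The case where `N₁` contains a suitable `ρ`. -/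
theorem gen_big {ρ : H} (hρN : ρ ∈ N₁ f K) (hρo : Odd (orderOf ρ)) (hρ1 : ∀ α, ∃ β, ρ * f α 1 * ρ⁻¹ = f β 1)
    (hρn : ¬ ∀ α, ρ * f α 1 = f α 1 * ρ) {n : H} (hn : n ∈ K) (hno : Odd (orderOf n))
    (hnb : ∀ x ∈ base c.h, n * x * n⁻¹ ∈ base c.h) : ∃ a ∈ N₁ f K, ∃ b ∈ N₂ f K, ∃ y ∈ YY f K, n = a * b * y := by
  have h := c.h
  have hρK := N₁_le f K hρN
  obtain ⟨γ, δ, y, hy, p, hp, q, hq, rfl⟩ := gen_one c hρK hρo hρ1
    (fun β => c.comm_N hρN (c.f_mem_N₂ β)) hρn hn hno hnb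
  have hpN : p ∈ N₁ f K := (zpowers_le.2 hρN) hp
  have hqN : q ∈ N₁ f K := (zpowers_le.2 hρN) hq
  have hyK : y ∈ K := (mem_YY.1 hy).1
  have h1 : y * p * y⁻¹ ∈ N₁ f K := conj_N₁ hyK hpN
  have h2 : y * (s * q * s) * y⁻¹ ∈ N₂ f K := conj_N₂ hyK (c.swap_N₁ hqN)
  refine ⟨f γ 1 * (y * p * y⁻¹), mul_mem (c.f_mem_N₁ γ) h1, f 1 δ * (y * (s * q * s) * y⁻¹),
    mul_mem (c.f_mem_N₂ δ) h2, y, hy, ?_⟩
  have e : f γ δ = f γ 1 * f 1 δ := by rw [h.f_mul, mul_one, one_mul]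
  have e1 := c.comm_N h1 (mul_mem (c.f_mem_N₂ δ) h2)
  calc f γ δ * y * (s * q * s) * p = f γ 1 * ((f 1 δ * (y * (s * q * s) * y⁻¹)) * (y * p * y⁻¹)) * y := by
        rw [e]; group
    _ = f γ 1 * ((y * p * y⁻¹) * (f 1 δ * (y * (s * q * s) * y⁻¹))) * y := by rw [e1]
    _ = f γ 1 * (y * p * y⁻¹) * (f 1 δ * (y * (s * q * s) * y⁻¹)) * y := by group

theorem conj_big {ρ : H} (hρN : ρ ∈ N₁ f K) (hρo : Odd (orderOf ρ)) (hρ1 : ∀ α, ∃ β, ρ * f α 1 * ρ⁻¹ = f β 1)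
    (hρn : ¬ ∀ α, ρ * f α 1 = f α 1 * ρ) {α : Q 1} (hα : α * α = z 1) :
    ∃ n ∈ N₁ f K, n * f α 1 * n⁻¹ = f (Facts.c 1) 1 ∨ n * f α 1 * n⁻¹ = f (z 1 * Facts.c 1) 1 := by
  have hρ2 : ∀ β, ρ * f 1 β * ρ⁻¹ = f 1 β := fun β => by
    rw [c.comm_N hρN (c.f_mem_N₂ β), mul_inv_cancel_right]
  obtain ⟨γ₁, γ₂, hγ₁, -⟩ := exists_act c
  have hρM := mem_M c (N₁_le f K hρN) (norm_base c hρ1 fun β => ⟨β, hρ2 β⟩)
  have hoM : Odd (orderOf (⟨ρ, hρM⟩ : (K ⊓ normalizer ((base c.h : Subgroup H) : Set H) : Subgroup H))) := by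
    rwa [Subgroup.orderOf_mk]
  have hr := Odd.of_dvd_nat hoM (orderOf_map_dvd γ₁ ⟨ρ, hρM⟩)
  have hr1 : γ₁ ⟨ρ, hρM⟩ ≠ 1 := by
    intro he
    apply hρn
    intro α
    have := hγ₁ ⟨ρ, hρM⟩ α
    rw [he] at this
    exact (mul_inv_eq_iff_eq_mul.1 this.symm)
  obtain ⟨i, hi⟩ := exists_map hr hr1 (α := α) hα
  have h1 := hγ₁ (⟨ρ, hρM⟩ ^ i) α
  rw [map_pow] at h1
  refine ⟨ρ ^ i, pow_mem hρN i, ?_⟩
  change _ = ρ ^ i * f α 1 * (ρ ^ i)⁻¹ at h1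
  rw [← h1]
  rcases hi with hi | hi
  · left
    rw [hi, c_one]
  · right
    rw [hi, z_c_one]

/-- Either `N₁` is the quaternion group, or it contains an element of odd order acting nontrivially on it. -/
theorem dichotomy : (∀ x ∈ N₁ f K, ∃ α, x = f α 1) ∨ ∃ ρ ∈ N₁ f K, Odd (orderOf ρ) ∧
    (∀ α, ∃ β, ρ * f α 1 * ρ⁻¹ = f β 1) ∧ ¬ ∀ α, ρ * f α 1 = f α 1 * ρ := by
  have hfact : Fact (Nat.Prime 2) := ⟨Nat.prime_two⟩
  have h := c.h
  obtain ⟨T, hT⟩ := c.exists_sylow_N₁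
  let t : N₁ f K := ⟨f (z 1) 1, c.t_mem_N₁⟩
  have htt : t * t = 1 := Subtype.ext h.t_sq
  have ht1 : t ≠ 1 := fun e => h.t_ne_one (congrArg Subtype.val e)
  have ht : orderOf t = 2 := orderOf_eq_prime (by rw [sq, htt]) ht1
  have htc : t ∈ center (N₁ f K) := mem_center_iff.2 fun g => Subtype.ext (c.hZ g)
  have hmz : ∀ x : N₁ f K, x ∈ zpowers t ↔ x = 1 ∨ x = t := by
    intro x
    constructor
    · intro hx
      obtain ⟨n, rfl⟩ := mem_zpowers_iff.1 hx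
      have h2 : t ^ (2 : ℤ) = 1 := by rw [zpow_two, htt]
      rcases Int.even_or_odd' n with ⟨m, rfl | rfl⟩
      · left; rw [zpow_mul, h2, one_zpow]
      · right; rw [zpow_add, zpow_mul, h2, one_zpow, one_mul, zpow_one]
    · rintro (rfl | rfl)
      · exact one_mem _
      · exact Subgroup.mem_zpowers _
  have hn : (zpowers t).Normal := by
    refine ⟨fun x hx g => ?_⟩
    rcases (hmz x).1 hx with rfl | h1
    · rw [mul_one, mul_inv_cancel]; exact one_mem _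
    · rw [h1, mem_center_iff.1 htc g, mul_inv_cancel_right]
      exact Subgroup.mem_zpowers _
  have hsurj := QuotientGroup.mk'_surjective (zpowers t)
  have hOX : Cfsg.oddCore (N₁ f K ⧸ zpowers t) = ⊥ :=
    Cfsg.Agent.TwoFusion.QuatQuotient.oddCore_quotient_eq_bot c.oddCore_N₁ t htc ht
  have hmT : ∀ x : N₁ f K, x ∈ T ↔ ∃ α, (x : H) = f α 1 := by
    intro x
    change x ∈ (T : Subgroup (N₁ f K)) ↔ _
    rw [hT]
    constructor
    · rintro ⟨α, rfl⟩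
      exact ⟨α, rfl⟩
    · rintro ⟨α, hα⟩
      exact ⟨α, Subtype.ext hα.symm⟩
  have htT : t ∈ T := (hmT t).2 ⟨_, rfl⟩
  set T' : Sylow 2 (N₁ f K ⧸ zpowers t) := T.mapSurjective hsurj with hT'
  have hmT' : ∀ x : N₁ f K, QuotientGroup.mk' (zpowers t) x ∈ (T' : Subgroup (N₁ f K ⧸ zpowers t)) ↔ x ∈ T := by
    intro x
    constructor
    · rintro ⟨y, hy, e⟩
      have h1 : y⁻¹ * x ∈ zpowers t := QuotientGroup.eq.1 e
      have h2 : y⁻¹ * x ∈ T := by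
        rcases (hmz _).1 h1 with h2 | h2
        · rw [h2]; exact one_mem _
        · rw [h2]; exact htT
      have h3 := mul_mem hy h2
      rwa [mul_inv_cancel_left] at h3
    · intro hx
      exact ⟨x, hx, rfl⟩
  by_cases hB : normalizer ((T' : Subgroup (N₁ f K ⧸ zpowers t)) : Set (N₁ f K ⧸ zpowers t)) ≤
      centralizer ((T' : Subgroup (N₁ f K ⧸ zpowers t)) : Set (N₁ f K ⧸ zpowers t))
  · left
    have h1 := MonoidHom.ker_transferSylow_isComplement' T' hB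
    have h2 := MonoidHom.not_dvd_card_ker_transferSylow T' hB
    have h3 : (MonoidHom.transferSylow T' hB).ker = ⊥ := by
      rw [eq_bot_iff, ← hOX]
      refine Cfsg.Agent.Lib.Cores.le_pPrimeCore inferInstance ?_
      exact ((Nat.Prime.coprime_iff_not_dvd Nat.prime_two).mpr h2).symm
    rw [h3] at h1
    have h4 : (T' : Subgroup (N₁ f K ⧸ zpowers t)) = ⊤ := Subgroup.isComplement'_bot_left.1 h1
    intro x hx
    have h5 : QuotientGroup.mk' (zpowers t) ⟨x, hx⟩ ∈ (T' : Subgroup (N₁ f K ⧸ zpowers t)) := by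
      rw [h4]; exact mem_top _
    exact (hmT _).1 ((hmT' _).1 h5)
  · right
    obtain ⟨g', hg', hgC⟩ := SetLike.not_le_iff_exists.1 hB
    obtain ⟨g, rfl⟩ := hsurj g'
    have hgT : ∀ α, ∃ β, (g : H) * f α 1 * (g : H)⁻¹ = f β 1 := by
      intro α
      have h1 := (mem_normalizer_iff.1 hg' (QuotientGroup.mk' (zpowers t) (c.iota α))).1
        ((hmT' _).2 ((hmT _).2 ⟨α, rfl⟩))
      rw [← map_inv, ← map_mul, ← map_mul] at h1
      exact (hmT _).1 ((hmT' _).1 h1)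
    obtain ⟨e, ho, j, h2⟩ := exists_odd_pow (g : H)
    have hgN : (g : H) ∈ N₁ f K := g.2
    have hgK := N₁_le f K hgN
    have hgM := mem_M c hgK (norm_base c hgT fun β => ⟨β, by
      rw [c.comm_N hgN (c.f_mem_N₂ β), mul_inv_cancel_right]⟩)
    have hρM := pow_mem hgM e
    have hu : (g : H) * ((g : H) ^ e)⁻¹ ∈ base c.h :=
      c.mem_base_of_two (mul_mem hgK (inv_mem (pow_mem hgK e)))
        (mul_mem hgM.2 (inv_mem (pow_mem hgM.2 e))) h2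
    obtain ⟨w, hw⟩ := c.mem_Q₁ (mul_mem hgN (inv_mem (pow_mem hgN e))) (base_le c.h hu)
    have hρ1 : ∀ α, ∃ β, (g : H) ^ e * f α 1 * ((g : H) ^ e)⁻¹ = f β 1 := by
      intro α
      have h3 : (g : H) ^ e * f α 1 * ((g : H) ^ e)⁻¹ ∈ (P : Subgroup H) :=
        base_le c.h (((mem_M_iff c).1 hρM).2 _ ((mem_base c.h).2 ⟨α, 1, rfl⟩))
      exact c.hK.closed₁ _ (pow_mem hgK e) α h3
    refine ⟨(g : H) ^ e, pow_mem hgN e, ho, hρ1, ?_⟩
    intro hcomm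
    apply hgC
    rw [mem_centralizer_iff]
    intro x' hx'
    obtain ⟨x, rfl⟩ := hsurj x'
    obtain ⟨α, hα⟩ := (hmT x).1 ((hmT' x).1 hx')
    -- `g x g⁻¹ = w x w⁻¹`
    have h4 : (g : H) = f w 1 * (g : H) ^ e := by rw [← hw, inv_mul_cancel_right]
    have h5 : (g : H) * f α 1 * (g : H)⁻¹ = f (w * α * w⁻¹) 1 := by
      calc (g : H) * f α 1 * (g : H)⁻¹ = f w 1 * ((g : H) ^ e * f α 1) * ((g : H) ^ e)⁻¹ * (f w 1)⁻¹ := by
            nth_rewrite 1 [h4]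
            nth_rewrite 2 [h4]
            group
        _ = f w 1 * f α 1 * (f w 1)⁻¹ := by rw [hcomm]; group
        _ = f (w * α * w⁻¹) 1 := by rw [h.f_inv, h.f_mul, h.f_mul, inv_one, mul_one, mul_one]
    have h6 : w * α * w⁻¹ = α ∨ w * α * w⁻¹ = z 1 * α := by
      have key : ∀ w α : Q 1, w * α * w⁻¹ = α ∨ w * α * w⁻¹ = z 1 * α := by decide
      exact key w α
    have h7 : g * x * g⁻¹ = x ∨ g * x * g⁻¹ = t * x := by
      rcases h6 with h6 | h6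
      · left
        apply Subtype.ext
        change (g : H) * (x : H) * (g : H)⁻¹ = x
        rw [hα, h5, h6]
      · right
        apply Subtype.ext
        change (g : H) * (x : H) * (g : H)⁻¹ = f (z 1) 1 * x
        rw [hα, h5, h6, h.f_mul, one_mul]
    have h8 : QuotientGroup.mk' (zpowers t) g * QuotientGroup.mk' (zpowers t) x *
        (QuotientGroup.mk' (zpowers t) g)⁻¹ = QuotientGroup.mk' (zpowers t) x := by
      rw [← map_inv, ← map_mul, ← map_mul]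
      rcases h7 with h7 | h7
      · rw [h7]
      · rw [h7, map_mul]
        have h9 : QuotientGroup.mk' (zpowers t) t = 1 := (QuotientGroup.eq_one_iff t).2 (Subgroup.mem_zpowers t)
        rw [h9, one_mul]
    exact (mul_inv_eq_iff_eq_mul.1 h8).symm

end Cfsg.Agent.SylowSp4.IdOne
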