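import Cfsg.Agent.SylowSp4.IdBase

/-!
# `N₁` is perfect and its identification

`Ctx.perfect`: if all elements of order 4 of the first factor are `N₁`-conjugate up to inversion, `N₁` is perfect.
`Ctx.ident`: then `N₁ ≃* SL(2, F)`, `F` finite of odd order, or `k = 2` and `N₁ / ⟨t⟩ ≃* A₇`.
`Ctx.exists_dec_large`: the case `k ≥ 2`.
-/

set_option autoImplicit false

namespace Cfsg.Agent.SylowSp4.IdBase

open Subgroup QuaternionGroup Cfsg.Agent.SylowSp4.Coord Cfsg.Agent.SylowSp4.Facts Cfsg.Agent.SylowSp4.Base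
open Cfsg.Agent.SylowSp4.CentG Cfsg.Agent.SylowSp4.Decomp
open Cfsg.Agent.Walter.OddCoreIn Cfsg.Agent.Walter.SylowIn

universe u

namespace Ctx

variable {H : Type u} [Group H] [Finite H] {P : Sylow 2 H} {k : ℕ} {f : Q k → Q k → H} {s : H}
  {K : Subgroup H} (c : Ctx P k f s K)

include c

omit c in
theorem _root_.Cfsg.Agent.SylowSp4.IdBase.comm_c {k : ℕ} :
    (xa 0 : Q k) * Facts.c k * (xa 0)⁻¹ = (Facts.c k)⁻¹ := by
  have h1 : (Facts.c k)⁻¹ = a (-qq k) := rfl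
  rw [mul_inv_eq_iff_eq_mul, h1, Facts.c, xa_mul_a, a_mul_xa]
  congr 1
  ring

omit c in
theorem _root_.Cfsg.Agent.SylowSp4.IdBase.c_mul_xa {k : ℕ} : Facts.c k * (xa 0 : Q k) = xa (-qq k) := by
  rw [Facts.c, a_mul_xa]
  congr 1
  ring

/-- Criterion for perfectness. -/
theorem perfect (hconj : ∀ α : Q k, α * α = z k → ∃ n ∈ N₁ f K, n * f α 1 * n⁻¹ = f (Facts.c k) 1 ∨
    n * f α 1 * n⁻¹ = f (z k * Facts.c k) 1) : commutator (N₁ f K) = ⊤ := by
  have h := c.h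
  have hcs := c_sq h.hk
  set D : Subgroup H := ⁅N₁ f K, N₁ f K⁆ with hD
  have hmul : ∀ a b : Q k, f (a * b) 1 = f a 1 * f b 1 := fun a b => by rw [h.f_mul, one_mul]
  have hDc : ∀ x ∈ N₁ f K, ∀ y ∈ N₁ f K, x * y * x⁻¹ * y⁻¹ ∈ D := fun x hx y hy => by
    have := commutator_mem_commutator hx hy
    rwa [commutatorElement_def] at this
  have hDK : ∀ g ∈ K, ∀ x ∈ D, g * x * g⁻¹ ∈ D := by
    intro g hg x hx
    have h1 : D.map (MulAut.conj g).toMonoidHom ≤ D := by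
      rw [hD, Subgroup.map_commutator]
      apply Subgroup.commutator_mono
      · rintro _ ⟨y, hy, rfl⟩
        exact conj_N₁ hg hy
      · rintro _ ⟨y, hy, rfl⟩
        exact conj_N₁ hg hy
    exact h1 ⟨x, hx, rfl⟩
  -- `t ∈ D`
  have ht : f (z k) 1 ∈ D := by
    have h1 := hDc _ (c.f_mem_N₁ (xa 0)) _ (c.f_mem_N₁ (Facts.c k))
    have e : f (xa 0) 1 * f (Facts.c k) 1 * (f (xa 0) 1)⁻¹ * (f (Facts.c k) 1)⁻¹ = f (z k) 1 := by
      rw [h.f_inv, h.f_inv, inv_one, ← hmul, h.f_mul, h.f_mul, comm_c]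
      simp only [mul_one]
      congr 1
      rw [← mul_inv_rev, hcs, z_inv]
    rwa [e] at h1
  -- all roots are congruent
  have hroot : ∀ α : Q k, α * α = z k → f α 1 * (f (Facts.c k) 1)⁻¹ ∈ D := by
    intro α hα
    obtain ⟨n, hn, h1⟩ := hconj α hα
    have h2 : f α 1 * n * (f α 1)⁻¹ * n⁻¹ ∈ D := hDc _ (c.f_mem_N₁ α) _ hn
    have h3 : (n * f α 1 * n⁻¹) * (f (Facts.c k) 1)⁻¹ ∈ D := by
      rcases h1 with h1 | h1
      · rw [h1, mul_inv_cancel]; exact one_mem _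
      · rw [h1, hmul, mul_inv_cancel_right]; exact ht
    have e : f α 1 * (f (Facts.c k) 1)⁻¹ =
        (f α 1 * n * (f α 1)⁻¹ * n⁻¹) * ((n * f α 1 * n⁻¹) * (f (Facts.c k) 1)⁻¹) := by group
    rw [e]
    exact mul_mem h2 h3
  have hy : f (xa 0) 1 ∈ D := by
    have h1 := hroot (Facts.c k * xa 0) (by rw [c_mul_xa]; exact Coord.xa_sq _)
    rw [hmul] at h1
    have h2 := hDK _ (K.inv_mem (N₁_le f K (c.f_mem_N₁ (Facts.c k)))) _ h1
    have e : (f (Facts.c k) 1)⁻¹ * (f (Facts.c k) 1 * f (xa 0) 1 * (f (Facts.c k) 1)⁻¹) * (f (Facts.c k) 1)⁻¹⁻¹ =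
        f (xa 0) 1 := by group
    rwa [e] at h2
  have hcD : f (Facts.c k) 1 ∈ D := by
    have h1 := hroot (xa 0) (Coord.xa_sq _)
    have h2 := D.mul_mem (D.inv_mem h1) hy
    have e : (f (xa 0) 1 * (f (Facts.c k) 1)⁻¹)⁻¹ * f (xa 0) 1 = f (Facts.c k) 1 := by group
    rwa [e] at h2
  have hroot' : ∀ α : Q k, α * α = z k → f α 1 ∈ D := by
    intro α hα
    have h1 := D.mul_mem (hroot α hα) hcD
    rwa [inv_mul_cancel_right] at h1
  have hall : ∀ a : Q k, f a 1 ∈ D := by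
    intro a
    obtain ⟨x, y, hx, hy, rfl | rfl⟩ := exists_mul_of_sq_z a
    · rw [hmul]; exact mul_mem (hroot' x hx) (hroot' y hy)
    · exact hroot' _ hx
  have hle : N₁ f K ≤ D := c.N₁_min hDK hall
  rw [hD, ← Subgroup.map_subtype_commutator] at hle
  rw [eq_top_iff]
  intro x _
  obtain ⟨y, hy, e⟩ := hle x.2
  have : y = x := Subtype.ext e
  rwa [← this]

theorem oddCore_N₁ : Cfsg.oddCore (N₁ f K) = ⊥ := by
  have h1 := Lib.Cores.map_subtype_pPrimeCore (G := K) 2 (N := normalClosure (S₁ f K)) normalClosure_normal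
  have h2 : Cfsg.pPrimeCore 2 K = ⊥ := c.oddCore_K
  rw [h2, inf_bot_eq, Subgroup.map_eq_bot_iff, Subgroup.ker_subtype, le_bot_iff] at h1
  let e := (normalClosure (S₁ f K)).equivMapOfInjective K.subtype K.subtype_injective
  have h3 := Lib.Cores.map_equiv_pPrimeCore e 2
  change Cfsg.pPrimeCore 2 (N₁ f K) = ⊥
  rw [h1, Subgroup.map_bot] at h3
  exact h3.symm

/-- the embedding of the quaternion group -/
def iota : Q k →* N₁ f K where
  toFun a := ⟨f a 1, c.f_mem_N₁ a⟩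
  map_one' := Subtype.ext c.h.f_one
  map_mul' a b := Subtype.ext (by
    change f (a * b) 1 = f a 1 * f b 1
    rw [c.h.f_mul, one_mul])

theorem iota_coe (a : Q k) : ((c.iota a : N₁ f K) : H) = f a 1 := rfl

theorem f_left_inj {a b : Q k} (e : f a 1 = f b 1) : a = b := by
  rcases c.h.f_inj _ _ _ _ e with ⟨h1, -⟩ | ⟨-, h1⟩
  · exact h1
  · rw [mul_one] at h1
    exact absurd h1.symm z_ne_one

theorem iota_injective : Function.Injective c.iota := by
  intro a b hab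
  exact c.f_left_inj (congrArg Subtype.val hab)

/-- The Sylow 2-subgroups of `N₁`. -/
theorem exists_sylow_N₁ : ∃ T : Sylow 2 (N₁ f K), (T : Subgroup (N₁ f K)) = c.iota.range := by
  have : Fact (Nat.Prime 2) := ⟨Nat.prime_two⟩
  have hp : IsPGroup 2 (c.iota.range) := by
    refine IsPGroup.of_card (n := k + 2) ?_
    rw [← Coord.card_Q (k := k)]
    exact (Nat.card_congr (MonoidHom.ofInjective c.iota_injective).toEquiv).symm
  obtain ⟨T, hT⟩ := hp.exists_le_sylow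
  refine ⟨T, le_antisymm ?_ hT⟩
  -- conjugate `T` into the base group
  have hTK : (T : Subgroup (N₁ f K)).map (N₁ f K).subtype ≤ K := (map_subtype_le _).trans (N₁_le f K)
  obtain ⟨g, hg, h1⟩ := c.sylIn_base.conj_le hTK (T.isPGroup'.map _)
  have h2 : ∀ x : T, ∃ a, g * ((x : N₁ f K) : H) * g⁻¹ = f a 1 := by
    intro x
    have h3 := h1 ((x : N₁ f K) : H) ⟨x, x.2, rfl⟩
    exact c.mem_Q₁ (conj_N₁ hg (x : N₁ f K).2) (base_le c.h h3)
  choose φ hφ using h2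
  have hinj : Function.Injective φ := by
    intro x y hxy
    have h4 : g * ((x : N₁ f K) : H) * g⁻¹ = g * ((y : N₁ f K) : H) * g⁻¹ := by rw [hφ, hφ, hxy]
    exact Subtype.ext (Subtype.ext (mul_left_cancel (mul_right_cancel h4)))
  have h5 : Nat.card T ≤ Nat.card (Q k) := by
    have : NeZero (2 ^ k) := ⟨by positivity⟩
    exact Nat.card_le_card_of_injective φ hinj
  have h6 : Nat.card (Q k) = Nat.card c.iota.range :=
    Nat.card_congr (MonoidHom.ofInjective c.iota_injective).toEquiv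
  rw [h6] at h5
  exact (Subgroup.eq_of_le_of_card_ge hT h5).ge

/-- Identification of `N₁`. -/
theorem ident (hGW : Hyps.GW.{u}) (hperf : commutator (N₁ f K) = ⊤) :
    (∃ (F : Type) (_ : Field F) (_ : Fintype F), Odd (Fintype.card F) ∧
        Nonempty (N₁ f K ≃* Matrix.SpecialLinearGroup (Fin 2) F)) ∨
      (k = 2 ∧ ∃ ψ : N₁ f K →* alternatingGroup (Fin 7), Function.Surjective ψ ∧
        ∀ a : N₁ f K, ψ a = 1 ↔ a = 1 ∨ (a : H) = f (z k) 1) := by
  obtain ⟨T, hT⟩ := c.exists_sylow_N₁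
  let t : N₁ f K := ⟨f (z k) 1, c.t_mem_N₁⟩
  have htt : t * t = 1 := Subtype.ext c.h.t_sq
  have ht1 : t ≠ 1 := fun e => c.h.t_ne_one (congrArg Subtype.val e)
  have ht : orderOf t = 2 := orderOf_eq_prime (by rw [sq, htt]) ht1
  have htc : t ∈ center (N₁ f K) := mem_center_iff.2 fun g => Subtype.ext (c.hZ g)
  have hmz : ∀ x : N₁ f K, x ∈ zpowers t ↔ x = 1 ∨ (x : H) = f (z k) 1 := by
    intro x
    constructor
    · intro hx
      obtain ⟨n, rfl⟩ := mem_zpowers_iff.1 hx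
      have h2 : t ^ (2 : ℤ) = 1 := by rw [zpow_two, htt]
      rcases Int.even_or_odd' n with ⟨m, rfl | rfl⟩
      · left; rw [zpow_mul, h2, one_zpow]
      · right; rw [zpow_add, zpow_mul, h2, one_zpow, one_mul, zpow_one]
    · rintro (rfl | hx)
      · exact one_mem _
      · have : x = t := Subtype.ext hx
        rw [this]
        exact Subgroup.mem_zpowers _
  have hn : (zpowers t).Normal := by
    refine ⟨fun x hx g => ?_⟩
    rcases (hmz x).1 hx with rfl | h1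
    · rw [mul_one, mul_inv_cancel]; exact one_mem _
    · have h2 : x = t := Subtype.ext h1
      rw [h2, mem_center_iff.1 htc g, mul_inv_cancel_right]
      exact Subgroup.mem_zpowers _
  have e : (T : Subgroup (N₁ f K)) ≃* QuaternionGroup (2 ^ k) :=
    (MulEquiv.subgroupCongr hT).trans (MonoidHom.ofInjective c.iota_injective).symm
  rcases QuatId.exists_sl hGW c.oddCore_N₁ hperf T c.h.hk e ht htc with h1 | ⟨h1, ⟨e1⟩⟩
  · exact Or.inl h1
  · right
    refine ⟨h1, e1.toMonoidHom.comp (QuotientGroup.mk' (zpowers t)),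
      e1.surjective.comp (QuotientGroup.mk'_surjective _), fun a => ?_⟩
    rw [← hmz]
    change e1 (QuotientGroup.mk a) = 1 ↔ _
    rw [map_eq_one_iff e1 e1.injective, QuotientGroup.eq_one_iff]

/-- Odd order elements of `K` normalising the base group centralise it, `k ≥ 2`. -/
theorem gen_large (hk : 2 ≤ k) {n : H} (hn : n ∈ K) (ho : Odd (orderOf n))
    (hb : ∀ x ∈ base c.h, n * x * n⁻¹ ∈ base c.h) : n ∈ YY f K := by
  have h := c.h
  have hbase : ∀ a b, f a b ∈ base h := fun a b => (mem_base h).2 ⟨a, b, rfl⟩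
  have h2 : ∀ α : Q k, ∃ β, n * f 1 α * n⁻¹ = f 1 β := fun α =>
    c.hK.closed₂ n hn α (base_le h (hb _ (hbase _ _)))
  have h1 : ∀ α : Q k, ∃ β, n * f α 1 * n⁻¹ = f β 1 := fun α =>
    c.hK.closed₁ n hn α (base_le h (hb _ (hbase _ _)))
  have h3 : ∀ α : Q k, n * f 1 α * n⁻¹ = f 1 α := LargeC.odd_fix h hk (c.hZ n) ho h2
  -- the other factor: conjugate by `s`
  have h4 : ∀ α : Q k, (s * n * s) * f 1 α * (s * n * s)⁻¹ = f 1 α := by
    apply LargeC.odd_fix h hk (c.hZ _)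
    · rwa [c.orderOf_swap]
    · intro α
      obtain ⟨β, hβ⟩ := h1 α
      refine ⟨β, ?_⟩
      have e : s * n * s * f 1 α * (s * n * s)⁻¹ = s * (n * (s * f 1 α * s) * n⁻¹) * s := by
        rw [c.swap_inv]
        group
      rw [e, c.swap_f, hβ, c.swap_f]
  have h5 : ∀ α : Q k, n * f α 1 * n⁻¹ = f α 1 := by
    intro α
    have h6 := h4 α
    have e : s * n * s * f 1 α * (s * n * s)⁻¹ = s * (n * (s * f 1 α * s) * n⁻¹) * s := by
      rw [c.swap_inv]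
      group
    rw [e, c.swap_f] at h6
    have h7 := congrArg (fun w => s * w * s) h6
    change s * (s * (n * f α 1 * n⁻¹) * s) * s = s * f 1 α * s at h7
    rwa [c.swap_swap, c.swap_f] at h7
  refine mem_YY.2 ⟨hn, fun a b => ?_⟩
  have e : f a b = f a 1 * f 1 b := by rw [h.f_mul, mul_one, one_mul]
  have e1 := mul_inv_eq_iff_eq_mul.1 (h5 a)
  have e2 := mul_inv_eq_iff_eq_mul.1 (h3 b)
  rw [e, ← mul_assoc, e1, mul_assoc, e2, mul_assoc]

/-- Conjugacy of the roots in `N₁` from the conjugacy of the involutions `f α α`. -/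
theorem conj_of_uu (hgen : ∀ n ∈ K, Odd (orderOf n) → (∀ x ∈ base c.h, n * x * n⁻¹ ∈ base c.h) → n ∈ YY f K)
    (uu : ∀ α : Q k, α * α = z k → ∃ g, g * f α α * g⁻¹ = f (Facts.c k) (Facts.c k)) {α : Q k} (hα : α * α = z k) :
    ∃ n ∈ N₁ f K, n * f α 1 * n⁻¹ = f (Facts.c k) 1 ∨ n * f α 1 * n⁻¹ = f (z k * Facts.c k) 1 := by
  have h := c.h
  have key : ∃ g ∈ K, g * f α α * g⁻¹ = f (Facts.c k) (Facts.c k) := by
    obtain ⟨g, hg⟩ := uu α hα
    rcases c.hK.mem_or g (c.hZ g) with h1 | h1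
    · exact ⟨g, h1, hg⟩
    · refine ⟨g * s, h1, ?_⟩
      calc g * s * f α α * (g * s)⁻¹ = g * (s * f α α * s⁻¹) * g⁻¹ := by group
        _ = f (Facts.c k) (Facts.c k) := by rw [h.s_conj, hg]
  obtain ⟨g, hg, h1⟩ := key
  obtain ⟨a, ha, b, hb, n, hn, hno, hnb, rfl⟩ := c.exists_frattini hg
  have hY := (mem_YY.1 (hgen n hn hno hnb)).2 α α
  refine ⟨a, ha, ?_⟩
  have e : f α α = f α 1 * f 1 α := by rw [h.f_mul, mul_one, one_mul]
  have e2 : f (Facts.c k) (Facts.c k) = f (Facts.c k) 1 * f 1 (Facts.c k) := by rw [h.f_mul, mul_one, one_mul]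
  have h2 : a * b * n * f α α * (a * b * n)⁻¹ = (a * f α 1 * a⁻¹) * (b * f 1 α * b⁻¹) := by
    have hc1 := c.comm_N (c.f_mem_N₁ α) hb
    have hc2 := c.comm_N ha (mul_mem (mul_mem hb (c.f_mem_N₂ α)) (inv_mem hb))
    calc a * b * n * f α α * (a * b * n)⁻¹ = a * b * (n * f α α) * n⁻¹ * b⁻¹ * a⁻¹ := by group
      _ = a * b * (f α α * n) * n⁻¹ * b⁻¹ * a⁻¹ := by rw [hY]
      _ = a * (b * f α 1) * f 1 α * b⁻¹ * a⁻¹ := by rw [e]; group
      _ = a * (f α 1 * b) * f 1 α * b⁻¹ * a⁻¹ := by rw [hc1]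
      _ = a * f α 1 * a⁻¹ * (a * (b * f 1 α * b⁻¹)) * a⁻¹ := by group
      _ = a * f α 1 * a⁻¹ * ((b * f 1 α * b⁻¹) * a) * a⁻¹ := by rw [hc2]
      _ = (a * f α 1 * a⁻¹) * (b * f 1 α * b⁻¹) := by group
  rw [h2, e2] at h1
  -- the quotient lies in `N₁ ∩ N₂`
  have h3 : (f (Facts.c k) 1)⁻¹ * (a * f α 1 * a⁻¹) = f 1 (Facts.c k) * (b * f 1 α * b⁻¹)⁻¹ := by
    rw [eq_mul_inv_iff_mul_eq, mul_assoc, h1, inv_mul_cancel_left]
  have h4 : (f (Facts.c k) 1)⁻¹ * (a * f α 1 * a⁻¹) ∈ N₁ f K :=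
    mul_mem (inv_mem (c.f_mem_N₁ _)) (mul_mem (mul_mem ha (c.f_mem_N₁ _)) (inv_mem ha))
  have h5 : (f (Facts.c k) 1)⁻¹ * (a * f α 1 * a⁻¹) ∈ N₂ f K := by
    rw [h3]
    exact mul_mem (c.f_mem_N₂ _) (inv_mem (mul_mem (mul_mem hb (c.f_mem_N₂ _)) (inv_mem hb)))
  rcases c.inf_N h4 h5 with h6 | h6
  · left
    exact (inv_mul_eq_one.1 h6).symm
  · right
    rw [inv_mul_eq_iff_eq_mul] at h6
    rw [h6, h.f_mul, one_mul, z_comm]

/-- The case `k ≥ 2`. -/
theorem exists_dec_large (hGW : Hyps.GW.{u}) (hk : 2 ≤ k)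
    (uu : ∀ α : Q k, α * α = z k → ∃ g, g * f α α * g⁻¹ = f (Facts.c k) (Facts.c k)) :
    Dec f s (N₁ f K) (OO (YY f K)) ∧
    ((∃ (F : Type) (_ : Field F) (_ : Fintype F), Odd (Fintype.card F) ∧
        Nonempty (N₁ f K ≃* Matrix.SpecialLinearGroup (Fin 2) F)) ∨
      (k = 2 ∧ ∃ ψ : N₁ f K →* alternatingGroup (Fin 7), Function.Surjective ψ ∧
        ∀ a : N₁ f K, ψ a = 1 ↔ a = 1 ∨ (a : H) = f (z k) 1)) := by
  have hgen : ∀ n ∈ K, Odd (orderOf n) → (∀ x ∈ base c.h, n * x * n⁻¹ ∈ base c.h) → n ∈ YY f K :=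
    fun n hn ho hb => c.gen_large hk hn ho hb
  refine ⟨c.dec fun n hn ho hb => ⟨1, one_mem _, 1, one_mem _, n, hgen n hn ho hb, by rw [one_mul, one_mul]⟩, ?_⟩
  exact c.ident hGW (c.perfect fun α hα => c.conj_of_uu hgen uu hα)

end Ctx

end Cfsg.Agent.SylowSp4.IdBase
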