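import Cfsg.Agent.SylowSp4.CentG

/-!
# Type `PSp_4(q)`, `q = 1, 7 mod 8`: fusion, first part

`k ≥ 2`, `t = f (z k) 1`, `e = f (c k) (c k)`.
(1) `e` and `t e` are not conjugate to `t`;
(2) `f (c k) (xa j)` is not conjugate to `t`.
-/

set_option autoImplicit false

namespace Cfsg.Agent.SylowSp4.LargeA

open Subgroup QuaternionGroup Cfsg.Agent.SylowSp4.Coord Cfsg.Agent.SylowSp4.Facts Cfsg.Agent.SylowSp4.Base
open Cfsg.Agent.SylowSp4.CentA Cfsg.Agent.SylowSp4.Extremal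

section Quat

variable {k : ℕ}

theorem a_two_ne (hk : 2 ≤ k) : (a 2 : Q k) ≠ 1 ∧ (a 2 : Q k) ≠ z k := by
  have h4 : 4 ≤ 2 ^ k := by
    calc 4 = 2 ^ 2 := by norm_num
      _ ≤ 2 ^ k := Nat.pow_le_pow_right (by norm_num) hk
  have h0 : (2 : ZMod (2 * 2 ^ k)) = ((2 : ℕ) : ZMod (2 * 2 ^ k)) := by push_cast; rfl
  constructor
  · rw [one_def]
    intro h
    have h1 := a.inj h
    rw [h0, ZMod.natCast_eq_zero_iff] at h1
    have := Nat.le_of_dvd (by norm_num) h1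
    omega
  · intro h
    have h1 : (2 : ZMod (2 * 2 ^ k)) = hh k := a.inj h
    rw [h0, hh] at h1
    have h2 := congrArg ZMod.val h1
    rw [ZMod.val_natCast_of_lt (by omega), ZMod.val_natCast_of_lt (by omega)] at h2
    omega

/-- the centralizer of `a 2` is the cyclic subgroup -/
theorem cyclic_of_comm (hk : 2 ≤ k) {α : Q k} (h : a 2 * α = α * a 2) : ∃ i, α = a i := by
  rcases α with i | i
  · exact ⟨i, rfl⟩
  · exfalso
    rcases of_a_comm_xa h with h1 | h1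
    · exact (a_two_ne hk).1 h1
    · exact (a_two_ne hk).2 h1

theorem c_conj (hk : 1 ≤ k) (μ : Q k) : μ * c k * μ⁻¹ = c k ∨ μ * c k * μ⁻¹ = z k * c k := by
  rcases μ with i | i
  · left
    rw [c, a_comm_a, mul_inv_cancel_right]
  · right
    have h1 : (xa i : Q k) * c k = z k * c k * xa i := by
      have h2 := hh_add (k := k)
      have h3 := c_add hk
      rw [c, xa_mul_a, z_mul_a, a_mul_xa]
      congr 1
      linear_combination h2 + h3
    rw [h1, mul_inv_cancel_right]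

theorem xa_conj_c (hk : 1 ≤ k) (i : ZMod (2 * 2 ^ k)) : (xa i : Q k) * c k * (xa i)⁻¹ = z k * c k := by
  have h1 : (xa i : Q k) * c k = z k * c k * xa i := by
    have h2 := hh_add (k := k)
    have h3 := c_add hk
    rw [c, xa_mul_a, z_mul_a, a_mul_xa]
    congr 1
    linear_combination h2 + h3
  rw [h1, mul_inv_cancel_right]

end Quat

section

variable {G : Type*} [Group G] {S : Subgroup G} {k : ℕ} {f : Q k → Q k → G} {s : G} (h : TSp S k f s)

include h

/-- `e` is moved to `e` or `t e` by the elements of `S` -/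
theorem conj_e {r : G} (hr : r ∈ S) : r * f (c k) (c k) * r⁻¹ = f (c k) (c k) ∨
    r * f (c k) (c k) * r⁻¹ = f (z k * c k) (c k) := by
  have key : ∀ μ ν : Q k, f μ ν * f (c k) (c k) * (f μ ν)⁻¹ = f (c k) (c k) ∨
      f μ ν * f (c k) (c k) * (f μ ν)⁻¹ = f (z k * c k) (c k) := by
    intro μ ν
    rw [h.f_inv, h.f_mul, h.f_mul]
    rcases c_conj h.hk μ with h1 | h1 <;> rcases c_conj h.hk ν with h2 | h2 <;> rw [h1, h2]
    · exact Or.inl rfl
    · right; rw [f_congr_z h]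
    · exact Or.inr rfl
    · left; rw [h.f_z_mul]
  rcases (h.mem_iff r).1 hr with ⟨μ, ν, rfl⟩ | ⟨μ, ν, rfl⟩
  · exact key μ ν
  · have e : f μ ν * s * f (c k) (c k) * (f μ ν * s)⁻¹ = f μ ν * (s * f (c k) (c k) * s⁻¹) * (f μ ν)⁻¹ := by group
    rw [e, h.s_conj]
    exact key μ ν

theorem te_ne_e : f (z k * c k) (c k) ≠ f (c k) (c k) := by
  rw [Ne, h.f_eq_iff]
  rintro (⟨h1, -⟩ | ⟨-, h1⟩)
  · exact ne_z_mul _ h1.symm
  · exact ne_z_mul _ h1

/-- `C_S(e)` has index two in `S` -/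
theorem relIndex_cent_e : (S ⊓ centralizer ({f (c k) (c k)} : Set G)).relIndex S = 2 := by
  rw [relIndex, index_eq_two_iff]
  refine ⟨⟨f (xa 0) 1, h.f_mem _ _⟩, ?_⟩
  rintro ⟨r, hr⟩
  rw [mem_subgroupOf, mem_subgroupOf, mem_inf, mem_inf, mem_centralizer_singleton_iff, mem_centralizer_singleton_iff]
  change Xor (r * f (xa 0) 1 ∈ S ∧ r * f (xa 0) 1 * f (c k) (c k) = f (c k) (c k) * (r * f (xa 0) 1))
    (r ∈ S ∧ r * f (c k) (c k) = f (c k) (c k) * r)
  have hx : f (xa 0) 1 * f (c k) (c k) * (f (xa 0) 1)⁻¹ = f (z k * c k) (c k) := by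
    rw [h.f_inv, h.f_mul, h.f_mul, xa_conj_c h.hk]
    simp
  have h1 : ∀ u : G, (u * f (c k) (c k) = f (c k) (c k) * u ↔ u * f (c k) (c k) * u⁻¹ = f (c k) (c k)) := by
    intro u
    rw [mul_inv_eq_iff_eq_mul]
  have e : r * f (xa 0) 1 * f (c k) (c k) * (r * f (xa 0) 1)⁻¹ = r * f (z k * c k) (c k) * r⁻¹ := by
    rw [← hx]; group
  rw [h1, h1, e]
  have ht : f (z k * c k) (c k) = f (z k) 1 * f (c k) (c k) := by rw [h.f_mul, one_mul]
  have h2 : r * f (z k * c k) (c k) * r⁻¹ = f (z k) 1 * (r * f (c k) (c k) * r⁻¹) := by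
    rw [ht, ← mul_assoc r, ← h.t_comm hr]; group
  rw [h2]
  have hne := te_ne_e h
  rcases conj_e h hr with h3 | h3
  · rw [h3, ← ht]
    right
    exact ⟨⟨hr, rfl⟩, fun h4 => hne h4.2⟩
  · rw [h3, h.f_mul, zz_mul, one_mul]
    left
    exact ⟨⟨S.mul_mem hr (h.f_mem _ _), rfl⟩, fun h4 => hne h4.2⟩

/-- an involution commuting with `(a², 1)` and `(1, a²)` is `t`, `e` or `t e` -/
theorem cases_of_comm_sq (hk : 2 ≤ k) {w : G} (hw : w ∈ S) (hw2 : w * w = 1) (h1 : w * f (a 2) 1 = f (a 2) 1 * w)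
    (h2 : w * f 1 (a 2) = f 1 (a 2) * w) :
    w = 1 ∨ w = f (z k) 1 ∨ w = f (c k) (c k) ∨ w = f (z k) 1 * f (c k) (c k) := by
  rcases inv_cases h hw hw2 with h3 | h3 | ⟨α, β, hα, hβ, rfl⟩ | ⟨α, rfl⟩ | ⟨α, rfl⟩
  · exact Or.inl h3
  · exact Or.inr (Or.inl h3)
  · right; right
    rw [comm_iff h] at h1 h2
    have h4 : ∃ i, α = a i := by
      rcases h1 with ⟨h1, -⟩ | ⟨-, h1⟩
      · exact cyclic_of_comm hk h1.symm
      · rw [mul_one, one_mul] at h1
        exact absurd h1 (ne_z_mul _)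
    have h5 : ∃ i, β = a i := by
      rcases h2 with ⟨-, h2⟩ | ⟨h2, -⟩
      · exact cyclic_of_comm hk h2.symm
      · rw [mul_one, one_mul] at h2
        exact absurd h2 (ne_z_mul _)
    rcases cyclic_cases h hα hβ with h6 | ⟨i, h6⟩ | ⟨i, h6⟩
    · exact h6
    · obtain ⟨j, h4⟩ := h4
      rw [h4] at h6
      cases h6
    · obtain ⟨j, h5⟩ := h5
      rw [h5] at h6
      cases h6
  · exfalso
    rw [h.fs_mul_f, h.f_mul_fs, mul_left_inj, h.f_eq_iff, mul_one, one_mul] at h1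
    rcases h1 with ⟨h1, -⟩ | ⟨h1, -⟩
    · exact (a_two_ne hk).1 (mul_eq_right.1 h1.symm)
    · have : z k * (a 2 * α) = 1 * α := by rw [← h1, one_mul]
      rw [← mul_assoc] at this
      have h4 := mul_right_cancel this
      have h5 : (a 2 : Q k) = z k := by
        have := congrArg (fun x => z k * x) h4
        simpa [zz_mul] using this
      exact (a_two_ne hk).2 h5
  · exfalso
    rw [h.fs_mul_f, h.f_mul_fs, mul_left_inj, h.f_eq_iff, mul_one, one_mul] at h1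
    rcases h1 with ⟨h1, -⟩ | ⟨h1, -⟩
    · exact (a_two_ne hk).1 (mul_eq_right.1 h1.symm)
    · have h4 : z k * (a 2 * (z k * α)) = 1 * (z k * α) := by rw [← h1, one_mul]
      rw [← mul_assoc] at h4
      have h4 := mul_right_cancel h4
      have h5 : (a 2 : Q k) = z k := by
        have := congrArg (fun x => z k * x) h4
        simpa [zz_mul] using this
      exact (a_two_ne hk).2 h5

theorem pow_f (α β : Q k) (m : ℕ) : (f α β) ^ m = f (α ^ m) (β ^ m) := by
  induction m with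
  | zero => rw [pow_zero, pow_zero, pow_zero, h.f_one]
  | succ m ih => rw [pow_succ, ih, h.f_mul, pow_succ, pow_succ]

/-- even roots of `t` commuting with `e` have cyclic coordinates -/
theorem root_shape {y : G} {m : ℕ} (hy : y ∈ S) (hc : y * f (c k) (c k) = f (c k) (c k) * y)
    (hp : y ^ (2 * m) = f (z k) 1) : ∃ i j, y = f (a i) (a j) := by
  have hk := h.hk
  rcases (h.mem_iff y).1 hy with ⟨α, β, rfl⟩ | ⟨α, β, rfl⟩
  · have hxa : ∀ {i : ZMod (2 * 2 ^ k)}, (xa i : Q k) * c k ≠ c k * xa i := by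
      intro i h1
      rw [c] at h1
      rcases of_a_comm_xa h1.symm with h2 | h2
      · exact ne_one_of_sq_z (c_sq hk) h2
      · exact ne_z_of_sq_z (c_sq hk) h2
    rw [comm_iff h] at hc
    rcases α with i | i <;> rcases β with j | j
    · exact ⟨i, j, rfl⟩
    · exfalso
      rcases hc with ⟨-, h1⟩ | ⟨h1, -⟩
      · exact hxa h1
      · rw [c, a_comm_a] at h1
        exact ne_z_mul _ h1
    · exfalso
      rcases hc with ⟨h1, -⟩ | ⟨-, h1⟩
      · exact hxa h1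
      · rw [c, a_comm_a] at h1
        exact ne_z_mul _ h1
    · exfalso
      rw [pow_mul, sq, h.f_mul, Coord.xa_sq, Coord.xa_sq, h.f_zz, one_pow] at hp
      exact h.t_ne_one hp.symm
  · exfalso
    rw [pow_mul, sq, h.fs_mul_fs, pow_f h] at hp
    have h1 : β * α = α⁻¹ * (α * β) * α := by group
    have h2 : (β * α) ^ m = α⁻¹ * (α * β) ^ m * α := by
      rw [h1]
      have := conj_pow (i := m) (a := α⁻¹) (b := α * β)
      rw [inv_inv] at this
      exact this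
    rw [h.f_eq_iff, h2] at hp
    rcases hp with ⟨h3, h4⟩ | ⟨h3, h4⟩
    · rw [h3, mul_assoc, z_comm, inv_mul_cancel_left] at h4
      exact z_ne_one h4
    · rw [z_mul_z] at h3
      rw [h3, mul_one, inv_mul_cancel, mul_one] at h4
      exact z_ne_one h4.symm

end

section

variable {G : Type*} [Group G] [Finite G] {P : Sylow 2 G} {k : ℕ} {f : Q k → Q k → G} {s : G}
  (h : TSp (P : Subgroup G) k f s)

include h

/-- (1) `e` is not conjugate to `t` when `k ≥ 2`. -/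
theorem e_not_conj (hk : 2 ≤ k) (g₀ : G) : g₀ * f (c k) (c k) * g₀⁻¹ ≠ f (z k) 1 := by
  intro hg₀
  obtain ⟨g, hg, hC⟩ := exists_conj_of_central P (fun y hy => (h.t_comm hy).symm) ⟨g₀, hg₀⟩
  have heP : f (c k) (c k) ∈ (P : Subgroup G) := h.f_mem _ _
  have hk1 := h.hk
  let Se : Subgroup G := (P : Subgroup G) ⊓ centralizer ({f (c k) (c k)} : Set G)
  let H : Subgroup G := Se.map (MulAut.conj g).toMonoidHom
  have hmemSe : ∀ x, x ∈ Se ↔ x ∈ (P : Subgroup G) ∧ x * f (c k) (c k) = f (c k) (c k) * x := by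
    intro x
    rw [mem_inf, mem_centralizer_singleton_iff]
  have hmemH : ∀ x ∈ Se, g * x * g⁻¹ ∈ H := fun x hx => ⟨x, hx, rfl⟩
  have hHP : H ≤ (P : Subgroup G) := by
    rintro _ ⟨x, hx, rfl⟩
    exact hC x ((hmemSe x).1 hx).1 ((hmemSe x).1 hx).2
  have hcard : Nat.card H = Nat.card Se := Lib.GoldschmidtFusion.card_map_conj Se g
  have hH2 : H.relIndex (P : Subgroup G) = 2 := by
    have h1 := relIndex_mul_relIndex ⊥ H (P : Subgroup G) bot_le hHP
    have h2 := relIndex_mul_relIndex ⊥ Se (P : Subgroup G) bot_le inf_le_left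
    rw [relIndex_bot_left, relIndex_bot_left] at h1 h2
    rw [relIndex_cent_e h] at h2
    rw [hcard, ← h2] at h1
    exact Nat.eq_of_mul_eq_mul_left Nat.card_pos h1
  have hsqH : ∀ x ∈ (P : Subgroup G), x * x ∈ H := by
    intro x hx
    have := Subgroup.mul_self_mem_of_index_two hH2 ⟨x, hx⟩
    rw [mem_subgroupOf] at this
    exact this
  -- the image `w` of `t`
  have htSe : f (z k) 1 ∈ Se := (hmemSe _).2 ⟨h.f_mem _ _, h.t_comm heP⟩
  obtain ⟨w, hw⟩ : ∃ w, w = g * f (z k) 1 * g⁻¹ := ⟨_, rfl⟩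
  have hwP : w ∈ (P : Subgroup G) := by rw [hw]; exact hHP (hmemH _ htSe)
  have hw2 : w * w = 1 := by
    rw [hw]
    calc g * f (z k) 1 * g⁻¹ * (g * f (z k) 1 * g⁻¹) = g * (f (z k) 1 * f (z k) 1) * g⁻¹ := by group
      _ = 1 := by rw [h.t_sq]; group
  have hwH : ∀ x ∈ H, w * x = x * w := by
    rintro _ ⟨x, hx, rfl⟩
    change w * (g * x * g⁻¹) = g * x * g⁻¹ * w
    rw [hw]
    have h1 := h.t_comm ((hmemSe x).1 hx).1
    calc g * f (z k) 1 * g⁻¹ * (g * x * g⁻¹) = g * (f (z k) 1 * x) * g⁻¹ := by group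
      _ = g * (x * f (z k) 1) * g⁻¹ := by rw [h1]
      _ = g * x * g⁻¹ * (g * f (z k) 1 * g⁻¹) := by group
  have ha2 : (a 1 : Q k) * a 1 = a 2 := by
    rw [a_mul_a]; congr 1; norm_num
  have hw1 : w ≠ 1 := by
    intro h1
    rw [hw] at h1
    apply h.t_ne_one
    have : f (z k) 1 = g⁻¹ * (g * f (z k) 1 * g⁻¹) * g := by group
    rw [this, h1]; group
  have hwt : w ≠ f (z k) 1 := by
    intro h1
    have h2 : g * f (c k) (c k) * g⁻¹ = g * f (z k) 1 * g⁻¹ := by rw [hg, ← hw, h1]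
    exact f_ne_t h (c k) (mul_left_cancel (mul_right_cancel h2))
  have hwe : w = f (c k) (c k) ∨ w = f (z k) 1 * f (c k) (c k) := by
    rcases cases_of_comm_sq h hk hwP hw2 (by
        have := hwH _ (hsqH _ (h.f_mem (a 1) 1))
        rwa [h.f_mul, ha2, one_mul] at this) (by
        have := hwH _ (hsqH _ (h.f_mem 1 (a 1)))
        rwa [h.f_mul, ha2, one_mul] at this) with h1 | h1 | h1
    · exact absurd h1 hw1
    · exact absurd h1 hwt
    · exact h1
  have hHe : ∀ x ∈ H, x * f (c k) (c k) = f (c k) (c k) * x := by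
    intro x hx
    have h1 := hwH x hx
    rcases hwe with h2 | h2
    · rw [h2] at h1
      exact h1.symm
    · rw [h2, mul_assoc, ← mul_assoc x, ← h.t_comm (hHP hx), mul_assoc] at h1
      exact (mul_left_cancel h1).symm
  -- the two roots of `e`
  have hcc : (a 1 : Q k) * c k = c k * a 1 := by rw [c, a_comm_a]
  have hy1 : f (a 1) 1 * s ∈ Se := by
    rw [hmemSe]
    refine ⟨h.fs_mem _ _, ?_⟩
    rw [h.fs_mul_f, h.f_mul_fs, hcc, one_mul, mul_one]
  have hy2 : f 1 (a 1) * s ∈ Se := by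
    rw [hmemSe]
    refine ⟨h.fs_mem _ _, ?_⟩
    rw [h.fs_mul_f, h.f_mul_fs, hcc, one_mul, mul_one]
  obtain ⟨m, hm⟩ : ∃ m : ℕ, (m : ZMod (2 * 2 ^ k)) = qq k := ⟨2 ^ (k - 1), rfl⟩
  have hpow1 : (f (a 1) (a 1)) ^ m = f (c k) (c k) := by
    rw [pow_f h, a_pow, mul_one, hm]; rfl
  have hr1 : (f (a 1) 1 * s) ^ (2 * m) = f (c k) (c k) := by
    rw [pow_mul, sq, h.fs_mul_fs, mul_one, one_mul, hpow1]
  have hr2 : (f 1 (a 1) * s) ^ (2 * m) = f (c k) (c k) := by
    rw [pow_mul, sq, h.fs_mul_fs, mul_one, one_mul, hpow1]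
  have hshape : ∀ y ∈ Se, y ^ (2 * m) = f (c k) (c k) → ∃ i j, g * y * g⁻¹ = f (a i) (a j) := by
    intro y hy hyp
    refine root_shape h (m := m) (hHP (hmemH y hy)) (hHe _ (hmemH y hy)) ?_
    rw [conj_pow, hyp, hg]
  obtain ⟨i, j, hij⟩ := hshape _ hy1 hr1
  obtain ⟨i', j', hij'⟩ := hshape _ hy2 hr2
  have hcomm : (g * (f (a 1) 1 * s) * g⁻¹) * (g * (f 1 (a 1) * s) * g⁻¹) =
      (g * (f 1 (a 1) * s) * g⁻¹) * (g * (f (a 1) 1 * s) * g⁻¹) := by
    rw [hij, hij', h.f_mul, h.f_mul, a_comm_a, a_comm_a j]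
  have hcomm2 : (f (a 1) 1 * s) * (f 1 (a 1) * s) = (f 1 (a 1) * s) * (f (a 1) 1 * s) := by
    have e1 : (g * (f (a 1) 1 * s) * g⁻¹) * (g * (f 1 (a 1) * s) * g⁻¹) =
      g * ((f (a 1) 1 * s) * (f 1 (a 1) * s)) * g⁻¹ := by group
    have e2 : (g * (f 1 (a 1) * s) * g⁻¹) * (g * (f (a 1) 1 * s) * g⁻¹) =
      g * ((f 1 (a 1) * s) * (f (a 1) 1 * s)) * g⁻¹ := by group
    rw [e1, e2] at hcomm
    exact mul_left_cancel (mul_right_cancel hcomm)
  rw [h.fs_mul_fs, h.fs_mul_fs, ha2, one_mul, h.f_eq_iff, mul_one] at hcomm2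
  rcases hcomm2 with ⟨h1, -⟩ | ⟨h1, -⟩
  · exact (a_two_ne hk).1 h1
  · exact (a_two_ne hk).2 h1

/-- `t e` is not conjugate to `t` when `k ≥ 2`. -/
theorem te_not_conj (hk : 2 ≤ k) (g : G) : g * (f (z k) 1 * f (c k) (c k)) * g⁻¹ ≠ f (z k) 1 := by
  intro hg
  have h1 : f (xa 0) 1 * f (c k) (c k) * (f (xa 0) 1)⁻¹ = f (z k) 1 * f (c k) (c k) := by
    rw [h.f_inv, h.f_mul, h.f_mul, xa_conj_c h.hk, h.f_mul]
    simp
  apply e_not_conj h hk (g * f (xa 0) 1)
  rw [← hg, ← h1]; group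

end

section

variable {G : Type*} [Group G] {S : Subgroup G} {k : ℕ} {f : Q k → Q k → G} {s : G} (h : TSp S k f s)

include h

/-- squares of squares -/
theorem sq_sq_cases {α β : Q k} (hp : (f α β * f α β) * (f α β * f α β) = 1) (h1 : f α β * f α β ≠ 1) :
    f α β * f α β = f (z k) 1 ∨ f α β * f α β = f (c k) (c k) ∨ f α β * f α β = f (z k) 1 * f (c k) (c k) := by
  rw [h.f_mul] at hp h1 ⊢
  rcases sq_cases_of_inv h hp with ⟨h2, -⟩ | ⟨h2, h3⟩
  · left
    exact (one_or_t h hp (eq_of_sq_one h2)).resolve_left h1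
  · right
    rcases cyclic_cases h h2 h3 with h4 | ⟨i, h4⟩ | ⟨i, h4⟩
    · exact h4
    · exfalso
      rcases α with j | j
      · rw [a_mul_a] at h4
        cases h4
      · rw [Coord.xa_sq] at h4
        cases h4
    · exfalso
      rcases β with j | j
      · rw [a_mul_a] at h4
        cases h4
      · rw [Coord.xa_sq] at h4
        cases h4

end

end Cfsg.Agent.SylowSp4.LargeA
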