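import Cfsg.Agent.SylowSp4.LargeA

/-!
# Type `PSp_4(q)`, `q = 1, 7 mod 8`: fusion, second part

(2) `f (a i) (xa j)`, `2 i = 2 ^ k`, is not conjugate to `t`;
(3) every element `f (xa j) 1` is conjugate in `K` to `f (c k) 1`, by an element centralizing the second factor.
-/

set_option autoImplicit false

namespace Cfsg.Agent.SylowSp4.LargeB

open Subgroup QuaternionGroup Cfsg.Agent.SylowSp4.Coord Cfsg.Agent.SylowSp4.Facts Cfsg.Agent.SylowSp4.Base
open Cfsg.Agent.SylowSp4.CentA Cfsg.Agent.SylowSp4.Extremal Cfsg.Agent.SylowSp4.LargeA Cfsg.Agent.SylowSp4.CentG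

section Quat

variable {k : ℕ}

theorem exists_sq_a (hk : 2 ≤ k) {i : ZMod (2 * 2 ^ k)} (hi : i + i = hh k) : ∃ m, (a m : Q k) * a m = a i := by
  obtain ⟨m, hm⟩ := exists_sq_c hk
  rcases eq_c_of_sq (by omega) hi with h1 | h1
  · exact ⟨m, by rw [hm, h1]⟩
  · refine ⟨m + qq k, ?_⟩
    rw [h1, ← hm, a_mul_a, a_mul_a, z_mul_a]
    congr 1
    have := c_add (k := k) (by omega)
    linear_combination this

/-- The character of `Q k` with kernel the cyclic subgroup. -/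
def par (k : ℕ) : Q k →* ℤˣ where
  toFun g := match g with
    | a _ => 1
    | xa _ => -1
  map_one' := rfl
  map_mul' x y := by
    rcases x with i | i <;> rcases y with j | j <;> rfl

theorem par_a (i : ZMod (2 * 2 ^ k)) : par k (a i) = 1 := rfl

theorem par_xa (i : ZMod (2 * 2 ^ k)) : par k (xa i) = -1 := rfl

theorem par_z : par k (z k) = 1 := rfl

theorem par_inv (g : Q k) : par k g⁻¹ = par k g := by
  rw [map_inv]
  rcases Int.units_eq_one_or (par k g) with h | h <;> rw [h] <;> decide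

theorem par_eq_one {g : Q k} (h : par k g = 1) : ∃ i, g = a i := by
  rcases g with i | i
  · exact ⟨i, rfl⟩
  · rw [par_xa] at h
    exact absurd h (by decide)

end Quat

section

variable {G : Type*} [Group G] {S : Subgroup G} {k : ℕ} {f : Q k → Q k → G} {s : G} (h : TSp S k f s)

/-- The subgroup of index two given by equal parity of the coordinates. -/
def M (h : TSp S k f s) : Subgroup G where
  carrier := {g | ∃ α β, par k α * par k β = 1 ∧ (g = f α β ∨ g = f α β * s)}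
  mul_mem' := by
    rintro _ _ ⟨α, β, h1, h2⟩ ⟨γ, δ, h3, h4⟩
    have e1 : par k (α * γ) * par k (β * δ) = 1 := by
      rw [map_mul, map_mul, mul_mul_mul_comm, h1, h3, one_mul]
    have e2 : par k (α * δ) * par k (β * γ) = 1 := by
      rw [map_mul, map_mul, mul_mul_mul_comm, h1, mul_comm, mul_comm (par k δ), h3, mul_one]
    rcases h2 with rfl | rfl <;> rcases h4 with rfl | rfl
    · exact ⟨_, _, e1, Or.inl (h.f_mul _ _ _ _)⟩
    · exact ⟨_, _, e1, Or.inr (h.f_mul_fs _ _ _ _)⟩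
    · exact ⟨_, _, e2, Or.inr (h.fs_mul_f _ _ _ _)⟩
    · exact ⟨_, _, e2, Or.inl (h.fs_mul_fs _ _ _ _)⟩
  one_mem' := ⟨1, 1, by simp, Or.inl h.f_one.symm⟩
  inv_mem' := by
    rintro _ ⟨α, β, h1, rfl | rfl⟩
    · exact ⟨α⁻¹, β⁻¹, by rw [par_inv, par_inv, h1], Or.inl (h.f_inv _ _)⟩
    · refine ⟨β⁻¹, α⁻¹, by rw [par_inv, par_inv, mul_comm, h1], Or.inr ?_⟩
      rw [mul_inv_rev, h.f_inv, h.s_inv, h.s_f]

theorem mem_M (h : TSp S k f s) {g : G} :
    g ∈ M h ↔ ∃ α β, par k α * par k β = 1 ∧ (g = f α β ∨ g = f α β * s) := Iff.rfl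

include h

theorem f_mem_M_iff {α β : Q k} : f α β ∈ M h ↔ par k α * par k β = 1 := by
  constructor
  · rintro ⟨γ, δ, h1, h2 | h2⟩
    · rw [h.f_eq_iff] at h2
      rcases h2 with ⟨rfl, rfl⟩ | ⟨rfl, rfl⟩
      · exact h1
      · rw [map_mul, map_mul, par_z, one_mul, one_mul, h1]
    · exact absurd h2.symm (h.fs_ne _ _ _ _)
  · intro h1
    exact ⟨α, β, h1, Or.inl rfl⟩

theorem fs_mem_M_iff {α β : Q k} : f α β * s ∈ M h ↔ par k α * par k β = 1 := by
  have hs : s ∈ M h := ⟨1, 1, by simp, Or.inr (by rw [h.f_one, one_mul])⟩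
  rw [Subgroup.mul_mem_cancel_right _ hs, f_mem_M_iff h]

theorem relIndex_M : (M h).relIndex S = 2 := by
  rw [relIndex, index_eq_two_iff]
  refine ⟨⟨f (xa 0) 1, h.f_mem _ _⟩, ?_⟩
  rintro ⟨r, hr⟩
  rw [mem_subgroupOf, mem_subgroupOf]
  change Xor (r * f (xa 0) 1 ∈ M h) (r ∈ M h)
  have key : ∀ u : ℤˣ, Xor (-1 * u = 1) (u = 1) := by decide
  rcases (h.mem_iff r).1 hr with ⟨α, β, rfl⟩ | ⟨α, β, rfl⟩
  · rw [h.f_mul, f_mem_M_iff h, f_mem_M_iff h, map_mul, map_mul, par_xa, map_one, mul_one, mul_comm (par k α),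
      mul_assoc]
    exact key _
  · rw [h.fs_mul_f, fs_mem_M_iff h, fs_mem_M_iff h, map_mul, map_mul, par_xa, map_one, mul_one, mul_comm (par k β),
      mul_left_comm]
    exact key _

end

section

variable {G : Type*} [Group G] [Finite G] {P : Sylow 2 G} {k : ℕ} {f : Q k → Q k → G} {s : G}
  (h : TSp (P : Subgroup G) k f s)

include h

/-- (2) mixed involutions are not conjugate to `t` -/
theorem mixed_not_conj (hk : 2 ≤ k) {i j : ZMod (2 * 2 ^ k)} (hi : i + i = hh k) (g₀ : G) :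
    g₀ * f (a i) (xa j) * g₀⁻¹ ≠ f (z k) 1 := by
  intro hg₀
  obtain ⟨g, hg, hC⟩ := exists_conj_of_central P (fun y hy => (h.t_comm hy).symm) ⟨g₀, hg₀⟩
  obtain ⟨m, hm⟩ := exists_sq_a hk hi
  have h1 := hC (f (a m) 1) (h.f_mem _ _) (by rw [h.f_mul, h.f_mul, a_comm_a, one_mul, mul_one])
  obtain ⟨α, β, h2⟩ := sq_mem_base h h1
  have h3 : f α β * f α β = g * f (z k) 1 * g⁻¹ := by
    rw [← h2]
    calc g * f (a m) 1 * g⁻¹ * (g * f (a m) 1 * g⁻¹) * (g * f (a m) 1 * g⁻¹ * (g * f (a m) 1 * g⁻¹)) =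
          g * ((f (a m) 1 * f (a m) 1) * (f (a m) 1 * f (a m) 1)) * g⁻¹ := by group
      _ = g * f (z k) 1 * g⁻¹ := by rw [h.f_mul, hm, one_mul, h.f_mul, a_sq_z hi, one_mul]
  have h4 : (f α β * f α β) * (f α β * f α β) = 1 := by
    rw [h3]
    calc g * f (z k) 1 * g⁻¹ * (g * f (z k) 1 * g⁻¹) = g * (f (z k) 1 * f (z k) 1) * g⁻¹ := by group
      _ = 1 := by rw [h.t_sq]; group
  have h5 : f α β * f α β ≠ 1 := by
    rw [h3]
    intro h6
    apply h.t_ne_one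
    have : f (z k) 1 = g⁻¹ * (g * f (z k) 1 * g⁻¹) * g := by group
    rw [this, h6]; group
  rcases sq_sq_cases h h4 h5 with h6 | h6 | h6
  · rw [h3] at h6
    have h7 : g * f (a i) (xa j) * g⁻¹ = g * f (z k) 1 * g⁻¹ := by rw [hg, h6]
    have h8 := mul_left_cancel (mul_right_cancel h7)
    rw [h.f_eq_iff, one_def] at h8
    rcases h8 with ⟨-, h8⟩ | ⟨-, h8⟩
    · cases h8
    · rw [z_mul_a] at h8
      cases h8
  · rw [h3] at h6
    apply e_not_conj h hk g⁻¹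
    rw [← h6]; group
  · rw [h3] at h6
    apply te_not_conj h hk g⁻¹
    rw [← h6]; group

theorem mixed_not_conj' (hk : 2 ≤ k) {i j : ZMod (2 * 2 ^ k)} (hi : i + i = hh k) (g : G) :
    g * f (xa j) (a i) * g⁻¹ ≠ f (z k) 1 := by
  intro hg
  apply mixed_not_conj h hk hi (j := j) (g * s)
  rw [← hg]
  calc g * s * f (a i) (xa j) * (g * s)⁻¹ = g * (s * f (a i) (xa j) * s⁻¹) * g⁻¹ := by group
    _ = g * f (xa j) (a i) * g⁻¹ := by rw [h.s_conj]

/-- conjugates of `t` in `P` lie in `M` -/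
theorem conj_t_mem_M (hk : 2 ≤ k) {g : G} (hg : g * f (z k) 1 * g⁻¹ ∈ (P : Subgroup G)) :
    g * f (z k) 1 * g⁻¹ ∈ M h := by
  have h1 : (g * f (z k) 1 * g⁻¹) * (g * f (z k) 1 * g⁻¹) = 1 := by
    calc g * f (z k) 1 * g⁻¹ * (g * f (z k) 1 * g⁻¹) = g * (f (z k) 1 * f (z k) 1) * g⁻¹ := by group
      _ = 1 := by rw [h.t_sq]; group
  rcases inv_cases h hg h1 with h2 | h2 | ⟨α, β, hα, hβ, h2⟩ | ⟨α, h2⟩ | ⟨α, h2⟩
  · rw [h2]; exact one_mem _
  · rw [h2, f_mem_M_iff h, par_z, map_one, one_mul]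
  · rw [h2, f_mem_M_iff h]
    rcases sq_z_cases hα with ⟨i, hi, rfl⟩ | ⟨i, rfl⟩ <;> rcases sq_z_cases hβ with ⟨j, hj, rfl⟩ | ⟨j, rfl⟩
    · rfl
    · exfalso
      apply mixed_not_conj h hk hi (j := j) g⁻¹
      rw [← h2]; group
    · exfalso
      apply mixed_not_conj' h hk hj (j := i) g⁻¹
      rw [← h2]; group
    · rw [par_xa, par_xa]; decide
  · rw [h2, fs_mem_M_iff h, par_inv]
    rcases Int.units_eq_one_or (par k α) with h3 | h3 <;> rw [h3] <;> decide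
  · rw [h2, fs_mem_M_iff h, par_inv, map_mul, par_z, one_mul]
    rcases Int.units_eq_one_or (par k α) with h3 | h3 <;> rw [h3] <;> decide

/-- (3) transfer: `f (xa j) 1` is conjugate in `C_G(t)` to `f (c k) 1` -/
theorem exists_conj_root (hk : 2 ≤ k) (hG : ∀ H : Subgroup G, H.index ≠ 2) (j : ZMod (2 * 2 ^ k)) :
    ∃ g : G, g * f (z k) 1 = f (z k) 1 * g ∧ g * f (xa j) 1 * g⁻¹ = f (c k) 1 := by
  have hk1 := h.hk
  have hρ2 : f (xa j) 1 * f (xa j) 1 = f (z k) 1 := root_sq h (Coord.xa_sq j)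
  have hρM : f (xa j) 1 ∉ M h := by
    rw [f_mem_M_iff h, par_xa, map_one]; decide
  -- a conjugate in `M`
  obtain ⟨g, hgM⟩ : ∃ g : G, g * f (xa j) 1 * g⁻¹ ∈ M h := by
    by_contra hcon
    push Not at hcon
    obtain ⟨V, hV⟩ := exists_transfer P (M h) (relIndex_M h)
    have h1 := char_trivial hG V (f (xa j) 1)
    refine hρM ((hV _ (h.f_mem _ _) ?_).1 h1)
    intro n g hg
    have hρ4 : (f (xa j) 1) ^ 4 = 1 := by
      rw [show (4 : ℕ) = 2 * 2 by rfl, pow_mul, sq, sq, hρ2, h.t_sq]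
    have hmod : (f (xa j) 1) ^ n = (f (xa j) 1) ^ (n % 4) := by
      conv_lhs => rw [← Nat.div_add_mod n 4, pow_add, pow_mul, hρ4, one_pow, one_mul]
    rw [hmod] at hg ⊢
    have hlt : n % 4 < 4 := Nat.mod_lt _ (by norm_num)
    generalize n % 4 = r at *
    interval_cases r
    · rw [pow_zero, mul_one, mul_inv_cancel]
    · rw [pow_one]
      exact ⟨fun h2 => absurd h2 (hcon g), fun h2 => absurd h2 hρM⟩
    · rw [sq, hρ2] at hg ⊢
      constructor
      · intro _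
        rw [f_mem_M_iff h, par_z, map_one, one_mul]
      · intro _
        exact conj_t_mem_M h hk hg
    · have hinv : (f (xa j) 1) ^ 3 = (f (xa j) 1)⁻¹ := by
        apply eq_inv_of_mul_eq_one_left
        rw [← pow_succ]
        exact hρ4
      rw [hinv]
      constructor
      · intro h2
        have h3 := inv_mem h2
        have e : (g * (f (xa j) 1)⁻¹ * g⁻¹)⁻¹ = g * f (xa j) 1 * g⁻¹ := by group
        rw [e] at h3
        exact absurd h3 (hcon g)
      · intro h2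
        have h3 := inv_mem h2
        rw [inv_inv] at h3
        exact absurd h3 hρM
  -- analysis of the conjugate
  have ht1 : (g * f (z k) 1 * g⁻¹) * (g * f (z k) 1 * g⁻¹) = 1 := by
    calc g * f (z k) 1 * g⁻¹ * (g * f (z k) 1 * g⁻¹) = g * (f (z k) 1 * f (z k) 1) * g⁻¹ := by group
      _ = 1 := by rw [h.t_sq]; group
  have ht0 : g * f (z k) 1 * g⁻¹ ≠ 1 := by
    intro h6
    apply h.t_ne_one
    have : f (z k) 1 = g⁻¹ * (g * f (z k) 1 * g⁻¹) * g := by group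
    rw [this, h6]; group
  have hsq : (g * f (xa j) 1 * g⁻¹) * (g * f (xa j) 1 * g⁻¹) = g * f (z k) 1 * g⁻¹ := by
    rw [← hρ2]; group
  have hee : ¬ (g * f (z k) 1 * g⁻¹ = f (c k) (c k) ∨ g * f (z k) 1 * g⁻¹ = f (z k) 1 * f (c k) (c k)) := by
    rintro (h6 | h6)
    · apply e_not_conj h hk g⁻¹
      rw [← h6]; group
    · apply te_not_conj h hk g⁻¹
      rw [← h6]; group
  obtain ⟨hgt, μ, i, hμ, hi, hμr⟩ : g * f (z k) 1 * g⁻¹ = f (z k) 1 ∧ ∃ μ i, μ = a i ∧ i + i = hh k ∧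
      (g * f (xa j) 1 * g⁻¹ = f μ 1 ∨ g * f (xa j) 1 * g⁻¹ = f 1 μ) := by
    obtain ⟨α, β, hpar, h2 | h2⟩ := hgM
    · have h3 : g * f (z k) 1 * g⁻¹ = f (z k) 1 := by
        rw [← hsq, h2]
        rw [← hsq, h2] at ht1 ht0 hee
        rcases sq_sq_cases h ht1 ht0 with h4 | h4
        · exact h4
        · exact absurd h4 hee
      refine ⟨h3, ?_⟩
      have h5 : f α β * f α β = f (z k) 1 := by rw [← h2, hsq, h3]
      obtain ⟨μ, hμ, h6⟩ := root_cases h (h.f_mem α β) h5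
      have hparμ : par k μ = 1 := by
        have h7 : f α β ∈ M h := (f_mem_M_iff h).2 hpar
        rcases h6 with h6 | h6
        · rw [h6, f_mem_M_iff h, map_one, mul_one] at h7
          exact h7
        · rw [h6, f_mem_M_iff h, map_one, one_mul] at h7
          exact h7
      obtain ⟨i, hi⟩ := par_eq_one hparμ
      refine ⟨μ, i, hi, ?_, by rw [h2]; exact h6⟩
      rw [hi, a_mul_a, z_def] at hμ
      exact a.inj hμ
    · exfalso
      have h3 : g * f (z k) 1 * g⁻¹ = f (α * β) (β * α) := by rw [← hsq, h2, h.fs_mul_fs]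
      rw [h3] at ht1 ht0 hee
      have hβα : β * α = α⁻¹ * (α * β) * α := by group
      obtain ⟨i, hi⟩ : ∃ i, α * β = a i := par_eq_one (by rw [map_mul, hpar])
      obtain ⟨i', hi'⟩ : ∃ i, β * α = a i := par_eq_one (by rw [map_mul, mul_comm, hpar])
      rcases sq_cases_of_inv h ht1 with ⟨h4, -⟩ | ⟨h4, h5⟩
      · rcases eq_of_sq_one h4 with h5 | h5
        · rw [h5, mul_one, inv_mul_cancel] at hβα
          rw [h5, hβα, h.f_one] at ht0
          exact ht0 rfl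
        · rw [h5, mul_assoc, z_comm, inv_mul_cancel_left] at hβα
          rw [h5, hβα, h.f_zz] at ht0
          exact ht0 rfl
      · rcases cyclic_cases h h4 h5 with h6 | ⟨l, h6⟩ | ⟨l, h6⟩
        · exact hee h6
        · rw [hi] at h6; cases h6
        · rw [hi'] at h6; cases h6
  -- correct by `s` and by `f (xa 0) 1`
  have hgc : g * f (z k) 1 = f (z k) 1 * g := by
    rw [← mul_inv_eq_iff_eq_mul]; exact hgt
  obtain ⟨g', hg'c, hg'⟩ : ∃ g' : G, g' * f (z k) 1 = f (z k) 1 * g' ∧ g' * f (xa j) 1 * g'⁻¹ = f μ 1 := by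
    rcases hμr with h1 | h1
    · exact ⟨g, hgc, h1⟩
    · refine ⟨s * g, ?_, ?_⟩
      · rw [mul_assoc, hgc, ← mul_assoc, ← h.t_comm h.s_mem, mul_assoc]
      · have e : s * g * f (xa j) 1 * (s * g)⁻¹ = s * (g * f (xa j) 1 * g⁻¹) * s⁻¹ := by group
        rw [e, h1, h.s_conj]
  rcases eq_c_of_sq hk1 hi with h1 | h1
  · exact ⟨g', hg'c, by rw [hg', hμ, h1]⟩
  · refine ⟨f (xa 0) 1 * g', ?_, ?_⟩
    · rw [mul_assoc, hg'c, ← mul_assoc, ← h.t_comm (h.f_mem _ _), mul_assoc]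
    · have e : f (xa 0) 1 * g' * f (xa j) 1 * (f (xa 0) 1 * g')⁻¹ =
          f (xa 0) 1 * (g' * f (xa j) 1 * g'⁻¹) * (f (xa 0) 1)⁻¹ := by group
      rw [e, hg', hμ, h1, h.f_inv, h.f_mul, h.f_mul, ← mul_assoc, ← z_comm, mul_assoc (z k), mul_assoc (z k),
        xa_conj_c hk1, zz_mul]
      simp

end

end Cfsg.Agent.SylowSp4.LargeB
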