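import Cfsg.Agent.Lib.AutSL2Out
import Cfsg.Agent.Lib.PSL2Inv

/-!
# Automorphisms of odd order of `SL(2,F)`: no diagonal part
-/

set_option autoImplicit false

namespace Cfsg.Agent.SylowSp4.OddAut

open Matrix Cfsg.Agent.Lib.SL2Mat Cfsg.Agent.Lib.AutSL2Out

variable {F : Type*} [Field F]

/-- `x ↦ s x^τ s⁻¹` -/
def Inn (α : MulAut (Matrix.SpecialLinearGroup (Fin 2) F)) (s : Matrix.SpecialLinearGroup (Fin 2) F) (τ : F ≃+* F) :
    Prop := ∀ x, α x = s * fieldAut τ x * s⁻¹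

theorem Inn.mul {α β : MulAut (Matrix.SpecialLinearGroup (Fin 2) F)} {s s' : Matrix.SpecialLinearGroup (Fin 2) F}
    {τ τ' : F ≃+* F} (h : Inn α s τ) (h' : Inn β s' τ') : Inn (α * β) (s * fieldAut τ s') (τ * τ') := by
  intro x
  rw [MulAut.mul_apply, h' x, h, map_mul, map_mul, map_mul, map_inv, MulAut.mul_apply]
  group

theorem Inn.pow {α : MulAut (Matrix.SpecialLinearGroup (Fin 2) F)} {s : Matrix.SpecialLinearGroup (Fin 2) F}
    {τ : F ≃+* F} (h : Inn α s τ) (n : ℕ) : ∃ s', Inn (α ^ n) s' (τ ^ n) := by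
  induction n with
  | zero =>
    refine ⟨1, fun x => ?_⟩
    rw [pow_zero, pow_zero, map_one, one_mul, inv_one, mul_one]
  | succ n ih =>
    obtain ⟨s', hs'⟩ := ih
    rw [pow_succ, pow_succ]
    exact ⟨_, hs'.mul h⟩

/-- matrices of given trace -/
def ofTr (a : F) : Matrix.SpecialLinearGroup (Fin 2) F := ⟨!![a, -1; 1, 0], by simp [Matrix.det_fin_two]⟩

theorem eq_one_of_inn {s : Matrix.SpecialLinearGroup (Fin 2) F} {τ : F ≃+* F}
    (h : Inn (1 : MulAut (Matrix.SpecialLinearGroup (Fin 2) F)) s τ) : τ = 1 := by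
  ext a
  have h1 := h (ofTr a)
  rw [MulAut.one_apply, eq_mul_inv_iff_mul_eq] at h1
  have h2 : (s⁻¹ * ofTr a * s : Matrix.SpecialLinearGroup (Fin 2) F) = fieldAut τ (ofTr a) := by
    rw [mul_assoc, h1]; group
  have h3 : Matrix.trace ((s⁻¹ * ofTr a * s : Matrix.SpecialLinearGroup (Fin 2) F) : Matrix (Fin 2) (Fin 2) F) =
      Matrix.trace ((ofTr a : Matrix.SpecialLinearGroup (Fin 2) F) : Matrix (Fin 2) (Fin 2) F) := by
    rw [Matrix.SpecialLinearGroup.coe_mul, Matrix.trace_mul_comm, ← Matrix.SpecialLinearGroup.coe_mul,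
      mul_inv_cancel_left]
  rw [h2, Matrix.trace_fin_two, Matrix.trace_fin_two] at h3
  have e1 : ((fieldAut τ (ofTr a) : Matrix.SpecialLinearGroup (Fin 2) F) : Matrix (Fin 2) (Fin 2) F) 0 0 = τ a := rfl
  have e2 : ((fieldAut τ (ofTr a) : Matrix.SpecialLinearGroup (Fin 2) F) : Matrix (Fin 2) (Fin 2) F) 1 1 = τ 0 := rfl
  have e3 : ((ofTr a : Matrix.SpecialLinearGroup (Fin 2) F) : Matrix (Fin 2) (Fin 2) F) 0 0 = a := rfl
  have e4 : ((ofTr a : Matrix.SpecialLinearGroup (Fin 2) F) : Matrix (Fin 2) (Fin 2) F) 1 1 = 0 := rfl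
  rw [e1, e2, e3, e4, map_zero, add_zero, add_zero] at h3
  exact h3

variable [Finite F]

/-- the square of an automorphism has no diagonal part -/
theorem sq_inn (α : MulAut (Matrix.SpecialLinearGroup (Fin 2) F)) : ∃ s τ, Inn (α * α) s τ := by
  obtain ⟨g, σ, rfl⟩ := exists_eq α
  have e1 : (conjGL g * fieldAut σ) * (conjGL g * fieldAut σ) =
      conjGL (g * Matrix.GeneralLinearGroup.map σ.toRingHom g) * fieldAut (σ * σ) := by
    rw [mul_assoc, ← mul_assoc (fieldAut σ), fieldAut_mul_conjGL, map_mul, map_mul]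
    simp only [mul_assoc]
  have hdet : (g * Matrix.GeneralLinearGroup.map σ.toRingHom g).1.det = g.1.det * σ g.1.det := by
    have e4 : ∀ x : GL (Fin 2) F, x.1.det = ((Matrix.GeneralLinearGroup.det x : Fˣ) : F) := fun _ => rfl
    have e5 : ∀ (ρ : F ≃+* F) (x : GL (Fin 2) F),
        ((Matrix.GeneralLinearGroup.det (Matrix.GeneralLinearGroup.map ρ.toRingHom x) : Fˣ) : F) = ρ x.1.det := by
      intro ρ x
      exact (RingHom.map_det ρ.toRingHom x.1).symm
    rw [e4, map_mul, Units.val_mul, e5, ← e4]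
  have hg : g.1.det ≠ 0 := (Matrix.GeneralLinearGroup.det g).ne_zero
  obtain ⟨a, ha⟩ := isSquare_mul_map σ g.1.det
  have hσ : σ g.1.det ≠ 0 := by rwa [ne_eq, map_eq_zero]
  have ha0 : a ≠ 0 := by rintro rfl; rw [mul_zero] at ha; exact (mul_ne_zero hg hσ) ha
  obtain ⟨s, hs⟩ := conjGL_of_det_sq (g * Matrix.GeneralLinearGroup.map σ.toRingHom g) a ha0 (by
    rw [hdet, ha, pow_two])
  refine ⟨s, σ * σ, fun x => ?_⟩
  rw [e1, MulAut.mul_apply]
  exact hs _

/-- **Automorphisms of odd order have no diagonal part.** -/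
theorem exists_inn {α : MulAut (Matrix.SpecialLinearGroup (Fin 2) F)} {m : ℕ} (hm' : Odd m) (h : α ^ m = 1) :
    ∃ (s : Matrix.SpecialLinearGroup (Fin 2) F) (τ : F ≃+* F), Odd (orderOf τ) ∧
      ∀ x, α x = s * Matrix.SpecialLinearGroup.map (τ : F →+* F) x * s⁻¹ := by
  obtain ⟨s, σ, hs⟩ := sq_inn α
  obtain ⟨n, hn⟩ := id hm'
  obtain ⟨s', hs'⟩ := hs.pow (n + 1)
  have e : (α * α) ^ (n + 1) = α := by
    rw [← pow_two, ← pow_mul]
    have : 2 * (n + 1) = m + 1 := by omega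
    rw [this, pow_succ, h, one_mul]
  rw [e] at hs'
  refine ⟨s', σ ^ (n + 1), ?_, hs'⟩
  obtain ⟨s'', hs''⟩ := hs'.pow m
  rw [h] at hs''
  have h1 := eq_one_of_inn hs''
  exact hm'.of_dvd_nat (orderOf_dvd_of_pow_eq_one h1)

end Cfsg.Agent.SylowSp4.OddAut
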