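import Cfsg.Agent.SylowSp4.ThreeL
import Cfsg.Agent.Lib.KleinGen

/-!
# The case `|F| = 3` of (b4): `C(t) ≤ N(W)`
-/

set_option autoImplicit false

namespace Cfsg.Agent.SylowSp4.Q3

open QuaternionGroup Cfsg.Agent.SylowSp4.Coord Cfsg.Agent.SylowSp4.Pat Subgroup
open Cfsg.Agent.Walter.OddCoreIn Cfsg.Agent.SylowSp4.DuoFacts Cfsg.Agent.SylowSp4.Pairs
open Cfsg.Agent.SylowSp4.Triples Cfsg.Agent.SylowSp4.FieldPart Cfsg.Agent.SylowSp4.ThreeL

section Gen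

variable {G : Type*} [Group G] [Finite G]

omit [Finite G] in
theorem odd_of_not_dvd {W : Subgroup G} (h : ¬ 2 ∣ Nat.card W) : Odd (Nat.card W) :=
  Nat.not_even_iff_odd.1 fun h1 => h h1.two_dvd

omit [Finite G] in
theorem odd_orderOf {W : Subgroup G} (h : ¬ 2 ∣ Nat.card W) {x : G} (hx : x ∈ W) : Odd (orderOf x) := by
  have h1 : orderOf (⟨x, hx⟩ : W) ∣ Nat.card W := orderOf_dvd_natCard _
  rw [Subgroup.orderOf_mk] at h1
  exact (odd_of_not_dvd h).of_dvd_nat h1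

omit [Finite G] in
/-- `t` inverts `N` modulo `K`. -/
theorem inv_mod {N K : Subgroup G} (hN : ¬ 2 ∣ Nat.card N) {t : G} (ht : t * t = 1)
    (htN : ∀ x ∈ N, t * x * t⁻¹ ∈ N) (hfix : ∀ x ∈ N, t * x = x * t → x ∈ K)
    (hNK : ∀ x ∈ N, ∀ y ∈ K, x⁻¹ * y * x ∈ K) {y : G} (hy : y ∈ N) : t * y * t * y ∈ K := by
  have hti : t⁻¹ = t := inv_eq_of_mul_eq_one_left ht
  obtain ⟨c, hc, l, hl, hct, hlt, rfl⟩ :=
    Lib.KleinGen.exists_centralizer_mul_inverted N (odd_of_not_dvd hN) t ht htN hy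
  have hcK := hfix c hc hct
  rw [hti] at hlt
  have e : t * (c * l) * t * (c * l) = c * (l⁻¹ * c * l) := by
    calc t * (c * l) * t * (c * l) = (t * c) * l * t * c * l := by group
      _ = c * (t * l * t) * c * l := by rw [hct]; group
      _ = _ := by rw [hlt]; group
  rw [e]
  exact mul_mem hcK (hNK l hl c hcK)

omit [Finite G] in
theorem cmul (g a b : G) : (g * a * g⁻¹) * (g * b * g⁻¹) = g * (a * b) * g⁻¹ := by group

omit [Finite G] in
/-- If `w` commutes with `x` modulo a subgroup `K` of odd order, then `κ x` commutes with `w` for some `κ ∈ K`. -/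
theorem exists_comm {K : Subgroup G} (hK : ¬ 2 ∣ Nat.card K) {w x : G} (hw : w * w = 1)
    (hx : x * w * x⁻¹ * w⁻¹ ∈ K) : ∃ κ ∈ K, (κ * x) * w = w * (κ * x) := by
  have hwi : w⁻¹ = w := inv_eq_of_mul_eq_one_left hw
  have h1 : w * (x * w * x⁻¹) ∈ K := by
    have h2 := inv_mem hx
    have e : (x * w * x⁻¹ * w⁻¹)⁻¹ = w * (x * w * x⁻¹) := by
      rw [mul_inv_rev, inv_inv, mul_inv_rev, mul_inv_rev, inv_inv, hwi, mul_assoc x w]
    rwa [e] at h2
  have h2 : (x * w * x⁻¹) * (x * w * x⁻¹) = 1 := by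
    have : (x * w * x⁻¹) * (x * w * x⁻¹) = x * (w * w) * x⁻¹ := by group
    rw [this, hw, mul_one, mul_inv_cancel]
  obtain ⟨d, hd, hd1⟩ := Lift.exists_conj_of_odd hw h2 (odd_orderOf hK h1)
  refine ⟨d, (zpowers_le.2 h1) hd, ?_⟩
  have h6 : w * d = d * (x * w * x⁻¹) := by rw [← hd1]; group
  calc d * x * w = d * (x * w * x⁻¹) * x := by group
    _ = w * d * x := by rw [h6]
    _ = w * (d * x) := by rw [mul_assoc]

end Gen

variable {G : Type*} [Group G] [Finite G] {P : Sylow 2 G} {k : ℕ} {f : Q k → Q k → G} {s : G}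
  {H L : Type*} [Group H] [Group L] {π : Cn (tt f) →* H} {D : Duo H L} {ι : Q k →* L} {Φ : Subgroup H}
  (p : Pat P k f s) (c : Cent k f s π D ι Φ) (U : UData f) (F : SLFact D.ζ ι) (T : Three ι)

include p c F T

/-- The field part is trivial. -/
theorem Φ_one {g : H} (hg : g ∈ Φ) : g = 1 := by
  have hgo := Φ_odd p c hg
  refine Φ_one_of_comm p c F hg hgo fun a ha _ => ?_
  obtain ⟨q, rfl⟩ := T.cx a ha
  rw [δ_apply, Φ_comm_f p c hg]

omit F T p c [Finite G] in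
theorem δ_two {a : L} (ha : a ∈ ι.range) : ∃ m : ℕ, δ D a ^ 2 ^ m = 1 := by
  obtain ⟨q, rfl⟩ := ha
  refine ⟨k + 2, ?_⟩
  rw [← map_pow, ← map_pow]
  have : q ^ 2 ^ (k + 2) = 1 := by rw [← card_Q (k := k)]; exact pow_card_eq_one'
  rw [this, map_one, map_one]

omit F T p [Finite G] in
/-- A 2-element (up to the central involution) of odd order is trivial. -/
theorem one_of_two {a : L} (ha : a ∈ ι.range) {h : H} (hh : h = δ D a ∨ h = D.φ₁ D.ζ * δ D a)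
    (ho : Odd (orderOf h)) : h = 1 := by
  obtain ⟨m, hm⟩ := δ_two (D := D) ha
  have h1 : h ^ 2 ^ (m + 1) = 1 := by
    rcases hh with rfl | rfl
    · rw [pow_succ, pow_mul, hm, one_pow]
    · have hc : Commute (D.φ₁ D.ζ) (δ D a) := DuoFacts.z_comm c _
      rw [hc.mul_pow, pow_succ, pow_mul (δ D a), hm, one_pow, mul_one, mul_comm, pow_mul, sq, z_sq, one_pow]
  have h3 : orderOf h ∣ 2 ^ (m + 1) := orderOf_dvd_of_pow_eq_one h1
  have h4 : Nat.Coprime (orderOf h) (2 ^ (m + 1)) := Nat.Coprime.pow_right _ (Nat.coprime_two_right.2 ho)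
  exact orderOf_eq_one_iff.1 (Nat.eq_one_of_dvd_coprimes h4 dvd_rfl h3)

include U

/-- (0) `O(C(e)) ∩ C(t) ≤ O(C(t))`. -/
theorem core_e_le : OO (Cn (ee f)) ⊓ Cn (tt f) ≤ OO (Cn (tt f)) := by
  rintro x ⟨hx, hxt⟩
  have h1 : π ⟨x, hxt⟩ ∈ TH p c := (mem_TH p c).2 ⟨⟨x, hxt⟩, hx, rfl⟩
  obtain ⟨a, ha, hh⟩ := theta_form p c U F h1
  exact (c.ker _).1 (one_of_two c (T.cx a ha) hh (TH_odd p c h1))

/-- (0) for the `C(t)`-conjugates of `e`. -/
theorem core_v_le {ρ : G} (hρ : ρ ∈ Cn (tt f)) :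
    OO (Cn (ρ * ee f * ρ⁻¹)) ⊓ Cn (tt f) ≤ OO (Cn (tt f)) := by
  intro x hxx
  obtain ⟨hx, hxt⟩ := mem_inf.1 hxx
  have hρt : ρ * tt f * ρ⁻¹ = tt f := by rw [mem_Cn.1 hρ, mul_inv_cancel_right]
  have hx' : x = ρ * (ρ⁻¹ * x * ρ) * ρ⁻¹ := by group
  rw [hx'] at hx hxt ⊢
  rw [mem_OO_conj_iff] at hx
  rw [show Cn (tt f) = Cn (ρ * tt f * ρ⁻¹) by rw [hρt], mem_Cn_conj_iff] at hxt
  have h1 := core_e_le p c U F T ⟨hx, hxt⟩
  have h3 := mem_OO_conj (g := ρ) h1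
  rwa [hρt] at h3

omit U in
/-- The key step in `H`. -/
theorem key_H {h : H} (ho : Odd (orderOf h)) (hw : h * D.w = D.w * h)
    (hinv : δ D (ι (Facts.c k)) * h * (δ D (ι (Facts.c k)))⁻¹ = h⁻¹) : h = 1 := by
  obtain ⟨a, b, g, hg, rfl⟩ := odd_form p c ho
  have hg1 := Φ_one p c F T hg
  subst hg1
  rw [mul_one] at ho hw hinv ⊢
  have h1 : D.φ₁ b * D.φ₂ a = D.φ₁ a * D.φ₂ b := by
    have e : D.w * (D.φ₁ a * D.φ₂ b) * D.w = D.φ₁ b * D.φ₂ a := by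
      rw [← mul_assoc, w_φ₁, mul_assoc (D.φ₂ a), w_φ₂, ← mul_assoc, mul_assoc (D.φ₂ a * D.φ₁ b), D.ww, mul_one,
        ← D.comm]
    rw [← e, ← hw, mul_assoc, D.ww, mul_one]
  have hh : D.φ₁ a * D.φ₂ b = δ D a ∨ D.φ₁ a * D.φ₂ b = D.φ₁ D.ζ * δ D a := by
    rcases (mul_eq_iff D).1 h1 with ⟨h3, -⟩ | ⟨h3, -⟩
    · left; rw [δ_apply, h3]
    · right
      rw [h3, δ_apply, map_mul, ← D.z_eq, ← mul_assoc, ← DuoFacts.z_comm c, mul_assoc]
  refine one_of_two c ?_ hh ho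
  -- conjugation by `δ x` inverts `δ a`
  have h3 : δ D (ι (Facts.c k)) * δ D a * (δ D (ι (Facts.c k)))⁻¹ = (δ D a)⁻¹ := by
    rcases hh with hh | hh
    · rw [hh] at hinv; exact hinv
    · rw [hh, mul_inv_rev] at hinv
      have hz1 : (D.φ₁ D.ζ)⁻¹ = D.φ₁ D.ζ := inv_eq_of_mul_eq_one_left (z_sq D)
      rw [← mul_assoc, ← DuoFacts.z_comm c, mul_assoc, mul_assoc, hz1, ← DuoFacts.z_comm c] at hinv
      have := mul_left_cancel hinv
      rwa [← mul_assoc] at this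
  rw [← map_inv, ← map_mul, ← map_mul, ← mul_inv_eq_one, inv_inv, ← map_mul, δ_eq_one_iff] at h3
  have hζR : D.ζ ∈ ι.range := ⟨z k, c.ι_z⟩
  have h4 : ι (Facts.c k) * a * (ι (Facts.c k))⁻¹ * a ∈ ι.range := by
    rcases h3 with h3 | h3
    · rw [h3]; exact one_mem _
    · rw [h3]; exact hζR
  have h5 := T.comm (ι (Facts.c k)) a
  apply T.odd
  have h6 : a * a = (ι (Facts.c k) * a * (ι (Facts.c k))⁻¹ * a⁻¹)⁻¹ * (ι (Facts.c k) * a * (ι (Facts.c k))⁻¹ * a) := by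
    group
  rw [h6]
  exact mul_mem (inv_mem h5) h4

/-- (3) -/
theorem claim (bal : ∀ a b : G, IsConj (tt f) a → IsConj (ee f) b → a * b = b * a → OO (Cn a) ⊓ Cn b ≤ OO (Cn b))
    {v e' ρ : G} (hv : OO (Cn v) ⊓ Cn (tt f) ≤ OO (Cn (tt f))) (hvt : tt f ∈ Cn v) (hρ : ρ ∈ Cn (tt f))
    (he' : ρ * ee f * ρ⁻¹ = e') : OO (Cn v) ⊓ Cn e' ≤ OO (Cn e') := by
  have htt : tt f * tt f = 1 := t_sq p
  have hti : (tt f)⁻¹ = tt f := inv_eq_of_mul_eq_one_left htt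
  have hρt : ρ * tt f * ρ⁻¹ = tt f := by rw [mem_Cn.1 hρ, mul_inv_cancel_right]
  have hte' : tt f ∈ Cn e' := by
    rw [← he']
    have h1 : tt f ∈ Cn (ee f) := mem_Cn.2 (ee_comm_t p).symm
    have h3 := mem_Cn_conj (g := ρ) h1
    rwa [hρt] at h3
  set N := OO (Cn v) ⊓ Cn e' with hNdef
  set K := OO (Cn e') with hKdef
  have hN : ¬ 2 ∣ Nat.card N := not_dvd_of_le inf_le_left (OO_odd _)
  have hK : ¬ 2 ∣ Nat.card K := OO_odd _
  have hKn : Cn e' ≤ normalizer (K : Set G) := le_normalizer_OO _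
  have htN : ∀ x ∈ N, tt f * x * (tt f)⁻¹ ∈ N := by
    intro x hx
    exact ⟨conj_mem (le_normalizer_OO (Cn v)) hvt hx.1,
      (Cn e').mul_mem ((Cn e').mul_mem hte' hx.2) ((Cn e').inv_mem hte')⟩
  have hfix : ∀ x ∈ N, tt f * x = x * tt f → x ∈ K := by
    intro x hx hxt
    have h1 : x ∈ OO (Cn (tt f)) := hv ⟨hx.1, mem_Cn.2 hxt.symm⟩
    exact bal (tt f) e' (IsConj.refl _) (isConj_iff.2 ⟨ρ, he'⟩) (mem_Cn.1 hte') ⟨h1, hx.2⟩
  have hNK : ∀ x ∈ N, ∀ y ∈ K, x⁻¹ * y * x ∈ K := by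
    intro x hx y hy
    have h1 := conj_mem hKn ((Cn e').inv_mem hx.2) hy
    rwa [inv_inv] at h1
  intro y hy
  have hinv := inv_mod hN htt htN hfix hNK hy
  -- the two conjugates of `t`
  set τ₁ := ρ * t1 f s * ρ⁻¹ with hτ₁
  set τ₂ := ρ * (t1 f s * ee f) * ρ⁻¹ with hτ₂
  have h12 : τ₁ * τ₂ = e' := by
    rw [← he', ← t1_mul_t2 p, hτ₁, hτ₂, cmul]
  have hc1 : IsConj (tt f) τ₁ := (t1_conj p).trans (isConj_iff.2 ⟨ρ, rfl⟩)
  have hc2 : IsConj (tt f) τ₂ := (t2_conj p).trans (isConj_iff.2 ⟨ρ, rfl⟩)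
  have hcomm : τ₁ * τ₂ = τ₂ * τ₁ := by
    rw [hτ₁, hτ₂, cmul, cmul, t1_t2_comm p]
  have hne : τ₁ ≠ τ₂ := by
    intro h
    exact t1_ne_t2 p (mul_left_cancel (mul_right_cancel h))
  have hsq1 : τ₁ * τ₁ = 1 := sq_of_conj p hc1
  have ht1 : tt f ∈ Cn τ₁ := by
    have h1 : tt f ∈ Cn (t1 f s) := mem_Cn.2 (t1_comm_t p).symm
    have h3 := mem_Cn_conj (g := ρ) h1
    rwa [hρt] at h3
  have ht2 : tt f ∈ Cn τ₂ := by
    have h1 : tt f ∈ Cn (t1 f s * ee f) := by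
      rw [mem_Cn, ← mul_assoc, ← t1_comm_t p, mul_assoc, ← ee_comm_t p, ← mul_assoc]
    have h3 := mem_Cn_conj (g := ρ) h1
    rwa [hρt] at h3
  have hyo : Odd (orderOf y) := odd_orderOf hN hy
  have hy12 : y ∈ Cn (τ₁ * τ₂) := by rw [h12]; exact hy.2
  have hstar := U.star τ₁ τ₂ hc1 hc2 hcomm hne y hy12 hyo
  rw [h12] at hstar
  obtain ⟨κ, hκ, hκc⟩ := exists_comm hK hsq1 hstar
  set y' := κ * y with hy'
  have hκe : κ ∈ Cn e' := OO_le _ hκ
  have hy'e : y' ∈ Cn e' := (Cn e').mul_mem hκe hy.2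
  have hy'1 : y' ∈ Cn τ₁ := mem_Cn.2 hκc
  have hτ2 : τ₂ = τ₁ * e' := by rw [← h12, ← mul_assoc, hsq1, one_mul]
  have hy'2 : y' ∈ Cn τ₂ := by
    rw [hτ2]
    exact mem_Cn.2 ((show Commute y' τ₁ from mem_Cn.1 hy'1).mul_right (show Commute y' e' from mem_Cn.1 hy'e)).eq
  have hy'o : Odd (orderOf y') := by
    have h1 : ¬ 2 ∣ Nat.card (N ⊔ K : Subgroup G) := not_dvd_sup Nat.prime_two (inf_le_right.trans hKn) hN hK
    exact odd_orderOf h1 (mul_mem (mem_sup_right hκ) (mem_sup_left hy))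
  -- `t y' t y' ∈ K`
  have htK : tt f * y' * tt f * y' ∈ K := by
    have e : tt f * y' * tt f * y' = (tt f * κ * (tt f)⁻¹) * (tt f * y * tt f * y) * (y⁻¹ * κ * y) := by
      rw [hti, hy']
      calc tt f * (κ * y) * tt f * (κ * y) = tt f * κ * 1 * y * tt f * κ * y := by group
        _ = tt f * κ * (tt f * tt f) * y * tt f * κ * y := by rw [htt]
        _ = _ := by group
    rw [e]
    exact mul_mem (mul_mem (conj_mem hKn hte' hκ) hinv) (hNK y hy κ hκ)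
  have htK1 : tt f * y' * tt f * y' ∈ OO (Cn τ₁) := by
    have h1 : tt f * y' * tt f * y' ∈ OO (Cn (τ₁ * τ₂)) ⊓ Cn τ₁ := by
      rw [h12]
      exact ⟨htK, (Cn τ₁).mul_mem ((Cn τ₁).mul_mem ((Cn τ₁).mul_mem ht1 hy'1) ht1) hy'1⟩
    rw [U.core τ₁ τ₂ hc1 hc2 hcomm hne, core_pair p c F.noOdd hc1 hc2 hcomm hne] at h1
    exact h1.1
  -- the standard triple
  have hnt1 : τ₁ ≠ tt f := by
    intro h
    apply t1_ne_t p
    have h1 : ρ * t1 f s * ρ⁻¹ = ρ * tt f * ρ⁻¹ := by rw [hρt]; exact h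
    exact mul_left_cancel (mul_right_cancel h1)
  have hnt2 : τ₂ ≠ tt f := by
    intro h
    have h1 : ρ * (t1 f s * ee f) * ρ⁻¹ = ρ * tt f * ρ⁻¹ := by rw [hρt]; exact h
    have h3 : t1 f s * ee f = tt f := mul_left_cancel (mul_right_cancel h1)
    -- `t₁ e = t s f (y c) (y c)` is outside the base
    have h4 : t1 f s * ee f = tt f * s * f (xa 0 * Facts.c k) (xa 0 * Facts.c k) := by
      rw [t1, mul_assoc, p.h.f_mul]
    rw [h4, mul_assoc, mul_eq_left] at h3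
    apply p.h.s_ne (f := f) ((xa 0 * Facts.c k)⁻¹) ((xa 0 * Facts.c k)⁻¹)
    rw [← p.h.f_inv, eq_inv_iff_mul_eq_one]
    exact h3
  obtain ⟨g, hg1, hg2, hg3⟩ := triples p c hc1 hc2 (IsConj.refl (tt f)) hcomm (mem_Cn.1 ht1).symm (mem_Cn.1 ht2).symm
    hne hnt1 hnt2
  set y2 := g * y' * g⁻¹ with hy2
  have hy2t : y2 ∈ Cn (tt f) := by rw [← hg1]; exact mem_Cn_conj hy'1
  have hy2s : y2 ∈ Cn s := by rw [← hg2]; exact mem_Cn_conj hy'2
  have hT0 : tt f * s * ee f ∈ Cn (tt f) := (Cn (tt f)).mul_mem ((Cn (tt f)).mul_mem t_mem (s_mem p)) (f_mem p _ _)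
  have hker : (tt f * s * ee f) * y2 * (tt f * s * ee f) * y2 ∈ OO (Cn (tt f)) := by
    have h1 := mem_OO_conj (g := g) htK1
    rw [hg1] at h1
    have e : g * (tt f * y' * tt f * y') * g⁻¹ = (g * tt f * g⁻¹) * (g * y' * g⁻¹) * (g * tt f * g⁻¹) * (g * y' * g⁻¹) := by
      group
    rw [e, hg3] at h1
    exact h1
  set x : Cn (tt f) := ⟨y2, hy2t⟩ with hx
  have hxo : Odd (orderOf (π x)) := by
    have h1 : orderOf y2 = orderOf y' := by
      have := orderOf_injective (MulAut.conj g).toMonoidHom (MulAut.conj g).injective y'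
      exact this
    have h3 : orderOf (π x) ∣ orderOf y2 := by
      have h4 : orderOf (x : G) = orderOf x := Subgroup.orderOf_coe x
      rw [show y2 = (x : G) from rfl, h4]; exact orderOf_map_dvd π x
    rw [h1] at h3
    exact hy'o.of_dvd_nat h3
  have hxw : π x * D.w = D.w * π x := by
    rw [← c.hw (s_mem p), ← map_mul, ← map_mul]
    congr 1
    exact Subtype.ext (mem_Cn.1 hy2s)
  have hδx : δ D (ι (Facts.c k)) * δ D (ι (Facts.c k)) = 1 := by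
    rw [← map_mul, ← map_mul, Facts.c_sq p.h.hk, δ_eq_one_iff]
    right; exact c.ι_z
  have hδxi : (δ D (ι (Facts.c k)))⁻¹ = δ D (ι (Facts.c k)) := inv_eq_of_mul_eq_one_left hδx
  have hπT : π ⟨tt f * s * ee f, hT0⟩ = D.φ₁ D.ζ * D.w * δ D (ι (Facts.c k)) := by
    have h1 : (⟨tt f * s * ee f, hT0⟩ : Cn (tt f)) = ⟨tt f, t_mem⟩ * ⟨s, s_mem p⟩ * ⟨ee f, f_mem p _ _⟩ := rfl
    rw [h1, map_mul, map_mul, π_t c, c.hw, π_f p c, δ_apply]
  have hrel : π ⟨tt f * s * ee f, hT0⟩ * π x * π ⟨tt f * s * ee f, hT0⟩ * π x = 1 := by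
    rw [← map_mul, ← map_mul, ← map_mul]
    exact (c.ker _).2 hker
  have hinvH : δ D (ι (Facts.c k)) * π x * (δ D (ι (Facts.c k)))⁻¹ = (π x)⁻¹ := by
    rw [hδxi, eq_inv_iff_mul_eq_one]
    rw [hπT] at hrel
    set z0 := D.φ₁ D.ζ with hz0
    set d0 := δ D (ι (Facts.c k)) with hd0
    have hzc : ∀ u : H, z0 * u = u * z0 := DuoFacts.z_comm c
    have hzz : z0 * z0 = 1 := z_sq D
    have hwd : D.w * d0 = d0 * D.w := w_δ D _
    have hwd' : D.w * (D.w * d0) = D.w * d0 * D.w := by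
      rw [mul_assoc, ← hwd]
    calc d0 * π x * d0 * π x = (D.w * D.w) * (d0 * π x * d0 * π x) := by rw [D.ww, one_mul]
      _ = D.w * (D.w * d0) * π x * d0 * π x := by group
      _ = D.w * d0 * (D.w * π x) * d0 * π x := by rw [hwd']; group
      _ = D.w * d0 * π x * (D.w * d0) * π x := by rw [← hxw]; group
      _ = (z0 * z0) * (D.w * d0 * π x * (D.w * d0) * π x) := by rw [hzz, one_mul]
      _ = z0 * (z0 * (D.w * d0 * π x)) * (D.w * d0) * π x := by group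
      _ = z0 * D.w * d0 * π x * (z0 * D.w * d0) * π x := by rw [hzc (D.w * d0 * π x)]; group
      _ = 1 := hrel
  have h1 := key_H p c F T hxo hxw hinvH
  have hy2K : y2 ∈ OO (Cn (tt f)) := (c.ker x).1 h1
  have hy'K1 : y' ∈ OO (Cn τ₁) := by
    rw [← mem_OO_conj_iff (g := g), hg1]; exact hy2K
  have hy'K : y' ∈ K := by
    have h3 : y' ∈ OO (Cn (τ₁ * τ₂)) ⊓ Cn τ₁ := by
      rw [U.core τ₁ τ₂ hc1 hc2 hcomm hne, core_pair p c F.noOdd hc1 hc2 hcomm hne]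
      exact ⟨hy'K1, hy'2⟩
    rw [h12] at h3
    exact h3.1
  have e : y = κ⁻¹ * y' := by rw [hy']; group
  rw [e]
  exact mul_mem (inv_mem hκ) hy'K

/-! ### The main argument -/

omit p c U F T in
theorem mem_normalizer_of {W : Subgroup G} {ρ : G} (h : ∀ w ∈ W, ρ * w * ρ⁻¹ ∈ W) : ρ ∈ normalizer (W : Set G) := by
  have h1 : W.map (MulAut.conj ρ).toMonoidHom ≤ W := by
    rintro _ ⟨w, hw, rfl⟩
    exact h w hw
  have h3 : W.map (MulAut.conj ρ).toMonoidHom = W := by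
    apply Subgroup.eq_of_le_of_card_ge h1
    rw [Subgroup.card_map_of_injective (MulAut.conj ρ).injective]
  rw [mem_normalizer_iff]
  intro g
  refine ⟨h g, fun hg => ?_⟩
  rw [← h3] at hg
  obtain ⟨w, hw, hwg⟩ := hg
  have : w = g := (MulAut.conj ρ).injective hwg
  rwa [← this]

/-- `f = (y, y)` -/
abbrev ff (f : Q k → Q k → G) : G := f (xa 0) (xa 0)

/-- The third involution. -/
abbrev e3 (f : Q k → Q k → G) : G := ff f * ee f

omit c U F T [Finite G] in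
theorem e3_eq : e3 f = f (xa 0 * Facts.c k) (xa 0 * Facts.c k) := by
  rw [e3, ff, p.h.f_mul]

omit c U F T p [Finite G] in
/-- For `k = 1` the group `Q k` is generated by `c` and `xa 0`. -/
theorem gen_Q (hk : k = 1) (K : Subgroup (Q k)) (h1 : Facts.c k ∈ K) (h3 : xa 0 ∈ K) (q : Q k) : q ∈ K := by
  subst hk
  have hNe : NeZero (2 * 2 ^ 1) := ⟨by norm_num⟩
  have h4 : (Facts.c 1 : Q 1) = a 1 := rfl
  rw [h4] at h1
  have h5 : ∀ i : ZMod (2 * 2 ^ 1), (a i : Q 1) ∈ K := by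
    intro i
    have h6 : (a 1 : Q 1) ^ i.val = a i := by
      rw [QuaternionGroup.a_one_pow, ZMod.natCast_zmod_val]
    rw [← h6]
    exact pow_mem h1 _
  rcases q with i | i
  · exact h5 i
  · have h6 : (xa i : Q 1) = xa 0 * a i := by rw [xa_mul_a, zero_add]
    rw [h6]
    exact mul_mem h3 (h5 i)

omit c U F T p [Finite G] in
theorem conj_a (q : Q k) (i : ZMod (2 * 2 ^ k)) : ∃ j, q * a i * q⁻¹ = a j := by
  rcases q with l | l
  · exact ⟨l + i + -l, rfl⟩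
  · exact ⟨((2 ^ k : ℕ) : ZMod (2 * 2 ^ k)) + (((2 ^ k : ℕ) : ZMod (2 * 2 ^ k)) + l) - (l + i), rfl⟩

omit c U F T p [Finite G] in
theorem yc_sq (_hk : 1 ≤ k) : ((xa 0 : Q k) * Facts.c k) * (xa 0 * Facts.c k) = z k := by
  rw [Facts.c, xa_mul_a]
  exact xa_sq _

omit c U F T p [Finite G] in
theorem zsq {α : Q k} (h : α * α = z k) : (z k * α) * (z k * α) = z k := by
  rw [mul_assoc, ← mul_assoc α, ← z_comm α, mul_assoc (z k) α α, h, ← mul_assoc, z_mul_z, one_mul]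

omit c U F T [Finite G] in
theorem t_mul_f (α β : Q k) : tt f * f α β = f (z k * α) β := by
  rw [p.h.f_mul, one_mul]

omit c U F T [Finite G] in
theorem f_mem_Cn_iff {α β γ δ : Q k} : f α β ∈ Cn (f γ δ) ↔
    (α * γ = γ * α ∧ β * δ = δ * β) ∨ (α * γ = z k * (γ * α) ∧ β * δ = z k * (δ * β)) := by
  rw [mem_Cn, Facts.comm_iff p.h]

section Main

variable {W : Subgroup G} (hWodd : ¬ 2 ∣ Nat.card W)
  (hWt : W ⊓ Cn (tt f) = OO (Cn (tt f))) (hWe : W ⊓ Cn (ee f) = OO (Cn (ee f)))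
  (hWte : W ⊓ Cn (tt f * ee f) = OO (Cn (tt f * ee f)))
  (hW3 : W ⊓ Cn (e3 f) = OO (Cn (e3 f))) (hWt3 : W ⊓ Cn (tt f * e3 f) = OO (Cn (tt f * e3 f)))
  (hts : Cn (tt f) ⊓ Cn s ≤ normalizer (W : Set G)) (hte : Cn (tt f) ⊓ Cn (ee f) ≤ normalizer (W : Set G))
  (htf : Cn (tt f) ⊓ Cn (ff f) ≤ normalizer (W : Set G))
  (bal : ∀ a b : G, IsConj (tt f) a → IsConj (ee f) b → a * b = b * a → OO (Cn a) ⊓ Cn b ≤ OO (Cn b))

include hWt hW3 hWt3 bal

/-- (2) -/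
theorem core_le_W {v ρ : G} (hρ : ρ ∈ Cn (tt f)) (hv : ρ * ee f * ρ⁻¹ = v) (h3 : e3 f ∈ Cn v) : OO (Cn v) ≤ W := by
  have hk := p.h.hk
  have hρt : ρ * tt f * ρ⁻¹ = tt f := by rw [mem_Cn.1 hρ, mul_inv_cancel_right]
  have htv : tt f ∈ Cn v := by
    rw [← hv]
    have h1 : tt f ∈ Cn (ee f) := mem_Cn.2 (ee_comm_t p).symm
    have h4 := mem_Cn_conj (g := ρ) h1
    rwa [hρt] at h4
  have hvt : OO (Cn v) ⊓ Cn (tt f) ≤ OO (Cn (tt f)) := by
    rw [← hv]; exact core_v_le p c U F T hρ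
  obtain ⟨ρ3, hρ3, hv3⟩ := p.uu (xa 0 * Facts.c k) (xa 0 * Facts.c k) (yc_sq hk) (yc_sq hk)
  obtain ⟨ρ4, hρ4, hv4⟩ := p.uu (z k * (xa 0 * Facts.c k)) (xa 0 * Facts.c k) (zsq (yc_sq hk)) (yc_sq hk)
  rw [← e3_eq p] at hv3
  rw [← t_mul_f p, ← e3_eq p] at hv4
  have he3t : e3 f ∈ Cn (tt f) := by rw [e3_eq p]; exact f_mem p _ _
  have he3sq : e3 f * e3 f = 1 := by
    rw [e3_eq p, p.h.f_mul, yc_sq hk, p.h.f_zz]
  refine Lib.KleinGen.le_of_klein (OO (Cn v)) W (odd_of_not_dvd (OO_odd _)) (tt f) (e3 f) (t_sq p) he3sq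
    (mem_Cn.1 he3t).symm ?_ ?_ ?_ ?_ ?_
  · intro h hh
    exact conj_mem (le_normalizer_OO (Cn v)) htv hh
  · intro h hh
    exact conj_mem (le_normalizer_OO (Cn v)) h3 hh
  · exact hvt.trans (hWt ▸ inf_le_left)
  · exact (claim p c U F T bal hvt htv hρ3 hv3).trans (hW3 ▸ inf_le_left)
  · exact (claim p c U F T bal hvt htv hρ4 hv4).trans (hWt3 ▸ inf_le_left)

include hWodd hWe hWte hte

/-- (1)-(3): the element `ρ` normalises `W`. -/
theorem exists_rho : ∃ ρ ∈ Cn (tt f), ρ * ee f * ρ⁻¹ = f (xa 0) (Facts.c k) ∧ ρ ∈ normalizer (W : Set G) := by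
  have hk := p.h.hk
  obtain ⟨ρ, hρ, hv⟩ := p.uu (xa 0) (Facts.c k) (xa_sq 0) (Facts.c_sq hk)
  refine ⟨ρ, hρ, hv, mem_normalizer_of ?_⟩
  have hρt : ρ * tt f * ρ⁻¹ = tt f := by rw [mem_Cn.1 hρ, mul_inv_cancel_right]
  have hxc := xc_eq hk
  have hcx : (Facts.c k : Q k) * xa 0 = z k * (xa 0 * Facts.c k) := by rw [hxc, zz_mul]
  have hc1 : e3 f ∈ Cn (f (xa 0) (Facts.c k)) := by
    rw [e3_eq p, f_mem_Cn_iff p]
    right
    constructor
    · rw [mul_assoc, hcx, ← mul_assoc, ← z_comm, mul_assoc]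
    · rw [← mul_assoc (Facts.c k), hcx, mul_assoc (z k), ← mul_assoc (z k) (z k), z_mul_z, one_mul]
  have hc2 : e3 f ∈ Cn (f (z k * xa 0) (Facts.c k)) := by
    rw [← t_mul_f p]
    have h1 := mem_Cn.1 hc1
    have h4 : e3 f * tt f = tt f * e3 f := by
      have : e3 f ∈ Cn (tt f) := by rw [e3_eq p]; exact f_mem p _ _
      exact mem_Cn.1 this
    exact mem_Cn.2 ((show Commute (e3 f) (tt f) from h4).mul_right (show Commute (e3 f) _ from h1)).eq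
  obtain ⟨ρ', hρ', hv'⟩ := p.uu (z k * xa 0) (Facts.c k) (zsq (xa_sq 0)) (Facts.c_sq hk)
  have hv1 : OO (Cn (f (xa 0) (Facts.c k))) ≤ W := core_le_W p c U F T hWt hW3 hWt3 bal hρ hv hc1
  have hv2 : OO (Cn (f (z k * xa 0) (Facts.c k))) ≤ W := core_le_W p c U F T hWt hW3 hWt3 bal hρ' hv' hc2
  have htM : tt f ∈ normalizer (W : Set G) := hte ⟨t_mem, mem_Cn.2 (ee_comm_t p).symm⟩
  have heM : ee f ∈ normalizer (W : Set G) := hte ⟨f_mem p _ _, mem_Cn.2 rfl⟩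
  have hle : W ≤ W.comap (MulAut.conj ρ).toMonoidHom := by
    refine Lib.KleinGen.le_of_klein W _ (odd_of_not_dvd hWodd) (tt f) (ee f) (t_sq p) (ee_sq p)
      (ee_comm_t p).symm ?_ ?_ ?_ ?_ ?_
    · intro h hh
      exact (mem_normalizer_iff.1 htM h).1 hh
    · intro h hh
      exact (mem_normalizer_iff.1 heM h).1 hh
    · intro g hg
      have h1 : g ∈ OO (Cn (tt f)) := by rw [← hWt]; exact hg
      have h4 := mem_OO_conj (g := ρ) h1
      rw [hρt, ← hWt] at h4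
      exact h4.1
    · intro g hg
      have h1 : g ∈ OO (Cn (ee f)) := by rw [← hWe]; exact hg
      have h4 := mem_OO_conj (g := ρ) h1
      rw [hv] at h4
      exact hv1 h4
    · intro g hg
      have h1 : g ∈ OO (Cn (tt f * ee f)) := by rw [← hWte]; exact hg
      have h4 := mem_OO_conj (g := ρ) h1
      rw [← cmul, hρt, hv, t_mul_f p] at h4
      exact hv2 h4
  intro w hw
  exact hle hw

include hts htf

/-- **The case `|F| = 3`.** -/
theorem main : Cn (tt f) ≤ normalizer (W : Set G) := by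
  have hk := p.h.hk
  obtain ⟨ρ, hρ, hρv, hρM⟩ := exists_rho p c U F T hWodd hWt hWe hWte hW3 hWt3 hte bal
  set M := normalizer (W : Set G) with hM
  set X : Subgroup H := (M.subgroupOf (Cn (tt f))).map π with hX
  have hmemX : ∀ (x : Cn (tt f)), (x : G) ∈ M → π x ∈ X := fun x hx => ⟨x, mem_subgroupOf.2 hx, rfl⟩
  have hXM : ∀ (x : Cn (tt f)), π x ∈ X → (x : G) ∈ M := by
    rintro x ⟨x', hx', hxx⟩
    have h1 : π (x'⁻¹ * x) = 1 := by rw [map_mul, map_inv, hxx, inv_mul_cancel]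
    have h4 : ((x'⁻¹ * x : Cn (tt f)) : G) ∈ M := by
      have h5 := (c.ker _).1 h1
      rw [← hWt] at h5
      exact le_normalizer h5.1
    have h6 : (x : G) = (x' : G) * ((x'⁻¹ * x : Cn (tt f)) : G) := by
      simp
    rw [h6]
    exact mul_mem (mem_subgroupOf.1 hx') h4
  suffices hXtop : ∀ h : H, h ∈ X by
    intro x hx
    exact hXM ⟨x, hx⟩ (hXtop _)
  -- `w ∈ X`
  have hwX : D.w ∈ X := by
    rw [← c.hw (s_mem p)]
    exact hmemX _ (hts ⟨s_mem p, mem_Cn.2 rfl⟩)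
  -- `φ₁(ι c)`, `φ₁(ι y)` in `X`
  have hcX : D.φ₁ (ι (Facts.c k)) ∈ X := by
    have h1 : π ⟨f (Facts.c k) 1, f_mem p _ _⟩ = D.φ₁ (ι (Facts.c k)) := by
      rw [π_f p c, map_one, map_one, mul_one]
    rw [← h1]
    refine hmemX _ (hte ⟨f_mem p _ _, ?_⟩)
    change f (Facts.c k) 1 ∈ Cn (f (Facts.c k) (Facts.c k))
    rw [f_mem_Cn_iff p]
    exact Or.inl ⟨rfl, by rw [one_mul, mul_one]⟩
  have hyX : D.φ₁ (ι (xa 0)) ∈ X := by
    have h1 : π ⟨f (xa 0) 1, f_mem p _ _⟩ = D.φ₁ (ι (xa 0)) := by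
      rw [π_f p c, map_one, map_one, mul_one]
    rw [← h1]
    refine hmemX _ (htf ⟨f_mem p _ _, ?_⟩)
    change f (xa 0) 1 ∈ Cn (f (xa 0) (xa 0))
    rw [f_mem_Cn_iff p]
    exact Or.inl ⟨rfl, by rw [one_mul, mul_one]⟩
  -- the subgroup of `L` of elements with image in `X`
  set Y : Subgroup L := X.comap D.φ₁ with hY
  have hRY : ι.range ≤ Y := by
    rintro _ ⟨q, rfl⟩
    exact gen_Q T.k1 (Y.comap ι) hcX hyX q
  have hφ₂ : ∀ a ∈ Y, D.φ₂ a ∈ X := by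
    intro a ha
    rw [← D.conj]
    exact mul_mem (mul_mem hwX ha) hwX
  -- the image of `ρ`
  obtain ⟨a, ha, haX⟩ : ∃ a, a ∉ ι.range ∧ a ∈ Y := by
    obtain ⟨a, b, g, hg, hh⟩ := c.gen (π ⟨ρ, hρ⟩)
    have hg1 := Φ_one p c F T hg
    subst hg1
    rw [mul_one, mul_one] at hh
    set xh := ι (Facts.c k) with hxh
    set yh := ι (xa 0) with hyh
    have hrel : π ⟨ρ, hρ⟩ * δ D xh = D.φ₁ yh * D.φ₂ xh * π ⟨ρ, hρ⟩ := by
      rw [δ_apply, ← π_f p c, ← π_f p c, ← map_mul, ← map_mul]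
      congr 1
      apply Subtype.ext
      change ρ * ee f = f (xa 0) (Facts.c k) * ρ
      rw [← hρv, inv_mul_cancel_right]
    have hrel' : D.φ₁ (a * xh) * D.φ₂ (b * xh) = D.φ₁ (yh * a) * D.φ₂ (xh * b) := by
      have e1 : D.φ₁ a * D.φ₂ b * δ D xh = D.φ₁ (a * xh) * D.φ₂ (b * xh) := by
        rw [δ_apply, map_mul, map_mul, mul_assoc, ← mul_assoc (D.φ₂ b), ← D.comm]
        group
      have e2 : D.φ₁ yh * D.φ₂ xh * (D.φ₁ a * D.φ₂ b) = D.φ₁ (yh * a) * D.φ₂ (xh * b) := by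
        rw [map_mul, map_mul, mul_assoc, ← mul_assoc (D.φ₂ xh), ← D.comm]
        group
      rcases hh with hh | hh
      · rw [hh, e1, e2] at hrel; exact hrel
      · rw [hh, mul_assoc (D.φ₁ a * D.φ₂ b), w_δ, ← mul_assoc, e1, ← mul_assoc, e2] at hrel
        exact mul_right_cancel hrel
    have hζc : ∀ u, D.ζ * u = u * D.ζ := ζ_comm c
    -- `b ∈ R`
    have hyx : yh * xh = D.ζ * (xh * yh) := by
      rw [hyh, hxh, ← map_mul, xc_eq hk, map_mul, map_mul, c.ι_z]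
    have hyR : yh ∈ ι.range := ⟨_, rfl⟩
    have hb : b ∈ ι.range := by
      rcases (mul_eq_iff D).1 hrel' with ⟨-, h3⟩ | ⟨-, h3⟩
      · exact T.cx b h3
      · have h5 : (yh * b) * xh = xh * (yh * b) := by
          calc (yh * b) * xh = yh * (b * xh) := by group
            _ = yh * D.ζ * xh * b := by rw [h3]; group
            _ = D.ζ * (yh * xh) * b := by rw [← hζc]; group
            _ = (D.ζ * D.ζ) * (xh * yh) * b := by rw [hyx]; group
            _ = _ := by rw [D.ζζ]; group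
        have h6 := T.cx _ h5
        have h7 : b = yh⁻¹ * (yh * b) := by group
        rw [h7]
        exact mul_mem (inv_mem hyR) h6
    refine ⟨a, ?_, ?_⟩
    · rintro ⟨q, rfl⟩
      obtain ⟨j, hj⟩ := conj_a q (Facts.qq k)
      have hj' : q * Facts.c k = a j * q := by
        rw [← hj]
        change q * a (Facts.qq k) = _
        group
      have h5 : ι (a j) = yh ∨ ι (a j) = D.ζ * yh := by
        rcases (mul_eq_iff D).1 hrel' with ⟨h3, -⟩ | ⟨h3, -⟩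
        · left
          rw [hxh, ← map_mul, hj', map_mul] at h3
          exact mul_right_cancel h3
        · right
          rw [hxh, ← map_mul, hj', map_mul, ← mul_assoc] at h3
          exact mul_right_cancel h3
      rcases h5 with h5 | h5
      · have := c.ι_inj h5
        cases this
      · rw [hyh, ← c.ι_z, ← map_mul] at h5
        have := c.ι_inj h5
        rw [Facts.z_mul_xa] at this
        cases this
    · have h5 : D.φ₂ b ∈ X := hφ₂ b (hRY hb)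
      have h6 : π ⟨ρ, hρ⟩ ∈ X := hmemX _ hρM
      change D.φ₁ a ∈ X
      rcases hh with hh | hh
      · rw [hh] at h6
        have := mul_mem h6 (inv_mem h5)
        rwa [mul_inv_cancel_right] at this
      · rw [hh] at h6
        have := mul_mem (mul_mem h6 (inv_mem hwX)) (inv_mem h5)
        rwa [mul_inv_cancel_right, mul_inv_cancel_right] at this
  have hYtop : Y = ⊤ := T.gen a ha Y hRY haX
  intro h
  obtain ⟨a, b, g, hg, hh⟩ := c.gen h
  have hg1 := Φ_one p c F T hg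
  subst hg1
  have h1 : D.φ₁ a ∈ X := by
    have : a ∈ Y := by rw [hYtop]; trivial
    exact this
  have h3 : D.φ₂ b ∈ X := hφ₂ b (by rw [hYtop]; trivial)
  rcases hh with hh | hh
  · rw [hh, mul_one]; exact mul_mem h1 h3
  · rw [hh, mul_one]; exact mul_mem (mul_mem h1 h3) hwX

end Main

end Cfsg.Agent.SylowSp4.Q3
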