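import Cfsg.Agent.SpFourOdd.Defs
import Cfsg.Agent.SylowSp4.Q3
import Cfsg.Agent.SylowSp4.OddAut
import Cfsg.Agent.SylowSp4.FrameTools

/-!
# From the structure of `C(t)` to the hypotheses of the recognition theorem

`Pat`, `Cent` with `L ≃* SL(2,F)`, `UData` and `O(C(t)) = 1` give `SpFourOdd.Pair G F` and `SpFourOdd.Hyp`.
-/

set_option autoImplicit false

namespace Cfsg.Agent.SylowSp4.Output

open QuaternionGroup Cfsg.Agent.SylowSp4.Coord Cfsg.Agent.SylowSp4.Pat Subgroup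
open Cfsg.Agent.Walter.OddCoreIn Cfsg.Agent.SylowSp4.DuoFacts Cfsg.Agent.SylowSp4.Pairs
open Cfsg.Agent.SylowSp4.Triples Cfsg.Agent.SylowSp4.FieldPart Cfsg.Agent.SylowSp4.FrameTools

/-- `SL₂(F)` -/
abbrev SL2 (F : Type*) [Field F] : Type _ := Matrix.SpecialLinearGroup (Fin 2) F

section Iso

variable {G : Type*} [Group G] [Finite G] {P : Sylow 2 G} {k : ℕ} {f : Q k → Q k → G} {s : G}
  {H L : Type*} [Group H] [Group L] {π : Cn (tt f) →* H} {D : Duo H L} {ι : Q k →* L} {Φ : Subgroup H}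

/-- `C(t) ≃* H` -/
noncomputable def πe (c : Cent k f s π D ι Φ) (hK : OO (Cn (tt f)) = ⊥) : Cn (tt f) ≃* H :=
  MulEquiv.ofBijective π ⟨(injective_iff_map_eq_one π).2 fun x hx => by
    have h1 := (c.ker x).1 hx
    rw [hK, mem_bot] at h1
    exact Subtype.ext h1, c.surj⟩

/-- the inverse of `π` -/
noncomputable def ψ (c : Cent k f s π D ι Φ) (hK : OO (Cn (tt f)) = ⊥) : H →* G :=
  (Cn (tt f)).subtype.comp (πe c hK).symm.toMonoidHom

variable (p : Pat P k f s) (c : Cent k f s π D ι Φ) (hK : OO (Cn (tt f)) = ⊥)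

omit [Finite G] in
theorem ψ_π (x : Cn (tt f)) : ψ c hK (π x) = x :=
  congrArg Subtype.val ((πe c hK).symm_apply_apply x)

omit [Finite G] in
theorem ψ_mem (h : H) : ψ c hK h ∈ Cn (tt f) := ((πe c hK).symm h).2

omit [Finite G] in
theorem ψ_inj : Function.Injective (ψ c hK) := by
  intro a b h
  exact (πe c hK).symm.injective (Subtype.ext h)

omit [Finite G] in
theorem exists_ψ {x : G} (hx : x ∈ Cn (tt f)) : ∃ h, ψ c hK h = x := ⟨π ⟨x, hx⟩, ψ_π c hK ⟨x, hx⟩⟩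

include p in
omit [Finite G] in
theorem ψ_w : ψ c hK D.w = s := by
  rw [← c.hw (s_mem p)]; exact ψ_π c hK _

omit [Finite G] in
theorem ψ_z : ψ c hK (D.φ₁ D.ζ) = tt f := by
  rw [← π_t c]; exact ψ_π c hK _

include p in
omit [Finite G] in
theorem ψ_f (α β : Q k) : ψ c hK (D.φ₁ (ι α) * D.φ₂ (ι β)) = f α β := by
  rw [← π_f p c]; exact ψ_π c hK _

end Iso

section Field

variable {G : Type*} [Group G] [Finite G] {P : Sylow 2 G} {k : ℕ} {f : Q k → Q k → G} {s : G}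
  {H L : Type*} [Group H] [Group L] {π : Cn (tt f) →* H} {D : Duo H L} {ι : Q k →* L} {Φ : Subgroup H}
  {F : Type*} [Field F]

omit [Finite G] in
theorem e_symm (c : Cent k f s π D ι Φ) (e : L ≃* SL2 F) (h2 : (2 : F) ≠ 0) : e.symm (-1) = D.ζ := by
  rw [← SLTransport.e_zeta e D.ζζ D.ζ_ne h2, e.symm_apply_apply]

/-- The pair of `SL₂(F)`'s. -/
noncomputable def pair (p : Pat P k f s) (c : Cent k f s π D ι Φ) (hK : OO (Cn (tt f)) = ⊥) (e : L ≃* SL2 F)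
    (h2 : (2 : F) ≠ 0) : SpFourOdd.Pair G F where
  φ₁ := (ψ c hK).comp (D.φ₁.comp e.symm.toMonoidHom)
  φ₂ := (ψ c hK).comp (D.φ₂.comp e.symm.toMonoidHom)
  z := tt f
  w := s
  comm := fun a b => by
    change ψ c hK (D.φ₁ (e.symm a)) * ψ c hK (D.φ₂ (e.symm b)) = ψ c hK (D.φ₂ (e.symm b)) * ψ c hK (D.φ₁ (e.symm a))
    rw [← map_mul, D.comm, map_mul]
  z₁ := by
    change ψ c hK (D.φ₁ (e.symm (-1))) = tt f
    rw [e_symm c e h2, ψ_z]
  z₂ := by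
    change ψ c hK (D.φ₂ (e.symm (-1))) = tt f
    rw [e_symm c e h2, ← D.z_eq, ψ_z]
  ker := fun a b h => by
    change ψ c hK (D.φ₁ (e.symm a)) * ψ c hK (D.φ₂ (e.symm b)) = 1 at h
    rw [← map_mul, ← map_one (ψ c hK)] at h
    rcases D.ker _ _ (ψ_inj c hK h) with ⟨h3, h4⟩ | ⟨h3, h4⟩
    · left
      exact ⟨(map_eq_one_iff e.symm e.symm.injective).1 h3, (map_eq_one_iff e.symm e.symm.injective).1 h4⟩
    · right
      rw [← e_symm c e h2] at h3 h4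
      exact ⟨e.symm.injective h3, e.symm.injective h4⟩
  ww := s_sq p
  conj := fun a => by
    have h1 : ψ c hK D.w * ψ c hK (D.φ₁ (e.symm a)) * ψ c hK D.w = ψ c hK (D.φ₂ (e.symm a)) := by
      rw [← map_mul, ← map_mul, D.conj]
    rw [ψ_w p c hK] at h1
    exact h1

variable (p : Pat P k f s) (c : Cent k f s π D ι Φ) (hK : OO (Cn (tt f)) = ⊥) (e : L ≃* SL2 F) (h2 : (2 : F) ≠ 0)

omit [Finite G] in
theorem pair_φ₁ (a : SL2 F) : (pair p c hK e h2).φ₁ a = ψ c hK (D.φ₁ (e.symm a)) := rfl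

omit [Finite G] in
theorem pair_φ₂ (a : SL2 F) : (pair p c hK e h2).φ₂ a = ψ c hK (D.φ₂ (e.symm a)) := rfl

include p c in
/-- The action of the field part: a common field automorphism of odd order. -/
theorem Φ_act [Finite F] (U : UData f) (Fs : SLFact D.ζ ι) {g : H} (hg : g ∈ Φ) :
    ∃ (τ : L → L) (r : SL2 F) (σ : F ≃+* F), Odd (orderOf σ) ∧ (∀ x, g * D.φ₁ x * g⁻¹ = D.φ₁ (τ x)) ∧
      (∀ x, g * D.φ₂ x * g⁻¹ = D.φ₂ (τ x)) ∧
      ∀ x, e (τ (e.symm x)) = r * Matrix.SpecialLinearGroup.map (σ : F →+* F) x * r⁻¹ := by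
  have hgi : g⁻¹ ∈ Φ := inv_mem hg
  obtain ⟨τ, hτ⟩ := exists_aut D.φ₁ (inj₁ D) g (c.norm₁ g hg) (fun a => by simpa using c.norm₁ g⁻¹ hgi a)
  have hgo := Φ_odd p c hg
  have hwg := w_comm_Φ p c U Fs hg
  have hτm : τ ^ orderOf g = 1 := by
    ext a
    apply inj₁ D
    rw [← aut_pow D.φ₁ g τ hτ, pow_orderOf_eq_one]
    simp
  have h1 : (MulAut.congr e τ) ^ orderOf g = 1 := by rw [← map_pow, hτm, map_one]
  obtain ⟨r, σ, hσ, hr⟩ := OddAut.exists_inn hgo h1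
  refine ⟨τ, r, σ, hσ, hτ, fun x => ?_, hr⟩
  have hwgi : D.w * g⁻¹ = g⁻¹ * D.w := by
    rw [mul_inv_eq_iff_eq_mul, mul_assoc, hwg, inv_mul_cancel_left]
  calc g * D.φ₂ x * g⁻¹ = g * (D.w * D.φ₁ x * D.w) * g⁻¹ := by rw [D.conj]
    _ = (g * D.w) * D.φ₁ x * (D.w * g⁻¹) := by group
    _ = D.w * (g * D.φ₁ x * g⁻¹) * D.w := by rw [← hwg, hwgi]; group
    _ = _ := by rw [hτ, D.conj]

/-- field `cent` -/
theorem centF [Finite F] (U : UData f) (Fs : SLFact D.ζ ι) (x : G) (hx : x * tt f = tt f * x) :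
    ∃ (d : G) (σ : F ≃+* F) (a b : SL2 F), (x = d ∨ x = d * s) ∧ Odd (orderOf σ) ∧
    (∀ y, d * (pair p c hK e h2).φ₁ y * d⁻¹ =
      (pair p c hK e h2).φ₁ (a * Matrix.SpecialLinearGroup.map (σ : F →+* F) y * a⁻¹)) ∧
    (∀ y, d * (pair p c hK e h2).φ₂ y * d⁻¹ =
      (pair p c hK e h2).φ₂ (b * Matrix.SpecialLinearGroup.map (σ : F →+* F) y * b⁻¹)) := by
  obtain ⟨h, rfl⟩ := exists_ψ c hK (mem_Cn.2 hx)
  have key : ∀ a b : L, ∀ g ∈ Φ, ∃ (σ : F ≃+* F) (a' b' : SL2 F), Odd (orderOf σ) ∧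
      (∀ y, ψ c hK (D.φ₁ a * D.φ₂ b * g) * (pair p c hK e h2).φ₁ y * (ψ c hK (D.φ₁ a * D.φ₂ b * g))⁻¹ =
      (pair p c hK e h2).φ₁ (a' * Matrix.SpecialLinearGroup.map (σ : F →+* F) y * a'⁻¹)) ∧
      (∀ y, ψ c hK (D.φ₁ a * D.φ₂ b * g) * (pair p c hK e h2).φ₂ y * (ψ c hK (D.φ₁ a * D.φ₂ b * g))⁻¹ =
      (pair p c hK e h2).φ₂ (b' * Matrix.SpecialLinearGroup.map (σ : F →+* F) y * b'⁻¹)) := by
    intro a b g hg
    obtain ⟨τ, r, σ, hσ, h3, h4, h5⟩ := Φ_act p c e U Fs hg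
    refine ⟨σ, e a * r, e b * r, hσ, fun y => ?_, fun y => ?_⟩
    · rw [pair_φ₁, pair_φ₁, ← map_mul, ← map_inv, ← map_mul]
      congr 1
      have e1 : D.φ₁ a * D.φ₂ b * g * D.φ₁ (e.symm y) * (D.φ₁ a * D.φ₂ b * g)⁻¹ = D.φ₁ (a * τ (e.symm y) * a⁻¹) := by
        calc _ = D.φ₁ a * (D.φ₂ b * (g * D.φ₁ (e.symm y) * g⁻¹)) * (D.φ₂ b)⁻¹ * (D.φ₁ a)⁻¹ := by group
          _ = D.φ₁ a * (D.φ₁ (τ (e.symm y)) * D.φ₂ b) * (D.φ₂ b)⁻¹ * (D.φ₁ a)⁻¹ := by rw [h3, ← D.comm]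
          _ = _ := by rw [map_mul, map_mul, map_inv]; group
      rw [e1]
      congr 1
      apply e.injective
      rw [e.apply_symm_apply, map_mul, map_mul, map_inv, h5]
      group
    · rw [pair_φ₂, pair_φ₂, ← map_mul, ← map_inv, ← map_mul]
      congr 1
      have e1 : D.φ₁ a * D.φ₂ b * g * D.φ₂ (e.symm y) * (D.φ₁ a * D.φ₂ b * g)⁻¹ = D.φ₂ (b * τ (e.symm y) * b⁻¹) := by
        calc _ = D.φ₁ a * (D.φ₂ b * (g * D.φ₂ (e.symm y) * g⁻¹) * (D.φ₂ b)⁻¹) * (D.φ₁ a)⁻¹ := by group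
          _ = D.φ₁ a * D.φ₂ (b * τ (e.symm y) * b⁻¹) * (D.φ₁ a)⁻¹ := by rw [h4, ← map_inv, ← map_mul, ← map_mul]
          _ = _ := by rw [D.comm, mul_inv_cancel_right]
      rw [e1]
      congr 1
      apply e.injective
      rw [e.apply_symm_apply, map_mul, map_mul, map_inv, h5]
      group
  obtain ⟨a, b, g, hg, rfl | rfl⟩ := c.gen h
  · obtain ⟨σ, a', b', h3, h4, h5⟩ := key a b g hg
    exact ⟨_, σ, a', b', Or.inl rfl, h3, h4, h5⟩
  · obtain ⟨σ, a', b', h3, h4, h5⟩ := key a b g hg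
    refine ⟨_, σ, a', b', Or.inr ?_, h3, h4, h5⟩
    have hwg := w_comm_Φ p c U Fs hg
    rw [mul_assoc _ D.w g, hwg, ← mul_assoc, map_mul (ψ c hK) _ D.w, ψ_w p c hK]

omit [Finite G] in
/-- field `cent0` -/
theorem cent0 (x : G) (h1 : ∀ a, x * (pair p c hK e h2).φ₁ a = (pair p c hK e h2).φ₁ a * x)
    (h3 : ∀ a, x * (pair p c hK e h2).φ₂ a = (pair p c hK e h2).φ₂ a * x) : x = 1 ∨ x = tt f := by
  have hx : x ∈ Cn (tt f) := by
    rw [mem_Cn]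
    have := h1 (-1)
    rwa [(pair p c hK e h2).z₁] at this
  obtain ⟨h, rfl⟩ := exists_ψ c hK hx
  have e1 : ∀ a, h * D.φ₁ a = D.φ₁ a * h := by
    intro a
    have := h1 (e a)
    rw [pair_φ₁, e.symm_apply_apply, ← map_mul, ← map_mul] at this
    exact ψ_inj c hK this
  have e3 : ∀ a, h * D.φ₂ a = D.φ₂ a * h := by
    intro a
    have := h3 (e a)
    rw [pair_φ₂, e.symm_apply_apply, ← map_mul, ← map_mul] at this
    exact ψ_inj c hK this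
  rcases c.cen h e1 e3 with h4 | h4
  · left; rw [h4, map_one]
  · right; rw [h4, ψ_z]

end Field

end Cfsg.Agent.SylowSp4.Output
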