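import Cfsg.Agent.SylowSp4.SLGen
import Cfsg.Agent.SylowSp4.Facts

/-!
# The facts on `SL(2,F)` for an abstract group `L ≃* SL(2,F)`

`L` is a group with an isomorphism `e : L ≃* SL(2,F)`, `ζ` its involution; `x`, `y` in `L` with `x² = ζ`,
`y x y⁻¹ = x⁻¹`.
-/

set_option autoImplicit false

namespace Cfsg.Agent.SylowSp4.SLTransport

open QuaternionGroup Cfsg.Agent.SylowSp4.Coord
open Cfsg.Agent.SylowSp4

/-! ### (T5) two-elements -/

section TwoElements

variable {L : Type*} [Group L] {c : L} (hcomm : ∀ g h : L, g * c = c * g → h * c = c * h → g * h = h * g)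

/-- The 2-elements commuting with `c`, when `C(c)` is abelian. -/
def twoPart : Subgroup L where
  carrier := {x | x * c = c * x ∧ ∃ m : ℕ, x ^ 2 ^ m = 1}
  one_mem' := ⟨by rw [one_mul, mul_one], 0, by rw [one_pow]⟩
  mul_mem' := by
    rintro x y ⟨hx, m, hm⟩ ⟨hy, n, hn⟩
    refine ⟨by rw [mul_assoc, hy, ← mul_assoc, hx, mul_assoc], m + n, ?_⟩
    have h : Commute x y := hcomm x y hx hy
    rw [h.mul_pow, pow_add, pow_mul, hm, one_pow, mul_comm (2 ^ m), pow_mul, hn, one_pow, one_mul]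
  inv_mem' := by
    rintro x ⟨hx, m, hm⟩
    exact ⟨Commute.inv_left (show Commute x c from hx), m, by rw [inv_pow, hm, inv_one]⟩

theorem mem_twoPart {x : L} : x ∈ twoPart hcomm ↔ x * c = c * x ∧ ∃ m : ℕ, x ^ 2 ^ m = 1 := Iff.rfl

theorem isPGroup_twoPart : IsPGroup 2 (twoPart hcomm) := by
  rintro ⟨x, hx, m, hm⟩
  exact ⟨m, Subtype.ext hm⟩

end TwoElements

/-- (T5) if `C(ι c)` is abelian and the Sylow 2-subgroups of `L` have order `|Q k|`, all 2-elements commuting with
`ι c` lie in the image of the cyclic subgroup of index two of `Q k`. -/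
theorem exists_a {L : Type*} [Group L] [Finite L] {k : ℕ} (hk : 1 ≤ k) (ι : Q k →* L) (hι : Function.Injective ι)
    (hcard : ¬ 2 ^ (k + 3) ∣ Nat.card L)
    (hcomm : ∀ g h : L, g * ι (Facts.c k) = ι (Facts.c k) * g → h * ι (Facts.c k) = ι (Facts.c k) * h → g * h = h * g)
    {g : L} (hg : g * ι (Facts.c k) = ι (Facts.c k) * g) {m : ℕ} (hm : g ^ 2 ^ m = 1) : ∃ i, g = ι (a i) := by
  have hNe : NeZero (2 ^ k) := ⟨by positivity⟩
  set T := twoPart hcomm with hT
  have hTp : IsPGroup 2 T := isPGroup_twoPart hcomm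
  -- the image of `Q k` is a Sylow 2-subgroup
  have hQcard : Nat.card ι.range = 2 ^ (k + 2) := by
    rw [← Nat.card_congr (MonoidHom.ofInjective hι).toEquiv]
    exact card_Q
  have hQp : IsPGroup 2 ι.range := IsPGroup.of_card hQcard
  obtain ⟨P, hP⟩ := hTp.exists_le_sylow
  obtain ⟨P', hP'⟩ := hQp.exists_le_sylow
  have hcardle : ∀ R : Sylow 2 L, Nat.card R = 2 ^ (k + 2) := by
    intro R
    obtain ⟨j, hj⟩ := IsPGroup.iff_card.1 R.isPGroup'
    have h1 : Nat.card ι.range ∣ Nat.card P' := Subgroup.card_dvd_of_le hP'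
    have h3 : Nat.card P' = Nat.card R := Nat.card_congr (Sylow.equiv P' R).toEquiv
    have hj' : Nat.card R = 2 ^ j := hj
    rw [hQcard, h3, hj', Nat.pow_dvd_pow_iff_le_right (by norm_num)] at h1
    have h4 : Nat.card R ∣ Nat.card L := Subgroup.card_subgroup_dvd_card _
    rw [hj'] at h4 ⊢
    have h5 : j < k + 3 := by
      by_contra hcon
      exact hcard ((pow_dvd_pow 2 (by omega)).trans h4)
    congr 1
    omega
  have hrange : (P' : Subgroup L) = ι.range := by
    symm
    apply Subgroup.eq_of_le_of_card_ge hP'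
    rw [hQcard]
    exact (hcardle P').le
  -- the image of the cyclic subgroup
  set R := (Subgroup.zpowers (a 1 : Q k)).map ι with hR
  have hRcard : Nat.card R = 2 ^ (k + 1) := by
    rw [hR, Subgroup.card_map_of_injective hι, Nat.card_zpowers, QuaternionGroup.orderOf_a_one, pow_succ, mul_comm]
  have hRT : R ≤ T := by
    rintro _ ⟨x, hx, rfl⟩
    obtain ⟨j, rfl⟩ := Subgroup.mem_zpowers_iff.1 hx
    have h1 : (a 1 : Q k) ^ j * Facts.c k = Facts.c k * (a 1 : Q k) ^ j := by
      have : Commute (a 1 : Q k) (Facts.c k) := by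
        change a 1 * Facts.c k = Facts.c k * a 1
        exact Facts.a_comm_a _ _
      exact this.zpow_left j
    refine ⟨?_, ?_⟩
    · have := congrArg ι h1
      rwa [map_mul, map_mul] at this
    · refine ⟨k + 1, ?_⟩
      have h3 : (a 1 : Q k) ^ 2 ^ (k + 1) = 1 := by
        apply orderOf_dvd_iff_pow_eq_one.1
        rw [QuaternionGroup.orderOf_a_one (n := 2 ^ k), pow_succ, mul_comm]
      change ι ((a 1 : Q k) ^ j) ^ 2 ^ (k + 1) = 1
      rw [← map_pow, ← zpow_natCast, zpow_comm, zpow_natCast, h3, one_zpow, map_one]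
  have hmem : g ∈ T := ⟨hg, m, hm⟩
  have hRT' : R = T := by
    obtain ⟨j, hj⟩ := IsPGroup.iff_card.1 hTp
    have h1 : Nat.card R ∣ Nat.card T := Subgroup.card_dvd_of_le hRT
    rw [hRcard, hj, Nat.pow_dvd_pow_iff_le_right (by norm_num)] at h1
    have h3 : Nat.card T ∣ Nat.card P := Subgroup.card_dvd_of_le hP
    rw [hj, hcardle P, Nat.pow_dvd_pow_iff_le_right (by norm_num)] at h3
    rcases Nat.lt_or_ge j (k + 2) with h4 | h4
    · apply Subgroup.eq_of_le_of_card_ge hRT
      rw [hRcard, hj]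
      exact Nat.pow_le_pow_right (by norm_num) (by omega)
    · exfalso
      -- `T` is an abelian Sylow 2-subgroup
      have h5 : T = (P : Subgroup L) := by
        apply Subgroup.eq_of_le_of_card_ge hP
        rw [hj, hcardle P]
        exact Nat.pow_le_pow_right (by norm_num) h4
      have hPcomm : ∀ x ∈ P, ∀ y ∈ P, x * y = y * x := by
        intro x hx y hy
        have hx' : x ∈ T := by rw [h5]; exact hx
        have hy' : y ∈ T := by rw [h5]; exact hy
        exact hcomm x y hx'.1 hy'.1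
      obtain ⟨u, hu⟩ := MulAction.exists_smul_eq L P P'
      have hP'comm : ∀ x ∈ P', ∀ y ∈ P', x * y = y * x := by
        intro x hx y hy
        rw [← hu, Cfsg.Agent.Lib.AutSL2.mem_smul_sylow] at hx hy
        have h6 := hPcomm _ hx _ hy
        have h7 : u⁻¹ * (x * y) * u = u⁻¹ * (y * x) * u := by
          calc u⁻¹ * (x * y) * u = (u⁻¹ * x * u) * (u⁻¹ * y * u) := by group
            _ = (u⁻¹ * y * u) * (u⁻¹ * x * u) := h6
            _ = _ := by group
        exact mul_left_cancel (mul_right_cancel h7)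
      have hx : ι (xa 0) ∈ P' := by
        have : ι (xa 0) ∈ ι.range := ⟨_, rfl⟩
        rw [← hrange] at this; exact this
      have hy : ι (Facts.c k) ∈ P' := by
        have : ι (Facts.c k) ∈ ι.range := ⟨_, rfl⟩
        rw [← hrange] at this; exact this
      have h6 := hP'comm _ hy _ hx
      rw [← map_mul, ← map_mul] at h6
      have h7 := Facts.of_a_comm_xa (hι h6)
      have h8 := Facts.c_sq hk
      rcases h7 with h7 | h7
      · rw [show (Facts.c k : Q k) = 1 from h7, one_mul] at h8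
        exact z_ne_one h8.symm
      · rw [show (Facts.c k : Q k) = z k from h7, z_mul_z] at h8
        exact z_ne_one h8.symm
  rw [← hRT'] at hmem
  obtain ⟨x, hx, rfl⟩ := hmem
  obtain ⟨j, rfl⟩ := Subgroup.mem_zpowers_iff.1 hx
  cases h : (a 1 : Q k) ^ j with
  | a i => exact ⟨i, rfl⟩
  | xa i =>
    exfalso
    have h1 : ∀ n : ℤ, ∃ i, (a 1 : Q k) ^ n = a i := by
      intro n
      have h9 : ∀ n : ℕ, ∃ i, (a 1 : Q k) ^ n = a i := by
        intro n
        exact ⟨n, QuaternionGroup.a_one_pow n⟩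
      cases n with
      | ofNat n => rw [Int.ofNat_eq_natCast, zpow_natCast]; exact h9 n
      | negSucc n =>
        rw [zpow_negSucc]
        obtain ⟨i, hi⟩ := h9 (n + 1)
        rw [hi]
        exact ⟨-i, rfl⟩
    obtain ⟨i', hi'⟩ := h1 j
    rw [hi'] at h
    cases h

/-! ### Transport to `L ≃* SL(2,F)` -/

section Transport

local notation "SL2" => Matrix.SpecialLinearGroup (Fin 2)

variable {L F : Type*} [Group L] [Field F] (e : L ≃* SL2 F) {ζ : L} (hζ : ζ * ζ = 1) (hζ1 : ζ ≠ 1)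

include hζ hζ1 in
theorem e_zeta (h2 : (2 : F) ≠ 0) : e ζ = -1 := by
  rcases Cfsg.Agent.ClassicalGeometry.SLTwoFour.eq_one_or_neg_one_of_mul_self h2 (e ζ)
    (by rw [← map_mul, hζ, map_one]) with h | h
  · exact absurd ((map_eq_one_iff e e.injective).1 h) hζ1
  · exact h

variable {x y : L} (hx : x * x = ζ) (hyx : y * x * y⁻¹ = x⁻¹)

include e hζ hζ1 hx in
theorem e_x (h2 : (2 : F) ≠ 0) : e x * e x = -1 := by
  rw [← map_mul, hx, e_zeta e hζ hζ1 h2]

include hyx in
theorem e_yx : e y * e x * (e y)⁻¹ = (e x)⁻¹ := by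
  rw [← map_mul, ← map_inv, ← map_mul, hyx, map_inv]

theorem comm_iff {g c : L} : e g * e c = e c * e g ↔ g * c = c * g := by
  rw [← map_mul, ← map_mul, e.apply_eq_iff_eq]

include e hζ hζ1 hx in
/-- (T5) -/
theorem comm_of_comm (h2 : (2 : F) ≠ 0) {g h : L} (hg : g * x = x * g) (hh : h * x = x * h) : g * h = h * g :=
  (comm_iff e).1 (SLFacts.comm_of_comm h2 (e_x e hζ hζ1 hx h2) ((comm_iff e).2 hg) ((comm_iff e).2 hh))

include e hζ hζ1 hx hyx in
/-- (T5) -/
theorem conj_eq_inv (h2 : (2 : F) ≠ 0) {g : L} (hg : g * x = x * g) : y * g * y⁻¹ = g⁻¹ := by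
  apply e.injective
  rw [map_mul, map_mul, map_inv, map_inv]
  exact SLFacts.conj_eq_inv (e_x e hζ hζ1 hx h2) (e_yx e hyx) h2 ((comm_iff e).2 hg)

include e hζ hζ1 hx hyx in
/-- Only `1`, `ζ` commute with `x` and `y`. -/
theorem eq_one_or_of_comm (h2 : (2 : F) ≠ 0) {g : L} (hg : g * x = x * g) (hy : g * y = y * g) : g = 1 ∨ g = ζ := by
  rcases SLFacts.eq_one_or_neg_one_of_comm (e_x e hζ hζ1 hx h2) (e_yx e hyx) h2 ((comm_iff e).2 hg)
    ((comm_iff e).2 hy) with h | h
  · left; exact (map_eq_one_iff e e.injective).1 h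
  · right
    rw [← e_zeta e hζ hζ1 h2] at h
    exact e.injective h

include e hζ hζ1 hx hyx in
/-- (T1) -/
theorem aut_eq_one [Finite F] (h2 : (2 : F) ≠ 0) (φ : MulAut L) (hfix : ∀ g, g * x = x * g → φ g = g)
    (hy : φ y = y) : φ = 1 := by
  have h := SLFacts.aut_eq_one h2 (e_x e hζ hζ1 hx h2) (e_yx e hyx) (e.symm.trans (φ.trans e)) (fun g hg => by
    have h1 : e.symm g * x = x * e.symm g := (comm_iff e).1 (by rw [e.apply_symm_apply]; exact hg)
    change e (φ (e.symm g)) = g
    rw [hfix _ h1, e.apply_symm_apply]) (by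
    change e (φ (e.symm (e y))) = e y
    rw [e.symm_apply_apply, hy])
  apply MulEquiv.ext
  intro g
  have h1 := DFunLike.congr_fun h (e g)
  change e (φ (e.symm (e g))) = e g at h1
  rw [e.symm_apply_apply] at h1
  exact e.injective h1

theorem closure_preimage {s : Set (SL2 F)} {t : Set L} (hst : ∀ g : L, e g ∈ s → g ∈ t)
    (h : Subgroup.closure s = ⊤) : Subgroup.closure t = ⊤ := by
  rw [eq_top_iff]
  intro g _
  have h1 : Subgroup.closure s ≤ (Subgroup.closure t).map e.toMonoidHom := by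
    rw [Subgroup.closure_le]
    intro u hu
    refine ⟨e.symm u, Subgroup.subset_closure (hst _ (by rw [e.apply_symm_apply]; exact hu)), e.apply_symm_apply u⟩
  rw [h] at h1
  obtain ⟨u, hu, hue⟩ := h1 (Subgroup.mem_top (e g))
  rw [← e.injective hue]
  exact hu

include e hζ hζ1 hx hyx in
/-- (T2) -/
theorem closure_centralizers [Fintype F] (hodd : Odd (Fintype.card F)) (h3 : Fintype.card F ≠ 3)
    (h5 : Fintype.card F ≠ 5) (h7 : Fintype.card F ≠ 7) (h9 : Fintype.card F ≠ 9) :
    Subgroup.closure ({g : L | g * x = x * g} ∪ {g : L | g * y = y * g}) = ⊤ := by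
  have h2 : (2 : F) ≠ 0 := Cfsg.Agent.ClassicalGeometry.SLTwoFour.two_ne_zero_of_odd hodd
  refine closure_preimage e ?_ (SLGen.closure_centralizers hodd h3 h5 h7 h9 (e_x e hζ hζ1 hx h2) (e_yx e hyx))
  rintro g (hg | hg)
  · exact Or.inl ((comm_iff e).1 hg)
  · exact Or.inr ((comm_iff e).1 hg)

include e hζ hζ1 hx in
/-- (T3) -/
theorem closure_commutators [Fintype F] (hodd : Odd (Fintype.card F)) (h3 : 3 < Fintype.card F) :
    Subgroup.closure {g : L | ∃ a : L, g = a * x * a⁻¹ * x⁻¹} = ⊤ := by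
  have h2 : (2 : F) ≠ 0 := Cfsg.Agent.ClassicalGeometry.SLTwoFour.two_ne_zero_of_odd hodd
  refine closure_preimage e ?_ (SLGen.closure_commutators hodd h3 (e_x e hζ hζ1 hx h2))
  rintro g ⟨a, ha⟩
  refine ⟨e.symm a, e.injective ?_⟩
  rw [ha, map_mul, map_mul, map_mul, map_inv, map_inv, e.apply_symm_apply]

include e hζ hζ1 hx in
/-- (T4) -/
theorem eq_one_of_odd [Fintype F]
    (hq : Fintype.card F = 3 ∨ Fintype.card F = 5 ∨ Fintype.card F = 7 ∨ Fintype.card F = 9)
    {g : L} (hg : g * x = x * g) (ho : Odd (orderOf g)) : g = 1 := by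
  have h2 : (2 : F) ≠ 0 := Cfsg.Agent.ClassicalGeometry.SLTwoFour.two_ne_zero_of_odd (by
    rcases hq with h | h | h | h <;> rw [h] <;> decide)
  have := SLFacts.eq_one_of_odd hq (e_x e hζ hζ1 hx h2) ((comm_iff e).2 hg) (by rwa [e.orderOf_eq])
  exact (map_eq_one_iff e e.injective).1 this

include e in
/-- (T6) -/
theorem eq_bot_of_odd [Fintype F] (hodd : Odd (Fintype.card F)) (N : Subgroup L) (hN : N.Normal)
    (ho : Odd (Nat.card N)) : N = ⊥ := by
  have h1 : (N.map e.toMonoidHom).Normal := hN.map _ e.surjective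
  have h3 : Nat.card (N.map e.toMonoidHom) = Nat.card N := Subgroup.card_map_of_injective e.injective
  have h4 := SLGen.eq_bot_of_odd hodd _ h1 (by rw [h3]; exact ho)
  rw [Subgroup.map_eq_bot_iff_of_injective _ e.injective] at h4
  exact h4

end Transport

end Cfsg.Agent.SylowSp4.SLTransport
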