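import Cfsg.Agent.SylowSp4.SLFactMain

/-!
# `L = SL(2,3)`
-/

set_option autoImplicit false

namespace Cfsg.Agent.SylowSp4.ThreeL

open QuaternionGroup Cfsg.Agent.SylowSp4.Coord
open Cfsg.Agent.SylowSp4
open Cfsg.Agent.ClassicalGeometry.SLTwoFour (two_ne_zero_of_odd eq_one_or_neg_one_of_mul_self neg_one_ne_one)

local notation "SL2" => Matrix.SpecialLinearGroup (Fin 2)

/-- The facts used on `L = SL(2,3)`: the image `R` of `Q k`, `k = 1`, is normal of index three and contains the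
centralizer of `ι c`. -/
structure Three {k : ℕ} {L : Type*} [Group L] (ι : Q k →* L) : Prop where
  k1 : k = 1
  cx : ∀ a, a * ι (Facts.c k) = ι (Facts.c k) * a → a ∈ ι.range
  comm : ∀ a b, a * b * a⁻¹ * b⁻¹ ∈ ι.range
  odd : ∀ a, a * a ∈ ι.range → a ∈ ι.range
  gen : ∀ a, a ∉ ι.range → ∀ K : Subgroup L, ι.range ≤ K → a ∈ K → K = ⊤

theorem three_of {L F : Type*} [Group L] [Finite L] [Field F] [Fintype F] (h3 : Fintype.card F = 3)
    (e : L ≃* SL2 F) {k : ℕ} (hk : 1 ≤ k) (ι : Q k →* L) (hι : Function.Injective ι) {ζ : L}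
    (hz : ι (z k) = ζ) : Three ι := by
  have hodd : Odd (Fintype.card F) := by rw [h3]; decide
  have h2 : (2 : F) ≠ 0 := two_ne_zero_of_odd hodd
  have h24 : Nat.card L = 24 := by
    rw [Nat.card_congr e.toEquiv]
    exact Cfsg.Agent.TwoFusion.SLTwoFacts.card_eq_24 h3
  have hcR : Nat.card ι.range = 2 ^ (k + 2) := by
    rw [← Nat.card_congr (MonoidHom.ofInjective hι).toEquiv]
    exact card_Q
  have hk1 : k = 1 := by
    have h1 : Nat.card ι.range ∣ Nat.card L := Subgroup.card_subgroup_dvd_card _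
    rw [hcR, h24] at h1
    by_contra hne
    have h4 : 2 ^ 4 ∣ 24 := (pow_dvd_pow 2 (by omega : 4 ≤ k + 2)).trans h1
    omega
  have hcard : ¬ 2 ^ (k + 3) ∣ Nat.card L := by
    rw [h24, hk1]; decide
  have F := SLFactMain.slFact hodd e hk ι hι hz hcard
  have hζ : ζ * ζ = 1 := by rw [← hz, ← map_mul, z_mul_z, map_one]
  have hζ1 : ζ ≠ 1 := by
    intro h
    rw [← hz] at h
    exact z_ne_one (hι (h.trans (map_one ι).symm))
  have hx : ι (Facts.c k) * ι (Facts.c k) = ζ := by rw [← map_mul, Facts.c_sq hk, hz]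
  -- the normal subgroup of index three
  obtain ⟨⟨Q', hQn, hQi, -⟩, -⟩ := Cfsg.Agent.S0257.result h3
  set R := Q'.comap e.toMonoidHom with hR
  have hRn : R.Normal := hQn.comap _
  have hRi : R.index = 3 := by
    rw [hR, Subgroup.index_comap_of_surjective _ e.surjective, hQi]
  have hRcard : Nat.card R = 8 := by
    have := R.card_mul_index
    rw [hRi, h24] at this
    omega
  have hquot : Nat.card (L ⧸ R) = 3 := hRi
  have hle : ι.range ≤ R := by
    rintro _ ⟨q, rfl⟩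
    rw [← QuotientGroup.eq_one_iff]
    have h1 : (QuotientGroup.mk (ι q) : L ⧸ R) ^ 8 = 1 := by
      have h4 : q ^ 8 = 1 := by
        have : Nat.card (Q k) = 8 := by rw [card_Q, hk1]; norm_num
        rw [← this]; exact pow_card_eq_one'
      rw [← QuotientGroup.mk_pow, ← map_pow, h4, map_one]; rfl
    have h4 : (QuotientGroup.mk (ι q) : L ⧸ R) ^ 3 = 1 := by
      rw [← hquot]; exact pow_card_eq_one'
    have h5 : (QuotientGroup.mk (ι q) : L ⧸ R) ^ Nat.gcd 8 3 = 1 := pow_gcd_eq_one.2 ⟨h1, h4⟩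
    simpa using h5
  have hRR : ι.range = R := by
    apply Subgroup.eq_of_le_of_card_ge hle
    rw [hRcard, hcR, hk1]
    norm_num
  refine ⟨hk1, ?_, ?_, ?_, ?_⟩
  · intro a ha
    obtain ⟨b, i, hbo, hb, rfl⟩ := F.decomp a ha
    have : b = 1 := SLTransport.eq_one_of_odd e hζ hζ1 hx (Or.inl h3) hb hbo
    rw [this, one_mul]
    exact ⟨_, rfl⟩
  · intro a b
    rw [hRR, ← QuotientGroup.eq_one_iff]
    have hF : Fact (Nat.Prime 3) := ⟨Nat.prime_three⟩
    have hcyc : IsCyclic (L ⧸ R) := isCyclic_of_prime_card (p := 3) hquot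
    obtain ⟨g, hg⟩ := hcyc.exists_generator
    have hcomm : ∀ u v : L ⧸ R, u * v = v * u := by
      intro u v
      obtain ⟨m, rfl⟩ := Subgroup.mem_zpowers_iff.1 (hg u)
      obtain ⟨n, rfl⟩ := Subgroup.mem_zpowers_iff.1 (hg v)
      rw [← zpow_add, ← zpow_add, add_comm]
    change (QuotientGroup.mk a * QuotientGroup.mk b * (QuotientGroup.mk a)⁻¹ * (QuotientGroup.mk b)⁻¹ : L ⧸ R) = 1
    rw [hcomm (QuotientGroup.mk a) (QuotientGroup.mk b), mul_inv_cancel_right, mul_inv_cancel]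
  · intro a ha
    rw [hRR] at ha ⊢
    rw [← QuotientGroup.eq_one_iff] at ha ⊢
    have h1 : (QuotientGroup.mk a : L ⧸ R) ^ 2 = 1 := by rw [sq]; exact ha
    have h4 : (QuotientGroup.mk a : L ⧸ R) ^ 3 = 1 := by
      rw [← hquot]; exact pow_card_eq_one'
    have h5 : (QuotientGroup.mk a : L ⧸ R) ^ Nat.gcd 2 3 = 1 := pow_gcd_eq_one.2 ⟨h1, h4⟩
    simpa using h5
  · intro a ha K hK haK
    rw [hRR] at ha hK
    have h1 : K.index ∣ 3 := hRi ▸ Subgroup.index_dvd_of_le hK
    rcases (Nat.dvd_prime Nat.prime_three).1 h1 with h4 | h4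
    · exact Subgroup.index_eq_one.1 h4
    · exfalso
      have h5 : R = K := by
        apply Subgroup.eq_of_le_of_card_ge hK
        have h6 := K.card_mul_index
        rw [h4, h24] at h6
        omega
      exact ha (h5 ▸ haK)

end Cfsg.Agent.SylowSp4.ThreeL
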