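import Cfsg.Agent.SylowSp4.Pairs

/-!
# Triples of commuting `t`-type involutions
-/

set_option autoImplicit false

namespace Cfsg.Agent.SylowSp4.Triples

open QuaternionGroup Cfsg.Agent.SylowSp4.Coord Cfsg.Agent.SylowSp4.Pat Subgroup
open Cfsg.Agent.Walter.OddCoreIn Cfsg.Agent.SylowSp4.DuoFacts Cfsg.Agent.SylowSp4.Pairs

variable {G : Type*} [Group G] {P : Sylow 2 G} {k : ℕ} {f : Q k → Q k → G} {s : G}

section

variable (p : Pat P k f s)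

include p

theorem s_comm_diag (α : Q k) : s * f α α = f α α * s := p.h.s_f α α

/-- The involutions `t s (α, α)`, `α ^ 2 = z`, are conjugate to `t`. -/
theorem conj_tsf {α : Q k} (hα : α * α = z k) : IsConj (tt f) (tt f * s * f α α) := by
  have h1 := p.t_conj (z k * α)
  have h2 : tt f * s * f α α = f (z k * α) (z k * α)⁻¹ * s := by
    rw [mul_assoc, s_comm_diag p, ← mul_assoc, p.h.f_mul, one_mul, inv_of_sq_z (Facts.mul_sq_z hα), zz_mul]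
  rwa [← h2] at h1

theorem ee_sq : ee f * ee f = 1 := by
  have hk := p.h.hk
  rw [p.h.f_mul, Facts.c_sq hk, p.h.f_zz]

theorem ee_mem : ee f ∈ P := p.h.f_mem _ _

theorem ee_ne_one : ee f ≠ 1 := by
  intro h
  rw [← p.h.f_one] at h
  rcases p.h.f_inj _ _ _ _ h with ⟨h, -⟩ | ⟨h, -⟩
  · exact Facts.ne_one_of_sq_z (Facts.c_sq p.h.hk) h
  · rw [mul_one] at h
    exact Facts.ne_z_of_sq_z (Facts.c_sq p.h.hk) h

theorem ee_comm_t : ee f * tt f = tt f * ee f := (p.h.t_comm (ee_mem p)).symm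

end

variable {H L : Type*} [Group H] [Group L] {π : Cn (tt f) →* H} {D : Duo H L} {ι : Q k →* L} {Φ : Subgroup H}
  (p : Pat P k f s) (c : Cent k f s π D ι Φ)

include p c

theorem π_f (α β : Q k) : π ⟨f α β, f_mem p α β⟩ = D.φ₁ (ι α) * D.φ₂ (ι β) := c.hf α β _

theorem Φ_comm_f {g : H} (hg : g ∈ Φ) (α β : Q k) :
    g * (D.φ₁ (ι α) * D.φ₂ (ι β)) = D.φ₁ (ι α) * D.φ₂ (ι β) * g := by
  rw [← mul_assoc, c.fix₁ g hg, mul_assoc, c.fix₂ g hg, ← mul_assoc]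

/-- All `ι α`, `α ^ 2 = z`, are conjugate in `L` up to `ζ`. -/
theorem conj_L {α : Q k} (hα : α * α = z k) :
    ∃ a, a * ι (Facts.c k) * a⁻¹ = ι α ∨ a * ι (Facts.c k) * a⁻¹ = D.ζ * ι α := by
  obtain ⟨c0, hc0, hcc⟩ := p.uu α α hα hα
  set h := π ⟨c0, hc0⟩ with hh
  have h1 : h * δ D (ι (Facts.c k)) * h⁻¹ = δ D (ι α) := by
    rw [δ_apply, δ_apply, ← π_f p c, ← π_f p c, hh, ← map_mul, ← map_inv, ← map_mul]
    congr 1
    exact Subtype.ext hcc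
  have e : ∀ a b : L, D.φ₁ a * D.φ₂ b * δ D (ι (Facts.c k)) * (D.φ₁ a * D.φ₂ b)⁻¹ =
      D.φ₁ (a * ι (Facts.c k) * a⁻¹) * D.φ₂ (b * ι (Facts.c k) * b⁻¹) := by
    intro a b
    rw [δ_apply]
    have h3 : (D.φ₁ a * D.φ₂ b)⁻¹ = D.φ₁ a⁻¹ * D.φ₂ b⁻¹ := by rw [D.comm, mul_inv_rev, map_inv, map_inv]
    rw [h3]
    calc D.φ₁ a * D.φ₂ b * (D.φ₁ (ι (Facts.c k)) * D.φ₂ (ι (Facts.c k))) * (D.φ₁ a⁻¹ * D.φ₂ b⁻¹)
        = D.φ₁ a * (D.φ₂ b * D.φ₁ (ι (Facts.c k))) * (D.φ₂ (ι (Facts.c k)) * D.φ₁ a⁻¹) * D.φ₂ b⁻¹ := by group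
      _ = D.φ₁ a * (D.φ₁ (ι (Facts.c k)) * D.φ₂ b) * (D.φ₁ a⁻¹ * D.φ₂ (ι (Facts.c k))) * D.φ₂ b⁻¹ := by
        rw [D.comm, D.comm]
      _ = D.φ₁ a * D.φ₁ (ι (Facts.c k)) * (D.φ₂ b * D.φ₁ a⁻¹) * D.φ₂ (ι (Facts.c k)) * D.φ₂ b⁻¹ := by group
      _ = D.φ₁ a * D.φ₁ (ι (Facts.c k)) * (D.φ₁ a⁻¹ * D.φ₂ b) * D.φ₂ (ι (Facts.c k)) * D.φ₂ b⁻¹ := by
        rw [D.comm]
      _ = _ := by rw [map_mul, map_mul, map_mul, map_mul]; group
  obtain ⟨a, b, g, hg, h2 | h2⟩ := c.gen h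
  · have h3 : h * δ D (ι (Facts.c k)) * h⁻¹ = D.φ₁ a * D.φ₂ b * δ D (ι (Facts.c k)) * (D.φ₁ a * D.φ₂ b)⁻¹ := by
      have h4 : g * δ D (ι (Facts.c k)) * g⁻¹ = δ D (ι (Facts.c k)) := by
        rw [δ_apply, Φ_comm_f p c hg, mul_inv_cancel_right]
      rw [h2]
      calc _ = D.φ₁ a * D.φ₂ b * (g * δ D (ι (Facts.c k)) * g⁻¹) * (D.φ₁ a * D.φ₂ b)⁻¹ := by group
        _ = _ := by rw [h4]
    rw [h1, e, δ_apply] at h3
    rcases (mul_eq_iff D).1 h3.symm with ⟨h5, -⟩ | ⟨h5, -⟩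
    · exact ⟨a, Or.inl h5⟩
    · exact ⟨a, Or.inr h5⟩
  · have h3 : h * δ D (ι (Facts.c k)) * h⁻¹ = D.φ₁ a * D.φ₂ b * δ D (ι (Facts.c k)) * (D.φ₁ a * D.φ₂ b)⁻¹ := by
      have h4 : g * δ D (ι (Facts.c k)) * g⁻¹ = δ D (ι (Facts.c k)) := by
        rw [δ_apply, Φ_comm_f p c hg, mul_inv_cancel_right]
      have h5 : D.w * δ D (ι (Facts.c k)) * D.w⁻¹ = δ D (ι (Facts.c k)) := by
        rw [w_δ, mul_inv_cancel_right]
      rw [h2]
      calc _ = D.φ₁ a * D.φ₂ b * (D.w * (g * δ D (ι (Facts.c k)) * g⁻¹) * D.w⁻¹) * (D.φ₁ a * D.φ₂ b)⁻¹ := by group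
        _ = _ := by rw [h4, h5]
    rw [h1, e, δ_apply] at h3
    rcases (mul_eq_iff D).1 h3.symm with ⟨h5, -⟩ | ⟨h5, -⟩
    · exact ⟨a, Or.inl h5⟩
    · exact ⟨a, Or.inr h5⟩

/-- `e` is conjugate to every `(α, α)` in `C(t) ∩ C(s)`. -/
theorem conj_e [Finite G] {α : Q k} (hα : α * α = z k) :
    ∃ x ∈ Cn (tt f), x ∈ Cn s ∧ x * ee f * x⁻¹ = f α α := by
  obtain ⟨a, ha⟩ := conj_L p c hα
  obtain ⟨x, hx, hxs⟩ := lift_s p c (h := δ D a) (w_δ D a).symm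
  have hδ : δ D (a * ι (Facts.c k) * a⁻¹) = δ D (ι α) := by
    rcases ha with ha | ha
    · rw [ha]
    · rw [ha, map_mul, (δ_eq_one_iff D).2 (Or.inr rfl), one_mul]
  have hee : ee f ∈ Cn (tt f) := f_mem p _ _
  -- the two involutions
  have h1 : (x * ee f * (x : G)⁻¹) * (x * ee f * (x : G)⁻¹) = 1 := by
    have : (x * ee f * (x : G)⁻¹) * (x * ee f * (x : G)⁻¹) = x * (ee f * ee f) * (x : G)⁻¹ := by group
    rw [this, ee_sq p]; group
  have h2 : f α α * f α α = 1 := by rw [p.h.f_mul, hα, p.h.f_zz]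
  have hyt : x * ⟨ee f, hee⟩ * x⁻¹ * ⟨f α α, f_mem p α α⟩ ∈ π.ker := by
    rw [MonoidHom.mem_ker, map_mul, map_mul, map_mul, map_inv, hx, π_f p c, π_f p c, ← δ_apply, ← δ_apply,
      ← map_inv, ← map_mul, ← map_mul, hδ, ← map_mul, δ_eq_one_iff, ← map_mul, hα, c.ι_z]
    exact Or.inr rfl
  have hodd : Odd (orderOf ((x * ee f * (x : G)⁻¹) * f α α)) := by
    have h4 : orderOf (⟨_, hyt⟩ : π.ker) ∣ Nat.card π.ker := orderOf_dvd_natCard _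
    rw [Subgroup.orderOf_mk] at h4
    have h5 := (card_ker c).of_dvd_nat h4
    rwa [← Subgroup.orderOf_coe] at h5
  obtain ⟨d, hd, hd1⟩ := Lift.exists_conj_of_odd h1 h2 hodd
  have hes : ee f ∈ Cn s := by rw [mem_Cn]; exact (s_comm_diag p _).symm
  have hfs : f α α ∈ Cn s := by rw [mem_Cn]; exact (s_comm_diag p _).symm
  have hds : d ∈ Cn s := (zpowers_le.2 (mul_mem (mul_mem (mul_mem hxs hes) (inv_mem hxs)) hfs)) hd
  have hdt : d ∈ Cn (tt f) :=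
    (zpowers_le.2 (mul_mem (mul_mem (mul_mem x.2 hee) (inv_mem x.2)) (f_mem p α α))) hd
  refine ⟨d⁻¹ * x, mul_mem (inv_mem hdt) x.2, mul_mem (inv_mem hds) hxs, ?_⟩
  rw [← hd1]; group

/-- All triples of pairwise commuting distinct conjugates of `t` are conjugate to `(t, s, t s e)`. -/
theorem triples [Finite G] {a b d : G} (ha : IsConj (tt f) a) (hb : IsConj (tt f) b) (hd : IsConj (tt f) d)
    (hab : a * b = b * a) (had : a * d = d * a) (hbd : b * d = d * b) (nab : a ≠ b) (nad : a ≠ d) (nbd : b ≠ d) :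
    ∃ g, g * a * g⁻¹ = tt f ∧ g * b * g⁻¹ = s ∧ g * d * g⁻¹ = tt f * s * ee f := by
  obtain ⟨g, hga, hgb⟩ := pairs p ha hb hab nab
  set d1 := g * d * g⁻¹ with hd1
  have h1t : d1 ∈ Cn (tt f) := by rw [← hga]; exact mem_Cn_conj (mem_Cn.2 had.symm)
  have h1s : d1 ∈ Cn s := by rw [← hgb]; exact mem_Cn_conj (mem_Cn.2 hbd.symm)
  have h1c : IsConj (tt f) d1 := hd.trans (isConj_iff.2 ⟨g, rfl⟩)
  obtain ⟨m, hmt, hms, hm⟩ := conj_into_ts p (isPGroup_zpowers_of_sq (sq_of_conj p h1c)) (zpowers_le.2 h1t)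
    (zpowers_le.2 h1s)
  have hm1 := hm d1 (mem_zpowers d1)
  set d2 := m * d1 * m⁻¹ with hd2
  have h2t : d2 ∈ Cn (tt f) := mul_mem (mul_mem hmt h1t) (inv_mem hmt)
  have h2s : d2 ∈ Cn s := mul_mem (mul_mem hms h1s) (inv_mem hms)
  have h2c : IsConj (tt f) d2 := h1c.trans (isConj_iff.2 ⟨m, rfl⟩)
  have emt : m * tt f * m⁻¹ = tt f := by rw [mem_Cn.1 hmt, mul_inv_cancel_right]
  have ems : m * s * m⁻¹ = s := by rw [mem_Cn.1 hms, mul_inv_cancel_right]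
  have n1 : d2 ≠ tt f := by
    intro h
    apply nad
    have h3 : m * (g * d * g⁻¹) * m⁻¹ = m * (g * a * g⁻¹) * m⁻¹ := by rw [hga, emt, ← hd1, ← hd2, h]
    exact (mul_left_cancel (mul_right_cancel (mul_left_cancel (mul_right_cancel h3)))).symm
  have n2 : d2 ≠ s := by
    intro h
    apply nbd
    have h3 : m * (g * d * g⁻¹) * m⁻¹ = m * (g * b * g⁻¹) * m⁻¹ := by rw [hgb, ems, ← hd1, ← hd2, h]
    exact (mul_left_cancel (mul_right_cancel (mul_left_cancel (mul_right_cancel h3)))).symm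
  rcases (p.t_iff hm1 (sq_of_conj p h2c) (ne_one_of_conj p h2c)).1 h2c with h | ⟨β, h⟩
  · exact absurd h n1
  · -- `f β β⁻¹` commutes with `s`
    have h3 : f β β⁻¹ * s = s * f β β⁻¹ := by
      have h4 := mem_Cn.1 h2s
      rw [h, mul_assoc, p.h.s_s, mul_one, ← mul_assoc] at h4
      calc f β β⁻¹ * s = (s * f β β⁻¹ * s) * s := by rw [← h4]
        _ = s * f β β⁻¹ := by rw [mul_assoc, p.h.s_s, mul_one]
    have h5 : β * β = 1 ∨ β * β = z k := by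
      rcases (Facts.comm_s_iff p.h).1 h3 with h6 | h6
      · left
        nth_rewrite 2 [h6]
        rw [mul_inv_cancel]
      · right
        nth_rewrite 1 [h6]
        rw [inv_mul_cancel_right]
    rcases h5 with h5 | h5
    · exfalso
      rcases eq_of_sq_one h5 with rfl | rfl
      · apply n2
        rw [h, inv_one, p.h.f_one, one_mul]
      · apply n2
        rw [h, z_inv, p.h.f_zz, one_mul]
    · have h7 : d2 = tt f * s * f β β := by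
        rw [h, inv_of_sq_z h5, ← Facts.f_congr_z p.h, mul_assoc, s_comm_diag p, ← mul_assoc, p.h.f_mul, one_mul]
      obtain ⟨x, hxt, hxs, hx⟩ := conj_e p c h5
      have ext : x⁻¹ * tt f * x = tt f := by
        have := mem_Cn.1 hxt
        rw [mul_assoc, ← this, inv_mul_cancel_left]
      have exs : x⁻¹ * s * x = s := by
        have := mem_Cn.1 hxs
        rw [mul_assoc, ← this, inv_mul_cancel_left]
      refine ⟨x⁻¹ * m * g, ?_, ?_, ?_⟩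
      · calc x⁻¹ * m * g * a * (x⁻¹ * m * g)⁻¹ = x⁻¹ * (m * (g * a * g⁻¹) * m⁻¹) * x := by group
          _ = tt f := by rw [hga, emt, ext]
      · calc x⁻¹ * m * g * b * (x⁻¹ * m * g)⁻¹ = x⁻¹ * (m * (g * b * g⁻¹) * m⁻¹) * x := by group
          _ = s := by rw [hgb, ems, exs]
      · calc x⁻¹ * m * g * d * (x⁻¹ * m * g)⁻¹ = x⁻¹ * (m * (g * d * g⁻¹) * m⁻¹) * x := by group
          _ = x⁻¹ * (tt f * s * f β β) * x := by rw [← hd1, ← hd2, h7]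
          _ = (x⁻¹ * tt f * x) * (x⁻¹ * s * x) * (x⁻¹ * f β β * x) := by group
          _ = tt f * s * ee f := by rw [ext, exs, ← hx]; group

end Cfsg.Agent.SylowSp4.Triples
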