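import Cfsg.Agent.SylowSp4.TwoCtx

/-!
# Automorphisms of the model `M64`

`sw : s → t s`, `cyc : i → j → ij → i` and `tr : j → ij → -j` (on both factors) preserve `Ctx`.
-/

set_option autoImplicit false

namespace Cfsg.Agent.SylowSp4.TwoAut

open Subgroup Cfsg.Agent.SylowSp4.AltModel Cfsg.Agent.SylowSp4.TwoBase Cfsg.Agent.SylowSp4.TwoCtx

theorem q_cyc : ∀ a b a' b' : ZMod 2, b * b' + (a + b) * (a' + b') + (a + b) * b' = a * a' + b * b' + b * a' := by
  decide

theorem q_tr : ∀ a b a' b' : ZMod 2, (a + b) * (a' + b') + b * b' + b * (a' + b') + (a * b + a' * b') =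
    (a * a' + b * b' + b * a') + (a + a') * (b + b') := by decide

/-- `s → t s` -/
def sw : M64 →* M64 where
  toFun x := ⟨x.a, x.b, x.c, x.d, if x.m then x.e + 1 else x.e, x.m⟩
  map_one' := rfl
  map_mul' := by
    have h2 : (1 + 1 : ZMod 2) = 0 := by decide
    rintro ⟨a, b, c, d, e, m⟩ ⟨a', b', c', d', e', m'⟩
    cases m <;> cases m' <;> simp only [M64.mul_false, M64.mul_true, M64.mk.injEq, Bool.not_true, Bool.not_false,
      if_true, if_false, and_true, true_and, Bool.false_eq_true] <;>
      first | ring1 | linear_combination h2 | linear_combination -h2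

/-- `i → j → ij → i` on both factors -/
def cyc : M64 →* M64 where
  toFun x := ⟨x.b, x.a + x.b, x.d, x.c + x.d, x.e, x.m⟩
  map_one' := rfl
  map_mul' := by
    rintro ⟨a, b, c, d, e, m⟩ ⟨a', b', c', d', e', m'⟩
    have h1 := q_cyc a b a' b'
    have h2 := q_cyc c d c' d'
    have h3 := q_cyc a b c' d'
    have h4 := q_cyc c d a' b'
    cases m <;> simp only [M64.mul_false, M64.mul_true, M64.mk.injEq, and_true, true_and]
    · refine ⟨by ring, by ring, by linear_combination -h1 - h2⟩
    · refine ⟨by ring, by ring, by linear_combination -h3 - h4⟩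

/-- `j → ij → -j` on both factors -/
def tr : M64 →* M64 where
  toFun x := ⟨x.a + x.b, x.b, x.c + x.d, x.d, x.e + x.a * x.b + x.c * x.d, x.m⟩
  map_one' := rfl
  map_mul' := by
    rintro ⟨a, b, c, d, e, m⟩ ⟨a', b', c', d', e', m'⟩
    have h1 := q_tr a b a' b'
    have h2 := q_tr c d c' d'
    have h3 := q_tr a b c' d'
    have h4 := q_tr c d a' b'
    cases m <;> simp only [M64.mul_false, M64.mul_true, M64.mk.injEq, and_true, true_and]
    · refine ⟨by ring, by ring, by linear_combination -h1 - h2⟩
    · refine ⟨by ring, by ring, by linear_combination -h3 - h4⟩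

/-- the admissible automorphisms -/
structure Adm (φ : M64 →* M64) : Prop where
  inj : Function.Injective φ
  t : φ t = t
  s : φ s = s ∨ φ s = AltModel.t * AltModel.s
  R : ∀ x, InR (φ x) ↔ InR x
  Q1 : ∀ x, InQ1 (φ x) ↔ InQ1 x
  Q2 : ∀ x, InQ2 (φ x) ↔ InQ2 x

theorem adm_sw : Adm sw where
  inj := by
    rw [injective_iff_map_eq_one]
    decide +kernel
  t := by decide +kernel
  s := by decide +kernel
  R := by decide +kernel
  Q1 := by decide +kernel
  Q2 := by decide +kernel

theorem adm_cyc : Adm cyc where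
  inj := by
    rw [injective_iff_map_eq_one]
    decide +kernel
  t := by decide +kernel
  s := by decide +kernel
  R := by decide +kernel
  Q1 := by decide +kernel
  Q2 := by decide +kernel

theorem adm_tr : Adm tr where
  inj := by
    rw [injective_iff_map_eq_one]
    decide +kernel
  t := by decide +kernel
  s := by decide +kernel
  R := by decide +kernel
  Q1 := by decide +kernel
  Q2 := by decide +kernel

theorem Adm.surj {φ : M64 →* M64} (h : Adm φ) : Function.Surjective φ :=
  Finite.surjective_of_injective h.inj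

/-- admissible automorphisms preserve `Ctx` -/
theorem Adm.ctx {φ : M64 →* M64} (h : Adm φ) {G : Type*} [Group G] {P : Sylow 2 G} {F : M64 →* G} {K : Subgroup G}
    (C : Ctx P F K) : Ctx P (F.comp φ) K where
  mod := by
    refine ⟨C.mod.inj.comp h.inj, ?_⟩
    rw [MonoidHom.range_comp, MonoidHom.range_eq_top.2 h.surj, ← MonoidHom.range_eq_map]
    exact C.mod.range
  comm := by
    rw [MonoidHom.comp_apply, h.t]
    exact C.comm
  normal := by
    rw [MonoidHom.comp_apply, h.t]
    exact C.normal
  mem_or := by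
    intro c hc
    rw [MonoidHom.comp_apply, h.t] at hc
    rw [MonoidHom.comp_apply]
    rcases C.mem_or c hc with h1 | h1
    · exact Or.inl h1
    · rcases h.s with h2 | h2
      · rw [h2]; exact Or.inr h1
      · right
        rw [h2, map_mul, ← mul_assoc, hc, mul_assoc]
        exact K.mul_mem ((C.mem_iff _).2 (by decide +kernel)) h1
  mem_iff := by
    intro x
    rw [MonoidHom.comp_apply, C.mem_iff, h.R]
  no_fusion := by
    intro x hx hxR c hc y hy
    rw [MonoidHom.comp_apply, h.t] at hc
    exact C.no_fusion (φ x) (by rw [← map_mul, hx, map_one]) (by rw [h.R]; exact hxR) c hc (φ y) ((h.R y).2 hy)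
  closed₁ := by
    intro g hg x y hx hxy
    exact (h.Q1 y).1 (C.closed₁ g hg _ _ ((h.Q1 x).2 hx) hxy)
  closed₂ := by
    intro g hg x y hx hxy
    exact (h.Q2 y).1 (C.closed₂ g hg _ _ ((h.Q2 x).2 hx) hxy)

end Cfsg.Agent.SylowSp4.TwoAut
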