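import Mathlib
import Cfsg.Agent.S0205
import Cfsg.Agent.SignalizersComponents.SolFunctorTwo
import Cfsg.Agent.SignalizersComponents.CoprimeGen

/-!
# `2`-balanced families on an elementary abelian group of order at least `16`

`O : G → Subgroup G` is a family of subgroups of odd order with `O a ≤ C(a)` for the elements `a ≠ 1` of the elementary
abelian `2`-group `E`, such that `O a ∩ O b ∩ O (a b) ∩ C(c) ≤ O c`. The groups `ww a = ⟨O a ∩ O b ∩ O (a b) : b⟩` form a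
balanced signalizer functor.
-/

set_option autoImplicit false

namespace Cfsg.Agent.SylowSp4.TwoBal

open Subgroup

variable {G : Type*} [Group G]

/-- A `2`-balanced family of subgroups of odd order. -/
structure Bal (E : Subgroup G) (O : G → Subgroup G) : Prop where
  comm : ∀ a ∈ E, ∀ b ∈ E, a * b = b * a
  sq : ∀ a ∈ E, a * a = 1
  card : 2 ^ 4 ≤ Nat.card E
  cent : ∀ a ∈ E, a ≠ 1 → O a ≤ centralizer {a}
  odd : ∀ a ∈ E, a ≠ 1 → ¬ 2 ∣ Nat.card (O a)
  inv : ∀ a ∈ E, a ≠ 1 → ∀ b ∈ E, ∀ x ∈ O a, b * x * b⁻¹ ∈ O a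
  bal : ∀ a ∈ E, ∀ b ∈ E, ∀ c ∈ E, a ≠ 1 → b ≠ 1 → a ≠ b → c ≠ 1 →
    O a ⊓ O b ⊓ O (a * b) ⊓ centralizer {c} ≤ O c

/-- `Δ(⟨a, b⟩)` -/
def dl (O : G → Subgroup G) (a b : G) : Subgroup G := O a ⊓ O b ⊓ O (a * b)

/-- `⟨Δ(⟨a, b⟩) : b⟩` -/
def ww (E : Subgroup G) (O : G → Subgroup G) (a : G) : Subgroup G :=
  ⨆ b : {b : G // b ∈ E ∧ b ≠ 1 ∧ b ≠ a}, dl O a b

/-- `⟨ww a : a⟩` -/
def tt (E : Subgroup G) (O : G → Subgroup G) : Subgroup G :=
  ⨆ a : {a : G // a ∈ E ∧ a ≠ 1}, ww E O a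

theorem mem_cent {a x : G} : x ∈ centralizer ({a} : Set G) ↔ a * x = x * a :=
  mem_centralizer_singleton_iff.trans eq_comm

/-- A subgroup of index two which does not contain `u`. -/
theorem exists_compl [Finite G] {E : Subgroup G} (hc : ∀ a ∈ E, ∀ b ∈ E, a * b = b * a)
    (hs : ∀ a ∈ E, a * a = 1) {u : G} (hu : u ∈ E) (hu1 : u ≠ 1) :
    ∃ A ≤ E, u ∉ A ∧ (∀ x ∈ E, x ∈ A ∨ u * x ∈ A) ∧ 2 * Nat.card A = Nat.card E := by
  classical
  obtain ⟨A, ⟨hAE, huA⟩, hmax⟩ := (Set.toFinite {A : Subgroup G | A ≤ E ∧ u ∉ A}).exists_maximal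
    ⟨⊥, bot_le, fun h => hu1 (mem_bot.1 h)⟩
  have key : ∀ x ∈ E, x ∈ A ∨ u * x ∈ A := by
    intro x hx
    by_contra hcon
    push Not at hcon
    obtain ⟨h1, h2⟩ := hcon
    -- the group `A ∪ A x`
    let B : Subgroup G :=
      { carrier := {y | y ∈ A ∨ x * y ∈ A}
        one_mem' := Or.inl A.one_mem
        mul_mem' := by
          rintro a b (ha | ha) (hb | hb)
          · exact Or.inl (A.mul_mem ha hb)
          · right
            have : x * (a * b) = a * (x * b) := by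
              rw [← mul_assoc, hc x hx a (hAE ha), mul_assoc]
            rw [this]; exact A.mul_mem ha hb
          · right
            rw [← mul_assoc]; exact A.mul_mem ha hb
          · left
            have h3 : (x * a) * (x * b) = a * b := by
              have ha' : x * a ∈ E := hAE ha
              rw [← mul_assoc, hc (x * a) ha' x hx, ← mul_assoc x x a, hs x hx, one_mul]
            rw [← h3]; exact A.mul_mem ha hb
        inv_mem' := by
          rintro a (ha | ha)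
          · exact Or.inl (A.inv_mem ha)
          · right
            have haE : a ∈ E := by
              have : a = x * (x * a) := by rw [← mul_assoc, hs x hx, one_mul]
              rw [this]; exact E.mul_mem hx (hAE ha)
            have h3 : a⁻¹ = a := inv_eq_of_mul_eq_one_left (hs a haE)
            rw [h3]; exact ha }
    have hBE : B ≤ E := by
      rintro y (hy | hy)
      · exact hAE hy
      · have : y = x * (x * y) := by rw [← mul_assoc, hs x hx, one_mul]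
        rw [this]; exact E.mul_mem hx (hAE hy)
    have hAB : A ≤ B := fun y hy => Or.inl hy
    have hxB : x ∈ B := Or.inr (by rw [hs x hx]; exact A.one_mem)
    have huB : u ∉ B := by
      rintro (h | h)
      · exact huA h
      · apply h2
        rw [hc u hu x hx]; exact h
    have := hmax ⟨hBE, huB⟩ hAB
    exact h1 (this hxB)
  refine ⟨A, hAE, huA, key, ?_⟩
  have hidx : A.relIndex E = 2 := by
    rw [relIndex, index_eq_two_iff]
    refine ⟨⟨u, hu⟩, fun b => ?_⟩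
    rw [mem_subgroupOf, mem_subgroupOf]
    rcases key b b.2 with h | h
    · right
      refine ⟨h, fun h' => huA ?_⟩
      have : u = (b : G)⁻¹ * ((b : G) * u) := by group
      rw [this]
      exact A.mul_mem (A.inv_mem h) h'
    · left
      refine ⟨?_, fun h' => huA ?_⟩
      · show (b : G) * u ∈ A
        rw [hc b b.2 u hu]; exact h
      · have : u = (u * (b : G)) * (b : G)⁻¹ := by group
        rw [this]
        exact A.mul_mem h (A.inv_mem h')
  have h2 := relIndex_mul_relIndex (⊥ : Subgroup G) A E bot_le hAE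
  rw [relIndex_bot_left, relIndex_bot_left, hidx] at h2
  rw [← h2, mul_comm]

namespace Bal

variable {E : Subgroup G} {O : G → Subgroup G} (h : Bal E O)

include h

theorem mul_ne_one {a b : G} (hb : b ∈ E) (hab : a ≠ b) : a * b ≠ 1 := fun h1 =>
  hab ((mul_eq_one_iff_eq_inv.1 h1).trans (inv_eq_of_mul_eq_one_left (h.sq b hb)))

theorem mul_mul_self {a b : G} (ha : a ∈ E) : a * (a * b) = b := by
  rw [← mul_assoc, h.sq a ha, one_mul]

theorem mul_ne_left {a b : G} (hb1 : b ≠ 1) : a * b ≠ a := fun h1 => hb1 (mul_eq_left.1 h1)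

theorem dl_le_cent {a b : G} (ha : a ∈ E) (ha1 : a ≠ 1) : dl O a b ≤ centralizer {a} :=
  (inf_le_left.trans inf_le_left).trans (h.cent a ha ha1)

theorem dl_mul {a b : G} (ha : a ∈ E) : dl O a (a * b) = dl O a b := by
  rw [dl, dl, h.mul_mul_self ha, inf_right_comm]

theorem dl_comm {a b : G} (ha : a ∈ E) (hb : b ∈ E) : dl O a b = dl O b a := by
  rw [dl, dl, h.comm b hb a ha, inf_comm (O a) (O b)]

theorem dl_inv {a b : G} (ha : a ∈ E) (hb : b ∈ E) (ha1 : a ≠ 1) (hb1 : b ≠ 1) (hab : a ≠ b)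
    {c : G} (hc : c ∈ E) {x : G} (hx : x ∈ dl O a b) : c * x * c⁻¹ ∈ dl O a b :=
  ⟨⟨h.inv a ha ha1 c hc x hx.1.1, h.inv b hb hb1 c hc x hx.1.2⟩,
    h.inv (a * b) (E.mul_mem ha hb) (h.mul_ne_one hb hab) c hc x hx.2⟩

/-- The main consequence of `2`-balance. -/
theorem dl_inf_le {a b c : G} (ha : a ∈ E) (hb : b ∈ E) (hc : c ∈ E) (ha1 : a ≠ 1) (hb1 : b ≠ 1)
    (hc1 : c ≠ 1) (hab : a ≠ b) (hac : a ≠ c) : dl O a b ⊓ centralizer {c} ≤ dl O a c := by
  rintro x ⟨hx, hxc⟩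
  have hxa := mem_cent.1 (h.dl_le_cent ha ha1 hx)
  refine ⟨⟨hx.1.1, h.bal a ha b hb c hc ha1 hb1 hab hc1 ⟨hx, hxc⟩⟩, ?_⟩
  have hxc' := mem_cent.1 hxc
  refine h.bal a ha b hb (a * c) (E.mul_mem ha hc) ha1 hb1 hab (h.mul_ne_one hc hac) ⟨hx, mem_cent.2 ?_⟩
  rw [mul_assoc, hxc', ← mul_assoc, hxa, mul_assoc]

theorem dl_odd [Finite G] {a b : G} (ha : a ∈ E) (ha1 : a ≠ 1) : ¬ 2 ∣ Nat.card (dl O a b) :=
  fun h1 => h.odd a ha ha1 (h1.trans (card_dvd_of_le (inf_le_left.trans inf_le_left)))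

omit h in
theorem isSolvable_of_odd [Finite G] {X : Subgroup G} (hX : ¬ 2 ∣ Nat.card X) :
    Group.IsSolvable X :=
  Cfsg.Agent.S0205.result (Nat.not_even_iff_odd.1 fun h1 => hX h1.two_dvd)

variable [Finite G]

/-- The groups `ww a`: order and centralizers. -/
theorem ww_main {u : G} (hu : u ∈ E) (hu1 : u ≠ 1) :
    ¬ 2 ∣ Nat.card (ww E O u) ∧
      ∀ x ∈ E, x ≠ 1 → x ≠ u → ww E O u ⊓ centralizer {x} = dl O u x := by
  obtain ⟨A, hAE, huA, hA, hAc⟩ := exists_compl h.comm h.sq hu hu1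
  have hne : ∀ a ∈ A, u ≠ a := fun a ha h1 => huA (h1 ▸ ha)
  obtain ⟨h1, h2, -⟩ := Cfsg.Agent.SignalizersComponents.SolFunctorTwo.solvable_signalizer_functor_two A
    (fun a ha b hb => h.comm a (hAE ha) b (hAE hb))
    (fun a ha => (pow_two a).trans (h.sq a (hAE ha)))
    (by have := h.card; omega) (fun a => dl O u a)
    (fun a ha ha1 x hx => h.cent a (hAE ha) ha1 hx.1.2)
    (fun a ha ha1 => h.dl_odd hu hu1)
    (fun a ha ha1 b hb x hx => h.dl_inv hu (hAE ha) hu1 ha1 (hne a ha) (hAE hb) hx)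
    (fun a ha ha1 => isSolvable_of_odd (h.dl_odd hu hu1))
    (fun a ha ha1 b hb hb1 => h.dl_inf_le hu (hAE ha) (hAE hb) hu1 ha1 hb1 (hne a ha) (hne b hb))
  have heq : (⨆ a : {a : G // a ∈ A ∧ a ≠ 1}, dl O u a) = ww E O u := by
    apply le_antisymm
    · refine iSup_le ?_
      rintro ⟨a, ha, ha1⟩
      exact le_iSup (fun b : {b : G // b ∈ E ∧ b ≠ 1 ∧ b ≠ u} => dl O u b)
        ⟨a, hAE ha, ha1, (hne a ha).symm⟩
    · refine iSup_le ?_
      rintro ⟨b, hb, hb1, hbu⟩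
      rcases hA b hb with hbA | hbA
      · exact le_iSup (fun a : {a : G // a ∈ A ∧ a ≠ 1} => dl O u a) ⟨b, hbA, hb1⟩
      · have := le_iSup (fun a : {a : G // a ∈ A ∧ a ≠ 1} => dl O u a)
          ⟨u * b, hbA, h.mul_ne_one hb hbu.symm⟩
        rwa [h.dl_mul hu] at this
  rw [heq] at h1 h2
  refine ⟨h1, ?_⟩
  intro x hx hx1 hxu
  rcases hA x hx with hxA | hxA
  · exact h2 x hxA hx1
  · have h3 := h2 (u * x) hxA (h.mul_ne_one hx hxu.symm)
    rw [h.dl_mul hu] at h3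
    rw [← h3]
    have h4 : ww E O u ≤ centralizer {u} := iSup_le fun b => h.dl_le_cent hu hu1
    ext y
    constructor
    · rintro ⟨hy, hyx⟩
      have h5 := mem_cent.1 (h4 hy)
      have h6 := mem_cent.1 hyx
      refine ⟨hy, mem_cent.2 ?_⟩
      rw [mul_assoc, h6, ← mul_assoc, h5, mul_assoc]
    · rintro ⟨hy, hyx⟩
      have h5 := mem_cent.1 (h4 hy)
      have h6 := mem_cent.1 hyx
      refine ⟨hy, mem_cent.2 ?_⟩
      have h7 : u * (x * y) = u * (y * x) := by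
        rw [← mul_assoc, h6, ← mul_assoc, ← mul_assoc, h5]
      exact mul_left_cancel h7

theorem ww_odd {u : G} (hu : u ∈ E) (hu1 : u ≠ 1) : ¬ 2 ∣ Nat.card (ww E O u) :=
  (h.ww_main hu hu1).1

theorem ww_inf {u x : G} (hu : u ∈ E) (hu1 : u ≠ 1) (hx : x ∈ E) (hx1 : x ≠ 1) (hxu : x ≠ u) :
    ww E O u ⊓ centralizer {x} = dl O u x := (h.ww_main hu hu1).2 x hx hx1 hxu

omit [Finite G] h in
theorem ww_le {u : G} : ww E O u ≤ O u := iSup_le fun _ => inf_le_left.trans inf_le_left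

omit [Finite G] in
theorem ww_le_cent {u : G} (hu : u ∈ E) (hu1 : u ≠ 1) : ww E O u ≤ centralizer {u} :=
  (ww_le (E := E)).trans (h.cent u hu hu1)

omit [Finite G] in
theorem ww_inv {u : G} (hu : u ∈ E) (hu1 : u ≠ 1) {c : G} (hc : c ∈ E) {x : G} (hx : x ∈ ww E O u) :
    c * x * c⁻¹ ∈ ww E O u := by
  have h1 : (ww E O u).map (MulAut.conj c).toMonoidHom ≤ ww E O u := by
    rw [ww, Subgroup.map_iSup]
    refine iSup_le ?_
    rintro ⟨b, hb, hb1, hbu⟩
    rintro _ ⟨y, hy, rfl⟩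
    exact le_iSup (fun b : {b : G // b ∈ E ∧ b ≠ 1 ∧ b ≠ u} => dl O u b) ⟨b, hb, hb1, hbu⟩
      (h.dl_inv hu hb hu1 hb1 hbu.symm hc hy)
  exact h1 ⟨x, hx, rfl⟩

omit [Finite G] h in
theorem dl_le_ww {u x : G} (hx : x ∈ E) (hx1 : x ≠ 1) (hxu : x ≠ u) : dl O u x ≤ ww E O u :=
  le_iSup (fun b : {b : G // b ∈ E ∧ b ≠ 1 ∧ b ≠ u} => dl O u b) ⟨x, hx, hx1, hxu⟩

/-- The group `tt`: order and centralizers. -/
theorem tt_main : ¬ 2 ∣ Nat.card (tt E O) ∧
    ∀ a ∈ E, a ≠ 1 → tt E O ⊓ centralizer {a} = ww E O a := by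
  obtain ⟨h1, h2, -⟩ := Cfsg.Agent.SignalizersComponents.SolFunctorTwo.solvable_signalizer_functor_two E
    h.comm (fun a ha => (pow_two a).trans (h.sq a ha))
    (by have := h.card; omega) (fun a => ww E O a)
    (fun a ha ha1 => h.ww_le_cent ha ha1)
    (fun a ha ha1 => h.ww_odd ha ha1)
    (fun a ha ha1 b hb x hx => h.ww_inv ha ha1 hb hx)
    (fun a ha ha1 => isSolvable_of_odd (h.ww_odd ha ha1))
    (fun a ha ha1 b hb hb1 => by
      by_cases hab : b = a
      · subst hab; exact inf_le_left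
      · show ww E O a ⊓ centralizer {b} ≤ ww E O b
        rw [h.ww_inf ha ha1 hb hb1 hab, h.dl_comm ha hb]
        exact dl_le_ww ha ha1 (Ne.symm hab))
  exact ⟨h1, h2⟩

theorem tt_odd : ¬ 2 ∣ Nat.card (tt E O) := h.tt_main.1

theorem tt_inf {a : G} (ha : a ∈ E) (ha1 : a ≠ 1) : tt E O ⊓ centralizer {a} = ww E O a :=
  h.tt_main.2 a ha ha1

omit [Finite G] in
theorem tt_inv {c : G} (hc : c ∈ E) {x : G} (hx : x ∈ tt E O) : c * x * c⁻¹ ∈ tt E O := by
  have h1 : (tt E O).map (MulAut.conj c).toMonoidHom ≤ tt E O := by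
    rw [tt, Subgroup.map_iSup]
    refine iSup_le ?_
    rintro ⟨b, hb, hb1⟩
    rintro _ ⟨y, hy, rfl⟩
    exact le_iSup (fun b : {b : G // b ∈ E ∧ b ≠ 1} => ww E O b) ⟨b, hb, hb1⟩
      (h.ww_inv hb hb1 hc hy)
  exact h1 ⟨x, hx, rfl⟩

end Bal

end Cfsg.Agent.SylowSp4.TwoBal
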