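import Cfsg.Agent.SylowSp4.AltModel
import Cfsg.Agent.SylowSp4.CentG
import Cfsg.Agent.SylowSp4.Extremal

/-!
# Fusion for the type `PSp₄(3)` (order 64): base file

`Mod P F`: the homomorphism `F : M64 →* G` is an isomorphism onto the Sylow 2-subgroup `P`.  `q1 l = (c_l, 1)`,
`q2 l = (1, c_l)`, `ee l = (c_l, c_l)`, `c_0 = i`, `c_1 = j`, `c_2 = ij`.

* `ofTSp` : coordinates `TSp P 1 f s` give `Mod P (hom h)`;
* `eq_AF` : `A` is the only elementary abelian subgroup of order 16 of `P`;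
* `exists_NA` : for every subgroup `D` containing `A`, `N_D(A)` controls the `D`-fusion in `A`;
* further facts in `TwoSwap.lean`.
-/

set_option autoImplicit false

namespace Cfsg.Agent.SylowSp4.TwoBase

open Subgroup Cfsg.Agent.SylowSp4.AltModel

/-- `(c_l, 1)` -/
def q1 : Fin 3 → M64 := ![i1, j1, i1 * j1]
/-- `(1, c_l)` -/
def q2 : Fin 3 → M64 := ![i2, j2, i2 * j2]
/-- `(c_l, c_l)` -/
def ee (l : Fin 3) : M64 := q1 l * q2 l

/-! ### facts on the model -/

theorem A_mul : ∀ x y : M64, InA x → InA y → InA (x * y) := by decide +kernel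
theorem A_one : InA 1 := by decide +kernel
theorem A_inv : ∀ x : M64, InA x → InA x⁻¹ := by decide +kernel
theorem A_comm : ∀ x y : M64, InA x → InA y → x * y = y * x := by decide +kernel
theorem A_sq : ∀ x : M64, InA x → x * x = 1 := by decide +kernel
theorem A_t : InA t := by decide +kernel
theorem A_s : InA s := by decide +kernel
theorem A_ee : ∀ l, InA (ee l) := by decide +kernel
theorem A_conj : ∀ g x : M64, InA x → InA (g * x * g⁻¹) := by decide +kernel
theorem t_central : ∀ x : M64, x * t = t * x := by decide +kernel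
theorem card_A : Fintype.card {x : M64 // InA x} = 16 := by decide +kernel
theorem card_cen : ∀ x : M64, ¬ InA x → Fintype.card {y : M64 // y * y = 1 ∧ y * x = x * y} < 16 := by
  decide +kernel
theorem card_V : ∀ l, Fintype.card {y : M64 // y * ee l = ee l * y} = 32 := by decide +kernel
theorem big_cen : ∀ x : M64, x ≠ 1 → x ≠ t → 32 ≤ Fintype.card {y : M64 // y * x = x * y} →
    ∃ l, x = ee l ∨ x = t * ee l := by decide +kernel
theorem t_ne_one : t ≠ 1 := by decide +kernel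
theorem ee_ne_t : ∀ l, ee l ≠ t := by decide +kernel
theorem ee_ne_one : ∀ l, ee l ≠ 1 := by decide +kernel
/-- `S / A` has exponent 2 and centralises -/
theorem sq_mem_A : ∀ x : M64, InA (x * x) := by decide +kernel
theorem cen_A : ∀ x : M64, (∀ y, InA y → x * y = y * x) → InA x := by decide +kernel

/-- the subgroup `A` of the model -/
def Asub : Subgroup M64 where
  carrier := {x | InA x}
  mul_mem' {x y} hx hy := A_mul x y hx hy
  one_mem' := A_one
  inv_mem' {x} hx := A_inv x hx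

theorem mem_Asub {x : M64} : x ∈ Asub ↔ InA x := Iff.rfl

theorem card_Asub : Nat.card Asub = 16 := by
  rw [← card_A, ← Nat.card_eq_fintype_card]
  rfl

/-- `A` is the only elementary abelian subgroup of order 16 -/
theorem eq_A (B : Subgroup M64) (hB : ∀ x ∈ B, x * x = 1) (hc : Nat.card B = 16) : B = Asub := by
  classical
  have hcomm : ∀ x ∈ B, ∀ y ∈ B, y * x = x * y := by
    intro x hx y hy
    have h1 := hB _ (B.mul_mem hx hy)
    have hxi : x⁻¹ = x := inv_eq_of_mul_eq_one_left (hB x hx)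
    have hyi : y⁻¹ = y := inv_eq_of_mul_eq_one_left (hB y hy)
    have h2 : (x * y)⁻¹ = x * y := inv_eq_of_mul_eq_one_left h1
    rw [mul_inv_rev, hxi, hyi] at h2
    exact h2
  have hle : B ≤ Asub := by
    intro x hx
    by_contra hxA
    have h1 := card_cen x hxA
    have h2 : Nat.card B ≤ Nat.card {y : M64 // y * y = 1 ∧ y * x = x * y} :=
      Nat.card_le_card_of_injective (fun b : B => (⟨b, hB b b.2, hcomm x hx b b.2⟩ :
        {y : M64 // y * y = 1 ∧ y * x = x * y})) (by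
          intro a b hab
          have h3 := congrArg Subtype.val hab
          exact Subtype.ext h3)
    rw [hc, Nat.card_eq_fintype_card] at h2
    omega
  exact Subgroup.eq_of_le_of_card_ge hle (by rw [hc, card_Asub])

/-- Coordinates: `F` is an isomorphism from the model onto `P`. -/
structure Mod {G : Type*} [Group G] (P : Subgroup G) (F : M64 →* G) : Prop where
  inj : Function.Injective F
  range : F.range = P

section Coord

open Cfsg.Agent.SylowSp4.Coord

variable {G : Type*} [Group G] {S : Subgroup G} {f : Q 1 → Q 1 → G} {s' : G}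

theorem ofTSp (h : TSp S 1 f s') : Mod S (hom h) := ⟨hom_injective h, hom_range h⟩

/-- the element `c_l` of `Q 1` -/
def cc : Fin 3 → Q 1 := ![qel 1 0 0, qel 0 1 0, qel 1 1 0]

theorem cc_zero : cc 0 = Facts.c 1 := by decide +kernel

theorem cc_sq : ∀ l, cc l * cc l = z 1 := by decide +kernel

theorem qel_cases (α : Q 1) (hα : α * α = z 1) : ∃ l, α = cc l ∨ α = z 1 * cc l := by
  revert α
  show ∀ α : QuaternionGroup 2, α * α = z 1 → ∃ l, α = cc l ∨ α = z 1 * cc l
  decide +kernel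

theorem hom_t (h : TSp S 1 f s') : hom h t = f (z 1) 1 := by
  rw [hom_apply, toG]
  have h1 : (qel 0 0 1 : Q 1) = z 1 := by decide +kernel
  show f (qel 0 0 1) (qel 0 0 0) * spow s' false = _
  rw [h1, qel_zero]
  simp [spow]

theorem hom_s (h : TSp S 1 f s') : hom h s = s' := by
  rw [hom_apply, toG]
  show f (qel 0 0 0) (qel 0 0 0) * spow s' true = _
  rw [qel_zero, h.f_one]
  simp [spow]

theorem hom_q1 (h : TSp S 1 f s') (l : Fin 3) : hom h (q1 l) = f (cc l) 1 := by
  rw [hom_apply, toG]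
  fin_cases l
  · show f (qel 1 0 0) (qel 0 0 0) * spow s' false = f (qel 1 0 0) 1
    rw [qel_zero]; simp [spow]
  · show f (qel 0 1 0) (qel 0 0 0) * spow s' false = f (qel 0 1 0) 1
    rw [qel_zero]; simp [spow]
  · show f (qel 1 1 0) (qel 0 0 0) * spow s' false = f (qel 1 1 0) 1
    rw [qel_zero]; simp [spow]

theorem hom_q2 (h : TSp S 1 f s') (l : Fin 3) : hom h (q2 l) = f 1 (cc l) := by
  rw [hom_apply, toG]
  fin_cases l
  · show f (qel 0 0 0) (qel 1 0 0) * spow s' false = f 1 (qel 1 0 0)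
    rw [qel_zero]; simp [spow]
  · show f (qel 0 0 0) (qel 0 1 0) * spow s' false = f 1 (qel 0 1 0)
    rw [qel_zero]; simp [spow]
  · show f (qel 0 0 0) (qel 1 1 0) * spow s' false = f 1 (qel 1 1 0)
    rw [qel_zero]; simp [spow]

theorem hom_ee (h : TSp S 1 f s') (l : Fin 3) : hom h (ee l) = f (cc l) (cc l) := by
  rw [ee, map_mul, hom_q1, hom_q2, h.f_mul, mul_one, one_mul]

/-- the base group -/
theorem hom_InR (h : TSp S 1 f s') {x : M64} (hx : InR x) : ∃ α β, hom h x = f α β := by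
  obtain ⟨a, b, c, d, e, m⟩ := x
  obtain rfl : m = false := hx
  exact ⟨_, _, by rw [hom_apply, toG]; simp [spow]; rfl⟩

theorem hom_not_InR (h : TSp S 1 f s') {x : M64} (hx : ¬ InR x) : ∃ α β, hom h x = f α β * s' := by
  obtain ⟨a, b, c, d, e, m⟩ := x
  cases m
  · exact absurd rfl hx
  · exact ⟨_, _, by rw [hom_apply, toG]; simp [spow]; rfl⟩

end Coord

section

variable {G : Type*} [Group G] {P : Sylow 2 G} {F : M64 →* G} (M : Mod (P : Subgroup G) F)

include M

theorem mem (x : M64) : F x ∈ (P : Subgroup G) := by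
  rw [← M.range]; exact ⟨x, rfl⟩

theorem exists_of_mem {g : G} (hg : g ∈ (P : Subgroup G)) : ∃ x, F x = g := by
  rw [← M.range] at hg; exact hg

theorem t_comm {g : G} (hg : g ∈ (P : Subgroup G)) : g * F t = F t * g := by
  obtain ⟨x, rfl⟩ := exists_of_mem M hg
  rw [← map_mul, ← map_mul, t_central]

theorem card_AF : Nat.card (Asub.map F) = 16 := by
  rw [Subgroup.card_map_of_injective M.inj, card_Asub]

theorem AF_le : Asub.map F ≤ (P : Subgroup G) := by
  rintro _ ⟨x, -, rfl⟩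
  exact mem M x

theorem AF_sq : ∀ x ∈ Asub.map F, x * x = 1 := by
  have := M
  rintro _ ⟨x, hx, rfl⟩
  rw [← map_mul, A_sq x hx, map_one]

/-- an elementary abelian subgroup of order 16 of `P` is `A` -/
theorem eq_AF (B : Subgroup G) (hB : ∀ x ∈ B, x * x = 1) (hc : Nat.card B = 16) (hBS : B ≤ (P : Subgroup G)) :
    B = Asub.map F := by
  have h1 : (B.comap F).map F = B := by
    rw [Subgroup.map_comap_eq, M.range, inf_eq_right.2 hBS]
  have h2 : B.comap F = Asub := by
    apply eq_A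
    · intro x hx
      apply M.inj
      rw [map_mul, map_one]
      exact hB _ hx
    · have h3 : Nat.card ((B.comap F).map F) = Nat.card (B.comap F) := Subgroup.card_map_of_injective M.inj
      rw [← hc, ← h3, h1]
  rw [← h1, h2]

/-- if `n A n⁻¹ ≤ P` then `n` normalises `A` -/
theorem norm_of_le {n : G} (hn : ∀ a, InA a → n * F a * n⁻¹ ∈ (P : Subgroup G)) :
    ∀ a, InA a → ∃ a', InA a' ∧ n * F a * n⁻¹ = F a' := by
  have key : (Asub.map F).map (MulAut.conj n).toMonoidHom = Asub.map F := by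
    apply eq_AF M
    · rintro _ ⟨a, ha, rfl⟩
      show n * a * n⁻¹ * (n * a * n⁻¹) = 1
      have := AF_sq M a ha
      calc n * a * n⁻¹ * (n * a * n⁻¹) = n * (a * a) * n⁻¹ := by group
        _ = 1 := by rw [this]; group
    · rw [Subgroup.card_map_of_injective (MulAut.conj n).injective]
      exact card_AF M
    · rintro _ ⟨_, ⟨a, ha, rfl⟩, rfl⟩
      exact hn a ha
  intro a ha
  have h1 : n * F a * n⁻¹ ∈ Asub.map F := by
    rw [← key]
    exact ⟨F a, ⟨a, ha, rfl⟩, rfl⟩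
  obtain ⟨a', ha', h2⟩ := h1
  exact ⟨a', ha', h2.symm⟩

end

/-- the normaliser of `A`, elementwise -/
def NA {G : Type*} [Group G] (F : M64 →* G) (n : G) : Prop := ∀ a, InA a → ∃ a', InA a' ∧ n * F a * n⁻¹ = F a'

section

variable {G : Type*} [Group G] [Finite G]

/-- two 2-subgroups of `D` can be conjugated in `D` into a common Sylow 2-subgroup of `G` -/
theorem exists_common (S : Sylow 2 G) (D A0 A1 : Subgroup G) (h0 : A0 ≤ D) (h1 : A1 ≤ D) (p0 : IsPGroup 2 A0)
    (p1 : IsPGroup 2 A1) : ∃ d ∈ D, ∃ h : G, (∀ a ∈ A0, h⁻¹ * a * h ∈ S) ∧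
      ∀ a ∈ A1, h⁻¹ * (d * a * d⁻¹) * h ∈ S := by
  obtain ⟨T0, hT0⟩ := (p0.comap_subtype (K := D)).exists_le_sylow
  obtain ⟨T1, hT1⟩ := (p1.comap_subtype (K := D)).exists_le_sylow
  obtain ⟨d, hd⟩ := MulAction.exists_smul_eq D T1 T0
  have hT : IsPGroup 2 ((T0 : Subgroup D).map D.subtype) := T0.isPGroup'.map _
  obtain ⟨S', hS'⟩ := hT.exists_le_sylow
  obtain ⟨h, hh⟩ := MulAction.exists_smul_eq G S S'
  have hmem : ∀ x, x ∈ S' → h⁻¹ * x * h ∈ S := by
    intro x hx
    rw [← hh] at hx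
    rw [← SetLike.mem_coe, Sylow.coe_smul] at hx
    obtain ⟨y, hy, hyx⟩ := hx
    have e : h * y * h⁻¹ = x := hyx
    have e2 : h⁻¹ * x * h = y := by rw [← e]; group
    rw [e2]; exact hy
  refine ⟨d, d.2, h, ?_, ?_⟩
  · intro a ha
    apply hmem
    apply hS'
    exact ⟨⟨a, h0 ha⟩, hT0 ha, rfl⟩
  · intro a ha
    apply hmem
    apply hS'
    refine ⟨d * ⟨a, h1 ha⟩ * d⁻¹, ?_, rfl⟩
    have h3 : d * (⟨a, h1 ha⟩ : D) * d⁻¹ ∈ (d • T1 : Sylow 2 D) := by
      rw [← SetLike.mem_coe, Sylow.coe_smul]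
      exact Set.mem_smul_set.mpr ⟨⟨a, h1 ha⟩, hT1 ha, rfl⟩
    rw [hd] at h3
    exact h3

variable {P : Sylow 2 G} {F : M64 →* G} (M : Mod (P : Subgroup G) F)

include M

theorem isPGroup_AF : IsPGroup 2 (Asub.map F) :=
  IsPGroup.of_card (n := 4) (by rw [card_AF M]; norm_num)

/-- `N_D(A)` controls the `D`-fusion in `A` for every subgroup `D` containing `A` -/
theorem exists_NA (D : Subgroup G) (hD : ∀ a, InA a → F a ∈ D) {x y : M64} (hx : InA x) (hy : InA y) {d : G}
    (hd : d ∈ D) (h : d * F x * d⁻¹ = F y) :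
    ∃ n ∈ D, NA F n ∧ n * F x * n⁻¹ = F y := by
  set A0 := Asub.map F with hA0
  set A1 := A0.map (MulAut.conj d).toMonoidHom with hA1
  set E := D ⊓ centralizer ({F y} : Set G) with hE
  have h0 : A0 ≤ E := by
    rintro _ ⟨a, ha, rfl⟩
    rw [hE, mem_inf, mem_centralizer_singleton_iff, ← map_mul, ← map_mul, A_comm a y ha hy]
    exact ⟨hD a ha, rfl⟩
  have h1 : A1 ≤ E := by
    rintro _ ⟨_, ⟨a, ha, rfl⟩, rfl⟩
    show d * F a * d⁻¹ ∈ E
    rw [hE, mem_inf, mem_centralizer_singleton_iff, ← h]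
    have e : F a * F x = F x * F a := by rw [← map_mul, ← map_mul, A_comm a x ha hx]
    refine ⟨D.mul_mem (D.mul_mem hd (hD a ha)) (D.inv_mem hd), ?_⟩
    calc d * F a * d⁻¹ * (d * F x * d⁻¹) = d * (F a * F x) * d⁻¹ := by group
      _ = d * (F x * F a) * d⁻¹ := by rw [e]
      _ = _ := by group
  obtain ⟨c, hc, k, hk0, hk1⟩ := exists_common P E A0 A1 h0 h1 (isPGroup_AF M) ((isPGroup_AF M).map _)
  -- both conjugates are `A`
  have key : ∀ n : G, (∀ a ∈ A0, n * a * n⁻¹ ∈ P) → A0.map (MulAut.conj n).toMonoidHom = A0 := by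
    intro n hn
    apply eq_AF M
    · rintro _ ⟨a, ha, rfl⟩
      show n * a * n⁻¹ * (n * a * n⁻¹) = 1
      have := AF_sq M a ha
      calc n * a * n⁻¹ * (n * a * n⁻¹) = n * (a * a) * n⁻¹ := by group
        _ = 1 := by rw [this]; group
    · rw [Subgroup.card_map_of_injective (MulAut.conj n).injective]
      exact card_AF M
    · rintro _ ⟨a, ha, rfl⟩
      exact hn a ha
  have hK0 := key k⁻¹ (fun a ha => by rw [inv_inv]; exact hk0 a ha)
  have hK1 := key (k⁻¹ * (c * d)) (fun a ha => by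
    have := hk1 (d * a * d⁻¹) ⟨a, ha, rfl⟩
    have e : k⁻¹ * (c * d) * a * (k⁻¹ * (c * d))⁻¹ = k⁻¹ * (c * (d * a * d⁻¹) * c⁻¹) * k := by group
    rw [e]; exact this)
  rw [hE, mem_inf, mem_centralizer_singleton_iff] at hc
  refine ⟨c * d, D.mul_mem hc.1 hd, ?_, ?_⟩
  · intro a ha
    have h2 : k⁻¹ * (c * d) * F a * (k⁻¹ * (c * d))⁻¹ ∈ A0 := by
      rw [← hK1]; exact ⟨F a, ⟨a, ha, rfl⟩, rfl⟩
    have h3 : k⁻¹ * (c * d) * F a * (k⁻¹ * (c * d))⁻¹ ∈ A0.map (MulAut.conj k⁻¹).toMonoidHom := by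
      rw [hK0]; exact h2
    obtain ⟨_, ⟨a', ha', rfl⟩, h4⟩ := h3
    have h5 : k⁻¹ * F a' * k⁻¹⁻¹ = k⁻¹ * (c * d) * F a * (k⁻¹ * (c * d))⁻¹ := h4
    refine ⟨a', ha', ?_⟩
    calc c * d * F a * (c * d)⁻¹ = k * (k⁻¹ * (c * d) * F a * (k⁻¹ * (c * d))⁻¹) * k⁻¹ := by group
      _ = k * (k⁻¹ * F a' * k⁻¹⁻¹) * k⁻¹ := by rw [h5]
      _ = F a' := by group
  · calc c * d * F x * (c * d)⁻¹ = c * (d * F x * d⁻¹) * c⁻¹ := by group
      _ = c * F y * c⁻¹ := by rw [h]
      _ = F y := by rw [hc.2]; group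

end

end Cfsg.Agent.SylowSp4.TwoBase
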