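import Cfsg.Agent.SylowSp4.TwoBase

/-!
# Fusion for the type `PSp₄(3)` (order 64): the centralizer of `t` in the language of the model

`Ctx P F K`: `F` is an isomorphism of the model onto the Sylow 2-subgroup `P` and `K` is the subgroup of index two of
`C(t)` with Sylow 2-subgroup `R` (from `CentG.CentData`).
-/

set_option autoImplicit false

namespace Cfsg.Agent.SylowSp4.TwoCtx

open Subgroup Cfsg.Agent.SylowSp4.AltModel Cfsg.Agent.SylowSp4.TwoBase

/-- the first factor -/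
def InQ1 (x : M64) : Prop := x.c = 0 ∧ x.d = 0 ∧ x.m = false
/-- the second factor -/
def InQ2 (x : M64) : Prop := x.a = 0 ∧ x.b = 0 ∧ x.m = false

instance : DecidablePred InQ1 := fun x => by unfold InQ1; infer_instance
instance : DecidablePred InQ2 := fun x => by unfold InQ2; infer_instance

/-- `F` is an isomorphism of the model onto `P` and `K` is the subgroup of index two of `C(t)`. -/
structure Ctx {G : Type*} [Group G] (P : Sylow 2 G) (F : M64 →* G) (K : Subgroup G) : Prop where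
  mod : Mod (P : Subgroup G) F
  /-- `K ≤ C(t)` -/
  comm : ∀ g ∈ K, g * F t = F t * g
  normal : ∀ c : G, c * F t = F t * c → ∀ g ∈ K, c * g * c⁻¹ ∈ K
  mem_or : ∀ c : G, c * F t = F t * c → c ∈ K ∨ c * F s ∈ K
  mem_iff : ∀ x, F x ∈ K ↔ InR x
  no_fusion : ∀ x, x * x = 1 → ¬ InR x → ∀ c : G, c * F t = F t * c → ∀ y, InR y → c * F x * c⁻¹ ≠ F y
  closed₁ : ∀ g ∈ K, ∀ x y, InQ1 x → g * F x * g⁻¹ = F y → InQ1 y
  closed₂ : ∀ g ∈ K, ∀ x y, InQ2 x → g * F x * g⁻¹ = F y → InQ2 y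

section Coord

open Cfsg.Agent.SylowSp4.Coord

variable {G : Type*} [Group G] {S : Subgroup G} {f : Q 1 → Q 1 → G} {s' : G}

theorem hom_f (h : TSp S 1 f s') (a b c d e e' : ZMod 2) :
    hom h ⟨a, b, c, d, e + e', false⟩ = f (qel a b e) (qel c d e') := by
  rw [hom_apply, toG]
  simp only [spow, Bool.false_eq_true, if_false, mul_one]
  exact f_shift h a b e c d e'

theorem hom_surj (h : TSp S 1 f s') (α β : Q 1) : ∃ x, InR x ∧ hom h x = f α β := by
  obtain ⟨a, b, e, rfl⟩ := exists_qel α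
  obtain ⟨c, d, e', rfl⟩ := exists_qel β
  exact ⟨⟨a, b, c, d, e + e', false⟩, rfl, hom_f h a b c d e e'⟩

theorem hom_Q1 (h : TSp S 1 f s') (x : M64) : InQ1 x ↔ ∃ α, hom h x = f α 1 := by
  constructor
  · obtain ⟨a, b, c, d, e, m⟩ := x
    rintro ⟨h1, h2, h3⟩
    simp only at h1 h2 h3
    subst h1 h2 h3
    refine ⟨qel a b e, ?_⟩
    have := hom_f h a b 0 0 e 0
    rwa [add_zero, qel_zero] at this
  · rintro ⟨α, hα⟩
    obtain ⟨a, b, e, rfl⟩ := exists_qel α
    have h1 := hom_f h a b 0 0 e 0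
    rw [qel_zero] at h1
    rw [← h1] at hα
    have h2 := hom_injective h hα
    rw [h2]
    exact ⟨rfl, rfl, rfl⟩

theorem hom_Q2 (h : TSp S 1 f s') (x : M64) : InQ2 x ↔ ∃ α, hom h x = f 1 α := by
  constructor
  · obtain ⟨a, b, c, d, e, m⟩ := x
    rintro ⟨h1, h2, h3⟩
    simp only at h1 h2 h3
    subst h1 h2 h3
    refine ⟨qel c d e, ?_⟩
    have := hom_f h 0 0 c d 0 e
    rwa [zero_add, qel_zero] at this
  · rintro ⟨α, hα⟩
    obtain ⟨a, b, e, rfl⟩ := exists_qel α
    have h1 := hom_f h 0 0 a b 0 e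
    rw [qel_zero] at h1
    rw [← h1] at hα
    have h2 := hom_injective h hα
    rw [h2]
    exact ⟨rfl, rfl, rfl⟩

theorem hom_R (h : TSp S 1 f s') (x : M64) : InR x ↔ ∃ α β, hom h x = f α β := by
  constructor
  · exact fun hx => hom_InR h hx
  · rintro ⟨α, β, hαβ⟩
    obtain ⟨y, hy, hy2⟩ := hom_surj h α β
    rw [← hy2] at hαβ
    rw [hom_injective h hαβ]
    exact hy

theorem hom_mem {P : Sylow 2 G} (h : TSp (P : Subgroup G) 1 f s') (x : M64) : hom h x ∈ (P : Subgroup G) :=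
  (hom_range h).le ⟨x, rfl⟩

theorem ofCentData {P : Sylow 2 G} (h : TSp (P : Subgroup G) 1 f s') {K : Subgroup G} (hK : CentG.CentData h K) :
    Ctx P (hom h) K where
  mod := ofTSp h
  comm := by rw [hom_t h]; exact hK.comm
  normal := by rw [hom_t h]; exact hK.conj_mem
  mem_or := by rw [hom_t h, hom_s h]; exact hK.mem_or
  mem_iff := by
    intro x
    rw [hom_R h]
    have hxP := hom_mem h x
    have h1 : hom h x ∈ K ↔ hom h x ∈ Base.base h := by
      rw [← hK.inf_eq, Subgroup.mem_inf]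
      exact ⟨fun h2 => ⟨h2, hxP⟩, fun h2 => h2.1⟩
    rw [h1, Base.mem_base]
  no_fusion := by
    intro x hx hxR c hc y hy hcy
    rw [hom_t h] at hc
    refine hK.no_fusion (hom h x) (hom_mem h x) (by rw [← map_mul, hx, map_one]) ?_ c hc ?_
    · rw [← hom_R h]; exact hxR
    · rw [hcy, ← hom_R h]; exact hy
  closed₁ := by
    intro g hg x y hx hxy
    obtain ⟨α, hα⟩ := (hom_Q1 h x).1 hx
    rw [hom_Q1 h, ← hxy, hα]
    apply hK.closed₁ g hg α
    rw [← hα, hxy]
    exact hom_mem h y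
  closed₂ := by
    intro g hg x y hx hxy
    obtain ⟨α, hα⟩ := (hom_Q2 h x).1 hx
    rw [hom_Q2 h, ← hxy, hα]
    apply hK.closed₂ g hg α
    rw [← hα, hxy]
    exact hom_mem h y

end Coord

end Cfsg.Agent.SylowSp4.TwoCtx
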