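import Mathlib
import Cfsg.Prelude.Def_Involutions
import Cfsg.Prelude.Def_TwoFusion
import Cfsg.Agent.TwoFusion.StronglyEmbeddedBasic

/-!
# Strongly closed abelian subgroups and two classes of involutions
-/

set_option autoImplicit false

namespace Cfsg.Agent.SylowSp4.TwoGold

open Subgroup

universe u

/-- S1169 -/
def Gold : Prop :=
  ∀ (G : Type u) [Group G] [Finite G] [IsSimpleGroup G] (S : Sylow 2 G) (A : Subgroup G), A ≠ ⊥ →
    IsMulCommutative A → Cfsg.IsStronglyClosed A (S : Subgroup G) →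
    IsMulCommutative (S : Subgroup G) ∨ ∃ H : Subgroup G, Cfsg.IsStronglyEmbedded H

variable {G : Type u} [Group G] [Finite G] [IsSimpleGroup G]

/-- A finite simple group with two classes of involutions has no nontrivial strongly closed abelian subgroup in a
non-abelian Sylow 2-subgroup. -/
theorem false_of_closed (hG : Gold.{u}) (P : Sylow 2 G) {B : Subgroup G} (hBP : B ≤ P)
    (hcomm : ∀ x ∈ B, ∀ y ∈ B, x * y = y * x) (hB : B ≠ ⊥)
    (hcl : ∀ x ∈ B, ∀ g : G, g * x * g⁻¹ ∈ P → g * x * g⁻¹ ∈ B)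
    (hP : ¬ ∀ x ∈ P, ∀ y ∈ P, x * y = y * x) {a b : G} (ha : orderOf a = 2) (hb : orderOf b = 2)
    (hab : ¬ IsConj a b) : False := by
  rcases hG G P B hB ⟨⟨fun x y => Subtype.ext (hcomm x x.2 y y.2)⟩⟩ ⟨hBP, hcl⟩ with h | ⟨H, hH⟩
  · apply hP
    intro x hx y hy
    exact congrArg Subtype.val (h.is_comm.comm ⟨x, hx⟩ ⟨y, hy⟩)
  · exact hab (Cfsg.Agent.TwoFusion.StronglyEmbeddedBasic.isConj_of_involutions hH a b ha hb)

end Cfsg.Agent.SylowSp4.TwoGold
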