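import Cfsg.Agent.SylowSp4.TwoBase

/-!
# Fusion for the type `PSp₄(3)`: control of fusion in `A` for sets, parity

* `exists_NA_set` : `N_D(A)` controls the `D`-fusion of subsets of `A`;
* `exists_mul` : if `P ≤ N`, `C ⊴ N` and the elements of odd order of `N` lie in `C`, then `N = P C`;
* `parity` : an element of `N(A) ∩ C(t)` which fixes `±ee a` acts on `A` as an element of `P`;
* `cycle` : otherwise it cycles `ee 0, ee 1, ee 2` modulo `t`.
-/

set_option autoImplicit false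

namespace Cfsg.Agent.SylowSp4.TwoParity

open Subgroup Cfsg.Agent.SylowSp4.AltModel Cfsg.Agent.SylowSp4.TwoBase

section

variable {G : Type*} [Group G] [Finite G]

/-- an element of odd order is a power of its square -/
theorem exists_pow_sq {g : G} (hg : Odd (orderOf g)) : ∃ n : ℕ, g = (g * g) ^ n := by
  obtain ⟨m, hm⟩ := hg
  refine ⟨m + 1, ?_⟩
  have h1 : g ^ (2 * (m + 1)) = g ^ (2 * m + 1) * g := pow_succ _ _
  rw [← sq, ← pow_mul, h1, ← hm, pow_orderOf_eq_one, one_mul]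

/-- if `P ≤ N`, `C ⊴ N` and the elements of odd order of `N` lie in `C`, then `N = P C` -/
theorem exists_mul (P : Sylow 2 G) (N C : Subgroup G) (hP : (P : Subgroup G) ≤ N)
    (hCn : ∀ g ∈ N, ∀ c ∈ C, g * c * g⁻¹ ∈ C) (hodd : ∀ g ∈ N, Odd (orderOf g) → g ∈ C) :
    ∀ g ∈ N, ∃ σ ∈ (P : Subgroup G), ∃ c ∈ C, g = σ * c := by
  have hn : (C.subgroupOf N).Normal := by
    constructor
    intro c hc g
    rw [mem_subgroupOf] at hc ⊢
    exact hCn g g.2 c hc
  have h1 : IsPGroup 2 (N ⧸ C.subgroupOf N) := by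
    intro q
    induction q using QuotientGroup.induction_on with
    | H g =>
      obtain ⟨k, m, hm, hkm⟩ := Nat.exists_eq_two_pow_mul_odd (n := orderOf g) (orderOf_pos g).ne'
      refine ⟨k, ?_⟩
      rw [← QuotientGroup.mk_pow, QuotientGroup.eq_one_iff, mem_subgroupOf]
      apply hodd _ (SetLike.coe_mem _)
      apply Odd.of_dvd_nat hm
      rw [Subgroup.orderOf_coe]
      apply orderOf_dvd_of_pow_eq_one
      rw [← pow_mul, ← hkm, pow_orderOf_eq_one]
  obtain ⟨n, hn1⟩ := IsPGroup.iff_card.1 h1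
  have h2 : (C.subgroupOf N).index = 2 ^ n := hn1
  have h3 : ¬ 2 ∣ ((P : Subgroup G).subgroupOf N).index := fun hd =>
    P.not_dvd_index (hd.trans (relIndex_dvd_index_of_le hP))
  have h4 : ((P : Subgroup G).subgroupOf N ⊔ C.subgroupOf N).index = 1 := by
    have h5 := index_dvd_of_le (le_sup_left : (P : Subgroup G).subgroupOf N ≤ (P : Subgroup G).subgroupOf N ⊔ C.subgroupOf N)
    have h6 := index_dvd_of_le (le_sup_right : C.subgroupOf N ≤ (P : Subgroup G).subgroupOf N ⊔ C.subgroupOf N)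
    rw [h2] at h6
    obtain ⟨j, -, hj⟩ := (Nat.dvd_prime_pow Nat.prime_two).1 h6
    rw [hj] at h5 ⊢
    rcases Nat.eq_zero_or_pos j with rfl | hj0
    · rfl
    · exact absurd ((dvd_pow_self 2 hj0.ne').trans h5) h3
  rw [index_eq_one] at h4
  intro g hg
  have h5 : (⟨g, hg⟩ : N) ∈ (P : Subgroup G).subgroupOf N ⊔ C.subgroupOf N := by rw [h4]; exact mem_top _
  rw [← SetLike.mem_coe, Subgroup.mul_normal] at h5
  obtain ⟨σ, hσ, c, hc, hh⟩ := h5
  exact ⟨σ, hσ, c, hc, congrArg Subtype.val hh.symm⟩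

end

/-- pointwise centraliser of `A` -/
def CA {G : Type*} [Group G] (F : M64 →* G) (n : G) : Prop := ∀ a, InA a → n * F a * n⁻¹ = F a

section

variable {G : Type*} [Group G] {F : M64 →* G}

theorem NA_one : NA F 1 := fun a ha => ⟨a, ha, by group⟩

theorem NA_mul {m n : G} (hm : NA F m) (hn : NA F n) : NA F (m * n) := by
  intro a ha
  obtain ⟨b, hb, h1⟩ := hn a ha
  obtain ⟨c, hc, h2⟩ := hm b hb
  refine ⟨c, hc, ?_⟩
  calc m * n * F a * (m * n)⁻¹ = m * (n * F a * n⁻¹) * m⁻¹ := by group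
    _ = F c := by rw [h1, h2]

theorem NA_F (x : M64) : NA F (F x) := fun a ha => ⟨x * a * x⁻¹, A_conj x a ha, by rw [map_mul, map_mul, map_inv]⟩

theorem CA_NA {n : G} (h : CA F n) : NA F n := fun a ha => ⟨a, ha, h a ha⟩

variable [Finite G]

theorem NA_pow {n : G} (hn : NA F n) (k : ℕ) : NA F (n ^ k) := by
  induction k with
  | zero => rw [pow_zero]; exact NA_one
  | succ k ih => rw [pow_succ]; exact NA_mul ih hn

theorem NA_inv {n : G} (hn : NA F n) : NA F n⁻¹ := by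
  have h1 : n⁻¹ = n ^ (orderOf n - 1) := by
    apply inv_eq_of_mul_eq_one_left
    rw [← pow_succ, Nat.sub_add_cancel (orderOf_pos n), pow_orderOf_eq_one]
  rw [h1]
  exact NA_pow hn _

end

theorem conj_mul {G : Type*} [Group G] {F : M64 →* G} {n : G} {x y x' y' : M64} (hx : n * F x * n⁻¹ = F x')
    (hy : n * F y * n⁻¹ = F y') : n * F (x * y) * n⁻¹ = F (x' * y') := by
  rw [map_mul, map_mul, ← hx, ← hy]; group

theorem conj_trans {G : Type*} [Group G] {F : M64 →* G} {m n : G} {x y w : M64} (hx : n * F x * n⁻¹ = F y)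
    (hy : m * F y * m⁻¹ = F w) : (m * n) * F x * (m * n)⁻¹ = F w := by
  rw [← hy, ← hx]; group

theorem conj_symm {G : Type*} [Group G] {F : M64 →* G} {n : G} {x y : M64} (hx : n * F x * n⁻¹ = F y) :
    n⁻¹ * F y * n⁻¹⁻¹ = F x := by
  rw [← hx]; group

theorem conj_F {G : Type*} [Group G] (F : M64 →* G) (x y : M64) : F x * F y * (F x)⁻¹ = F (x * y * x⁻¹) := by
  rw [map_mul, map_mul, map_inv]

section

variable {G : Type*} [Group G] [Finite G] {P : Sylow 2 G} {F : M64 →* G} (M : Mod (P : Subgroup G) F)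

/-- `N_D(A)` controls the `D`-fusion of subsets of `A` for every subgroup `D` containing `A` -/
theorem exists_NA_set (M : Mod (P : Subgroup G) F) (D : Subgroup G) (hD : ∀ a, InA a → F a ∈ D) (X : Set M64)
    (hX : ∀ x ∈ X, InA x) {d : G} (hd : d ∈ D) (h : ∀ x ∈ X, ∃ y, InA y ∧ d * F x * d⁻¹ = F y) :
    ∃ n ∈ D, NA F n ∧ ∀ x ∈ X, n * F x * n⁻¹ = d * F x * d⁻¹ := by
  set A0 := Asub.map F with hA0
  set A1 := A0.map (MulAut.conj d).toMonoidHom with hA1
  set E := D ⊓ centralizer ((fun x => d * F x * d⁻¹) '' X) with hE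
  have h0 : A0 ≤ E := by
    rintro _ ⟨a, ha, rfl⟩
    rw [hE, mem_inf, mem_centralizer_iff]
    refine ⟨hD a ha, ?_⟩
    rintro _ ⟨x, hx, rfl⟩
    obtain ⟨y, hy, hxy⟩ := h x hx
    show d * F x * d⁻¹ * F a = F a * (d * F x * d⁻¹)
    rw [hxy, ← map_mul, ← map_mul, A_comm a y ha hy]
  have h1 : A1 ≤ E := by
    rintro _ ⟨_, ⟨a, ha, rfl⟩, rfl⟩
    show d * F a * d⁻¹ ∈ E
    rw [hE, mem_inf, mem_centralizer_iff]
    refine ⟨D.mul_mem (D.mul_mem hd (hD a ha)) (D.inv_mem hd), ?_⟩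
    rintro _ ⟨x, hx, rfl⟩
    have e : F a * F x = F x * F a := by rw [← map_mul, ← map_mul, A_comm a x ha (hX x hx)]
    show d * F x * d⁻¹ * (d * F a * d⁻¹) = d * F a * d⁻¹ * (d * F x * d⁻¹)
    calc d * F x * d⁻¹ * (d * F a * d⁻¹) = d * (F x * F a) * d⁻¹ := by group
      _ = d * (F a * F x) * d⁻¹ := by rw [e]
      _ = _ := by group
  obtain ⟨c, hc, k, hk0, hk1⟩ := exists_common P E A0 A1 h0 h1 (isPGroup_AF M) ((isPGroup_AF M).map _)
  -- both conjugates are `A`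
  have key : ∀ n : G, (∀ a ∈ A0, n * a * n⁻¹ ∈ P) → A0.map (MulAut.conj n).toMonoidHom = A0 := by
    intro n hn
    apply eq_AF M
    · rintro _ ⟨a, ha, rfl⟩
      show n * a * n⁻¹ * (n * a * n⁻¹) = 1
      have := AF_sq M a ha
      calc n * a * n⁻¹ * (n * a * n⁻¹) = n * (a * a) * n⁻¹ := by group
        _ = 1 := by rw [this]; group
    · rw [Subgroup.card_map_of_injective (MulAut.conj n).injective]
      exact card_AF M
    · rintro _ ⟨a, ha, rfl⟩
      exact hn a ha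
  have hK0 := key k⁻¹ (fun a ha => by rw [inv_inv]; exact hk0 a ha)
  have hK1 := key (k⁻¹ * (c * d)) (fun a ha => by
    have := hk1 (d * a * d⁻¹) ⟨a, ha, rfl⟩
    have e : k⁻¹ * (c * d) * a * (k⁻¹ * (c * d))⁻¹ = k⁻¹ * (c * (d * a * d⁻¹) * c⁻¹) * k := by group
    rw [e]; exact this)
  rw [hE, mem_inf, mem_centralizer_iff] at hc
  refine ⟨c * d, D.mul_mem hc.1 hd, ?_, ?_⟩
  · intro a ha
    have h2 : k⁻¹ * (c * d) * F a * (k⁻¹ * (c * d))⁻¹ ∈ A0 := by
      rw [← hK1]; exact ⟨F a, ⟨a, ha, rfl⟩, rfl⟩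
    have h3 : k⁻¹ * (c * d) * F a * (k⁻¹ * (c * d))⁻¹ ∈ A0.map (MulAut.conj k⁻¹).toMonoidHom := by
      rw [hK0]; exact h2
    obtain ⟨_, ⟨a', ha', rfl⟩, h4⟩ := h3
    have h5 : k⁻¹ * F a' * k⁻¹⁻¹ = k⁻¹ * (c * d) * F a * (k⁻¹ * (c * d))⁻¹ := h4
    refine ⟨a', ha', ?_⟩
    calc c * d * F a * (c * d)⁻¹ = k * (k⁻¹ * (c * d) * F a * (k⁻¹ * (c * d))⁻¹) * k⁻¹ := by group
      _ = k * (k⁻¹ * F a' * k⁻¹⁻¹) * k⁻¹ := by rw [h5]
      _ = F a' := by group
  · intro x hx
    have h6 := hc.2 _ ⟨x, hx, rfl⟩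
    calc c * d * F x * (c * d)⁻¹ = (c * (d * F x * d⁻¹)) * c⁻¹ := by group
      _ = ((d * F x * d⁻¹) * c) * c⁻¹ := by rw [← h6]
      _ = d * F x * d⁻¹ := by group

end

/-! ### parity -/

theorem D_cases : ∀ x : M64, InA x → InR x → x = 1 ∨ x = t ∨ (∃ a, x = ee a) ∨ ∃ a, x = t * ee a := by
  decide +kernel

theorem R_mul : ∀ x y : M64, InR x → InR y → InR (x * y) := by decide +kernel
theorem R_t : InR t := by decide +kernel
theorem R_ee : ∀ a, InR (ee a) := by decide +kernel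
theorem R_tee : ∀ a, InR (t * ee a) := by decide +kernel
theorem R_conj : ∀ g x : M64, InR x → InR (g * x * g⁻¹) := by decide +kernel
theorem R_of_not : ∀ x y : M64, ¬ InR x → ¬ InR y → InR (x * y) := by decide +kernel
theorem not_R_s : ¬ InR s := by decide +kernel
theorem gen_A : ∀ x : M64, InA x → ∃ d, InA d ∧ InR d ∧ (x = d ∨ x = d * s) := by
  decide +kernel
theorem tee_ne : ∀ a, t * ee a ≠ t ∧ t * ee a ≠ 1 := by decide +kernel
theorem ee_inj : ∀ a b, (ee a = ee b ∨ ee a = t * ee b) → a = b := by decide +kernel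
theorem S_ee : ∀ x : M64, ∀ a, x * ee a * x⁻¹ = ee a ∨ x * ee a * x⁻¹ = t * ee a := by decide +kernel

section

variable {G : Type*} [Group G] [Finite G] {P : Sylow 2 G} {F : M64 →* G} (M : Mod (P : Subgroup G) F)
  (hnf : ∀ c : G, c * F t = F t * c → ∀ x y : M64, x * x = 1 → ¬ InR x → InR y → c * F x * c⁻¹ ≠ F y)

include M hnf

/-- `N(A) ∩ C(t)` normalises `D = A ∩ R` -/
theorem D_norm {g : G} (hg : NA F g) (hgt : g * F t = F t * g) {x y : M64} (hx : InA x) (hxy : g * F x * g⁻¹ = F y) :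
    InR x ↔ InR y := by
  have hy : InA y := by
    obtain ⟨y', hy', h1⟩ := hg x hx
    rw [hxy] at h1
    rw [M.inj h1]
    exact hy'
  have hgt' : g⁻¹ * F t = F t * g⁻¹ := by
    have : g⁻¹ * (g * F t) * g⁻¹ = g⁻¹ * (F t * g) * g⁻¹ := by rw [hgt]
    calc g⁻¹ * F t = g⁻¹ * (F t * g) * g⁻¹ := by group
      _ = g⁻¹ * (g * F t) * g⁻¹ := by rw [hgt]
      _ = F t * g⁻¹ := by group
  constructor
  · intro hR
    by_contra hR'
    exact hnf g⁻¹ hgt' y x (A_sq y hy) hR' hR (conj_symm hxy)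
  · intro hR
    by_contra hR'
    exact hnf g hgt x y (A_sq x hx) hR' hR hxy

/-- the action on `ee 0, ee 1, ee 2` modulo `t` -/
theorem exists_fun {g : G} (hg : NA F g) (hgt : g * F t = F t * g) : ∃ f : Fin 3 → Fin 3,
    ∀ a, g * F (ee a) * g⁻¹ = F (ee (f a)) ∨ g * F (ee a) * g⁻¹ = F (t * ee (f a)) := by
  have h1 : ∀ a, ∃ b, g * F (ee a) * g⁻¹ = F (ee b) ∨ g * F (ee a) * g⁻¹ = F (t * ee b) := by
    intro a
    obtain ⟨y, hy, hay⟩ := hg (ee a) (A_ee a)
    have hyR : InR y := (D_norm M hnf hg hgt (A_ee a) hay).1 (R_ee a)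
    rcases D_cases y hy hyR with rfl | rfl | ⟨b, rfl⟩ | ⟨b, rfl⟩
    · exfalso
      rw [map_one] at hay
      have h2 : F (ee a) = F 1 := by
        rw [map_one]
        calc F (ee a) = g⁻¹ * (g * F (ee a) * g⁻¹) * g := by group
          _ = 1 := by rw [hay]; group
      exact ee_ne_one a (M.inj h2)
    · exfalso
      have h2 : F (ee a) = F t := by
        calc F (ee a) = g⁻¹ * (g * F (ee a) * g⁻¹) * g := by group
          _ = g⁻¹ * (F t * g) := by rw [hay]; group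
          _ = F t := by rw [← hgt]; group
      exact ee_ne_t a (M.inj h2)
    · exact ⟨b, Or.inl hay⟩
    · exact ⟨b, Or.inr hay⟩
  choose f hf using h1
  exact ⟨f, hf⟩

end

/-- `g` moves `ee a` to `ee b` modulo `t` -/
def Mo {G : Type*} [Group G] (F : M64 →* G) (g : G) (a b : Fin 3) : Prop :=
  g * F (ee a) * g⁻¹ = F (ee b) ∨ g * F (ee a) * g⁻¹ = F (t * ee b)

section

variable {G : Type*} [Group G] {F : M64 →* G}

theorem comm_inv {g : G} (hg : g * F t = F t * g) : g⁻¹ * F t = F t * g⁻¹ := by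
  calc g⁻¹ * F t = g⁻¹ * (F t * g) * g⁻¹ := by group
    _ = g⁻¹ * (g * F t) * g⁻¹ := by rw [hg]
    _ = F t * g⁻¹ := by group

theorem comm_mul {g h : G} (hg : g * F t = F t * g) (hh : h * F t = F t * h) : g * h * F t = F t * (g * h) := by
  rw [mul_assoc, hh, ← mul_assoc, hg, mul_assoc]

theorem fix_t {g : G} (hg : g * F t = F t * g) : g * F t * g⁻¹ = F t := by
  rw [hg]; group

theorem tt : t * t = 1 := by decide +kernel

theorem mo_t {g : G} (hg : g * F t = F t * g) {a b : Fin 3} (h : Mo F g a b) :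
    g * F (t * ee a) * g⁻¹ = F (ee b) ∨ g * F (t * ee a) * g⁻¹ = F (t * ee b) := by
  rcases h with h | h
  · right; exact conj_mul (fix_t hg) h
  · left
    have := conj_mul (fix_t hg) h
    rwa [← mul_assoc, tt, one_mul] at this

theorem mo_mul {g h : G} (hh : h * F t = F t * h) {a b c : Fin 3} (h1 : Mo F g a b) (h2 : Mo F h b c) :
    Mo F (h * g) a c := by
  rcases h1 with h1 | h1
  · rcases h2 with h2 | h2
    · left; exact conj_trans h1 h2
    · right; exact conj_trans h1 h2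
  · rcases mo_t hh h2 with h3 | h3
    · left; exact conj_trans h1 h3
    · right; exact conj_trans h1 h3

theorem mo_inv {g : G} (hg : g * F t = F t * g) {a b : Fin 3} (h : Mo F g a b) : Mo F g⁻¹ b a := by
  rcases h with h | h
  · left; exact conj_symm h
  · right
    have h3 := conj_symm h
    have h4 := conj_mul (fix_t (comm_inv hg)) h3
    rwa [← mul_assoc, tt, one_mul] at h4

theorem mo_F (x : M64) (a : Fin 3) : Mo F (F x) a a := by
  rcases S_ee x a with h | h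
  · left; rw [conj_F, h]
  · right; rw [conj_F, h]

theorem mo_unique (hF : Function.Injective F) {g : G} {a b c : Fin 3} (h1 : Mo F g a b) (h2 : Mo F g a c) : b = c := by
  rcases h1 with h1 | h1 <;> rcases h2 with h2 | h2
  · rw [h1] at h2; exact ee_inj _ _ (Or.inl (hF h2))
  · rw [h1] at h2; exact ee_inj _ _ (Or.inr (hF h2))
  · rw [h1] at h2; exact (ee_inj _ _ (Or.inr (hF h2).symm)).symm
  · rw [h1] at h2
    have h3 : t * ee b = t * ee c := hF h2
    exact ee_inj _ _ (Or.inl (mul_left_cancel h3))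

end

/-- the subgroup `N(A) ∩ C(t)` -/
def Kt {G : Type*} [Group G] [Finite G] (F : M64 →* G) : Subgroup G where
  carrier := {n | NA F n ∧ n * F t = F t * n}
  mul_mem' {m n} hm hn := ⟨NA_mul hm.1 hn.1, comm_mul hm.2 hn.2⟩
  one_mem' := ⟨NA_one, by group⟩
  inv_mem' {m} hm := ⟨NA_inv hm.1, comm_inv hm.2⟩

/-- the kernel of the action on `D / t` -/
def Nt {G : Type*} [Group G] [Finite G] (F : M64 →* G) : Subgroup G where
  carrier := {n | (NA F n ∧ n * F t = F t * n) ∧ ∀ a, Mo F n a a}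
  mul_mem' {m n} hm hn := ⟨(Kt F).mul_mem hm.1 hn.1, fun a => mo_mul hm.1.2 (hn.2 a) (hm.2 a)⟩
  one_mem' := ⟨(Kt F).one_mem, fun a => Or.inl (by group)⟩
  inv_mem' {m} hm := ⟨(Kt F).inv_mem hm.1, fun a => mo_inv hm.1.2 (hm.2 a)⟩

/-- the centraliser of `A` -/
def Ct {G : Type*} [Group G] (F : M64 →* G) : Subgroup G where
  carrier := {n | CA F n}
  mul_mem' {m n} hm hn := fun a ha => conj_trans (hn a ha) (hm a ha)
  one_mem' := fun a ha => by group
  inv_mem' {m} hm := fun a ha => conj_symm (hm a ha)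

section

variable {G : Type*} [Group G] [Finite G] {P : Sylow 2 G} {F : M64 →* G} (M : Mod (P : Subgroup G) F)

include M

theorem P_le_Nt : (P : Subgroup G) ≤ Nt F := by
  intro g hg
  obtain ⟨x, rfl⟩ := exists_of_mem M hg
  exact ⟨⟨NA_F x, t_comm M hg⟩, fun a => mo_F x a⟩

omit M in
theorem Nt_le_Kt : Nt F ≤ Kt F := fun _ h => h.1

variable (hnf : ∀ c : G, c * F t = F t * c → ∀ x y : M64, x * x = 1 → ¬ InR x → InR y → c * F x * c⁻¹ ≠ F y)

include hnf

/-- a 2-element of `N(A) ∩ C(t)` acts trivially on `D / t` -/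
theorem two_elt {g : G} (hg : g ∈ Kt F) {n : ℕ} (hn : g ^ 2 ^ n = 1) : g ∈ Nt F := by
  have hp : IsPGroup 2 (zpowers g) := by
    rw [IsPGroup.iff_card]
    rw [Nat.card_zpowers]
    obtain ⟨m, -, hm⟩ := (Nat.dvd_prime_pow Nat.prime_two).1 (orderOf_dvd_of_pow_eq_one hn)
    exact ⟨m, hm⟩
  have hPK : (P : Subgroup G) ≤ Kt F := (P_le_Nt M).trans Nt_le_Kt
  have hi : ¬ 2 ∣ (P : Subgroup G).relIndex (Kt F) := fun hd =>
    P.not_dvd_index (hd.trans (relIndex_dvd_index_of_le hPK))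
  obtain ⟨k, hk, hkg⟩ := Cfsg.Agent.Lib.GoldschmidtFusion.exists_conj_le_in P.isPGroup' hi
    (show zpowers g ≤ Kt F from (zpowers_le (H := Kt F)).2 hg) hp
  have h1 : k * g * k⁻¹ ∈ Nt F := P_le_Nt M (hkg ⟨g, mem_zpowers g, rfl⟩)
  refine ⟨hg, ?_⟩
  intro a
  obtain ⟨f, hf⟩ := exists_fun M hnf hk.1 hk.2
  have h2 : Mo F k a (f a) := hf a
  have h3 := mo_mul h1.1.2 h2 (h1.2 (f a))
  have h4 := mo_mul (comm_inv hk.2) h3 (mo_inv hk.2 h2)
  have e : k⁻¹ * (k * g * k⁻¹ * k) = g := by group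
  rwa [e] at h4

omit M hnf in
theorem inv_of_fix : ∀ f : Fin 3 → Fin 3, (∀ i j, f i = f j → i = j) → ∀ a, f a = a → ∀ i, f (f i) = i := by
  decide +kernel

/-- an element of `N(A) ∩ C(t)` which fixes one `ee a` modulo `t` fixes all of them modulo `t` -/
theorem mem_Nt {g : G} (hg : g ∈ Kt F) {a : Fin 3} (ha : Mo F g a a) : g ∈ Nt F := by
  obtain ⟨f, hf⟩ := exists_fun M hnf hg.1 hg.2
  have hf' : ∀ b, Mo F g b (f b) := hf
  have hinj : ∀ i j, f i = f j → i = j := by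
    intro i j hij
    have h1 := mo_inv hg.2 (hf' i)
    have h2 := mo_inv hg.2 (hf' j)
    rw [← hij] at h2
    exact mo_unique M.inj h1 h2
  have hfa : f a = a := mo_unique M.inj (hf' a) ha
  have hinv : Function.Involutive f := inv_of_fix f hinj a hfa
  have hpow : ∀ n : ℕ, ∀ b, Mo F (g ^ n) b (f^[n] b) := by
    intro n
    induction n with
    | zero => intro b; rw [pow_zero]; exact Or.inl (by group; rfl)
    | succ n ih =>
      intro b
      rw [pow_succ', Function.iterate_succ_apply']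
      exact mo_mul hg.2 (ih b) (hf' _)
  obtain ⟨k, m, hm, hkm⟩ := Nat.exists_eq_two_pow_mul_odd (n := orderOf g) (orderOf_pos g).ne'
  have h1 : g ^ m ∈ Nt F := by
    apply two_elt M hnf ((Kt F).pow_mem hg m) (n := k)
    rw [← pow_mul, mul_comm, ← hkm, pow_orderOf_eq_one]
  refine ⟨hg, ?_⟩
  intro b
  have h2 := mo_unique M.inj (hpow m b) (h1.2 b)
  rw [hinv.iterate_odd hm] at h2
  have h3 := hf' b
  rwa [h2] at h3

omit M hnf in
theorem gen_D : ∀ x : M64, InA x → InR x → ∃ a, x = 1 ∨ x = t ∨ x = ee a ∨ x = t * ee a := by decide +kernel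

omit M hnf in
theorem fix_of_odd {g : G} (hg : Odd (orderOf g)) {x : G} (hx : (g * g) * x * (g * g)⁻¹ = x) : g * x * g⁻¹ = x := by
  obtain ⟨n, hn⟩ := exists_pow_sq hg
  have h1 : ∀ k : ℕ, (g * g) ^ k * x * ((g * g) ^ k)⁻¹ = x := by
    intro k
    induction k with
    | zero => group
    | succ k ih =>
      rw [pow_succ]
      calc (g * g) ^ k * (g * g) * x * ((g * g) ^ k * (g * g))⁻¹ =
            (g * g) ^ k * ((g * g) * x * (g * g)⁻¹) * ((g * g) ^ k)⁻¹ := by group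
        _ = x := by rw [hx, ih]
  have h2 := h1 n
  rwa [← hn] at h2

/-- an element of odd order of `N(A) ∩ C(t)` acting trivially on `D / t` centralises `A` -/
theorem odd_elt {g : G} (hg : g ∈ Nt F) (ho : Odd (orderOf g)) : CA F g := by
  have h1 : ∀ a, g * F (ee a) * g⁻¹ = F (ee a) := by
    intro a
    apply fix_of_odd ho
    rcases hg.2 a with h | h
    · exact conj_trans h h
    · have h2 := conj_mul (fix_t hg.1.2) h
      rw [← mul_assoc, tt, one_mul] at h2
      exact conj_trans h h2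
  have h2 : ∀ d, InA d → InR d → g * F d * g⁻¹ = F d := by
    intro d hd hdR
    obtain ⟨a, rfl | rfl | rfl | rfl⟩ := gen_D d hd hdR
    · rw [map_one]; group
    · exact fix_t hg.1.2
    · exact h1 a
    · exact conj_mul (fix_t hg.1.2) (h1 a)
  have h3 : g * F s * g⁻¹ = F s := by
    apply fix_of_odd ho
    obtain ⟨y, hy, hsy⟩ := hg.1.1 s A_s
    have hyR : ¬ InR y := fun h => not_R_s ((D_norm M hnf hg.1.1 hg.1.2 A_s hsy).2 h)
    obtain ⟨d, hdA, hdR, rfl | rfl⟩ := gen_A y hy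
    · exact absurd hdR hyR
    · have h4 := conj_mul (h2 d hdA hdR) hsy
      rw [← mul_assoc, A_sq d hdA, one_mul] at h4
      exact conj_trans hsy h4
  intro a ha
  obtain ⟨d, hdA, hdR, rfl | rfl⟩ := gen_A a ha
  · exact h2 _ hdA hdR
  · exact conj_mul (h2 d hdA hdR) h3

/-- **Parity**: an element of `N(A) ∩ C(t)` which fixes some `ee a` modulo `t` acts on `A` as an element of `P` -/
theorem parity {g : G} (hg : NA F g) (hgt : g * F t = F t * g) {a : Fin 3}
    (ha : g * F (ee a) * g⁻¹ = F (ee a) ∨ g * F (ee a) * g⁻¹ = F (t * ee a)) :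
    ∃ σ : M64, ∀ x, InA x → g * F x * g⁻¹ = F (σ * x * σ⁻¹) := by
  have h1 : g ∈ Nt F := mem_Nt M hnf ⟨hg, hgt⟩ ha
  obtain ⟨σ, hσ, c, hc, rfl⟩ := exists_mul P (Nt F) (Ct F) (P_le_Nt M) (by
    intro n hn c hc a ha
    obtain ⟨b, hb, h2⟩ := (NA_inv hn.1.1) a ha
    have h3 := conj_trans (conj_trans h2 (hc b hb)) (conj_symm h2)
    rw [inv_inv, ← mul_assoc] at h3
    exact h3) (fun n hn ho => odd_elt M hnf hn ho) g h1
  obtain ⟨x, rfl⟩ := exists_of_mem M hσ
  exact ⟨x, fun y hy => conj_trans (hc y hy) (conj_F F x y)⟩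

omit M hnf in
theorem cyc_of : ∀ f : Fin 3 → Fin 3, (∀ i j, f i = f j → i = j) → (∀ a, f a ≠ a) →
    (∀ a, f a = a + 1) ∨ ∀ a, f a = a + 2 := by decide +kernel

/-- **Parity**: an element of `N(A) ∩ C(t)` which fixes no `ee a` modulo `t` cycles them modulo `t` -/
theorem cycle {g : G} (hg : NA F g) (hgt : g * F t = F t * g) (ha : ∀ a, ¬ Mo F g a a) :
    (∀ a, Mo F g a (a + 1)) ∨ ∀ a, Mo F g a (a + 2) := by
  obtain ⟨f, hf⟩ := exists_fun M hnf hg hgt
  have hf' : ∀ b, Mo F g b (f b) := hf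
  have hinj : ∀ i j, f i = f j → i = j := by
    intro i j hij
    have h1 := mo_inv hgt (hf' i)
    have h2 := mo_inv hgt (hf' j)
    rw [← hij] at h2
    exact mo_unique M.inj h1 h2
  rcases cyc_of f hinj (fun a h => ha a (by have := hf' a; rwa [h] at this)) with h | h
  · left; intro a; rw [← h a]; exact hf' a
  · right; intro a; rw [← h a]; exact hf' a

end

end Cfsg.Agent.SylowSp4.TwoParity
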