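import Cfsg.Agent.SylowSp4.TwoY
import Cfsg.Agent.SylowSp4.TwoParity

/-!
# Type `PSp₄(3)`: involutions of `R` conjugate to `t`, transfer

* `off` : an involution `v ≠ t` of `R` conjugate to `t` is conjugate in `C(t)` to some `±ee l`;
* `transfer_false` : transfer into `P / M` of a root of `t`;
* `c_cases` : an element of `C(t)` moving an element of `R` into `R` acts on it like an element of `N_K(R) ⟨s⟩`;
* `T_off` : if `Y` is trivial, no involution of `R` outside `A` is conjugate to `t`.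
-/

set_option autoImplicit false

namespace Cfsg.Agent.SylowSp4.TwoOff

open Subgroup Cfsg.Agent.SylowSp4.AltModel Cfsg.Agent.SylowSp4.TwoBase Cfsg.Agent.SylowSp4.TwoCtx
open Cfsg.Agent.SylowSp4.TwoY Cfsg.Agent.SylowSp4.TwoParity
open Cfsg.Agent.Lib.GoldschmidtFusion

theorem exists_root : ∀ v : M64, InR v → v * v = 1 → v ≠ 1 → ∃ q, q * q = t ∧ q * v = v * q := by decide +kernel

theorem ee_of : ∀ a : M64, InA a → InR a → a ≠ 1 → a ≠ t → ∃ l, a = ee l ∨ a = t * ee l := by decide +kernel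

section

variable {G : Type*} [Group G] {P : Sylow 2 G} {F : M64 →* G} {K : Subgroup G} (C : Ctx P F K)

include C

theorem hnf : ∀ c : G, c * F t = F t * c → ∀ x y : M64, x * x = 1 → ¬ InR x → InR y → c * F x * c⁻¹ ≠ F y :=
  fun c hc x y hx hxR hy => C.no_fusion x hx hxR c hc y hy

omit C in
theorem st_comm : F s * F t = F t * F s := by rw [← map_mul, ← map_mul, t_central]

end

section

variable {G : Type*} [Group G] [Finite G] {P : Sylow 2 G} {F : M64 →* G} {K : Subgroup G} (C : Ctx P F K)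

include C

/-- An involution `v ≠ t` of `R` conjugate to `t` is conjugate in `C(t)` to some `±ee l`. -/
theorem off {v : M64} (hv : InR v) (hvt : v ≠ t) (h : IsConj (F t) (F v)) :
    ∃ c, c * F t = F t * c ∧ ∃ l, c * F v * c⁻¹ = F (ee l) ∨ c * F v * c⁻¹ = F (t * ee l) := by
  obtain ⟨g₀, hg₀⟩ := isConj_iff.1 h.symm
  have hvv : v * v = 1 := by
    apply C.mod.inj
    rw [map_mul, map_one]
    have h1 : F v = g₀⁻¹ * F t * g₀ := by rw [← hg₀]; group
    have h2 : F t * F t = 1 := by rw [← map_mul, show t * t = 1 by decide +kernel, map_one]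
    calc F v * F v = g₀⁻¹ * (F t * F t) * g₀ := by rw [h1]; group
      _ = 1 := by rw [h2]; group
  have hv1 : v ≠ 1 := by
    rintro rfl
    rw [map_one] at hg₀
    have : F t = 1 := by rw [← hg₀]; group
    exact t_ne_one (C.mod.inj (by rw [this, map_one]))
  obtain ⟨q, hq, hqv⟩ := exists_root v hv hvv hv1
  obtain ⟨g, hg, hgC⟩ := Extremal.exists_conj_of_central P (t := F t) (w := F v)
    (fun y hy => TwoBase.t_comm C.mod hy) ⟨g₀, hg₀⟩
  obtain ⟨w, hw⟩ := exists_of_mem C.mod (hgC (F q) (TwoBase.mem C.mod q) (by rw [← map_mul, hqv, map_mul]))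
  -- `g t g⁻¹` lies in `A`
  have hgt : g * F t * g⁻¹ = F (w * w) := by
    rw [map_mul, hw, ← hq, map_mul]; group
  set D := (Asub.map F).map (MulAut.conj g⁻¹).toMonoidHom with hD
  have hDC : D ≤ centralizer ({F t} : Set G) := by
    rintro _ ⟨_, ⟨a, ha, rfl⟩, rfl⟩
    change g⁻¹ * F a * g⁻¹⁻¹ ∈ _
    rw [mem_centralizer_singleton_iff, inv_inv]
    have h1 : F t = g⁻¹ * F (w * w) * g := by rw [← hgt]; group
    have h2 : F a * F (w * w) = F (w * w) * F a := by
      rw [← map_mul, ← map_mul, A_comm a _ ha (sq_mem_A w)]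
    rw [h1]
    calc g⁻¹ * F a * g * (g⁻¹ * F (w * w) * g) = g⁻¹ * (F a * F (w * w)) * g := by group
      _ = g⁻¹ * (F (w * w) * F a) * g := by rw [h2]
      _ = _ := by group
  have hPC : (P : Subgroup G) ≤ centralizer ({F t} : Set G) := fun x hx =>
    mem_centralizer_singleton_iff.2 (TwoBase.t_comm C.mod hx)
  have hi : ¬ 2 ∣ (P : Subgroup G).relIndex (centralizer ({F t} : Set G)) := fun hd =>
    P.not_dvd_index (hd.trans (relIndex_dvd_index_of_le hPC))
  obtain ⟨c, hc, hcD⟩ := exists_conj_le_in P.isPGroup' hi hDC ((isPGroup_AF C.mod).map _)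
  have hct := mem_centralizer_singleton_iff.1 hc
  have hn := norm_of_le C.mod (n := c * g⁻¹) (by
    intro a ha
    have h1 : c * (g⁻¹ * F a * g⁻¹⁻¹) * c⁻¹ ∈ (P : Subgroup G) := hcD ⟨_, ⟨_, ⟨a, ha, rfl⟩, rfl⟩, rfl⟩
    have e : c * g⁻¹ * F a * (c * g⁻¹)⁻¹ = c * (g⁻¹ * F a * g⁻¹⁻¹) * c⁻¹ := by group
    rw [e]; exact h1)
  obtain ⟨a, ha, hca⟩ := hn t A_t
  have hcv : c * F v * c⁻¹ = F a := by
    rw [← hca, ← hg]; group
  have haR : InR a := by
    by_contra haR
    apply C.no_fusion a (A_sq a ha) haR c⁻¹ (comm_inv hct) v hv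
    rw [← hcv]; group
  have ha1 : a ≠ 1 := by
    rintro rfl
    rw [map_one] at hcv
    have : F v = 1 := by
      calc F v = c⁻¹ * (c * F v * c⁻¹) * c := by group
        _ = 1 := by rw [hcv]; group
    exact hv1 (C.mod.inj (by rw [this, map_one]))
  have hat : a ≠ t := by
    rintro rfl
    have : F v = F t := by
      calc F v = c⁻¹ * (c * F v * c⁻¹) * c := by group
        _ = c⁻¹ * (F t * c) := by rw [hcv]; group
        _ = F t := by rw [← hct]; group
    exact hvt (C.mod.inj this)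
  obtain ⟨l, h1 | h1⟩ := ee_of a ha haR ha1 hat
  · exact ⟨c, hct, l, Or.inl (by rw [hcv, h1])⟩
  · exact ⟨c, hct, l, Or.inr (by rw [hcv, h1])⟩

omit [Finite G] in
/-- the class of `t` consists of involutions -/
theorem sq_of_T {x : M64} (h : IsConj (F t) (F x)) : x * x = 1 ∧ x ≠ 1 := by
  obtain ⟨g, hg⟩ := isConj_iff.1 h
  have h2 : F t * F t = 1 := by rw [← map_mul, show t * t = 1 by decide +kernel, map_one]
  constructor
  · apply C.mod.inj
    rw [map_mul, map_one, ← hg]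
    calc g * F t * g⁻¹ * (g * F t * g⁻¹) = g * (F t * F t) * g⁻¹ := by group
      _ = 1 := by rw [h2]; group
  · rintro rfl
    rw [map_one] at hg
    have : F t = 1 := by
      calc F t = g⁻¹ * (g * F t * g⁻¹) * g := by group
        _ = 1 := by rw [hg]; group
    exact t_ne_one (C.mod.inj (by rw [this, map_one]))

/-- Transfer of a root `y` of `t` into `P / M`. -/
theorem transfer_false (hG : ∀ H : Subgroup G, H.index ≠ 2) {M : Subgroup M64}
    (hM : (M.map F).relIndex (P : Subgroup G) = 2) {y : M64} (hy : y * y = t)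
    (ha : ∀ x, IsConj (F t) (F x) → x ∈ M) (hb : ∀ x, IsConj (F y) (F x) → x ∉ M) : False := by
  obtain ⟨V, hV⟩ := Extremal.exists_transfer P (M.map F) hM
  have hmem : ∀ x, F x ∈ M.map F ↔ x ∈ M := fun x =>
    ⟨fun ⟨z, hz, e⟩ => by rw [← C.mod.inj e]; exact hz, fun hx => ⟨x, hx, rfl⟩⟩
  have hy4 : y ^ 4 = 1 := by
    have : y ^ 4 = (y * y) * (y * y) := by rw [show 4 = 2 + 2 from rfl, pow_add, sq]
    rw [this, hy]
    decide +kernel
  have hyi : t * y = y⁻¹ := by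
    have h1 : y * (t * y) = 1 := by
      rw [← mul_assoc, t_central, mul_assoc, hy]
      decide +kernel
    exact (inv_eq_of_mul_eq_one_right h1).symm
  have h1 := (hV (F y) (TwoBase.mem C.mod y) (by
    intro k g hg
    have e : F y ^ k = F (y ^ (k % 4)) := by rw [← map_pow, ← pow_eq_pow_mod k hy4]
    rw [e] at hg ⊢
    obtain ⟨w, hw⟩ := exists_of_mem C.mod hg
    rw [← hw, hmem, hmem]
    have hk : k % 4 < 4 := Nat.mod_lt _ (by norm_num)
    generalize k % 4 = j at *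
    interval_cases j
    · rw [pow_zero, map_one] at hw
      have : w = 1 := C.mod.inj (by rw [hw, map_one]; group)
      rw [this, pow_zero]
    · rw [pow_one] at hw ⊢
      have h2 := hb w (isConj_iff.2 ⟨g, hw.symm⟩)
      have h3 := hb y (IsConj.refl _)
      exact ⟨fun h => absurd h h2, fun h => absurd h h3⟩
    · have e2 : y ^ 2 = t := by rw [sq, hy]
      rw [e2] at hw ⊢
      have h2 := ha w (isConj_iff.2 ⟨g, hw.symm⟩)
      have h3 := ha t (IsConj.refl _)
      exact ⟨fun _ => h3, fun _ => h2⟩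
    · have e2 : y ^ 3 = y⁻¹ := by
        rw [pow_succ, sq, hy, hyi]
      rw [e2] at hw ⊢
      have h2 := hb w⁻¹ (isConj_iff.2 ⟨g, by rw [map_inv, hw, map_inv]; group⟩)
      have h3 := hb y (IsConj.refl _)
      exact ⟨fun h => absurd (M.inv_mem h) h2, fun h => absurd (by rw [← inv_inv y]; exact M.inv_mem h) h3⟩)).1
    (Extremal.char_trivial hG V _)
  exact hb y (IsConj.refl _) ((hmem y).1 h1)

omit [Finite G] in
theorem relIndex_map {M : Subgroup M64} {a : M64} (h : ∀ x, (x * a ∈ M ∧ x ∉ M) ∨ (x ∈ M ∧ x * a ∉ M)) :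
    (M.map F).relIndex (P : Subgroup G) = 2 := by
  have hmem : ∀ x, F x ∈ M.map F ↔ x ∈ M := fun x =>
    ⟨fun ⟨z, hz, e⟩ => by rw [← C.mod.inj e]; exact hz, fun hx => ⟨x, hx, rfl⟩⟩
  rw [Subgroup.relIndex, Subgroup.index_eq_two_iff]
  refine ⟨⟨F a, TwoBase.mem C.mod _⟩, ?_⟩
  rintro ⟨g, hg⟩
  obtain ⟨x, rfl⟩ := exists_of_mem C.mod hg
  rw [Subgroup.mem_subgroupOf, Subgroup.mem_subgroupOf]
  change Xor (F x * F a ∈ M.map F) (F x ∈ M.map F)
  rw [← map_mul, hmem, hmem]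
  exact h x

end

/-! ### off-diagonal involutions -/

/-- `(c_a, c_b)` -/
def dd (a b : Fin 3) : M64 := q1 a * q2 b

theorem ee_eq (a : Fin 3) : ee a = dd a a := rfl

theorem R_dd : ∀ a b, InR (dd a b) := by decide +kernel
theorem s_dd : ∀ a b, s * dd a b * s⁻¹ = dd b a := by decide +kernel
theorem s_R_conj : ∀ x, InR x → InR (s * x * s⁻¹) := by decide +kernel
theorem dd_inj : ∀ a b a' b', (dd a b = dd a' b' ∨ dd a b = t * dd a' b') → a = a' ∧ b = b' := by decide +kernel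
theorem dd_cases : ∀ v, InR v → v * v = 1 → v ≠ 1 → v ≠ t → ∃ a b, v = dd a b ∨ v = t * dd a b := by decide +kernel
theorem dd_not_A : ∀ a b, ¬ InA (dd a b) → a ≠ b := by decide +kernel
theorem root_cases : ∀ y : M64, y * y = t → ∃ l, (y = q1 l ∨ y = t * q1 l) ∨ (y = q2 l ∨ y = t * q2 l) := by
  decide +kernel
theorem q_dis : ∀ a b, ¬ (q1 a = q2 b ∨ q1 a = t * q2 b) := by decide +kernel
theorem twist_dd : ∀ a b, ∃ r, r * dd a b * r⁻¹ = t * dd a b := by decide +kernel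

section

variable {G : Type*} [Group G] {P : Sylow 2 G} {F : M64 →* G} {K : Subgroup G} (C : Ctx P F K)

include C

theorem act_dd {n : G} {m₁ m₂ : Fin 3} (hn : n * F t = F t * n) (h : Act F n m₁ m₂) (a b : Fin 3) :
    n * F (dd a b) * n⁻¹ = F (dd (a + m₁) (b + m₂)) ∨ n * F (dd a b) * n⁻¹ = F (t * dd (a + m₁) (b + m₂)) := by
  have e : n * F (dd a b) * n⁻¹ = (n * F (q1 a) * n⁻¹) * (n * F (q2 b) * n⁻¹) := by
    rw [dd, map_mul]; group
  have e1 : ∀ x y : M64, x * (t * y) = t * (x * y) := fun x y => by rw [← mul_assoc, t_central, mul_assoc]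
  rw [e]
  rcases h.1 a with h1 | h1 <;> rcases h.2 b with h2 | h2 <;> rw [h1, h2, ← map_mul]
  · exact Or.inl rfl
  · right; rw [e1]; rfl
  · right; rw [mul_assoc]; rfl
  · left; rw [mul_assoc, e1, tt_mul]; rfl

theorem t_dd (a b : Fin 3) : IsConj (F (dd a b)) (F (t * dd a b)) := by
  obtain ⟨r, hr⟩ := twist_dd a b
  exact isConj_iff.2 ⟨F r, by rw [← map_inv, ← map_mul, ← map_mul, hr]⟩

variable [Finite G]

/-- an element of `C(t)` acts on an element of `R` which it moves into `R` like an element of `N_K(R) ⟨s⟩` -/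
theorem c_cases {c : G} (hc : c * F t = F t * c) {x y : M64} (hx : InR x) (hy : InR y) (h : c * F x * c⁻¹ = F y) :
    ∃ n m₁ m₂, NR F K n ∧ Act F n m₁ m₂ ∧ (n * F x * n⁻¹ = F y ∨ n * F (s * x * s⁻¹) * n⁻¹ = F y) := by
  rcases C.mem_or c hc with h1 | h1
  · obtain ⟨n, hn, e⟩ := exists_NR C hx hy h1 h
    obtain ⟨m₁, m₂, ha⟩ := exists_act C hn
    exact ⟨n, m₁, m₂, hn, ha, Or.inl e⟩
  · have e : c * F s * F (s * x * s⁻¹) * (c * F s)⁻¹ = F y := by
      rw [map_mul, map_mul, map_inv, ← h]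
      have h2 : F s * F s = 1 := by rw [← map_mul, show s * s = 1 by decide +kernel, map_one]
      have h3 : (F s)⁻¹ = F s := inv_eq_of_mul_eq_one_left h2
      calc c * F s * (F s * F x * (F s)⁻¹) * (c * F s)⁻¹ = c * (F s * F s) * F x * ((F s)⁻¹ * (F s)⁻¹) * c⁻¹ := by group
        _ = c * F x * c⁻¹ := by rw [h3, h2]; group
    obtain ⟨n, hn, e⟩ := exists_NR C (s_R_conj x hx) hy h1 e
    obtain ⟨m₁, m₂, ha⟩ := exists_act C hn
    exact ⟨n, m₁, m₂, hn, ha, Or.inr e⟩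

/-- `C(t)`-conjugacy of the involutions of `R`. -/
theorem dd_conj {c : G} (hc : c * F t = F t * c) {a b a' b' : Fin 3}
    (h : c * F (dd a b) * c⁻¹ = F (dd a' b') ∨ c * F (dd a b) * c⁻¹ = F (t * dd a' b')) :
    ∃ m₁ m₂, Y F K m₁ m₂ ∧ ((a + m₁ = a' ∧ b + m₂ = b') ∨ (b + m₁ = a' ∧ a + m₂ = b')) := by
  have key : ∃ y, InR y ∧ c * F (dd a b) * c⁻¹ = F y ∧ (y = dd a' b' ∨ y = t * dd a' b') := by
    rcases h with h | h
    · exact ⟨_, R_dd _ _, h, Or.inl rfl⟩
    · exact ⟨_, TwoY.R_mul _ _ TwoY.R_t (R_dd _ _), h, Or.inr rfl⟩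
  obtain ⟨y, hy, hcy, hy2⟩ := key
  obtain ⟨n, m₁, m₂, hn, ha, h1⟩ := c_cases C hc (R_dd a b) hy hcy
  have hnt := C.comm n hn.1
  refine ⟨m₁, m₂, ⟨n, hn, ha⟩, ?_⟩
  have fin : ∀ u v : Fin 3, (F y = F (dd u v) ∨ F y = F (t * dd u v)) → u = a' ∧ v = b' := by
    intro u v huv
    apply dd_inj
    rcases huv with h2 | h2 <;> have h3 := C.mod.inj h2 <;> rcases hy2 with h4 | h4 <;> rw [h4] at h3
    · exact Or.inl h3.symm
    · exact Or.inr h3.symm
    · right; rw [h3, tt_mul]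
    · left; exact (mul_left_cancel h3).symm
  rcases h1 with h1 | h1
  · left
    apply fin
    rw [← h1]
    exact act_dd C hnt ha a b
  · right
    apply fin
    rw [← h1, s_dd]
    exact act_dd C hnt ha b a

/-- `C(t)`-conjugacy of the roots of `t`. -/
theorem root_conj {c : G} (hc : c * F t = F t * c) {l : Fin 3} {y : M64} (h : c * F (q1 l) * c⁻¹ = F y) :
    ∃ m₁ m₂, Y F K m₁ m₂ ∧ ((y = q1 (l + m₁) ∨ y = t * q1 (l + m₁)) ∨ (y = q2 (l + m₂) ∨ y = t * q2 (l + m₂))) := by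
  have hyy : y * y = t := TwoY.sq_conj C hc (q1_sq l) h
  have hy : InR y := by
    have : ∀ y : M64, y * y = t → InR y := by decide +kernel
    exact this y hyy
  obtain ⟨n, m₁, m₂, hn, ha, h1⟩ := c_cases C hc (TwoY.R_q1 l) hy h
  refine ⟨m₁, m₂, ⟨n, hn, ha⟩, ?_⟩
  rcases h1 with h1 | h1
  · left
    rcases ha.1 l with h2 | h2 <;> rw [h1] at h2
    · exact Or.inl (C.mod.inj h2)
    · exact Or.inr (C.mod.inj h2)
  · right
    rw [s_conj_q1] at h1
    rcases ha.2 l with h2 | h2 <;> rw [h1] at h2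
    · exact Or.inl (C.mod.inj h2)
    · exact Or.inr (C.mod.inj h2)

/-- If `Y` is trivial, no involution of `R` outside `A` is conjugate to `t`. -/
theorem T_off (hY : ∀ m₁ m₂, Y F K m₁ m₂ → m₁ = 0 ∧ m₂ = 0) {v : M64} (hv : InR v) (hvA : ¬ InA v) :
    ¬ IsConj (F t) (F v) := by
  intro h
  obtain ⟨h1, h2⟩ := sq_of_T C h
  have hvt : v ≠ t := fun e => hvA (e ▸ A_t)
  obtain ⟨c, hc, l, hcl⟩ := off C hv hvt h
  obtain ⟨a, b, hab⟩ := dd_cases v hv h1 h2 hvt
  have hab' : a ≠ b := by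
    apply dd_not_A
    intro h3
    apply hvA
    rcases hab with h4 | h4 <;> rw [h4]
    · exact h3
    · exact A_mul _ _ A_t h3
  have h3 : c * F (dd a b) * c⁻¹ = F (dd l l) ∨ c * F (dd a b) * c⁻¹ = F (t * dd l l) := by
    rcases hab with h4 | h4 <;> rw [h4] at hcl
    · exact hcl
    · have h5 := conj_mod C hc (x := t * dd a b) (x' := dd a b) (y := dd l l) (Or.inr (by rw [tt_mul])) hcl
      exact h5
  obtain ⟨m₁, m₂, hm, h4⟩ := dd_conj C hc h3
  obtain ⟨rfl, rfl⟩ := hY _ _ hm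
  simp only [add_zero] at h4
  rcases h4 with ⟨h5, h6⟩ | ⟨h5, h6⟩
  · exact hab' (h5.trans h6.symm)
  · exact hab' (h6.trans h5.symm)

end

end Cfsg.Agent.SylowSp4.TwoOff
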