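import Cfsg.Agent.SylowSp4.TwoParity

/-!
# Fusion for the type `PSp₄(3)`, case P: `t` is not conjugate to any `ee a`

* `ne_off` : `t` is not conjugate to an off-diagonal involution of `R`;
* `ne_ts` : if `t ~ s` then `t` is not conjugate to `t s`;
* `exists_cyc` : if `t ~ s`, an element of `N(A) ∩ C(t)` cycles `ee 0, ee 1, ee 2` modulo `t`;
* `exists_root` : in `C(t)` the element `q1 a` is conjugate to one of `q1 b, t q1 b, q2 b, t q2 b`, `a ≠ b`;
* `closed` : if no off-diagonal involution of `R` is conjugate in `C(t)` to an `ee a`, `A` is strongly closed.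
-/

set_option autoImplicit false

namespace Cfsg.Agent.SylowSp4.TwoP

open Subgroup Cfsg.Agent.SylowSp4.AltModel Cfsg.Agent.SylowSp4.TwoBase Cfsg.Agent.SylowSp4.TwoParity

/-! ### facts on the model -/

theorem sq_cases : ∀ x : M64, x * x = 1 ∨ x * x = t ∨ (∃ a, x * x = ee a) ∨ ∃ a, x * x = t * ee a := by
  decide +kernel

/-- an involution which is not in `A` is in `R` and commutes with a root of `t` -/
theorem off_root : ∀ v : M64, v * v = 1 → ¬ InA v → InR v ∧ ∃ x, x * v = v * x ∧ x * x = t := by decide +kernel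

theorem conj_t : ∀ x : M64, x * t * x⁻¹ = t := by decide +kernel

/-- the five points `t, s, t ee a s` -/
def p : Fin 5 → M64 := ![t, s, t * ee 0 * s, t * ee 1 * s, t * ee 2 * s]

theorem p_inj : ∀ i j, p i = p j → i = j := by decide +kernel
theorem p_A : ∀ i, InA (p i) := by decide +kernel

/-- the four-group on the points -/
def v : Fin 4 → Fin 5 → Fin 5 := ![![0, 1, 2, 3, 4], ![0, 2, 1, 4, 3], ![0, 3, 4, 1, 2], ![0, 4, 3, 2, 1]]

theorem v_conj : ∀ x : M64, ∃ b, ∀ i, x * p i * x⁻¹ = p (v b i) := by decide +kernel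
theorem v_surj : ∀ b, ∃ x : M64, ∀ i, x * p i * x⁻¹ = p (v b i) := by decide +kernel

theorem A_cases : ∀ x : M64, InA x → x = 1 ∨ (∃ i, x = p i) ∨ (∃ a, x = ee a ∨ x = t * ee a) ∨
    ∃ i : Fin 5, i ≠ 0 ∧ x = t * p i := by decide +kernel

/-- the words -/
theorem words : ∀ f : Fin 5 → Fin 5, (∀ i j, f i = f j → i = j) → f 0 ≠ 0 →
    (∃ a, (f (v a (f 0)) = 0 ∧ ∀ b, ∃ i, f (v a (f i)) ≠ v b i)) ∨
    ∃ a c, (f (v c (f (v a (f 0)))) = 0 ∧ ∀ b, ∃ i, f (v c (f (v a (f i)))) ≠ v b i) := by decide +kernel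

theorem p_mul : ∀ i j : Fin 5, i ≠ 0 → j ≠ 0 → i ≠ j → ∃ a, p i * p j = ee a ∨ p i * p j = t * ee a := by
  decide +kernel
theorem exists_ne : ∀ f : Fin 5 → Fin 5, (∀ i j, f i = f j → i = j) → ∃ i, i ≠ 0 ∧ f i ≠ 0 := by decide +kernel
theorem q1_conj : ∀ a, ∃ x : M64, x * ee a * x⁻¹ = t * ee a := by decide +kernel
theorem p_conj : ∀ i : Fin 5, i ≠ 0 → (∃ x : M64, x * s * x⁻¹ = p i) ∧ ∃ x : M64, x * (t * s) * x⁻¹ = t * p i := by
  decide +kernel
theorem ee_facts : ∀ a, ee a * (t * ee a) = t := by decide +kernel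
theorem add_two_two : ∀ a : Fin 3, a + 2 + 2 = a + 1 := by decide +kernel
theorem one_sq : (1 : M64) * 1 = 1 := by decide +kernel

/-- the maximal subgroup `{(p, q) s ^ m : p q ∈ ⟨c_b⟩}` -/
def InM : Fin 3 → M64 → Prop := ![fun x => x.b = x.d, fun x => x.a = x.c, fun x => x.a + x.c = x.b + x.d]

instance : ∀ b, DecidablePred (InM b) := fun b x => by
  match b with
  | 0 => exact (inferInstance : Decidable (x.b = x.d))
  | 1 => exact (inferInstance : Decidable (x.a = x.c))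
  | 2 => exact (inferInstance : Decidable (x.a + x.c = x.b + x.d))

theorem M_mul : ∀ b, ∀ x y : M64, InM b x → InM b y → InM b (x * y) := by decide +kernel
theorem M_one : ∀ b, InM b 1 := by decide +kernel
theorem M_inv : ∀ b, ∀ x : M64, InM b x → InM b x⁻¹ := by decide +kernel
theorem M_xor : ∀ b, ∀ x : M64, (InM b (x * q1 (b + 1)) ∧ ¬ InM b x) ∨ (InM b x ∧ ¬ InM b (x * q1 (b + 1))) := by
  decide +kernel
theorem M_q1 : ∀ a b, a ≠ b → ¬ InM b (q1 a) ∧ ¬ InM b (t * q1 a) := by decide +kernel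
theorem M_t : ∀ b, InM b t := by decide +kernel
theorem M_p : ∀ b i, InM b (p i) := by decide +kernel
theorem root_M : ∀ b, ∀ x : M64, InM b x → x * x = t → x = q1 b ∨ x = t * q1 b ∨ x = q2 b ∨ x = t * q2 b := by
  decide +kernel
theorem root_t : ∀ a, q1 a * q1 a = t ∧ (t * q1 a) * (t * q1 a) = t := by decide +kernel

theorem q1_pow (a : Fin 3) (k : ℕ) :
    q1 a ^ k = 1 ∨ q1 a ^ k = t ∨ q1 a ^ k = q1 a ∨ q1 a ^ k = t * q1 a := by
  induction k with
  | zero => left; exact pow_zero _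
  | succ k ih =>
    rw [pow_succ]
    rcases ih with h | h | h | h
    · right; right; left; rw [h, one_mul]
    · right; right; right; rw [h]
    · right; left; rw [h, (root_t a).1]
    · left; rw [h, mul_assoc, (root_t a).1, tt]

/-- the maximal subgroup `{(p, q) s ^ m : p q ∈ ⟨c_b⟩}` -/
def Msub (b : Fin 3) : Subgroup M64 where
  carrier := {x | InM b x}
  mul_mem' {x y} hx hy := M_mul b x y hx hy
  one_mem' := M_one b
  inv_mem' {x} hx := M_inv b x hx

section

variable {G : Type*} [Group G] {F : M64 →* G}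

theorem isConj_F {x y : M64} (h : ∃ g, g * x * g⁻¹ = y) : IsConj (F x) (F y) := by
  obtain ⟨g, rfl⟩ := h
  exact isConj_iff.2 ⟨F g, by rw [map_mul, map_mul, map_inv]⟩

theorem tee (a : Fin 3) : IsConj (F (ee a)) (F (t * ee a)) := isConj_F (q1_conj a)

variable (hte : ∀ a, ¬ IsConj (F t) (F (ee a)))

include hte

theorem hte' (a : Fin 3) : ¬ IsConj (F t) (F (t * ee a)) := fun h => hte a (h.trans (tee a).symm)

end

section

variable {G : Type*} [Group G] [Finite G] {P : Sylow 2 G} {F : M64 →* G} (M : Mod (P : Subgroup G) F)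
  (hte : ∀ a, ¬ IsConj (F t) (F (ee a)))

include M hte

/-- a square of `P` conjugate to `t` is `t` -/
theorem eq_t_of_sq {x : M64} (h : IsConj (F t) (F (x * x))) : x * x = t := by
  rcases sq_cases x with h1 | h1 | ⟨a, h1⟩ | ⟨a, h1⟩
  · exfalso
    rw [h1, map_one] at h
    have h2 : F t = F 1 := by rw [map_one]; exact isConj_one_right.1 h.symm
    exact TwoBase.t_ne_one (M.inj h2)
  · exact h1
  · rw [h1] at h; exact absurd h (hte a)
  · rw [h1] at h; exact absurd h (hte' hte a)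

/-- if `g` conjugates a root of `t` into `P` then `g` commutes with `t` -/
theorem comm_of_root {g : G} {x y : M64} (hx : x * x = t) (h : g * F x * g⁻¹ = F y) : g * F t = F t * g ∧ y * y = t := by
  have h1 : g * F t * g⁻¹ = F (y * y) := by
    rw [← hx]; exact conj_mul h h
  have h2 := eq_t_of_sq M hte (isConj_iff.2 ⟨g, h1⟩)
  rw [h2] at h1
  refine ⟨?_, h2⟩
  calc g * F t = g * F t * g⁻¹ * g := by group
    _ = F t * g := by rw [h1]

/-- `t` is not conjugate to an involution outside `A` -/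
theorem ne_off {w : M64} (hw : w * w = 1) (hwA : ¬ InA w) : ¬ IsConj (F t) (F w) := by
  intro hc
  obtain ⟨-, x, hxw, hx⟩ := off_root w hw hwA
  obtain ⟨g, hg⟩ := isConj_iff.1 hc.symm
  obtain ⟨g, hg, hC⟩ := Extremal.exists_conj_of_central P (fun y hy => t_comm M hy) ⟨g, hg⟩
  obtain ⟨y, hy⟩ := exists_of_mem M (hC (F x) (mem M x) (by rw [← map_mul, ← map_mul, hxw]))
  have h1 := (comm_of_root M hte hx hy.symm).1
  have h2 : F w = F t := by
    calc F w = g⁻¹ * (g * F w * g⁻¹) * g := by group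
      _ = g⁻¹ * (F t * g) := by rw [hg]; group
      _ = F t := by rw [← h1]; group
  rw [M.inj h2] at hwA
  exact hwA A_t

variable (hts : IsConj (F t) (F s))

include hts

theorem exists_n : ∃ n, NA F n ∧ n * F t * n⁻¹ = F s := by
  obtain ⟨g, hg⟩ := isConj_iff.1 hts
  obtain ⟨n, -, h1, h2⟩ := exists_NA M ⊤ (fun _ _ => mem_top _) A_t A_s (mem_top g) hg
  exact ⟨n, h1, h2⟩

theorem ne_ts : ¬ IsConj (F t) (F (t * s)) := by
  intro htts
  obtain ⟨n, hn, hns⟩ := exists_n M hte hts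
  have key : ∀ x : M64, InA x → ¬ IsConj (F t) (F x) → ∃ y, InR y ∧ n * F x * n⁻¹ = F y := by
    intro x hx hxt
    obtain ⟨y, hy, hxy⟩ := hn x hx
    have hc : IsConj (F x) (F y) := isConj_iff.2 ⟨n, hxy⟩
    refine ⟨y, ?_, hxy⟩
    rcases A_cases y hy with rfl | ⟨i, rfl⟩ | ⟨a, rfl | rfl⟩ | ⟨i, hi, rfl⟩
    · decide +kernel
    · exfalso
      apply hxt
      by_cases hi : i = 0
      · rw [hi] at hc; exact hc.symm
      · exact (hts.trans (isConj_F (p_conj i hi).1)).trans hc.symm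
    · exact R_ee a
    · exact R_tee a
    · exact absurd ((htts.trans (isConj_F (p_conj i hi).2)).trans hc.symm) hxt
  obtain ⟨y, hy, h1⟩ := key (ee 0) (A_ee 0) (hte 0)
  obtain ⟨y', hy', h2⟩ := key (t * ee 0) (A_mul _ _ A_t (A_ee 0)) (hte' hte 0)
  have h3 := conj_mul h1 h2
  rw [ee_facts, hns] at h3
  have h4 := M.inj h3
  exact not_R_s (h4 ▸ R_mul y y' hy hy')

theorem p_of_conj {y : M64} (hy : InA y) (h : IsConj (F t) (F y)) : ∃ i, y = p i := by
  rcases A_cases y hy with rfl | ⟨i, rfl⟩ | ⟨a, rfl | rfl⟩ | ⟨i, hi, rfl⟩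
  · exfalso
    rw [map_one] at h
    have h2 : F t = F 1 := by rw [map_one]; exact isConj_one_right.1 h.symm
    exact TwoBase.t_ne_one (M.inj h2)
  · exact ⟨i, rfl⟩
  · exact absurd h (hte a)
  · exact absurd h (hte' hte a)
  · exact absurd (h.trans (isConj_F (p_conj i hi).2).symm) (ne_ts M hte hts)

theorem conj_p (i : Fin 5) : IsConj (F t) (F (p i)) := by
  by_cases hi : i = 0
  · rw [hi]; exact IsConj.refl _
  · exact hts.trans (isConj_F (p_conj i hi).1)

omit hte hts in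
theorem relIndex_M (b : Fin 3) : ((Msub b).map F).relIndex (P : Subgroup G) = 2 := by
  have hm : ∀ x : M64, F x ∈ (Msub b).map F ↔ InM b x := by
    intro x
    rw [Subgroup.mem_map_iff_mem M.inj]
    rfl
  rw [Subgroup.relIndex, Subgroup.index_eq_two_iff]
  refine ⟨⟨F (q1 (b + 1)), mem M _⟩, ?_⟩
  rintro ⟨g, hg⟩
  obtain ⟨x, rfl⟩ := exists_of_mem M hg
  rw [Subgroup.mem_subgroupOf, Subgroup.mem_subgroupOf]
  change Xor (F x * F (q1 (b + 1)) ∈ (Msub b).map F) (F x ∈ (Msub b).map F)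
  rw [← map_mul, hm, hm]
  exact M_xor b x

/-- the `t`-type involutions of `P` -/
theorem p_of_conj' {y : M64} (h : IsConj (F t) (F y)) : ∃ i, y = p i := by
  have hy : y * y = 1 := by
    obtain ⟨g, hg⟩ := isConj_iff.1 h
    apply M.inj
    rw [map_mul, map_one, ← hg]
    calc g * F t * g⁻¹ * (g * F t * g⁻¹) = g * (F t * F t) * g⁻¹ := by group
      _ = 1 := by rw [← map_mul, tt, map_one]; group
  by_cases hA : InA y
  · exact p_of_conj M hte hts hA h
  · exact absurd h (ne_off M hte hy hA)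

/-- in `C(t)` the root `q1 a` of `t` is conjugate to a root in `⟨c_b⟩` -/
theorem exists_root (hG : ∀ H : Subgroup G, H.index ≠ 2) {a b : Fin 3} (hab : a ≠ b) :
    ∃ c : G, c * F t = F t * c ∧ ∃ x : M64, c * F (q1 a) * c⁻¹ = F x ∧
      (x = q1 b ∨ x = t * q1 b ∨ x = q2 b ∨ x = t * q2 b) := by
  have hm : ∀ x : M64, F x ∈ (Msub b).map F ↔ InM b x := by
    intro x
    rw [Subgroup.mem_map_iff_mem M.inj]
    rfl
  obtain ⟨V, hV⟩ := Extremal.exists_transfer P ((Msub b).map F) (relIndex_M M b)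
  have h1 : ¬ ∀ (k : ℕ) (g : G), g * F (q1 a) ^ k * g⁻¹ ∈ (P : Subgroup G) →
      (g * F (q1 a) ^ k * g⁻¹ ∈ (Msub b).map F ↔ F (q1 a) ^ k ∈ (Msub b).map F) := by
    intro h2
    have h3 := (hV _ (mem M (q1 a)) h2).1 (Extremal.char_trivial hG V _)
    exact (M_q1 a b hab).1 ((hm _).1 h3)
  push Not at h1
  obtain ⟨k, g, hgP, h2⟩ := h1
  obtain ⟨y, hy⟩ := exists_of_mem M hgP
  rw [← hy, hm, ← map_pow, hm] at h2
  rw [← map_pow] at hy
  -- powers of a root
  have hcases := q1_pow a k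
  have hs : ∀ z : M64, z * z = t → q1 a ^ k = z → (z = q1 a ∨ z = t * q1 a) →
      ∃ c : G, c * F t = F t * c ∧ ∃ x : M64, c * F (q1 a) * c⁻¹ = F x ∧
      (x = q1 b ∨ x = t * q1 b ∨ x = q2 b ∨ x = t * q2 b) := by
    intro z hz hkz hza
    rw [hkz] at hy h2
    obtain ⟨hgt, hyt⟩ := comm_of_root M hte hz hy.symm
    have hyM : InM b y := by
      have hnz : ¬ InM b z := by
        rcases hza with rfl | rfl
        · exact (M_q1 a b hab).1
        · exact (M_q1 a b hab).2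
      rcases h2 with ⟨h3, -⟩ | ⟨-, h3⟩
      · exact h3
      · exact absurd h3 hnz
    have hr := root_M b y hyM hyt
    rcases hza with rfl | rfl
    · exact ⟨g, hgt, y, hy.symm, hr⟩
    · refine ⟨g, hgt, t * y, ?_, ?_⟩
      · have h3 := conj_mul (fix_t hgt) hy.symm
        rwa [← mul_assoc, tt, one_mul] at h3
      · rcases hr with h | h | h | h
        · right; left; rw [h]
        · left; rw [h, ← mul_assoc, tt, one_mul]
        · right; right; right; rw [h]
        · right; right; left; rw [h, ← mul_assoc, tt, one_mul]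
  rcases hcases with h3 | h3 | h3 | h3
  · exfalso
    rw [h3, map_one, mul_one, mul_inv_cancel] at hy
    rw [← map_one F] at hy
    have h4 := M.inj hy
    rw [h3, h4] at h2
    rcases h2 with ⟨h5, h6⟩ | ⟨h5, h6⟩
    · exact h6 h5
    · exact h5 h6
  · exfalso
    rw [h3] at hy h2
    obtain ⟨i, rfl⟩ := p_of_conj' M hte hts (isConj_iff.2 ⟨g, hy.symm⟩)
    rcases h2 with ⟨h5, h6⟩ | ⟨h5, h6⟩
    · exact h6 (M_t b)
    · exact h5 (M_p b i)
  · exact hs _ (root_t a).1 h3 (Or.inl rfl)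
  · exact hs _ (root_t a).2 h3 (Or.inr rfl)

/-- the permutation of the five points -/
theorem exists_perm : ∃ n, NA F n ∧ ∃ f : Fin 5 → Fin 5, (∀ i j, f i = f j → i = j) ∧ f 0 ≠ 0 ∧
    ∀ i, n * F (p i) * n⁻¹ = F (p (f i)) := by
  obtain ⟨n, hn, hns⟩ := exists_n M hte hts
  have h1 : ∀ i, ∃ j, n * F (p i) * n⁻¹ = F (p j) := by
    intro i
    obtain ⟨y, hy, h2⟩ := hn (p i) (p_A i)
    obtain ⟨j, rfl⟩ := p_of_conj M hte hts hy ((conj_p M hte hts i).trans (isConj_iff.2 ⟨n, h2⟩))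
    exact ⟨j, h2⟩
  choose f hf using h1
  refine ⟨n, hn, f, ?_, ?_, hf⟩
  · intro i j hij
    apply p_inj
    apply M.inj
    have h2 := hf i
    rw [hij, ← hf j] at h2
    exact mul_left_cancel (mul_right_cancel h2)
  · intro h0
    have h2 := hf 0
    rw [h0] at h2
    have h3 : F t = F s := by
      rw [← hns]; exact h2.symm
    exact absurd (M.inj h3) (by decide +kernel)

theorem ts_conj : ∃ a, IsConj (F (t * s)) (F (ee a)) := by
  obtain ⟨n, hn, f, hf, hf0, h⟩ := exists_perm M hte hts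
  obtain ⟨i, hi, hfi⟩ := exists_ne f hf
  have hne : f 0 ≠ f i := fun h1 => hi (hf _ _ h1).symm
  obtain ⟨a, ha⟩ := p_mul (f 0) (f i) hf0 hfi hne
  have h1 : IsConj (F (t * s)) (F (p 0 * p i)) := isConj_F (p_conj i hi).2
  have h2 : IsConj (F (p 0 * p i)) (F (p (f 0) * p (f i))) := isConj_iff.2 ⟨n, conj_mul (h 0) (h i)⟩
  refine ⟨a, (h1.trans h2).trans ?_⟩
  rcases ha with ha | ha
  · rw [ha]
  · rw [ha]; exact (tee a).symm

variable (hnf : ∀ c : G, c * F t = F t * c → ∀ x y : M64, x * x = 1 → ¬ InR x → InR y → c * F x * c⁻¹ ≠ F y)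

include hnf

/-- an element of `N(A) ∩ C(t)` cycles `ee 0, ee 1, ee 2` modulo `t` -/
theorem exists_cyc : ∃ g, NA F g ∧ g * F t = F t * g ∧ ∀ a, Mo F g a (a + 1) := by
  obtain ⟨n, hn, f, hf, hf0, h⟩ := exists_perm M hte hts
  have key : ∀ (g : G) (w : Fin 5 → Fin 5), NA F g → (∀ i, g * F (p i) * g⁻¹ = F (p (w i))) → w 0 = 0 →
      (∀ b, ∃ i, w i ≠ v b i) → ∃ g, NA F g ∧ g * F t = F t * g ∧ ∀ a, Mo F g a (a + 1) := by
    intro g w hg hw hw0 hwv
    have hgt : g * F t = F t * g := by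
      have h1 := hw 0
      rw [hw0] at h1
      calc g * F t = (g * F t * g⁻¹) * g := by group
        _ = F t * g := by rw [show g * F t * g⁻¹ = F t from h1]
    have h2 : ∀ a, ¬ Mo F g a a := by
      intro a ha
      obtain ⟨σ, hσ⟩ := parity M hnf hg hgt ha
      obtain ⟨b, hb⟩ := v_conj σ
      obtain ⟨i, hi⟩ := hwv b
      apply hi
      have h3 := hσ (p i) (p_A i)
      rw [hw i, hb i] at h3
      exact p_inj _ _ (M.inj h3)
    rcases cycle M hnf hg hgt h2 with h3 | h3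
    · exact ⟨g, hg, hgt, h3⟩
    · refine ⟨g * g, NA_mul hg hg, comm_mul hgt hgt, fun a => ?_⟩
      have h4 := mo_mul hgt (h3 a) (h3 (a + 2))
      rwa [add_two_two] at h4
  have hF : ∀ b : Fin 4, ∃ x : M64, ∀ i, F x * F (p i) * (F x)⁻¹ = F (p (v b i)) := by
    intro b
    obtain ⟨x, hx⟩ := v_surj b
    exact ⟨x, fun i => by rw [conj_F, hx]⟩
  rcases words f hf hf0 with ⟨a, h1, h2⟩ | ⟨a, c, h1, h2⟩
  · obtain ⟨x, hx⟩ := hF a
    refine key (n * (F x * n)) (fun i => f (v a (f i))) (NA_mul hn (NA_mul (NA_F x) hn)) (fun i => ?_) h1 h2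
    exact conj_trans (conj_trans (h i) (hx _)) (h _)
  · obtain ⟨x, hx⟩ := hF a
    obtain ⟨y, hy⟩ := hF c
    refine key (n * (F y * (n * (F x * n)))) (fun i => f (v c (f (v a (f i)))))
      (NA_mul hn (NA_mul (NA_F y) (NA_mul hn (NA_mul (NA_F x) hn)))) (fun i => ?_) h1 h2
    exact conj_trans (conj_trans (conj_trans (conj_trans (h i) (hx _)) (h _)) (hy _)) (h _)

theorem ee_conj (a b : Fin 3) : IsConj (F (ee a)) (F (ee b)) := by
  obtain ⟨g, -, -, hg⟩ := exists_cyc M hte hts hnf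
  have h1 : ∀ a, IsConj (F (ee a)) (F (ee (a + 1))) := by
    intro a
    rcases hg a with h | h
    · exact isConj_iff.2 ⟨g, h⟩
    · exact (isConj_iff.2 ⟨g, h⟩ : IsConj _ _).trans (tee _).symm
  have h2 : ∀ a, IsConj (F (ee a)) (F (ee 0)) := by
    intro a
    fin_cases a
    · exact IsConj.refl _
    · exact (h1 1).trans (h1 2)
    · exact h1 2
  exact (h2 a).trans (h2 b).symm

/-- if no involution outside `A` is conjugate in `C(t)` to `± ee a`, then `A` is strongly closed in `P` -/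
theorem closed (hdiag : ∀ w : M64, w * w = 1 → ¬ InA w → ∀ c : G, c * F t = F t * c → ∀ a,
    c * F w * c⁻¹ ≠ F (ee a) ∧ c * F w * c⁻¹ ≠ F (t * ee a)) :
    ∀ x ∈ Asub.map F, ∀ g : G, g * x * g⁻¹ ∈ (P : Subgroup G) → g * x * g⁻¹ ∈ Asub.map F := by
  rintro _ ⟨x, hx, rfl⟩ g hg
  obtain ⟨w, hw⟩ := exists_of_mem M hg
  rw [← hw]
  by_contra hwA
  replace hwA : ¬ InA w := fun h => hwA ⟨w, h, rfl⟩
  have hxA : InA x := hx
  have hww : w * w = 1 := by
    have h1 := conj_mul hw.symm hw.symm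
    rw [A_sq x hxA, map_one, mul_one, mul_inv_cancel, ← map_one F] at h1
    exact (M.inj h1).symm
  have hc : IsConj (F x) (F w) := isConj_iff.2 ⟨g, hw.symm⟩
  -- `w` is conjugate to `ee 0`
  have h0 : IsConj (F (ee 0)) (F w) := by
    rcases A_cases x hxA with rfl | ⟨i, rfl⟩ | ⟨a, rfl | rfl⟩ | ⟨i, hi, rfl⟩
    · exfalso
      rw [map_one] at hc
      have h2 : F w = F 1 := by rw [map_one]; exact isConj_one_right.1 hc
      exact hwA (by rw [M.inj h2]; exact A_one)
    · exact absurd ((conj_p M hte hts i).trans hc) (ne_off M hte hww hwA)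
    · exact (ee_conj M hte hts hnf 0 a).trans hc
    · exact ((ee_conj M hte hts hnf 0 a).trans (tee a)).trans hc
    · obtain ⟨a, ha⟩ := ts_conj M hte hts
      exact ((ee_conj M hte hts hnf 0 a).trans (ha.symm.trans (isConj_F (p_conj i hi).2))).trans hc
  obtain ⟨z, hzP, hz⟩ := Extremal.exists_extremal P (mem M (ee 0))
  obtain ⟨z, rfl⟩ := exists_of_mem M hzP
  obtain ⟨g0, hg0, hC0⟩ := hz (F (ee 0)) (mem M _) ⟨1, by group⟩
  have hz1 : ∃ a, z = ee a ∨ z = t * ee a := by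
    apply big_cen
    · rintro rfl
      rw [map_one] at hg0
      have h2 : F (ee 0) = F 1 := by
        rw [map_one]
        calc F (ee 0) = g0⁻¹ * (g0 * F (ee 0) * g0⁻¹) * g0 := by group
          _ = 1 := by rw [hg0]; group
      exact ee_ne_one 0 (M.inj h2)
    · rintro rfl
      exact hte 0 (isConj_iff.2 ⟨g0, hg0⟩ : IsConj (F (ee 0)) (F t)).symm
    · rw [← card_V 0]
      have h3 : ∀ y : {y : M64 // y * ee 0 = ee 0 * y}, ∃ y' : M64, F y' = g0 * F y * g0⁻¹ ∧ y' * z = z * y' := by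
        intro y
        obtain ⟨y', hy'⟩ := exists_of_mem M (hC0 (F y) (mem M _) (by rw [← map_mul, ← map_mul, y.2]))
        refine ⟨y', hy', ?_⟩
        have h4 := conj_mul hy'.symm hg0
        have h5 := conj_mul hg0 hy'.symm
        rw [y.2, h5] at h4
        exact (M.inj h4).symm
      choose φ hφ1 hφ2 using h3
      apply Fintype.card_le_of_injective (fun y => (⟨φ y, hφ2 y⟩ : {y : M64 // y * z = z * y}))
      intro y y' hyy
      have h4 : φ y = φ y' := congrArg Subtype.val hyy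
      have h5 := hφ1 y
      rw [h4, hφ1 y'] at h5
      exact Subtype.ext (M.inj (mul_left_cancel (mul_right_cancel h5)).symm)
  obtain ⟨g1, hg1⟩ := isConj_iff.1 h0
  obtain ⟨g2, hg2, hC2⟩ := hz (F w) (mem M _) ⟨g1, hg1⟩
  obtain ⟨-, r, hrw, hr⟩ := off_root w hww hwA
  obtain ⟨y, hy⟩ := exists_of_mem M (hC2 (F r) (mem M r) (by rw [← map_mul, ← map_mul, hrw]))
  have h1 := (comm_of_root M hte hr hy.symm).1
  obtain ⟨a, rfl | rfl⟩ := hz1
  · exact (hdiag w hww hwA g2 h1 a).1 hg2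
  · exact (hdiag w hww hwA g2 h1 a).2 hg2

end

end Cfsg.Agent.SylowSp4.TwoP
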