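import Cfsg.Agent.SylowSp4.TwoX
import Cfsg.Agent.SylowSp4.TwoOff
import Cfsg.Agent.SylowSp4.TwoGold
import Cfsg.Agent.SylowSp4.Large

/-!
# Fusion for the type `PSp₄(3)`, case P: the pattern of `PSp₄(q)`
-/

set_option autoImplicit false

namespace Cfsg.Agent.SylowSp4.TwoPEnd

open Subgroup Cfsg.Agent.SylowSp4.AltModel Cfsg.Agent.SylowSp4.TwoBase Cfsg.Agent.SylowSp4.TwoParity
open Cfsg.Agent.SylowSp4.TwoCtx Cfsg.Agent.SylowSp4.TwoY Cfsg.Agent.SylowSp4.TwoOff

universe u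

/-! ### facts on the model -/

theorem off_dd : ∀ w : M64, w * w = 1 → ¬ InA w → ∃ i j, i ≠ j ∧ (w = dd i j ∨ w = t * dd i j) := by
  decide +kernel
theorem roots : (∀ l, (q1 0 = q1 l ∨ t * q1 0 = q1 l ∨ q2 0 = q1 l ∨ t * q2 0 = q1 l) → l = 0) := by
  decide +kernel
theorem y_root : ∀ y : M64, (y = q1 1 ∨ y = t * q1 1 ∨ y = q2 1 ∨ y = t * q2 1) →
    ((y = q1 0 ∨ y = t * q1 0) ∨ (y = q2 0 ∨ y = t * q2 0)) → False := by decide +kernel
theorem fix_ee : q1 1 * (t * dd 0 0) * (q1 1)⁻¹ = dd 0 0 := by decide +kernel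
theorem exists_neg : ∀ a : Fin 3, ∃ m, a + m = 0 := by decide +kernel
theorem not_comm_M : q1 0 * q1 1 ≠ q1 1 * q1 0 := by decide +kernel

section

variable {G : Type*} [Group G] [Finite G] {P : Sylow 2 G} {F : M64 →* G} {K : Subgroup G} (C : Ctx P F K)

include C

omit [Finite G] in
theorem order_two {x : M64} (hx : x * x = 1) (hx1 : x ≠ 1) : orderOf (F x) = 2 := by
  apply orderOf_eq_prime
  · rw [sq, ← map_mul, hx, map_one]
  · intro h
    exact hx1 (C.mod.inj (by rw [h, map_one]))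

omit [Finite G] in
/-- `Y` is everything: all `dd a b` are conjugate in `C(t)` -/
theorem uu (hY : ∀ m₁ m₂, Y F K m₁ m₂) (a b : Fin 3) {x : M64} (hx : x = dd a b ∨ x = t * dd a b) :
    ∃ g, g * F t = F t * g ∧ g * F x * g⁻¹ = F (ee 0) := by
  obtain ⟨m₁, hm₁⟩ := exists_neg a
  obtain ⟨m₂, hm₂⟩ := exists_neg b
  obtain ⟨n, hn, ha⟩ := hY m₁ m₂
  have hnt := C.comm n hn.1
  have h1 := act_dd C hnt ha a b
  rw [hm₁, hm₂] at h1
  have h2 := conj_mod C hnt hx h1
  rcases h2 with h2 | h2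
  · exact ⟨n, hnt, h2⟩
  · refine ⟨F (q1 1) * n, comm_mul (TwoBase.t_comm C.mod (TwoBase.mem C.mod _)) hnt, ?_⟩
    have h3 := conj_trans h2 (conj_F F (q1 1) (t * dd 0 0))
    rw [fix_ee] at h3
    exact h3

end

/-- in case P with `t ~ s`, `Y` is everything -/
theorem Y_all (hGold : TwoGold.Gold.{u}) {G : Type u} [Group G] [Finite G] [IsSimpleGroup G] {P : Sylow 2 G}
    {F : M64 →* G} {K : Subgroup G} (C : Ctx P F K) (hG : ∀ H : Subgroup G, H.index ≠ 2)
    (hte : ∀ a, ¬ IsConj (F t) (F (ee a))) (hts : IsConj (F t) (F s)) : ∀ m₁ m₂, Y F K m₁ m₂ := by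
  have M := C.mod
  rcases Y_cases C with h | ⟨h, h'⟩ | ⟨h, h'⟩ | h
  · exfalso
    obtain ⟨c, hc, x, hcx, hx⟩ := TwoP.exists_root M hte hts hG (a := 0) (b := 1) (by decide)
    obtain ⟨m₁, m₂, hm, h1⟩ := root_conj C hc hcx
    obtain ⟨rfl, rfl⟩ := h _ _ hm
    exact y_root x hx h1
  · exfalso
    have hcl := TwoP.closed M hte hts (hnf C) (by
      intro w hw hwA c hc a
      obtain ⟨i, j, hij, hwd⟩ := off_dd w hw hwA
      have key : (c * F w * c⁻¹ = F (dd a a) ∨ c * F w * c⁻¹ = F (t * dd a a)) → False := by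
        intro h1
        have h2 := conj_mod C hc (x := w) (x' := dd i j) (y := dd a a) (by
          rcases hwd with h3 | h3
          · exact Or.inl h3.symm
          · right; rw [h3, TwoY.tt_mul]) h1
        obtain ⟨m₁, m₂, hm, h3⟩ := dd_conj C hc h2
        have h4 := h' _ _ hm
        subst h4
        rcases h3 with ⟨h5, h6⟩ | ⟨h5, h6⟩
        · exact hij (add_right_cancel (h5.trans h6.symm))
        · exact hij (add_right_cancel (h6.trans h5.symm))
      exact ⟨fun h1 => key (Or.inl h1), fun h1 => key (Or.inr h1)⟩)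
    refine TwoGold.false_of_closed hGold P (AF_le M) ?_ ?_ hcl ?_ (order_two C (x := t) (by decide +kernel)
      TwoBase.t_ne_one) (order_two C (x := ee 0) (by decide +kernel) (ee_ne_one 0)) (hte 0)
    · rintro _ ⟨x, hx, rfl⟩ _ ⟨y, hy, rfl⟩
      rw [← map_mul, ← map_mul, A_comm x y hx hy]
    · intro hbot
      have h1 := card_AF M
      rw [hbot, Subgroup.card_bot] at h1
      omega
    · intro hcomm
      have h1 := hcomm _ (TwoBase.mem M (q1 0)) _ (TwoBase.mem M (q1 1))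
      rw [← map_mul, ← map_mul] at h1
      exact not_comm_M (M.inj h1)
  · exfalso
    obtain ⟨g, -, hgt, hg⟩ := TwoP.exists_cyc M hte hts (hnf C)
    obtain ⟨m₁, m₂, hm, h1⟩ := dd_conj C hgt (a := 0) (b := 0) (a' := 1) (b' := 1) (hg 0)
    have h2 := h' _ _ hm
    have h3 : ∀ m₁ m₂ : Fin 3, m₁ + m₂ = 0 → ((0 + m₁ = 1 ∧ 0 + m₂ = 1) ∨ (0 + m₁ = 1 ∧ 0 + m₂ = 1)) → False := by
      decide
    exact h3 m₁ m₂ h2 h1
  · exact h

section

open Cfsg.Agent.SylowSp4.Coord
open Cfsg.Agent.SylowSp4.Pat hiding ee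

/-- **Case P.** -/
theorem pat (hGold : TwoGold.Gold.{u}) {G : Type u} [Group G] [Finite G] [IsSimpleGroup G] {P : Sylow 2 G}
    {f : Q 1 → Q 1 → G} {s' : G} (h : TSp (P : Subgroup G) 1 f s')
    (hte : ∀ a, ¬ IsConj (hom h t) (hom h (ee a))) : Pat P 1 f s' ∨ Pat P 1 f (f (z 1) 1 * s') := by
  obtain ⟨K, hK⟩ := CentG.exists_centData h
  have C := ofCentData h hK
  have M := C.mod
  have hG := Large.index_ne_two h
  -- `t ~ s` or `t ~ t s`
  have hs : IsConj (hom h t) (hom h s) ∨ IsConj (hom h t) (hom h (t * s)) := by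
    obtain ⟨g, hgP, hg⟩ := Large.exists_fusion h
    rw [← hom_t h] at hgP hg
    obtain ⟨y, hy⟩ := TwoBase.exists_of_mem M hgP
    have hc : IsConj (hom h t) (hom h y) := isConj_iff.2 ⟨g, hy.symm⟩
    have hyy : y * y = 1 := (sq_of_T C hc).1
    by_cases hyA : InA y
    · rcases TwoP.A_cases y hyA with rfl | ⟨i, rfl⟩ | ⟨a, rfl | rfl⟩ | ⟨i, hi, rfl⟩
      · exact absurd rfl (sq_of_T C hc).2
      · by_cases hi : i = 0
        · rw [hi] at hy
          exact absurd hy.symm hg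
        · exact Or.inl (hc.trans (TwoP.isConj_F (TwoP.p_conj i hi).1).symm)
      · exact absurd hc (hte a)
      · exact absurd hc (TwoP.hte' hte a)
      · exact Or.inr (hc.trans (TwoP.isConj_F (TwoP.p_conj i hi).2).symm)
    · exact absurd hc (TwoP.ne_off M hte hyy hyA)
  -- all `dd a b` are conjugate in `C(t)`
  have huu : ∀ a b x, (x = dd a b ∨ x = t * dd a b) → ∃ g, g * hom h t = hom h t * g ∧
      g * hom h x * g⁻¹ = hom h (ee 0) := by
    rcases hs with hs | hs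
    · intro a b x hx
      exact uu C (Y_all hGold C hG hte hs) a b hx
    · intro a b x hx
      have C' := TwoAut.adm_sw.ctx C
      have e1 : TwoAut.sw t = t := by decide +kernel
      have e2 : ∀ a, TwoAut.sw (ee a) = ee a := by decide +kernel
      have e3 : TwoAut.sw s = t * s := by decide +kernel
      have e4 : ∀ a b, TwoAut.sw (dd a b) = dd a b ∧ TwoAut.sw (t * dd a b) = t * dd a b := by decide +kernel
      have hY := Y_all hGold C' hG (by
        intro a
        rw [MonoidHom.comp_apply, MonoidHom.comp_apply, e1, e2]; exact hte a) (by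
        rw [MonoidHom.comp_apply, MonoidHom.comp_apply, e1, e3]; exact hs)
      obtain ⟨g, hg1, hg2⟩ := uu C' hY a b hx
      have e5 : TwoAut.sw x = x := by
        rcases hx with rfl | rfl
        · exact (e4 a b).1
        · exact (e4 a b).2
      rw [MonoidHom.comp_apply, e1] at hg1
      rw [MonoidHom.comp_apply, MonoidHom.comp_apply, e2, e5] at hg2
      exact ⟨g, hg1, hg2⟩
  have hcc : hom h (ee 0) = f (Facts.c 1) (Facts.c 1) := by rw [hom_ee, cc_zero]
  refine Large.pat_of_uu h ?_ ?_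
  · intro α β hα hβ
    have hdd : ∀ a b, hom h (dd a b) = f (cc a) (cc b) := by
      intro a b
      rw [dd, map_mul, hom_q1, hom_q2, h.f_mul, mul_one, one_mul]
    have hx : ∃ a b x, (x = dd a b ∨ x = t * dd a b) ∧ hom h x = f α β := by
      obtain ⟨a, ha⟩ := qel_cases α hα
      obtain ⟨b, hb⟩ := qel_cases β hβ
      rcases ha with rfl | rfl <;> rcases hb with rfl | rfl
      · exact ⟨a, b, _, Or.inl rfl, hdd a b⟩
      · refine ⟨a, b, _, Or.inr rfl, ?_⟩
        rw [map_mul, hom_t, hdd, h.f_mul, one_mul, Facts.f_congr_z h]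
      · refine ⟨a, b, _, Or.inr rfl, ?_⟩
        rw [map_mul, hom_t, hdd, h.f_mul, one_mul]
      · refine ⟨a, b, _, Or.inl rfl, ?_⟩
        rw [hdd, h.f_z_mul]
    obtain ⟨a, b, x, hx, hxf⟩ := hx
    obtain ⟨g, hg1, hg2⟩ := huu a b x hx
    rw [hom_t] at hg1
    rw [hxf, hcc] at hg2
    exact ⟨g, hg1, hg2⟩
  · rw [← hcc, ← hom_t h]
    exact hte 0

end

end Cfsg.Agent.SylowSp4.TwoPEnd
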