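import Cfsg.Agent.SylowSp4.TwoPEnd

/-!
# Fusion for the type `PSp₄(3)`, case Q: `t ~ ee a` for only one `a`, `Y` antidiagonal

`F₁ = {1, t} ∪ {± dd x y : x + y = 2 a}` is an elementary abelian subgroup of order 8, strongly closed in `P`.
-/

set_option autoImplicit false

namespace Cfsg.Agent.SylowSp4.TwoQThree

open Subgroup Cfsg.Agent.SylowSp4.AltModel Cfsg.Agent.SylowSp4.TwoBase Cfsg.Agent.SylowSp4.TwoParity
open Cfsg.Agent.SylowSp4.TwoCtx Cfsg.Agent.SylowSp4.TwoY Cfsg.Agent.SylowSp4.TwoOff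

universe u

/-- the elementary abelian subgroup of order 8 -/
def InB (a : Fin 3) (x : M64) : Prop := x = 1 ∨ x = t ∨ ∃ i j, i + j = a + a ∧ (x = dd i j ∨ x = t * dd i j)

instance (a : Fin 3) : DecidablePred (InB a) := fun x => by unfold InB; infer_instance

theorem B_mul : ∀ a, ∀ x y : M64, InB a x → InB a y → InB a (x * y) := by decide +kernel
theorem B_inv : ∀ a, ∀ x : M64, InB a x → InB a x⁻¹ := by decide +kernel
theorem B_comm : ∀ a, ∀ x y : M64, InB a x → InB a y → x * y = y * x := by decide +kernel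
theorem sum_cases : ∀ a i j : Fin 3, i + j = a + a → (i = a ∧ j = a) ∨ (i = a + 1 ∧ j = a + 2) ∨
    (i = a + 2 ∧ j = a + 1) := by decide +kernel
theorem sum_of : ∀ a i j m₁ m₂ : Fin 3, m₁ + m₂ = 0 → ((i + m₁ = a ∧ j + m₂ = a) ∨ (j + m₁ = a ∧ i + m₂ = a)) →
    i + j = a + a := by decide +kernel
theorem out_A : ∀ x : M64, x * x = 1 → ¬ InR x → InA x := by decide +kernel
theorem s_dd' : ∀ a, s * dd (a + 1) (a + 2) * s⁻¹ = dd (a + 2) (a + 1) := by decide +kernel

/-- the subgroup -/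
def Bsub (a : Fin 3) : Subgroup M64 where
  carrier := {x | InB a x}
  mul_mem' {x y} hx hy := B_mul a x y hx hy
  one_mem' := Or.inl rfl
  inv_mem' {x} hx := B_inv a x hx

/-- `t ~ ee a` for only one `a`, `t` not conjugate to `s`, `t s`, and `Y` antidiagonal: impossible -/
theorem false_of_one (hGold : TwoGold.Gold.{u}) {G : Type u} [Group G] [Finite G] [IsSimpleGroup G] {P : Sylow 2 G}
    {F : M64 →* G} {K : Subgroup G} (C : Ctx P F K) {a : Fin 3} (ha : IsConj (F t) (F (ee a)))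
    (hb : ∀ b, b ≠ a → ¬ IsConj (F t) (F (ee b))) (hs : ¬ IsConj (F t) (F s)) (hts : ¬ IsConj (F t) (F (t * s)))
    (hY1 : Y F K 1 2) (hY : ∀ m₁ m₂, Y F K m₁ m₂ → m₁ + m₂ = 0) : False := by
  have M := C.mod
  -- all involutions of `B` are conjugate to `t`
  have hdd : ∀ i j, i + j = a + a → IsConj (F t) (F (dd i j)) := by
    have h12 : IsConj (F t) (F (dd (a + 1) (a + 2))) := by
      obtain ⟨n, hn, hact⟩ := hY1
      refine ha.trans ?_
      rcases act_dd C (C.comm n hn.1) hact a a with h | h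
      · exact isConj_iff.2 ⟨n, h⟩
      · exact (isConj_iff.2 ⟨n, h⟩ : IsConj _ _).trans (t_dd C _ _).symm
    intro i j hij
    rcases sum_cases a i j hij with ⟨rfl, rfl⟩ | ⟨rfl, rfl⟩ | ⟨rfl, rfl⟩
    · exact ha
    · exact h12
    · exact h12.trans (TwoP.isConj_F ⟨s, s_dd' a⟩)
  have hB : ∀ x, InB a x → x = 1 ∨ IsConj (F t) (F x) := by
    rintro x (h | h | ⟨i, j, hij, h | h⟩)
    · exact Or.inl h
    · right; rw [h]
    · right; rw [h]; exact hdd i j hij
    · right; rw [h]; exact (hdd i j hij).trans (t_dd C _ _)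
  have hcl : ∀ x ∈ (Bsub a).map F, ∀ g : G, g * x * g⁻¹ ∈ (P : Subgroup G) → g * x * g⁻¹ ∈ (Bsub a).map F := by
    rintro _ ⟨x, hx, rfl⟩ g hg
    obtain ⟨v, hv⟩ := TwoBase.exists_of_mem M hg
    rw [← hv]
    refine ⟨v, ?_, rfl⟩
    change InB a v
    rcases hB x hx with rfl | hxt
    · left
      apply M.inj
      rw [hv, map_one]; group
    · have htv : IsConj (F t) (F v) := hxt.trans (isConj_iff.2 ⟨g, hv.symm⟩)
      obtain ⟨hvv, hv1⟩ := sq_of_T C htv
      by_cases hvt : v = t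
      · exact Or.inr (Or.inl hvt)
      by_cases hvR : InR v
      · obtain ⟨c, hc, l, hcl⟩ := off C hvR hvt htv
        have hl : l = a := by
          by_contra hla
          apply hb l hla
          rcases hcl with h | h
          · exact htv.trans (isConj_iff.2 ⟨c, h⟩)
          · exact (htv.trans (isConj_iff.2 ⟨c, h⟩)).trans (TwoP.tee l).symm
        subst hl
        obtain ⟨i, j, hij⟩ := dd_cases v hvR hvv hv1 hvt
        right; right
        refine ⟨i, j, ?_, hij⟩
        have h3 : c * F (dd i j) * c⁻¹ = F (dd l l) ∨ c * F (dd i j) * c⁻¹ = F (t * dd l l) :=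
          conj_mod C hc (x := v) (x' := dd i j) (y := dd l l) (by
            rcases hij with h4 | h4
            · exact Or.inl h4.symm
            · right; rw [h4, TwoY.tt_mul]) hcl
        obtain ⟨m₁, m₂, hm, h4⟩ := dd_conj C hc h3
        exact sum_of l i j m₁ m₂ (hY _ _ hm) h4
      · exfalso
        have hvA := out_A v hvv hvR
        rcases TwoP.A_cases v hvA with rfl | ⟨i, rfl⟩ | ⟨b, rfl | rfl⟩ | ⟨i, hi, rfl⟩
        · exact hv1 rfl
        · by_cases hi : i = 0
          · exact hvt (by rw [hi]; rfl)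
          · exact hs (htv.trans (TwoP.isConj_F (TwoP.p_conj i hi).1).symm)
        · exact hvR (R_ee b)
        · exact hvR (R_tee b)
        · exact hts (htv.trans (TwoP.isConj_F (TwoP.p_conj i hi).2).symm)
  refine TwoGold.false_of_closed hGold P ?_ ?_ ?_ hcl ?_ (TwoPEnd.order_two C (x := t) (by decide +kernel)
    TwoBase.t_ne_one) (TwoPEnd.order_two C (x := s) (by decide +kernel) (by decide +kernel)) hs
  · rintro _ ⟨x, -, rfl⟩
    exact TwoBase.mem M x
  · rintro _ ⟨x, hx, rfl⟩ _ ⟨y, hy, rfl⟩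
    rw [← map_mul, ← map_mul, B_comm a x y hx hy]
  · intro hbot
    have h1 : F t ∈ (Bsub a).map F := ⟨t, Or.inr (Or.inl rfl), rfl⟩
    rw [hbot, mem_bot] at h1
    exact TwoBase.t_ne_one (M.inj (by rw [h1, map_one]))
  · intro hcomm
    have h1 := hcomm _ (TwoBase.mem M (q1 0)) _ (TwoBase.mem M (q1 1))
    rw [← map_mul, ← map_mul] at h1
    exact TwoPEnd.not_comm_M (M.inj h1)

end Cfsg.Agent.SylowSp4.TwoQThree
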