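import Cfsg.Agent.SylowSp4.TwoQ
import Cfsg.Agent.SylowSp4.IdOne
import Cfsg.Agent.SylowSp4.CentT
import Cfsg.Agent.SylowSp4.Lift

/-!
# Type `PSp₄(3)`: the structure of `C(t)` if `Y` is antidiagonal

`C(t) = O(C(t)) S ⟨r⟩`, where `r` acts on `R` as the automorphism `om`.
-/

set_option autoImplicit false
set_option linter.unusedSectionVars false

namespace Cfsg.Agent.SylowSp4.TwoRho

open Subgroup Cfsg.Agent.SylowSp4.AltModel Cfsg.Agent.SylowSp4.TwoBase Cfsg.Agent.SylowSp4.TwoCtx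
open Cfsg.Agent.SylowSp4.TwoY Cfsg.Agent.SylowSp4.TwoParity Cfsg.Agent.SylowSp4.TwoOff Cfsg.Agent.SylowSp4.TwoQ

universe u

/-! ### the model -/

/-- inner automorphisms induced by `R`: all sign changes of `i1, j1, i2, j2` -/
theorem signs : ∀ e₁ e₂ e₃ e₄ : Bool, ∃ x : M64, InR x ∧ x * i1 * x⁻¹ = (if e₁ then t * i1 else i1) ∧
    x * j1 * x⁻¹ = (if e₂ then t * j1 else j1) ∧ x * i2 * x⁻¹ = (if e₃ then t * i2 else i2) ∧
    x * j2 * x⁻¹ = (if e₄ then t * j2 else j2) := by decide +kernel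

theorem gen_R : ∀ y : M64, InR y → ∃ n₁ n₂ n₃ n₄ : Fin 4, y = i1 ^ (n₁ : ℕ) * j1 ^ (n₂ : ℕ) * i2 ^ (n₃ : ℕ) * j2 ^ (n₄ : ℕ) := by
  decide +kernel

theorem om_gen : om i1 = j1 ∧ om j1 = i1 * j1 ∧ om i2 = i2 * j2 ∧ om j2 = i2 := by decide +kernel
theorem om_R : ∀ x, InR x → InR (om x) := by decide +kernel
theorem om_t : om t = t := by decide +kernel

section

variable {G : Type*} [Group G] {F : M64 →* G}

/-- two homomorphisms on `R` which agree on the generators -/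
theorem agree {φ : M64 → G} (hφ : ∀ x y, InR x → InR y → φ (x * y) = φ x * φ y) (hφ1 : φ 1 = 1) {g : G}
    (h1 : g * F i1 * g⁻¹ = φ i1) (h2 : g * F j1 * g⁻¹ = φ j1) (h3 : g * F i2 * g⁻¹ = φ i2)
    (h4 : g * F j2 * g⁻¹ = φ j2) : ∀ x, InR x → g * F x * g⁻¹ = φ x := by
  have hR : ∀ x, InR x → ∀ n : ℕ, InR (x ^ n) := by
    intro x hx n
    induction n with
    | zero => rw [pow_zero]; exact TwoY.R_one
    | succ n ih => rw [pow_succ]; exact TwoY.R_mul _ _ ih hx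
  have hpow : ∀ x, InR x → g * F x * g⁻¹ = φ x → ∀ n : ℕ, g * F (x ^ n) * g⁻¹ = φ (x ^ n) := by
    intro x hx h n
    induction n with
    | zero => rw [pow_zero, map_one, hφ1]; group
    | succ n ih =>
      rw [pow_succ, hφ _ _ (hR x hx n) hx, ← ih, ← h, map_mul]
      group
  have hmul : ∀ x y, InR x → InR y → g * F x * g⁻¹ = φ x → g * F y * g⁻¹ = φ y → g * F (x * y) * g⁻¹ = φ (x * y) := by
    intro x y hx hy hx' hy'
    rw [hφ _ _ hx hy, ← hx', ← hy', map_mul]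
    group
  have Ri1 : InR i1 := by decide +kernel
  have Rj1 : InR j1 := by decide +kernel
  have Ri2 : InR i2 := by decide +kernel
  have Rj2 : InR j2 := by decide +kernel
  intro x hx
  obtain ⟨n₁, n₂, n₃, n₄, rfl⟩ := gen_R x hx
  have a1 := hR _ Ri1 n₁
  have a2 := hR _ Rj1 n₂
  have a3 := hR _ Ri2 n₃
  have a4 := hR _ Rj2 n₄
  refine hmul _ _ (TwoY.R_mul _ _ (TwoY.R_mul _ _ a1 a2) a3) a4 ?_ (hpow _ Rj2 h4 _)
  refine hmul _ _ (TwoY.R_mul _ _ a1 a2) a3 ?_ (hpow _ Ri2 h3 _)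
  exact hmul _ _ a1 a2 (hpow _ Ri1 h1 _) (hpow _ Rj1 h2 _)

/-- an element acting on the generators of `R` up to signs like `φ` can be corrected by an element of `R` -/
theorem correct {g : G} (hgt : g * F t = F t * g) {a b c d : M64}
    (h1 : g * F i1 * g⁻¹ = F a ∨ g * F i1 * g⁻¹ = F (t * a)) (h2 : g * F j1 * g⁻¹ = F b ∨ g * F j1 * g⁻¹ = F (t * b))
    (h3 : g * F i2 * g⁻¹ = F c ∨ g * F i2 * g⁻¹ = F (t * c)) (h4 : g * F j2 * g⁻¹ = F d ∨ g * F j2 * g⁻¹ = F (t * d)) :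
    ∃ x, InR x ∧ (g * F x) * F i1 * (g * F x)⁻¹ = F a ∧ (g * F x) * F j1 * (g * F x)⁻¹ = F b ∧
      (g * F x) * F i2 * (g * F x)⁻¹ = F c ∧ (g * F x) * F j2 * (g * F x)⁻¹ = F d := by
  have key : ∀ {u v : M64}, (g * F u * g⁻¹ = F v ∨ g * F u * g⁻¹ = F (t * v)) →
      ∃ e : Bool, g * F (if e then t * u else u) * g⁻¹ = F v := by
    intro u v h
    rcases h with h | h
    · exact ⟨false, by simpa using h⟩
    · refine ⟨true, ?_⟩
      rw [if_pos rfl, map_mul]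
      have h5 : g * (F t * F u) * g⁻¹ = F t * (g * F u * g⁻¹) := by
        rw [← mul_assoc, hgt]; group
      rw [h5, h, ← map_mul, tt_mul]
  obtain ⟨e₁, h1⟩ := key h1
  obtain ⟨e₂, h2⟩ := key h2
  obtain ⟨e₃, h3⟩ := key h3
  obtain ⟨e₄, h4⟩ := key h4
  obtain ⟨x, hx, x1, x2, x3, x4⟩ := signs e₁ e₂ e₃ e₄
  have fin : ∀ {u v w : M64}, x * u * x⁻¹ = w → g * F w * g⁻¹ = F v → (g * F x) * F u * (g * F x)⁻¹ = F v := by
    intro u v w h5 h6
    rw [← h6, ← h5, map_mul, map_mul, map_inv]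
    group
  exact ⟨x, hx, fin x1 h1, fin x2 h2, fin x3 h3, fin x4 h4⟩

theorem om_hom : ∀ x y, InR x → InR y → F (om (x * y)) = F (om x) * F (om y) := by
  intro x y hx hy
  rw [om_mul x hx y hy, map_mul]

/-- an element acting as `(1, 2)` can be corrected to act as `om` -/
theorem exists_om {n : G} (hnt : n * F t = F t * n) (h : Act F n 1 2) :
    ∃ x, InR x ∧ ∀ q, InR q → (n * F x) * F q * (n * F x)⁻¹ = F (om q) := by
  have q10 : q1 0 = i1 := rfl
  have q11 : q1 1 = j1 := rfl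
  have q12 : q1 2 = i1 * j1 := rfl
  have q20 : q2 0 = i2 := rfl
  have q21 : q2 1 = j2 := rfl
  have q22 : q2 2 = i2 * j2 := rfl
  obtain ⟨x, hx, x1, x2, x3, x4⟩ := correct (F := F) hnt (a := j1) (b := i1 * j1) (c := i2 * j2) (d := i2)
    (h.1 0) (h.1 1) (h.2 0) (h.2 1)
  refine ⟨x, hx, agree (φ := fun x => F (om x)) om_hom ?_ ?_ ?_ ?_ ?_⟩
  · show F (om 1) = 1
    rw [show om 1 = 1 by decide +kernel, map_one]
  · rw [x1]; show _ = F (om i1); rw [om_gen.1]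
  · rw [x2]; show _ = F (om j1); rw [om_gen.2.1]
  · rw [x3]; show _ = F (om i2); rw [om_gen.2.2.1]
  · rw [x4]; show _ = F (om j2); rw [om_gen.2.2.2]

/-- an element acting as `(0, 0)` acts as an element of `R` -/
theorem exists_inner {n : G} (hnt : n * F t = F t * n) (h : Act F n 0 0) :
    ∃ x, InR x ∧ ∀ q, InR q → (n * F x) * F q * (n * F x)⁻¹ = F q := by
  obtain ⟨x, hx, x1, x2, x3, x4⟩ := correct (F := F) hnt (a := i1) (b := j1) (c := i2) (d := j2)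
    (h.1 0) (h.1 1) (h.2 0) (h.2 1)
  exact ⟨x, hx, agree (φ := fun x => F x) (fun x y _ _ => map_mul F x y) (map_one F) x1 x2 x3 x4⟩

end

/-! ### the structure of `C(t)` -/

/-- The structure of `C(t)` modulo its core when `N₁ = Q₁`: `C(t) = O(C(t)) N_K(R) ⟨s⟩` and `C(R) ≤ O(C(t)) ⟨t⟩`. -/
structure St {G : Type*} [Group G] [Finite G] (F : M64 →* G) (K : Subgroup G) : Prop where
  cen : ∀ g, g * F t = F t * g → (∀ q, InR q → g * F q = F q * g) →
    g ∈ Cfsg.centralizerPPrimeCore 2 (F t) ∨ F t * g ∈ Cfsg.centralizerPPrimeCore 2 (F t)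
  gen : ∀ c, c * F t = F t * c → ∃ o ∈ Cfsg.centralizerPPrimeCore 2 (F t), ∃ n, NR F K n ∧
    (c = o * n ∨ c = o * F s * n)

section

open Cfsg.Agent.Walter.OddCoreIn Cfsg.Agent.Lib.GoldschmidtFusion

variable {G : Type*} [Group G] [Finite G] {P : Sylow 2 G} {F : M64 →* G} {K : Subgroup G} (C : TwoCtx.Ctx P F K)

include C

theorem s_inv : (F s)⁻¹ = F s := by
  rw [← map_inv, show s⁻¹ = s by decide +kernel]

theorem ss : F s * F s = 1 := by
  rw [← map_mul, show s * s = 1 by decide +kernel, map_one]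

theorem st : F s * F t = F t * F s := by rw [← map_mul, ← map_mul, t_central]

theorem sq_mem {c : G} (hc : c * F t = F t * c) : c * c ∈ K := by
  rcases C.mem_or c hc with h | h
  · exact K.mul_mem h h
  · have h1 := C.normal (F s) (st C) _ h
    have e : c * c = (c * F s) * (F s * (c * F s) * (F s)⁻¹) := by
      calc c * c = c * (F s * F s) * c := by rw [ss C, mul_one]
        _ = (c * F s) * (F s * (c * F s) * (F s)⁻¹) := by group
    rw [e]
    exact K.mul_mem h h1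

theorem O_comm {o : G} (ho : o ∈ Cfsg.centralizerPPrimeCore 2 (F t)) : o * F t = F t * o :=
  mem_centralizer_singleton_iff.1 (OO_le _ ho)

theorem O_odd {o : G} (ho : o ∈ Cfsg.centralizerPPrimeCore 2 (F t)) : Odd (orderOf o) :=
  IdBase.odd_of_mem_OO (M := centralizer ({F t} : Set G)) ho

theorem O_le : Cfsg.centralizerPPrimeCore 2 (F t) ≤ K := by
  intro o ho
  obtain ⟨n, hn⟩ := exists_pow_sq (O_odd C ho)
  rw [hn]
  exact K.pow_mem (sq_mem C (O_comm C ho)) n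

theorem O_conj {c o : G} (hc : c * F t = F t * c) (ho : o ∈ Cfsg.centralizerPPrimeCore 2 (F t)) :
    c * o * c⁻¹ ∈ Cfsg.centralizerPPrimeCore 2 (F t) :=
  (mem_normalizer_iff.1 (le_normalizer_OO (centralizer ({F t} : Set G)) (mem_centralizer_singleton_iff.2 hc)) o).1 ho

/-- Frattini argument for `R O(C(t))` -/
theorem frattini {k : G} (hk : k ∈ K)
    (h : ∀ q, InR q → ∃ q', InR q' ∧ ∃ o ∈ Cfsg.centralizerPPrimeCore 2 (F t), k * F q * k⁻¹ = o * F q') :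
    ∃ o ∈ Cfsg.centralizerPPrimeCore 2 (F t), ∃ n, NR F K n ∧ k = o * n := by
  set O := Cfsg.centralizerPPrimeCore 2 (F t) with hO
  set RF := Rsub.map F with hRF
  have hRt : ∀ q, F q * F t = F t * F q := fun q => by rw [← map_mul, ← map_mul, t_central]
  have hnorm : RF ≤ normalizer (O : Set G) := by
    rintro _ ⟨q, -, rfl⟩
    exact le_normalizer_OO (centralizer ({F t} : Set G)) (mem_centralizer_singleton_iff.2 (hRt q))
  have hle : O ⊔ RF ≤ K := sup_le (O_le C) (RF_le C)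
  have hi : ¬ 2 ∣ RF.relIndex (O ⊔ RF) := by
    intro hd
    apply not_dvd_RF C
    have := relIndex_mul_relIndex RF (O ⊔ RF) K le_sup_right hle
    rw [← this]
    exact hd.mul_right _
  have hD : RF.map (MulAut.conj k).toMonoidHom ≤ O ⊔ RF := by
    rintro _ ⟨_, ⟨q, hq, rfl⟩, rfl⟩
    change k * F q * k⁻¹ ∈ _
    obtain ⟨q', hq', o, ho, e⟩ := h q hq
    rw [e]
    exact mul_mem (mem_sup_left ho) (mem_sup_right ⟨q', hq', rfl⟩)
  obtain ⟨m, hm, hmD⟩ := exists_conj_le_in (isPGroup_RF C) hi hD ((isPGroup_RF C).map _)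
  have hm' : ∃ x ∈ RF, ∃ o ∈ O, m = x * o := by
    rw [sup_comm] at hm
    exact (mem_sup_iff_mul hnorm).1 hm
  obtain ⟨_, ⟨x, hx, rfl⟩, o, ho, rfl⟩ := hm'
  have hok : o * k ∈ K := K.mul_mem (O_le C ho) hk
  refine ⟨o⁻¹, inv_mem ho, o * k, ⟨hok, ?_⟩, by group⟩
  intro q hq
  have h1 : F x * o * (k * F q * k⁻¹) * (F x * o)⁻¹ ∈ RF := hmD ⟨_, ⟨_, ⟨q, hq, rfl⟩, rfl⟩, rfl⟩
  obtain ⟨w, hw, e⟩ := exists_of_RF C h1
  refine ⟨x⁻¹ * w * x, TwoY.R_mul _ _ (TwoY.R_mul _ _ (TwoY.R_inv _ hx) hw) hx, ?_⟩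
  rw [map_mul, map_mul, map_inv, e]
  group

theorem om_pow_two : ∀ q, InR q → om (om q) = om (om q) := fun _ _ => rfl

/-- the powers of `r` act as the powers of `om` -/
theorem r_pow {r : G} (hr : ∀ q, InR q → r * F q * r⁻¹ = F (om q)) :
    ∀ q, InR q → r ^ 3 * F q = F q * r ^ 3 := by
  intro q hq
  have h1 := hr q hq
  have h2 := hr _ (om_R q hq)
  have h3 := hr _ (om_R _ (om_R q hq))
  rw [om_three] at h3
  have e : r ^ 3 * F q * (r ^ 3)⁻¹ = r * (r * (r * F q * r⁻¹) * r⁻¹) * r⁻¹ := by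
    rw [pow_succ, pow_succ, pow_one]; group
  rw [h1, h2, h3] at e
  calc r ^ 3 * F q = (r ^ 3 * F q * (r ^ 3)⁻¹) * r ^ 3 := by group
    _ = F q * r ^ 3 := by rw [e]

theorem act_pow {r : G} (hrt : r * F t = F t * r) (hr : ∀ q, InR q → r * F q * r⁻¹ = F (om q)) (j : Fin 3) :
    Act F (r ^ (j : ℕ)) j (2 * j) := by
  have h1 : Act F r 1 2 := by
    have k1 : ∀ l, om (q1 l) = q1 (l + 1) ∨ om (q1 l) = t * q1 (l + 1) := by decide +kernel
    have k2 : ∀ l, om (q2 l) = q2 (l + 2) ∨ om (q2 l) = t * q2 (l + 2) := by decide +kernel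
    refine ⟨fun l => ?_, fun l => ?_⟩
    · rw [hr _ (TwoY.R_q1 l)]
      rcases k1 l with h | h <;> rw [h]
      · exact Or.inl rfl
      · exact Or.inr rfl
    · rw [hr _ (TwoY.R_q2 l)]
      rcases k2 l with h | h <;> rw [h]
      · exact Or.inl rfl
      · exact Or.inr rfl
  fin_cases j
  · have : Act F (1 : G) 0 0 := ⟨fun l => Or.inl (by simp), fun l => Or.inl (by simp)⟩
    show Act F (r ^ 0) 0 0
    rw [pow_zero]; exact this
  · show Act F (r ^ 1) 1 2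
    rw [pow_one]; exact h1
  · show Act F (r ^ 2) 2 1
    have h2 := Act_mul C hrt h1 h1
    rw [sq]
    exact h2

/-- **The field `rho` of `AltPat`.** -/
theorem rho (hSt : St F K) (hY1 : Y F K 1 2) (hY : ∀ m₁ m₂, Y F K m₁ m₂ → m₁ + m₂ = 0) :
    ∃ r : G, r * F t = F t * r ∧ r ^ 3 ∈ Cfsg.centralizerPPrimeCore 2 (F t) ∧
      (∀ q, InR q → r * F q * r⁻¹ = F (om q)) ∧
      ∀ c, c * F t = F t * c → ∃ o ∈ Cfsg.centralizerPPrimeCore 2 (F t), ∃ x, ∃ m < 3, c = o * F x * r ^ m := by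
  set O := Cfsg.centralizerPPrimeCore 2 (F t) with hO
  have htF : ∀ q, F q * F t = F t * F q := fun q => by rw [← map_mul, ← map_mul, t_central]
  have htt : F t * F t = 1 := by rw [← map_mul, show t * t = 1 by decide +kernel, map_one]
  obtain ⟨n, hn, hact⟩ := hY1
  obtain ⟨x, hx, hr⟩ := exists_om (C.comm n hn.1) hact
  have hrt : (n * F x) * F t = F t * (n * F x) := by
    rw [mul_assoc, htF, ← mul_assoc, C.comm n hn.1, mul_assoc]
  -- choose `r` with `r ^ 3 ∈ O`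
  obtain ⟨r, hrt, hr, hr3⟩ : ∃ r : G, r * F t = F t * r ∧ (∀ q, InR q → r * F q * r⁻¹ = F (om q)) ∧ r ^ 3 ∈ O := by
    set r := n * F x with hrdef
    have h3t : r ^ 3 * F t = F t * r ^ 3 := by
      have : Commute r (F t) := hrt
      exact (this.pow_left 3).eq
    rcases hSt.cen (r ^ 3) h3t (r_pow C hr) with h1 | h1
    · exact ⟨r, hrt, hr, h1⟩
    · refine ⟨F t * r, ?_, ?_, ?_⟩
      · rw [mul_assoc, hrt]
      · intro q hq
        have e : F t * r * F q * (F t * r)⁻¹ = F t * (r * F q * r⁻¹) * (F t)⁻¹ := by group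
        rw [e, hr q hq, ← htF, mul_inv_cancel_right]
      · have hc : Commute (F t) r := hrt.symm
        rw [hc.mul_pow]
        have : F t ^ 3 = F t := by rw [pow_succ, sq, htt, one_mul]
        rw [this]
        exact h1
  refine ⟨r, hrt, hr3, hr, ?_⟩
  have hpowt : ∀ j : ℕ, r ^ (j : ℕ) * F t = F t * r ^ (j : ℕ) := fun j => ((show Commute r (F t) from hrt).pow_left j).eq
  have hrK : r ∈ K := by
    have h1 : r ^ 3 ∈ K := O_le C hr3
    have h2 := sq_mem C hrt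
    have e : r = r ^ 3 * (r * r)⁻¹ := by rw [pow_succ, sq]; group
    rw [e]
    exact K.mul_mem h1 (K.inv_mem h2)
  -- elements of `N_K(R)`
  have key : ∀ n, NR F K n → ∃ o ∈ O, ∃ y, ∃ m < 3, n = o * F y * r ^ m := by
    intro n hn
    obtain ⟨m₁, m₂, ha⟩ := exists_act C hn
    have hsum := hY _ _ ⟨n, hn, ha⟩
    obtain ⟨j, hj⟩ : ∃ j : Fin 3, j + m₁ = 0 := by
      have : ∀ m : Fin 3, ∃ j : Fin 3, j + m = 0 := by decide
      exact this m₁
    have hj2 : 2 * j + m₂ = 0 := by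
      have : ∀ a b c : Fin 3, a + b = 0 → c + a = 0 → 2 * c + b = 0 := by decide
      exact this _ _ _ hsum hj
    have h1 := Act_mul C (C.comm n hn.1) ha (act_pow C hrt hr j)
    rw [hj, hj2] at h1
    have hnt : (n * r ^ (j : ℕ)) * F t = F t * (n * r ^ (j : ℕ)) := by
      rw [mul_assoc, hpowt, ← mul_assoc, C.comm n hn.1, mul_assoc]
    obtain ⟨w, hw, hin⟩ := exists_inner hnt h1
    have hgt : (n * r ^ (j : ℕ) * F w) * F t = F t * (n * r ^ (j : ℕ) * F w) := by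
      rw [mul_assoc, htF, ← mul_assoc, hnt, mul_assoc]
    have hcomm : ∀ q, InR q → n * r ^ (j : ℕ) * F w * F q = F q * (n * r ^ (j : ℕ) * F w) := by
      intro q hq
      calc n * r ^ (j : ℕ) * F w * F q = (n * r ^ (j : ℕ) * F w * F q * (n * r ^ (j : ℕ) * F w)⁻¹) * (n * r ^ (j : ℕ) * F w) := by group
        _ = F q * (n * r ^ (j : ℕ) * F w) := by rw [hin q hq]
    -- `r ^ (3 - j)`
    have hm : ∃ m < 3, ∃ o ∈ O, (r ^ (j : ℕ))⁻¹ = o * r ^ m := by
      fin_cases j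
      · exact ⟨0, by norm_num, 1, one_mem _, by simp⟩
      · refine ⟨2, by norm_num, (r ^ 3)⁻¹, inv_mem hr3, ?_⟩
        show (r ^ 1)⁻¹ = (r ^ 3)⁻¹ * r ^ 2
        group
      · refine ⟨1, by norm_num, (r ^ 3)⁻¹, inv_mem hr3, ?_⟩
        show (r ^ 2)⁻¹ = (r ^ 3)⁻¹ * r ^ 1
        group
    obtain ⟨m, hm3, o', ho', e'⟩ := hm
    -- `F w⁻¹` moved through
    have hfin : ∀ z o : G, (∃ y, z = F y) → o ∈ O → n * r ^ (j : ℕ) * F w = z * o → ∃ o ∈ O, ∃ y, ∃ m < 3, n = o * F y * r ^ m := by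
      rintro _ o ⟨y, rfl⟩ ho e
      have e1 : n = (F y * o * (F y)⁻¹) * F (y * w⁻¹) * (r ^ (j : ℕ))⁻¹ := by
        rw [map_mul, map_inv]
        calc n = (n * r ^ (j : ℕ) * F w) * (F w)⁻¹ * (r ^ (j : ℕ))⁻¹ := by group
          _ = F y * o * (F w)⁻¹ * (r ^ (j : ℕ))⁻¹ := by rw [e]
          _ = (F y * o * (F y)⁻¹) * (F y * (F w)⁻¹) * (r ^ (j : ℕ))⁻¹ := by group
      have h2 : F (y * w⁻¹) * o' * (F (y * w⁻¹))⁻¹ ∈ O := O_conj C (htF _) ho'
      refine ⟨(F y * o * (F y)⁻¹) * (F (y * w⁻¹) * o' * (F (y * w⁻¹))⁻¹), mul_mem (O_conj C (htF _) ho) h2,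
        y * w⁻¹, m, hm3, ?_⟩
      rw [e', ← mul_assoc] at e1
      calc n = F y * o * (F y)⁻¹ * F (y * w⁻¹) * o' * r ^ m := e1
        _ = _ := by group
    rcases hSt.cen _ hgt hcomm with h2 | h2
    · exact hfin 1 _ ⟨1, by rw [map_one]⟩ h2 (by rw [one_mul])
    · refine hfin (F t) _ ⟨t, rfl⟩ h2 ?_
      rw [← mul_assoc, htt, one_mul]
  intro c hc
  obtain ⟨o, ho, n, hn, e⟩ := hSt.gen c hc
  obtain ⟨o₁, ho₁, y, m, hm, e₁⟩ := key n hn
  rcases e with e | e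
  · refine ⟨o * o₁, mul_mem ho ho₁, y, m, hm, ?_⟩
    rw [e, e₁]; group
  · refine ⟨o * (F s * o₁ * (F s)⁻¹), mul_mem ho (O_conj C (st C) ho₁), s * y, m, hm, ?_⟩
    rw [e, e₁, map_mul]; group

end

end Cfsg.Agent.SylowSp4.TwoRho
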