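import Cfsg.Agent.SylowSp4.TwoP
import Cfsg.Agent.SylowSp4.TwoAut

/-!
# Fusion for the type `PSp₄(3)`: the conjugates of `t` in `A`

Let `J` be the set of all `a` with `t ~ ee a`.  If `J` is not empty then either `J = {a}` and `t` is not conjugate to
`s`, `t s`, or `J` has exactly two elements, `t` is conjugate to exactly one of `s`, `t s`, and `ee c` (`c ∉ J`) is
conjugate to the other one.
-/

set_option autoImplicit false

namespace Cfsg.Agent.SylowSp4.TwoX

open Subgroup Cfsg.Agent.SylowSp4.AltModel Cfsg.Agent.SylowSp4.TwoBase Cfsg.Agent.SylowSp4.TwoParity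
open Cfsg.Agent.SylowSp4.TwoP

instance : CommGroup Asub :=
  { (inferInstance : Group Asub) with mul_comm := fun x y => Subtype.ext (A_comm x y x.2 y.2) }
instance : DecidablePred (fun x => x ∈ Asub) := fun x => (inferInstance : Decidable (InA x))
instance : DecidablePred (· ∈ Asub) := fun x => (inferInstance : Decidable (InA x))

/-- the union of `{t}` and some orbits of `P` on `A` -/
def pred (j : Fin 3 → Bool) (b c : Bool) (x : M64) : Prop :=
  x = t ∨ (∃ a, j a = true ∧ (x = ee a ∨ x = t * ee a)) ∨ (b = true ∧ ∃ i : Fin 5, i ≠ 0 ∧ x = p i) ∨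
    (c = true ∧ ∃ i : Fin 5, i ≠ 0 ∧ x = t * p i)

instance (j : Fin 3 → Bool) (b c : Bool) : DecidablePred (pred j b c) := fun x => by unfold pred; infer_instance

theorem prod_pred : ∀ (j : Fin 3 → Bool) (b c : Bool),
    Subtype.val (∏ x ∈ (Finset.univ : Finset Asub).filter (fun x : Asub => pred j b c x.1), x) =
     if (xor (xor (xor (j 0) (j 1)) (j 2)) (xor b c)) then 1 else t := by decide +kernel

theorem prod_eq_t (j : Fin 3 → Bool) (b c : Bool) (h : xor (xor (xor (j 0) (j 1)) (j 2)) (xor b c) = false) :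
    ∏ x ∈ (Finset.univ : Finset Asub).filter (fun x : Asub => pred j b c x.1), x = ⟨t, A_t⟩ := by
  apply Subtype.ext
  rw [prod_pred, h]
  rfl

section

variable {G : Type*} [Group G] {F : M64 →* G}

/-- the automorphism of `A` induced by `n ∈ N(A)` -/
theorem exists_hom (hF : Function.Injective F) {n : G} (hn : NA F n) :
    ∃ α : Asub →* Asub, ∀ x : Asub, n * F x * n⁻¹ = F (α x) := by
  choose f hfA hf using hn
  refine ⟨{ toFun := fun x => ⟨f x x.2, hfA x x.2⟩
            map_one' := ?_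
            map_mul' := ?_ }, fun x => hf x x.2⟩
  · apply Subtype.ext
    apply hF
    show F (f 1 _) = F 1
    rw [← hf 1 A_one, map_one, mul_one, mul_inv_cancel]
  · intro x y
    apply Subtype.ext
    apply hF
    show F (f ((x : M64) * (y : M64)) (A_mul _ _ x.2 y.2)) = F (f (x : M64) x.2 * f (y : M64) y.2)
    have h1 := hf ((x : M64) * (y : M64)) (A_mul _ _ x.2 y.2)
    have h2 := conj_mul (hf (x : M64) x.2) (hf (y : M64) y.2)
    rw [← h1, h2]

end

section

variable {G : Type*} [Group G] [Finite G] {P : Sylow 2 G} {F : M64 →* G} (M : Mod (P : Subgroup G) F)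

include M

theorem class_iff (j : Fin 3 → Bool) (b c : Bool) (hj : ∀ a, j a = true ↔ IsConj (F t) (F (ee a)))
    (hb : b = true ↔ IsConj (F t) (F s)) (hc : c = true ↔ IsConj (F t) (F (t * s))) (x : M64) (hx : InA x) :
    IsConj (F t) (F x) ↔ pred j b c x := by
  constructor
  · intro h
    rcases A_cases x hx with rfl | ⟨i, rfl⟩ | ⟨a, rfl | rfl⟩ | ⟨i, hi, rfl⟩
    · exfalso
      rw [map_one] at h
      have h2 : F t = F 1 := by rw [map_one]; exact isConj_one_right.1 h.symm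
      exact TwoBase.t_ne_one (M.inj h2)
    · by_cases hi : i = 0
      · left; rw [hi]; rfl
      · right; right; left
        exact ⟨hb.2 (h.trans (isConj_F (p_conj i hi).1).symm), i, hi, rfl⟩
    · right; left
      exact ⟨a, (hj a).2 h, Or.inl rfl⟩
    · right; left
      exact ⟨a, (hj a).2 (h.trans (tee a).symm), Or.inr rfl⟩
    · right; right; right
      exact ⟨hc.2 (h.trans (isConj_F (p_conj i hi).2).symm), i, hi, rfl⟩
  · rintro (rfl | ⟨a, ha, rfl | rfl⟩ | ⟨hb', i, hi, rfl⟩ | ⟨hc', i, hi, rfl⟩)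
    · exact IsConj.refl _
    · exact (hj a).1 ha
    · exact ((hj a).1 ha).trans (tee a)
    · exact (hb.1 hb').trans (isConj_F (p_conj i hi).1)
    · exact (hc.1 hc').trans (isConj_F (p_conj i hi).2)

/-- the product of the conjugates of `t` in `A` is fixed by `N(A)` -/
theorem prod_fixed (j : Fin 3 → Bool) (b c : Bool) (hj : ∀ a, j a = true ↔ IsConj (F t) (F (ee a)))
    (hb : b = true ↔ IsConj (F t) (F s)) (hc : c = true ↔ IsConj (F t) (F (t * s)))
    (h : xor (xor (xor (j 0) (j 1)) (j 2)) (xor b c) = false) {n : G} (hn : NA F n) : n * F t * n⁻¹ = F t := by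
  classical
  obtain ⟨α, hα⟩ := exists_hom M.inj hn
  have hinj : Function.Injective α := by
    intro x y hxy
    have h1 := hα x
    rw [hxy, ← hα y] at h1
    exact Subtype.ext (M.inj (mul_left_cancel (mul_right_cancel h1)))
  set O := (Finset.univ : Finset Asub).filter (fun x : Asub => pred j b c x.1) with hO
  have hOα : O.image α = O := by
    apply Finset.eq_of_subset_of_card_le
    · intro y hy
      rw [Finset.mem_image] at hy
      obtain ⟨x, hx, rfl⟩ := hy
      rw [hO, Finset.mem_filter] at hx ⊢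
      refine ⟨Finset.mem_univ _, ?_⟩
      rw [← class_iff M j b c hj hb hc _ (α x).2]
      exact ((class_iff M j b c hj hb hc x x.2).2 hx.2).trans (isConj_iff.2 ⟨n, hα x⟩)
    · rw [Finset.card_image_of_injective _ hinj]
  have h1 : α (∏ x ∈ O, x) = ∏ x ∈ O, x := by
    rw [map_prod]
    calc ∏ x ∈ O, α x = ∏ x ∈ O.image α, x := (Finset.prod_image (f := fun x => x) (fun x _ y _ hxy => hinj hxy)).symm
      _ = ∏ x ∈ O, x := by rw [hOα]
  rw [prod_eq_t j b c h] at h1
  have h2 := hα ⟨t, A_t⟩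
  rw [h1] at h2
  exact h2

/-- elements of `N(A)` realising the fusion of `t` in `A` -/
theorem exists_to {x : M64} (hx : InA x) (h : IsConj (F t) (F x)) : ∃ n, NA F n ∧ n * F t * n⁻¹ = F x := by
  obtain ⟨g, hg⟩ := isConj_iff.1 h
  obtain ⟨n, -, h1, h2⟩ := exists_NA M ⊤ (fun _ _ => mem_top _) A_t hx (mem_top g) hg
  exact ⟨n, h1, h2⟩

/-- parity: `1 + |J| + ε` is even -/
theorem parity_J (j : Fin 3 → Bool) (b c : Bool) (hj : ∀ a, j a = true ↔ IsConj (F t) (F (ee a)))
    (hb : b = true ↔ IsConj (F t) (F s)) (hc : c = true ↔ IsConj (F t) (F (t * s))) {x : M64} (hx : InA x)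
    (hxt : x ≠ t) (h : IsConj (F t) (F x)) : xor (xor (xor (j 0) (j 1)) (j 2)) (xor b c) = true := by
  by_contra h1
  rw [Bool.not_eq_true] at h1
  obtain ⟨n, hn, h2⟩ := exists_to M hx h
  have h3 := prod_fixed M j b c hj hb hc h1 hn
  rw [h2] at h3
  exact hxt (M.inj h3)

/-- `t ~ s`, `t ~ t s` forces `t ~ ee b` for all `b` -/
theorem not_both (hs : IsConj (F t) (F s)) (hts : IsConj (F t) (F (t * s))) (b : Fin 3)
    (hb : ¬ IsConj (F t) (F (ee b))) : False := by
  obtain ⟨n, hn, hns⟩ := exists_to M A_s hs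
  have key : ∀ x : M64, InA x → ¬ IsConj (F t) (F x) → ∃ y, InR y ∧ n * F x * n⁻¹ = F y := by
    intro x hx hxt
    obtain ⟨y, hy, hxy⟩ := hn x hx
    have hc : IsConj (F x) (F y) := isConj_iff.2 ⟨n, hxy⟩
    refine ⟨y, ?_, hxy⟩
    rcases A_cases y hy with rfl | ⟨i, rfl⟩ | ⟨a, rfl | rfl⟩ | ⟨i, hi, rfl⟩
    · decide +kernel
    · exfalso
      apply hxt
      by_cases hi : i = 0
      · rw [hi] at hc; exact hc.symm
      · exact (hs.trans (isConj_F (p_conj i hi).1)).trans hc.symm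
    · exact R_ee a
    · exact R_tee a
    · exact absurd ((hts.trans (isConj_F (p_conj i hi).2)).trans hc.symm) hxt
  obtain ⟨y, hy, h1⟩ := key (ee b) (A_ee b) hb
  obtain ⟨y', hy', h2⟩ := key (t * ee b) (A_mul _ _ A_t (A_ee b)) (fun h => hb (h.trans (tee b).symm))
  have h3 := conj_mul h1 h2
  rw [ee_facts, hns] at h3
  have h4 := M.inj h3
  exact not_R_s (h4 ▸ R_mul y y' hy hy')

omit M in
theorem two_prod : ∀ c, ∀ y y' : M64, (y = ee c ∨ y = t * ee c) → (y' = ee c ∨ y' = t * ee c) → y * y' ≠ s := by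
  decide +kernel

/-- in the case `|J| = 2`, `t ~ s` the involutions `ee c`, `c ∉ J`, and `t s` are conjugate -/
theorem conj_ts (hs : IsConj (F t) (F s)) (c : Fin 3) (hc : ¬ IsConj (F t) (F (ee c)))
    (hb : ∀ b, b ≠ c → IsConj (F t) (F (ee b))) : IsConj (F (ee c)) (F (t * s)) := by
  obtain ⟨n, hn, hns⟩ := exists_to M A_s hs
  by_contra hcon
  have key : ∀ x : M64, InA x → IsConj (F (ee c)) (F x) → ∃ y, (y = ee c ∨ y = t * ee c) ∧ n * F x * n⁻¹ = F y := by
    intro x hx hxc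
    obtain ⟨y, hy, hxy⟩ := hn x hx
    have h1 : IsConj (F (ee c)) (F y) := hxc.trans (isConj_iff.2 ⟨n, hxy⟩)
    refine ⟨y, ?_, hxy⟩
    rcases A_cases y hy with rfl | ⟨i, rfl⟩ | ⟨a, ha⟩ | ⟨i, hi, rfl⟩
    · exfalso
      rw [map_one] at h1
      have h2 : F (ee c) = F 1 := by rw [map_one]; exact isConj_one_right.1 h1.symm
      exact ee_ne_one c (M.inj h2)
    · exfalso
      apply hc
      by_cases hi : i = 0
      · rw [hi] at h1; exact h1.symm
      · exact (hs.trans (isConj_F (p_conj i hi).1)).trans h1.symm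
    · have hac : a = c := by
        by_contra hac
        apply hc
        rcases ha with rfl | rfl
        · exact (hb a hac).trans h1.symm
        · exact ((hb a hac).trans (tee a)).trans h1.symm
      rw [← hac]; exact ha
    · exact absurd (h1.trans (isConj_F (p_conj i hi).2).symm) hcon
  obtain ⟨y, hy, h1⟩ := key (ee c) (A_ee c) (IsConj.refl _)
  obtain ⟨y', hy', h2⟩ := key (t * ee c) (A_mul _ _ A_t (A_ee c)) (tee c)
  have h3 := conj_mul h1 h2
  rw [ee_facts, hns] at h3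
  exact two_prod c y y' hy hy' (M.inj h3).symm

omit M in
theorem q1_facts : ∀ a, q1 a * ee a * (q1 a)⁻¹ = ee a ∧ q1 a * (t * ee a) * (q1 a)⁻¹ = t * ee a ∧
    q1 a * ee (a + 1) * (q1 a)⁻¹ = t * ee (a + 1) ∧ q1 a * s * (q1 a)⁻¹ = t * ee a * s ∧ q1 a ^ 4 = 1 ∧
    q1 a * t * (q1 a)⁻¹ = t := by decide +kernel

variable (hnf : ∀ c : G, c * F t = F t * c → ∀ x y : M64, x * x = 1 → ¬ InR x → InR y → c * F x * c⁻¹ ≠ F y)

include hnf

/-- not all `ee a` are conjugate to `t` if `s`, `t s` are not -/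
theorem not_D (hs : ¬ IsConj (F t) (F s)) (hts : ¬ IsConj (F t) (F (t * s)))
    (hJ : ∀ a, IsConj (F t) (F (ee a))) : False := by
  have hD : ∀ y : M64, InA y → IsConj (F t) (F y) → y = t ∨ ∃ a, y = ee a ∨ y = t * ee a := by
    intro y hy h
    rcases A_cases y hy with rfl | ⟨i, rfl⟩ | h1 | ⟨i, hi, rfl⟩
    · exfalso
      rw [map_one] at h
      have h2 : F t = F 1 := by rw [map_one]; exact isConj_one_right.1 h.symm
      exact TwoBase.t_ne_one (M.inj h2)
    · by_cases hi : i = 0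
      · left; rw [hi]; rfl
      · exact absurd (h.trans (isConj_F (p_conj i hi).1).symm) hs
    · exact Or.inr h1
    · exact absurd (h.trans (isConj_F (p_conj i hi).2).symm) hts
  obtain ⟨g, hg, hg0⟩ := exists_to M (A_ee 0) (hJ 0)
  obtain ⟨y0, hy0, hty⟩ := NA_inv hg t A_t
  have hy0' := conj_symm hty
  rw [inv_inv] at hy0'
  have hc0 : IsConj (F t) (F y0) := isConj_iff.2 ⟨_, hty⟩
  rcases hD y0 hy0 hc0 with rfl | ⟨a, ha⟩
  · rw [hg0] at hy0'
    exact ee_ne_t 0 (M.inj hy0')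
  obtain ⟨f1, f2, f3, -, -, f6⟩ := q1_facts a
  have hh : ∀ x x' y' : M64, g * F x' * g⁻¹ = F x → g * F (q1 a * x' * (q1 a)⁻¹) * g⁻¹ = F y' →
      (g * F (q1 a) * g⁻¹) * F x * (g * F (q1 a) * g⁻¹)⁻¹ = F y' := by
    intro x x' y' h1 h2
    rw [← h1, ← h2, map_mul, map_mul, map_inv]
    group
  set h := g * F (q1 a) * g⁻¹ with hhdef
  have hNA : NA F h := NA_mul (NA_mul hg (NA_F _)) (NA_inv hg)
  have hcomm : h * F t = F t * h := by
    have h1 : h * F t * h⁻¹ = F t := by
      apply hh t y0 t hy0'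
      have : q1 a * y0 * (q1 a)⁻¹ = y0 := by
        rcases ha with rfl | rfl
        · exact f1
        · exact f2
      rw [this]; exact hy0'
    calc h * F t = (h * F t * h⁻¹) * h := by group
      _ = F t * h := by rw [h1]
  have h0 : h * F (ee 0) * h⁻¹ = F (ee 0) := by
    apply hh (ee 0) t (ee 0) hg0
    rw [f6]; exact hg0
  have hNt := mem_Nt M hnf ⟨hNA, hcomm⟩ (a := 0) (Or.inl h0)
  obtain ⟨y, hy, hby⟩ := hg (ee (a + 1)) (A_ee _)
  have h1 : h * F y * h⁻¹ = F (ee 0 * y) := by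
    apply hh y (ee (a + 1)) _ hby
    rw [f3]; exact conj_mul hg0 hby
  have h2 : ee 0 * y = y ∨ ee 0 * y = t * y := by
    have hc : IsConj (F t) (F y) := (hJ (a + 1)).trans (isConj_iff.2 ⟨g, hby⟩)
    rcases hD y hy hc with rfl | ⟨c, rfl | rfl⟩
    · left
      rw [fix_t hcomm] at h1
      exact (M.inj h1).symm
    · rcases hNt.2 c with h3 | h3
      · left; rw [h3] at h1; exact (M.inj h1).symm
      · right; rw [h3] at h1; exact (M.inj h1).symm
    · rcases mo_t hcomm (hNt.2 c) with h3 | h3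
      · right; rw [h3] at h1
        rw [← mul_assoc, ← mul_assoc, tt, one_mul, mul_assoc]
        exact (M.inj h1).symm
      · left; rw [h3] at h1; exact (M.inj h1).symm
  rcases h2 with h2 | h2
  · exact ee_ne_one 0 (mul_eq_right.1 h2)
  · exact ee_ne_t 0 (mul_right_cancel h2)

omit M hnf in
theorem comm_D : ∀ σ z : M64, InA z → ¬ InA σ → (σ * z * σ⁻¹ = z ∨ σ * z * σ⁻¹ = t * z) → InR z := by
  decide +kernel

/-- `D_y = m D m⁻¹` contains all `x` with `[x, q1 b] ∈ {1, y}`, where `m t m⁻¹ = y = ± ee b` -/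
theorem mem_D {m : G} (hm : NA F m) {y : M64} {b : Fin 3} (hyb : y = ee b ∨ y = t * ee b)
    (hmy : m * F t * m⁻¹ = F y) {x z : M64} (hz : InA z) (hxz : m * F z * m⁻¹ = F x)
    (hx : q1 b * x * (q1 b)⁻¹ = x ∨ q1 b * x * (q1 b)⁻¹ = y * x) : InR z := by
  obtain ⟨f1, f2, -, f4, f5, -⟩ := q1_facts b
  set h := m⁻¹ * F (q1 b) * m with hh
  have hyq : q1 b * y * (q1 b)⁻¹ = y := by
    rcases hyb with rfl | rfl
    · exact f1
    · exact f2
  have hNA : NA F h := NA_mul (NA_mul (NA_inv hm) (NA_F _)) hm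
  have act : ∀ u u' v v' : M64, m * F u * m⁻¹ = F v → q1 b * v * (q1 b)⁻¹ = v' → m * F u' * m⁻¹ = F v' →
      h * F u * h⁻¹ = F u' := by
    intro u u' v v' h1 h2 h3
    have e1 : F u = m⁻¹ * F v * m := by rw [← h1]; group
    have e2 : F u' = m⁻¹ * F v' * m := by rw [← h3]; group
    rw [e1, e2, ← h2, map_mul, map_mul, map_inv, hh]
    group
  have hcomm : h * F t = F t * h := by
    have h1 : h * F t * h⁻¹ = F t := act t t y y hmy hyq hmy
    calc h * F t = (h * F t * h⁻¹) * h := by group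
      _ = F t * h := by rw [h1]
  have h4 : h ^ 2 ^ 2 = 1 := by
    have e : ∀ n : ℕ, h ^ n = m⁻¹ * F (q1 b ^ n) * m := by
      intro n
      induction n with
      | zero => rw [pow_zero, pow_zero, map_one]; group
      | succ n ih => rw [pow_succ, ih, pow_succ, map_mul, hh]; group
    rw [e, show (2 ^ 2 : ℕ) = 4 from rfl, f5, map_one]; group
  have hNt := two_elt M hnf (show h ∈ Kt F from ⟨hNA, hcomm⟩) h4
  obtain ⟨σ, hσ⟩ := parity M hnf hNA hcomm (a := b) (hNt.2 b)
  have hσA : ¬ InA σ := by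
    intro hA
    -- `h` acts trivially on `A`, hence so does `q1 b`
    obtain ⟨u, hu, hus⟩ := NA_inv hm s A_s
    have hus' := conj_symm hus
    rw [inv_inv] at hus'
    obtain ⟨u', hu', hus2⟩ := NA_inv hm (t * ee b * s) (A_mul _ _ (A_mul _ _ A_t (A_ee b)) A_s)
    have hus2' := conj_symm hus2
    rw [inv_inv] at hus2'
    have h5 := act u u' s _ hus' f4 hus2'
    rw [hσ u hu] at h5
    have h6 : σ * u * σ⁻¹ = u := by rw [A_comm σ u hA hu, mul_assoc, mul_inv_cancel, mul_one]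
    rw [h6] at h5
    rw [← M.inj h5, hus'] at hus2'
    have h7 : ∀ b, s ≠ t * ee b * s := by decide +kernel
    exact h7 b (M.inj hus2')
  apply comm_D σ z hz hσA
  rcases hx with hx | hx
  · left
    have h5 := act z z x x hxz hx hxz
    rw [hσ z hz] at h5
    exact M.inj h5
  · right
    have h5 := act z (t * z) x (y * x) hxz hx (conj_mul hmy hxz)
    rw [hσ z hz] at h5
    exact M.inj h5

/-- the relation `v ∈ D_w` is symmetric -/
theorem symm_D (hall : ∀ x, InA x → x ≠ 1 → IsConj (F t) (F x)) {g k : G} (hg : NA F g) (hk : NA F k)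
    {v w y : M64} (hv : g * F t * g⁻¹ = F v) (hw : k * F t * k⁻¹ = F w) (hy : InA y) (hyR : InR y)
    (hgy : g * F y * g⁻¹ = F w) {z : M64} (hz : InA z) (hkz : k * F z * k⁻¹ = F v) : InR z := by
  rcases D_cases y hy hyR with rfl | rfl | h1 | h1
  · exfalso
    rw [map_one, mul_one, mul_inv_cancel] at hgy
    have h2 : F t = F 1 := by
      rw [map_one]
      calc F t = k⁻¹ * (k * F t * k⁻¹) * k := by group
        _ = 1 := by rw [hw, ← hgy]; group
    exact TwoBase.t_ne_one (M.inj h2)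
  · rw [hgy] at hv
    rw [← hv, ← hw] at hkz
    have h2 : F z = F t := mul_left_cancel (mul_right_cancel hkz)
    rw [M.inj h2]
    exact R_t
  all_goals
    obtain ⟨m, hm, hmy⟩ := exists_to M hy (hall y hy (by
      rintro rfl
      rcases h1 with ⟨a, h1⟩
      revert h1
      revert a
      decide +kernel))
    obtain ⟨a, h1⟩ := h1
    obtain ⟨u, hu, hut⟩ := NA_inv hm t A_t
    have hut' := conj_symm hut
    rw [inv_inv] at hut'
    have huR : InR u := mem_D M hnf hm (y := y) (b := a) (by tauto) hmy hu hut' (Or.inl (q1_facts a).2.2.2.2.2)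
    -- `κ = k⁻¹ g m`
    have hκ : k⁻¹ * g * m * F t = F t * (k⁻¹ * g * m) := by
      have e1 : k⁻¹ * g * m * F t * (k⁻¹ * g * m)⁻¹ = F t := by
        calc k⁻¹ * g * m * F t * (k⁻¹ * g * m)⁻¹ = k⁻¹ * (g * (m * F t * m⁻¹) * g⁻¹) * k := by group
          _ = k⁻¹ * (k * F t * k⁻¹) * k := by rw [hmy, hgy, hw]
          _ = F t := by group
      calc k⁻¹ * g * m * F t = (k⁻¹ * g * m * F t * (k⁻¹ * g * m)⁻¹) * (k⁻¹ * g * m) := by group
        _ = _ := by rw [e1]
    have hκNA : NA F (k⁻¹ * g * m) := NA_mul (NA_mul (NA_inv hk) hg) hm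
    apply (D_norm M hnf hκNA hκ (x := u) (y := z) hu ?_).1 huR
    calc k⁻¹ * g * m * F u * (k⁻¹ * g * m)⁻¹ = k⁻¹ * (g * (m * F u * m⁻¹) * g⁻¹) * k := by group
      _ = k⁻¹ * (k * F z * k⁻¹) * k := by rw [hut', hv, hkz]
      _ = F z := by group

omit M hnf in
theorem prod_tee : t * ee 0 * (t * ee 1) * (t * ee 2) = t := by decide +kernel

/-- not all involutions of `A` are conjugate -/
theorem not_all (hall : ∀ x, InA x → x ≠ 1 → IsConj (F t) (F x)) : False := by
  have hA : ∀ a, InA (t * ee a) := fun a => A_mul _ _ A_t (A_ee a)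
  obtain ⟨k, hk, hks⟩ := exists_to M A_s (hall s A_s (by decide +kernel))
  have key : ∀ a, ∃ z, InA z ∧ InR z ∧ k * F z * k⁻¹ = F (t * ee a) := by
    intro a
    obtain ⟨g, hg, hga⟩ := exists_to M (hA a) (hall _ (hA a) (tee_ne a).2)
    obtain ⟨y, hy, hys⟩ := NA_inv hg s A_s
    have hys' := conj_symm hys
    rw [inv_inv] at hys'
    have hyR : InR y := mem_D M hnf hg (y := t * ee a) (b := a) (Or.inr rfl) hga hy hys'
      (Or.inr (q1_facts a).2.2.2.1)
    obtain ⟨z, hz, hza⟩ := NA_inv hk (t * ee a) (hA a)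
    have hza' := conj_symm hza
    rw [inv_inv] at hza'
    exact ⟨z, hz, symm_D M hnf hall hg hk hga hks hy hyR hys' hz hza', hza'⟩
  obtain ⟨z0, hz0, hz0R, h0⟩ := key 0
  obtain ⟨z1, hz1, hz1R, h1⟩ := key 1
  obtain ⟨z2, hz2, hz2R, h2⟩ := key 2
  have h3 := conj_mul (conj_mul h0 h1) h2
  rw [prod_tee] at h3
  have h4 := symm_D M hnf hall hk NA_one hks (w := t) (by group) (A_mul _ _ (A_mul _ _ hz0 hz1) hz2)
    (R_mul _ _ (R_mul _ _ hz0R hz1R) hz2R) h3 A_s (by group)
  exact not_R_s h4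

set_option synthInstance.maxSize 2048 in
set_option synthInstance.maxHeartbeats 400000 in
omit M hnf in
theorem bool_main : ∀ (j : Fin 3 → Bool) (b c : Bool), xor (xor (xor (j 0) (j 1)) (j 2)) (xor b c) = true →
    (b = true → c = true → ∀ a, j a = true) → ¬ (b = false ∧ c = false ∧ ∀ a, j a = true) →
    ¬ (b = true ∧ c = true ∧ ∀ a, j a = true) → (∃ a, j a = true) →
    (∃ a, j a = true ∧ (∀ d, d ≠ a → j d = false) ∧ b = false ∧ c = false) ∨
    ∃ d, j d = false ∧ (∀ a, a ≠ d → j a = true) ∧ ((b = true ∧ c = false) ∨ (b = false ∧ c = true)) := by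
  decide +kernel

omit [Finite G] M hnf in
theorem not_isConj_iff {b : Bool} {q : Prop} (h : b = true ↔ q) : b = false ↔ ¬ q := by
  rw [← h, Bool.not_eq_true]

omit [Finite G] hnf in
theorem comp_sw : Mod (P : Subgroup G) (F.comp TwoAut.sw) := by
  refine ⟨M.inj.comp TwoAut.adm_sw.inj, ?_⟩
  rw [MonoidHom.range_comp, MonoidHom.range_eq_top.2 TwoAut.adm_sw.surj, ← MonoidHom.range_eq_map]
  exact M.range

/-- **The conjugates of `t` in `A`.** -/
theorem main (hJ : ∃ a, IsConj (F t) (F (ee a))) :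
    (∃ a, IsConj (F t) (F (ee a)) ∧ (∀ b, b ≠ a → ¬ IsConj (F t) (F (ee b))) ∧ ¬ IsConj (F t) (F s) ∧
      ¬ IsConj (F t) (F (t * s))) ∨
    ∃ c, ¬ IsConj (F t) (F (ee c)) ∧ (∀ b, b ≠ c → IsConj (F t) (F (ee b))) ∧
      ((IsConj (F t) (F s) ∧ ¬ IsConj (F t) (F (t * s)) ∧ IsConj (F (ee c)) (F (t * s))) ∨
        (IsConj (F t) (F (t * s)) ∧ ¬ IsConj (F t) (F s) ∧ IsConj (F (ee c)) (F s))) := by
  classical
  obtain ⟨j, hj⟩ : ∃ j : Fin 3 → Bool, ∀ a, j a = true ↔ IsConj (F t) (F (ee a)) :=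
    ⟨fun a => decide (IsConj (F t) (F (ee a))), fun a => decide_eq_true_iff⟩
  obtain ⟨b, hb⟩ : ∃ b : Bool, b = true ↔ IsConj (F t) (F s) := ⟨decide _, decide_eq_true_iff⟩
  obtain ⟨c, hc⟩ : ∃ c : Bool, c = true ↔ IsConj (F t) (F (t * s)) := ⟨decide _, decide_eq_true_iff⟩
  obtain ⟨a0, ha0⟩ := hJ
  have h1 := parity_J M j b c hj hb hc (A_ee a0) (ee_ne_t a0) ha0
  have g1 : b = true → c = true → ∀ a, j a = true := by
    intro h2 h3 a
    by_contra h4
    exact not_both M (hb.1 h2) (hc.1 h3) a (fun h5 => h4 ((hj a).2 h5))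
  have g2 : ¬ (b = false ∧ c = false ∧ ∀ a, j a = true) := by
    rintro ⟨h2, h3, h4⟩
    exact not_D M hnf ((not_isConj_iff hb).1 h2) ((not_isConj_iff hc).1 h3) (fun a => (hj a).1 (h4 a))
  have g3 : ¬ (b = true ∧ c = true ∧ ∀ a, j a = true) := by
    rintro ⟨h2, h3, h4⟩
    refine not_all M hnf ?_
    intro x hx hx1
    rcases A_cases x hx with rfl | ⟨i, rfl⟩ | ⟨a, rfl | rfl⟩ | ⟨i, hi, rfl⟩
    · exact absurd rfl hx1
    · by_cases hi : i = 0
      · rw [hi]; exact IsConj.refl _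
      · exact (hb.1 h2).trans (isConj_F (p_conj i hi).1)
    · exact (hj a).1 (h4 a)
    · exact ((hj a).1 (h4 a)).trans (tee a)
    · exact (hc.1 h3).trans (isConj_F (p_conj i hi).2)
  rcases bool_main j b c h1 g1 g2 g3 ⟨a0, (hj a0).2 ha0⟩ with ⟨a, h2, h3, h4, h5⟩ | ⟨d, h2, h3, h4⟩
  · left
    exact ⟨a, (hj a).1 h2, fun d hd => (not_isConj_iff (hj d)).1 (h3 d hd), (not_isConj_iff hb).1 h4,
      (not_isConj_iff hc).1 h5⟩
  · right
    have h5 : ¬ IsConj (F t) (F (ee d)) := (not_isConj_iff (hj d)).1 h2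
    have h6 : ∀ a, a ≠ d → IsConj (F t) (F (ee a)) := fun a ha => (hj a).1 (h3 a ha)
    refine ⟨d, h5, h6, ?_⟩
    rcases h4 with ⟨h7, h8⟩ | ⟨h7, h8⟩
    · left
      exact ⟨hb.1 h7, (not_isConj_iff hc).1 h8, conj_ts M (hb.1 h7) d h5 h6⟩
    · right
      refine ⟨hc.1 h8, (not_isConj_iff hb).1 h7, ?_⟩
      have e1 : TwoAut.sw t = t := by decide +kernel
      have e2 : ∀ a, TwoAut.sw (ee a) = ee a := by decide +kernel
      have e3 : TwoAut.sw s = t * s := by decide +kernel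
      have e4 : TwoAut.sw (t * s) = s := by decide +kernel
      have h9 := conj_ts (comp_sw M) (by
        rw [MonoidHom.comp_apply, MonoidHom.comp_apply, e1, e3]; exact hc.1 h8) d (by
        rw [MonoidHom.comp_apply, MonoidHom.comp_apply, e1, e2]; exact h5) (by
        intro a ha
        rw [MonoidHom.comp_apply, MonoidHom.comp_apply, e1, e2]; exact h6 a ha)
      rw [MonoidHom.comp_apply, MonoidHom.comp_apply, e2, e4] at h9
      exact h9

end

end Cfsg.Agent.SylowSp4.TwoX
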