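import Cfsg.Agent.SylowSp4.TwoAut
import Cfsg.Agent.Lib.SylowNormalInf

/-!
# Type `PSp₄(3)`: the action of `N_K(R)` on `R`

`RF` is a Sylow 2-subgroup of `K`, `R/⟨t⟩` is abelian and `x ~ t x` in `R`, so `N_K(R)` controls the `K`-fusion in `R`
(`exists_NR`).  The elements of `N_K(R)` rotate the three subgroups of order 4 of each factor (`exists_act`):
`Act F n m₁ m₂`.  `Y F K m₁ m₂` : some element of `N_K(R)` acts as `(m₁, m₂)`.  `Y` is trivial, diagonal, antidiagonal or
everything (`Y_cases`).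
-/

set_option autoImplicit false

namespace Cfsg.Agent.SylowSp4.TwoY

open Subgroup Cfsg.Agent.SylowSp4.AltModel Cfsg.Agent.SylowSp4.TwoBase Cfsg.Agent.SylowSp4.TwoCtx
open Cfsg.Agent.Lib.GoldschmidtFusion

set_option linter.unusedSectionVars false

/-! ### facts on the model -/

theorem R_mul : ∀ x y : M64, InR x → InR y → InR (x * y) := by decide +kernel
theorem R_one : InR 1 := by decide +kernel
theorem R_t : InR t := by decide +kernel
theorem R_inv : ∀ x : M64, InR x → InR x⁻¹ := by decide +kernel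
theorem R_q1 : ∀ l, InR (q1 l) := by decide +kernel
theorem R_q2 : ∀ l, InR (q2 l) := by decide +kernel
theorem Q1_q1 : ∀ l, InQ1 (q1 l) := by decide +kernel
theorem Q2_q2 : ∀ l, InQ2 (q2 l) := by decide +kernel
theorem q1_sq : ∀ l, q1 l * q1 l = t := by decide +kernel
theorem q2_sq : ∀ l, q2 l * q2 l = t := by decide +kernel
theorem Q1_cases : ∀ x, InQ1 x → x * x = t → ∃ l, x = q1 l ∨ x = t * q1 l := by decide +kernel
theorem Q2_cases : ∀ x, InQ2 x → x * x = t → ∃ l, x = q2 l ∨ x = t * q2 l := by decide +kernel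
theorem R_comm_mod : ∀ x y : M64, InR x → InR y → x * y * x⁻¹ = y ∨ x * y * x⁻¹ = t * y := by decide +kernel
theorem R_twist : ∀ y : M64, InR y → y = 1 ∨ y = t ∨ ∃ x, InR x ∧ x * (t * y) * x⁻¹ = y := by decide +kernel
theorem tt_mul : ∀ x : M64, t * (t * x) = x := by decide +kernel
theorem q1_inj : ∀ l l', q1 l = q1 l' ∨ q1 l = t * q1 l' → l = l' := by decide +kernel
theorem q2_inj : ∀ l l', q2 l = q2 l' ∨ q2 l = t * q2 l' → l = l' := by decide +kernel
theorem s_conj_q1 : ∀ l, s * q1 l * s⁻¹ = q2 l := by decide +kernel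
theorem s_conj_q2 : ∀ l, s * q2 l * s⁻¹ = q1 l := by decide +kernel
theorem R_conj_q1 : ∀ x, InR x → ∀ l, x * q1 l * x⁻¹ = q1 l ∨ x * q1 l * x⁻¹ = t * q1 l := by decide +kernel
theorem R_conj_q2 : ∀ x, InR x → ∀ l, x * q2 l * x⁻¹ = q2 l ∨ x * q2 l * x⁻¹ = t * q2 l := by decide +kernel
theorem card_R : Fintype.card {x : M64 // InR x} = 32 := by decide +kernel
theorem s_R : ¬ InR s := by decide +kernel
theorem R_or : ∀ x, InR x ∨ InR (x * s) := by decide +kernel

/-- the subgroup `R` of the model -/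
def Rsub : Subgroup M64 where
  carrier := {x | InR x}
  mul_mem' {x y} hx hy := R_mul x y hx hy
  one_mem' := R_one
  inv_mem' {x} hx := R_inv x hx

theorem mem_Rsub {x : M64} : x ∈ Rsub ↔ InR x := Iff.rfl

theorem card_Rsub : Nat.card Rsub = 32 := by
  rw [← card_R, ← Nat.card_eq_fintype_card]
  rfl

/-- a map of `Fin 3` with an odd power equal to the identity is a rotation -/
theorem rot (π : Fin 3 → Fin 3) {m : ℕ} (hm : Odd m) (h : ∀ l, π^[m] l = l) : ∃ k, ∀ l, π l = l + k := by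
  have hinj : Function.Injective π := by
    obtain ⟨n, rfl⟩ := hm
    intro a b hab
    have e : ∀ x, π^[2 * n + 1] x = π^[2 * n] (π x) := fun x => Function.iterate_succ_apply π (2 * n) x
    rw [← h a, ← h b, e, e, hab]
  have h1 : ∀ π : Fin 3 → Fin 3, (∀ a b, π a = π b → a = b) →
      (∃ k, ∀ l, π l = l + k) ∨ ∀ l, π (π l) = l := by decide
  rcases h1 π (fun a b hab => hinj hab) with h2 | h2
  · exact h2
  · obtain ⟨n, rfl⟩ := hm
    refine ⟨0, fun l => ?_⟩
    have h3 := h l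
    have e : ∀ x, π^[2 * n + 1] x = π^[2 * n] (π x) := fun x => Function.iterate_succ_apply π (2 * n) x
    rw [e, Function.iterate_mul] at h3
    have h4 : π^[2] = id := by
      funext x
      exact h2 x
    rw [h4, Function.iterate_id, id] at h3
    rw [h3, add_zero]

section

variable {G : Type*} [Group G] {P : Sylow 2 G} {F : M64 →* G} {K : Subgroup G} (C : Ctx P F K)

include C

theorem RF_le : Rsub.map F ≤ K := by
  rintro _ ⟨x, hx, rfl⟩
  exact (C.mem_iff x).2 hx

theorem RF_le_P : Rsub.map F ≤ (P : Subgroup G) := by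
  rintro _ ⟨x, hx, rfl⟩
  exact TwoBase.mem C.mod x

theorem card_RF : Nat.card (Rsub.map F) = 32 := by
  rw [Subgroup.card_map_of_injective C.mod.inj, card_Rsub]

theorem card_P : Nat.card (P : Subgroup G) = 64 := by
  rw [← C.mod.range, ← card_M64]
  have h1 : Nat.card F.range = Nat.card M64 :=
    Nat.card_congr (MonoidHom.ofInjective C.mod.inj).symm.toEquiv
  rw [h1, Nat.card_eq_fintype_card]

theorem isPGroup_RF : IsPGroup 2 (Rsub.map F) :=
  IsPGroup.of_card (n := 5) (by rw [card_RF C]; norm_num)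

theorem ne_t {x : M64} (h : x ≠ t) : F x ≠ F t := fun e => h (C.mod.inj e)

theorem conj_t {g : G} (hg : g ∈ K) : g * F t * g⁻¹ = F t := by rw [C.comm g hg, mul_inv_cancel_right]

theorem conj_eq {g : G} {x y : M64} (h : g * F x * g⁻¹ = F y) (h' : g * F t = F t * g) (b : Bool) :
    g * F ((if b then t else 1) * x) * g⁻¹ = F ((if b then t else 1) * y) := by
  cases b
  · simpa using h
  · simp only [if_true]
    rw [map_mul, map_mul, ← h, ← mul_assoc, h']
    group

end

section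

variable {G : Type*} [Group G] [Finite G] {P : Sylow 2 G} {F : M64 →* G} {K : Subgroup G} (C : Ctx P F K)

include C

/-- `R` is a Sylow 2-subgroup of `K` -/
theorem not_dvd_RF : ¬ 2 ∣ (Rsub.map F).relIndex K := by
  intro hd
  have hPC : (P : Subgroup G) ≤ centralizer ({F t} : Set G) := fun x hx =>
    mem_centralizer_singleton_iff.2 (TwoBase.t_comm C.mod hx)
  have hKC : K ≤ centralizer ({F t} : Set G) := fun x hx => mem_centralizer_singleton_iff.2 (C.comm x hx)
  have hsN : F s ∉ K := fun h => s_R ((C.mem_iff s).1 h)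
  have hK2 : K.relIndex (centralizer ({F t} : Set G)) = 2 := by
    rw [relIndex, index_eq_two_iff]
    refine ⟨⟨F s, hPC (TwoBase.mem C.mod s)⟩, ?_⟩
    rintro ⟨c, hc⟩
    rw [mem_subgroupOf, mem_subgroupOf]
    change Xor (c * F s ∈ K) (c ∈ K)
    rcases C.mem_or c (mem_centralizer_singleton_iff.1 hc) with h1 | h1
    · right
      refine ⟨h1, fun h2 => hsN ?_⟩
      have := K.mul_mem (K.inv_mem h1) h2
      rwa [inv_mul_cancel_left] at this
    · left
      refine ⟨h1, fun h2 => hsN ?_⟩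
      have := K.mul_mem (K.inv_mem h2) h1
      rwa [inv_mul_cancel_left] at this
  have h1 := relIndex_mul_relIndex (Rsub.map F) K _ (RF_le C) hKC
  have h2 := relIndex_mul_relIndex (Rsub.map F) (P : Subgroup G) _ (RF_le_P C) hPC
  have h4 : (Rsub.map F).relIndex (P : Subgroup G) = 2 := by
    have h5 := Cfsg.Agent.Lib.SylowNormalInf.card_mul_relIndex _ _ (RF_le_P C)
    rw [card_RF C, card_P C] at h5
    omega
  rw [hK2] at h1
  rw [h4, mul_comm] at h2
  have h3 : (Rsub.map F).relIndex K = (P : Subgroup G).relIndex (centralizer ({F t} : Set G)) := by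
    apply Nat.eq_of_mul_eq_mul_right (show 0 < 2 by norm_num)
    rw [h1, ← h2]
  apply P.not_dvd_index
  refine dvd_trans ?_ (relIndex_dvd_index_of_le hPC)
  rw [← h3]
  exact hd

omit [Finite G] in
theorem exists_of_RF {g : G} (hg : g ∈ Rsub.map F) : ∃ x, InR x ∧ F x = g := by
  obtain ⟨x, hx, rfl⟩ := hg
  exact ⟨x, hx, rfl⟩

end

/-- `n ∈ N_K(R)` -/
def NR {G : Type*} [Group G] (F : M64 →* G) (K : Subgroup G) (n : G) : Prop :=
  n ∈ K ∧ ∀ x, InR x → ∃ y, InR y ∧ n * F x * n⁻¹ = F y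

/-- `n` acts on the sets of subgroups of order 4 of the two factors as rotations by `m₁`, `m₂` -/
def Act {G : Type*} [Group G] (F : M64 →* G) (n : G) (m₁ m₂ : Fin 3) : Prop :=
  (∀ l, n * F (q1 l) * n⁻¹ = F (q1 (l + m₁)) ∨ n * F (q1 l) * n⁻¹ = F (t * q1 (l + m₁))) ∧
  ∀ l, n * F (q2 l) * n⁻¹ = F (q2 (l + m₂)) ∨ n * F (q2 l) * n⁻¹ = F (t * q2 (l + m₂))

/-- `(m₁, m₂)` is induced by `N_K(R)` -/
def Y {G : Type*} [Group G] (F : M64 →* G) (K : Subgroup G) (m₁ m₂ : Fin 3) : Prop :=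
  ∃ n, NR F K n ∧ Act F n m₁ m₂

section

variable {G : Type*} [Group G] [Finite G] {P : Sylow 2 G} {F : M64 →* G} {K : Subgroup G} (C : Ctx P F K)

include C

/-- the centralizer in `K` of `F y` modulo `t` -/
def Cmod (C : Ctx P F K) (y : M64) : Subgroup G where
  carrier := {g | g ∈ K ∧ (g * F y * g⁻¹ = F y ∨ g * F y * g⁻¹ = F (t * y))}
  one_mem' := ⟨K.one_mem, Or.inl (by simp)⟩
  mul_mem' := by
    rintro a b ⟨ha, ha'⟩ ⟨hb, hb'⟩
    refine ⟨K.mul_mem ha hb, ?_⟩
    have e : a * b * F y * (a * b)⁻¹ = a * (b * F y * b⁻¹) * a⁻¹ := by group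
    rw [e]
    have e2 : a * F (t * y) * a⁻¹ = F t * (a * F y * a⁻¹) := by
      rw [map_mul, ← mul_assoc, C.comm a ha]; group
    have e3 : F t * F (t * y) = F y := by rw [← map_mul, tt_mul]
    rcases hb' with h1 | h1 <;> rw [h1]
    · exact ha'
    · rw [e2]
      rcases ha' with h2 | h2 <;> rw [h2]
      · right; rw [map_mul]
      · left; exact e3
  inv_mem' := by
    rintro a ⟨ha, ha'⟩
    refine ⟨K.inv_mem ha, ?_⟩
    have e2 : a⁻¹ * F t * a = F t := by
      have := C.comm a ha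
      calc a⁻¹ * F t * a = a⁻¹ * (F t * a) := by group
        _ = a⁻¹ * (a * F t) := by rw [this]
        _ = F t := by group
    rcases ha' with h1 | h1
    · left
      have h2 : F y = a⁻¹ * (a * F y * a⁻¹) * a := by group
      rw [h1] at h2
      rw [inv_inv]
      exact h2.symm
    · right
      have h2 : F y = a⁻¹ * (a * F y * a⁻¹) * a := by group
      rw [h1, map_mul] at h2
      have h3 : a⁻¹ * (F t * F y) * a = (a⁻¹ * F t * a) * (a⁻¹ * F y * a) := by group
      rw [h3, e2] at h2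
      rw [inv_inv, map_mul]
      have h4 : F t * F t = 1 := by rw [← map_mul, show t * t = 1 by decide +kernel, map_one]
      calc a⁻¹ * F y * a = F t * F t * (a⁻¹ * F y * a) := by rw [h4, one_mul]
        _ = F t * (F t * (a⁻¹ * F y * a)) := by group
        _ = F t * F y := by rw [← h2]

/-- `N_K(R)` controls the `K`-fusion in `R` -/
theorem exists_NR {x y : M64} (hx : InR x) (hy : InR y) {g : G} (hg : g ∈ K) (h : g * F x * g⁻¹ = F y) :
    ∃ n, NR F K n ∧ n * F x * n⁻¹ = F y := by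
  have hp := isPGroup_RF C
  -- both `R` and `g R g⁻¹` lie in `Cmod y`
  have h0 : Rsub.map F ≤ Cmod C y := by
    rintro _ ⟨r, hr, rfl⟩
    refine ⟨(C.mem_iff r).2 hr, ?_⟩
    rw [← map_mul, ← map_inv, ← map_mul]
    rcases R_comm_mod r y hr hy with h1 | h1 <;> rw [h1]
    · exact Or.inl rfl
    · exact Or.inr rfl
  have h1 : (Rsub.map F).map (MulAut.conj g).toMonoidHom ≤ Cmod C y := by
    rintro _ ⟨_, ⟨r, hr, rfl⟩, rfl⟩
    change g * F r * g⁻¹ ∈ Cmod C y
    refine ⟨K.mul_mem (K.mul_mem hg ((C.mem_iff r).2 hr)) (K.inv_mem hg), ?_⟩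
    have e : g * F r * g⁻¹ * F y * (g * F r * g⁻¹)⁻¹ = g * (F r * F x * (F r)⁻¹) * g⁻¹ := by
      rw [← h]; group
    rw [e, ← map_mul, ← map_inv, ← map_mul]
    rcases R_comm_mod r x hr hx with h1 | h1 <;> rw [h1]
    · exact Or.inl h
    · right
      have := conj_eq C h (C.comm g hg) true
      simpa using this
  have hCK : Cmod C y ≤ K := fun c hc => hc.1
  have hi : ¬ 2 ∣ (Rsub.map F).relIndex (Cmod C y) := by
    intro hd
    apply not_dvd_RF C
    have := relIndex_mul_relIndex (Rsub.map F) (Cmod C y) K h0 hCK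
    rw [← this]
    exact hd.mul_right _
  obtain ⟨c, hc, hcR⟩ := exists_conj_le_in hp hi h1 (hp.map _)
  have hcg : ∀ r, InR r → ∃ r', InR r' ∧ c * g * F r * (c * g)⁻¹ = F r' := by
    intro r hr
    have h2 : c * (g * F r * g⁻¹) * c⁻¹ ∈ Rsub.map F := hcR ⟨g * F r * g⁻¹, ⟨F r, ⟨r, hr, rfl⟩, rfl⟩, rfl⟩
    obtain ⟨r', hr', e⟩ := exists_of_RF C h2
    exact ⟨r', hr', by rw [e]; group⟩
  have hcgK : c * g ∈ K := K.mul_mem hc.1 hg
  have e : c * g * F x * (c * g)⁻¹ = c * F y * c⁻¹ := by rw [← h]; group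
  rcases hc.2 with h2 | h2
  · exact ⟨c * g, ⟨hcgK, hcg⟩, by rw [e, h2]⟩
  · rcases R_twist y hy with h3 | h3 | ⟨z, hz, h3⟩
    · exfalso
      rw [h3, map_one, mul_one, mul_inv_cancel, mul_one] at h2
      exact t_ne_one (C.mod.inj (by rw [← h2, map_one]))
    · exfalso
      rw [h3, C.comm c hc.1, mul_inv_cancel_right] at h2
      have := C.mod.inj h2
      exact absurd this (by decide +kernel)
    · refine ⟨F z * (c * g), ⟨K.mul_mem ((C.mem_iff z).2 hz) hcgK, ?_⟩, ?_⟩
      · intro r hr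
        obtain ⟨r', hr', e'⟩ := hcg r hr
        refine ⟨z * r' * z⁻¹, R_mul _ _ (R_mul _ _ hz hr') (R_inv _ hz), ?_⟩
        rw [map_mul, map_mul, map_inv, ← e']
        group
      · have e2 : F z * (c * g) * F x * (F z * (c * g))⁻¹ = F z * (c * g * F x * (c * g)⁻¹) * (F z)⁻¹ := by group
        rw [e2, e, h2, ← map_inv, ← map_mul, ← map_mul, h3]

/-- an odd power of an element of `N_K(R)` lies in `R` -/
theorem exists_odd_pow {n : G} (hn : NR F K n) : ∃ m, Odd m ∧ ∃ r, InR r ∧ n ^ m = F r := by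
  set RF := Rsub.map F with hRF
  have hnN : n ∈ normalizer (RF : Set G) := by
    rw [mem_normalizer_iff_map_conj]
    apply map_conj_le_of_le_normalizer
    rintro _ ⟨_, ⟨r, hr, rfl⟩, rfl⟩
    obtain ⟨y, hy, e⟩ := hn.2 r hr
    exact ⟨y, hy, e.symm⟩
  -- the index of `R` in `N_K(R)`
  set N := normalizer (RF : Set G) ⊓ K with hN
  have hRN : RF ≤ N := le_inf le_normalizer (RF_le C)
  have hodd : ¬ 2 ∣ RF.relIndex N := by
    intro hd
    apply not_dvd_RF C
    have := relIndex_mul_relIndex RF N K hRN inf_le_right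
    rw [← this]
    exact hd.mul_right _
  have hnorm : (RF.subgroupOf N).Normal := by
    refine ⟨?_⟩
    rintro ⟨r, hr⟩ hrR ⟨g, hg⟩
    rw [mem_subgroupOf] at hrR ⊢
    exact (mem_normalizer_iff.1 hg.1 r).1 hrR
  have h1 : (⟨n, hnN, hn.1⟩ : N) ^ (RF.subgroupOf N).index ∈ RF.subgroupOf N := Subgroup.pow_index_mem _ _
  refine ⟨RF.relIndex N, ?_, ?_⟩
  · rw [← Nat.not_even_iff_odd, even_iff_two_dvd]; exact hodd
  · obtain ⟨r, hr, e⟩ := exists_of_RF C (mem_subgroupOf.1 h1)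
    exact ⟨r, hr, by rw [e]; rfl⟩

omit [Finite G] in
theorem sq_conj {n : G} {x y : M64} (hn : n * F t = F t * n) (hx : x * x = t) (h : n * F x * n⁻¹ = F y) : y * y = t := by
  apply C.mod.inj
  rw [map_mul, ← h]
  calc n * F x * n⁻¹ * (n * F x * n⁻¹) = n * F (x * x) * n⁻¹ := by rw [map_mul]; group
    _ = F t := by rw [hx, hn, mul_inv_cancel_right]

omit [Finite G] in
theorem conj_t_mul {n : G} {x y : M64} (hn : n * F t = F t * n) (h : n * F x * n⁻¹ = F y) :
    n * F (t * x) * n⁻¹ = F (t * y) := by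
  rw [map_mul, map_mul, ← h, ← mul_assoc, hn]
  group

omit [Finite G] in
/-- from the action on representatives modulo `t` -/
theorem conj_mod {n : G} {x x' y : M64} (hn : n * F t = F t * n) (hx : x' = x ∨ x' = t * x)
    (h : n * F x * n⁻¹ = F y ∨ n * F x * n⁻¹ = F (t * y)) : n * F x' * n⁻¹ = F y ∨ n * F x' * n⁻¹ = F (t * y) := by
  rcases hx with rfl | rfl
  · exact h
  · rcases h with h | h
    · exact Or.inr (conj_t_mul C hn h)
    · left
      have := conj_t_mul C hn h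
      rwa [tt_mul] at this

/-- The elements of `N_K(R)` act as rotations. -/
theorem exists_act {n : G} (hn : NR F K n) : ∃ m₁ m₂, Act F n m₁ m₂ := by
  obtain ⟨m, hm, r, hr, hnm⟩ := exists_odd_pow C hn
  have hnt := C.comm n hn.1
  have h1 : ∀ l, ∃ l', n * F (q1 l) * n⁻¹ = F (q1 l') ∨ n * F (q1 l) * n⁻¹ = F (t * q1 l') := by
    intro l
    obtain ⟨y, -, hy⟩ := hn.2 _ (R_q1 l)
    obtain ⟨l', hl'⟩ := Q1_cases y (C.closed₁ n hn.1 _ _ (Q1_q1 l) hy) (sq_conj C hnt (q1_sq l) hy)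
    exact ⟨l', by rcases hl' with rfl | rfl; exacts [Or.inl hy, Or.inr hy]⟩
  have h2 : ∀ l, ∃ l', n * F (q2 l) * n⁻¹ = F (q2 l') ∨ n * F (q2 l) * n⁻¹ = F (t * q2 l') := by
    intro l
    obtain ⟨y, -, hy⟩ := hn.2 _ (R_q2 l)
    obtain ⟨l', hl'⟩ := Q2_cases y (C.closed₂ n hn.1 _ _ (Q2_q2 l) hy) (sq_conj C hnt (q2_sq l) hy)
    exact ⟨l', by rcases hl' with rfl | rfl; exacts [Or.inl hy, Or.inr hy]⟩
  choose π hπ using h1
  choose ρ hρ using h2
  have hit : ∀ (k : ℕ) (l : Fin 3), n ^ k * F (q1 l) * (n ^ k)⁻¹ = F (q1 (π^[k] l)) ∨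
      n ^ k * F (q1 l) * (n ^ k)⁻¹ = F (t * q1 (π^[k] l)) := by
    intro k
    induction k with
    | zero => intro l; left; simp
    | succ k ih =>
      intro l
      have e : n ^ (k + 1) * F (q1 l) * (n ^ (k + 1))⁻¹ = n * (n ^ k * F (q1 l) * (n ^ k)⁻¹) * n⁻¹ := by
        rw [pow_succ']; group
      rw [e, Function.iterate_succ_apply' π k]
      rcases ih l with h3 | h3 <;> rw [h3]
      · exact hπ _
      · exact conj_mod C hnt (Or.inr rfl) (hπ _)
  have hit2 : ∀ (k : ℕ) (l : Fin 3), n ^ k * F (q2 l) * (n ^ k)⁻¹ = F (q2 (ρ^[k] l)) ∨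
      n ^ k * F (q2 l) * (n ^ k)⁻¹ = F (t * q2 (ρ^[k] l)) := by
    intro k
    induction k with
    | zero => intro l; left; simp
    | succ k ih =>
      intro l
      have e : n ^ (k + 1) * F (q2 l) * (n ^ (k + 1))⁻¹ = n * (n ^ k * F (q2 l) * (n ^ k)⁻¹) * n⁻¹ := by
        rw [pow_succ']; group
      rw [e, Function.iterate_succ_apply' ρ k]
      rcases ih l with h3 | h3 <;> rw [h3]
      · exact hρ _
      · exact conj_mod C hnt (Or.inr rfl) (hρ _)
  have hid : ∀ l, π^[m] l = l := by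
    intro l
    have h3 := hit m l
    rw [hnm, ← map_inv, ← map_mul, ← map_mul] at h3
    apply q1_inj
    rcases h3 with h3 | h3 <;> have h4 := C.mod.inj h3 <;> rcases R_conj_q1 r hr l with h5 | h5 <;> rw [h5] at h4
    · exact Or.inl h4.symm
    · exact Or.inr h4.symm
    · right; rw [h4, tt_mul]
    · left; exact (mul_left_cancel h4).symm
  have hid2 : ∀ l, ρ^[m] l = l := by
    intro l
    have h3 := hit2 m l
    rw [hnm, ← map_inv, ← map_mul, ← map_mul] at h3
    apply q2_inj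
    rcases h3 with h3 | h3 <;> have h4 := C.mod.inj h3 <;> rcases R_conj_q2 r hr l with h5 | h5 <;> rw [h5] at h4
    · exact Or.inl h4.symm
    · exact Or.inr h4.symm
    · right; rw [h4, tt_mul]
    · left; exact (mul_left_cancel h4).symm
  obtain ⟨m₁, hm₁⟩ := rot π hm hid
  obtain ⟨m₂, hm₂⟩ := rot ρ hm hid2
  refine ⟨m₁, m₂, fun l => ?_, fun l => ?_⟩
  · rw [← hm₁]; exact hπ l
  · rw [← hm₂]; exact hρ l

omit [Finite G] in
theorem NR_one : NR F K 1 := ⟨K.one_mem, fun x hx => ⟨x, hx, by simp⟩⟩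

omit [Finite G] in
theorem NR_mul {n n' : G} (hn : NR F K n) (hn' : NR F K n') : NR F K (n * n') := by
  refine ⟨K.mul_mem hn.1 hn'.1, fun x hx => ?_⟩
  obtain ⟨y, hy, e⟩ := hn'.2 x hx
  obtain ⟨w, hw, e'⟩ := hn.2 y hy
  exact ⟨w, hw, by rw [← e', ← e]; group⟩

omit [Finite G] in
theorem NR_swap {n : G} (hn : NR F K n) : NR F K (F s * n * (F s)⁻¹) := by
  have hst : F s * F t = F t * F s := by rw [← map_mul, ← map_mul, t_central]
  refine ⟨C.normal _ hst _ hn.1, fun x hx => ?_⟩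
  have h1 : ∀ x, InR x → InR (s⁻¹ * x * s) := by decide +kernel
  have h2 : ∀ x, InR x → InR (s * x * s⁻¹) := by decide +kernel
  obtain ⟨y, hy, e⟩ := hn.2 _ (h1 x hx)
  refine ⟨_, h2 y hy, ?_⟩
  rw [map_mul, map_mul, map_inv, ← e, map_mul, map_mul, map_inv]
  group

omit [Finite G] in
theorem Act_mul {n n' : G} {m₁ m₂ k₁ k₂ : Fin 3} (hnt : n * F t = F t * n) (hn : Act F n m₁ m₂) (hn' : Act F n' k₁ k₂) :
    Act F (n * n') (k₁ + m₁) (k₂ + m₂) := by
  refine ⟨fun l => ?_, fun l => ?_⟩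
  · have e : n * n' * F (q1 l) * (n * n')⁻¹ = n * (n' * F (q1 l) * n'⁻¹) * n⁻¹ := by group
    rw [e, ← add_assoc]
    rcases hn'.1 l with h1 | h1 <;> rw [h1]
    · exact hn.1 _
    · exact conj_mod C hnt (Or.inr rfl) (hn.1 _)
  · have e : n * n' * F (q2 l) * (n * n')⁻¹ = n * (n' * F (q2 l) * n'⁻¹) * n⁻¹ := by group
    rw [e, ← add_assoc]
    rcases hn'.2 l with h1 | h1 <;> rw [h1]
    · exact hn.2 _
    · exact conj_mod C hnt (Or.inr rfl) (hn.2 _)

omit [Finite G] in
theorem Act_swap {n : G} {m₁ m₂ : Fin 3} (hn : Act F n m₁ m₂) : Act F (F s * n * (F s)⁻¹) m₂ m₁ := by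
  have hst : F s * F t = F t * F s := by rw [← map_mul, ← map_mul, t_central]
  have key : ∀ x y : M64, F s * F x * (F s)⁻¹ = F (s * x * s⁻¹) := fun x y => by rw [map_mul, map_mul, map_inv]
  refine ⟨fun l => ?_, fun l => ?_⟩
  · have e : F s * n * (F s)⁻¹ * F (q1 l) * (F s * n * (F s)⁻¹)⁻¹ = F s * (n * F (q2 l) * n⁻¹) * (F s)⁻¹ := by
      have h1 : F (q2 l) = (F s)⁻¹ * F (q1 l) * F s := by
        rw [← map_inv, ← map_mul, ← map_mul]
        congr 1
        revert l; decide +kernel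
      rw [h1]; group
    rw [e]
    rcases hn.2 l with h1 | h1 <;> rw [h1]
    · left; rw [key _ 1, s_conj_q2]
    · right
      rw [map_mul F t, ← mul_assoc, hst]
      have := key (q2 (l + m₂)) 1
      rw [s_conj_q2] at this
      rw [map_mul, ← this]; group
  · have e : F s * n * (F s)⁻¹ * F (q2 l) * (F s * n * (F s)⁻¹)⁻¹ = F s * (n * F (q1 l) * n⁻¹) * (F s)⁻¹ := by
      have h1 : F (q1 l) = (F s)⁻¹ * F (q2 l) * F s := by
        rw [← map_inv, ← map_mul, ← map_mul]
        congr 1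
        revert l; decide +kernel
      rw [h1]; group
    rw [e]
    rcases hn.1 l with h1 | h1 <;> rw [h1]
    · left; rw [key _ 1, s_conj_q1]
    · right
      rw [map_mul F t, ← mul_assoc, hst]
      have := key (q1 (l + m₁)) 1
      rw [s_conj_q1] at this
      rw [map_mul, ← this]; group

omit [Finite G] in
theorem Y_zero : Y F K 0 0 := by
  refine ⟨1, NR_one C, fun l => ?_, fun l => ?_⟩ <;> left <;> simp

omit [Finite G] in
theorem Y_add {m₁ m₂ k₁ k₂ : Fin 3} (h : Y F K m₁ m₂) (h' : Y F K k₁ k₂) : Y F K (m₁ + k₁) (m₂ + k₂) := by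
  obtain ⟨n, hn, ha⟩ := h
  obtain ⟨n', hn', ha'⟩ := h'
  exact ⟨n' * n, NR_mul C hn' hn, Act_mul C (C.comm _ hn'.1) ha' ha⟩

omit [Finite G] in
theorem Y_swap {m₁ m₂ : Fin 3} (h : Y F K m₁ m₂) : Y F K m₂ m₁ := by
  obtain ⟨n, hn, ha⟩ := h
  exact ⟨_, NR_swap C hn, Act_swap C ha⟩

omit [Finite G] in
/-- `Y` is trivial, diagonal, antidiagonal or everything. -/
theorem Y_cases : (∀ m₁ m₂, Y F K m₁ m₂ → m₁ = 0 ∧ m₂ = 0) ∨ (Y F K 1 1 ∧ ∀ m₁ m₂, Y F K m₁ m₂ → m₁ = m₂) ∨
    (Y F K 1 2 ∧ ∀ m₁ m₂, Y F K m₁ m₂ → m₁ + m₂ = 0) ∨ ∀ m₁ m₂, Y F K m₁ m₂ := by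
  classical
  have key : ∀ p : Fin 3 → Fin 3 → Bool, p 0 0 = true → (∀ a b c d, p a b = true → p c d = true → p (a + c) (b + d) = true) →
      (∀ a b, p a b = true → p b a = true) → ((∀ a b, p a b = true → a = 0 ∧ b = 0) ∨
        (p 1 1 = true ∧ ∀ a b, p a b = true → a = b) ∨ (p 1 2 = true ∧ ∀ a b, p a b = true → a + b = 0) ∨
          ∀ a b, p a b = true) := by
    intro p h0 hadd hsw
    by_cases h10 : p 1 0 = true
    · right; right; right
      have h01 := hsw _ _ h10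
      have h20 := hadd _ _ _ _ h10 h10
      have h02 := hadd _ _ _ _ h01 h01
      intro a b
      fin_cases a <;> fin_cases b
      · exact h0
      · exact h01
      · exact h02
      · exact h10
      · exact hadd _ _ _ _ h10 h01
      · exact hadd _ _ _ _ h10 h02
      · exact h20
      · exact hadd _ _ _ _ h20 h01
      · exact hadd _ _ _ _ h20 h02
    have h20 : ¬ p 2 0 = true := fun h => h10 (hadd _ _ _ _ h h)
    have h01 : ¬ p 0 1 = true := fun h => h10 (hsw _ _ h)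
    have h02 : ¬ p 0 2 = true := fun h => h20 (hsw _ _ h)
    by_cases h11 : p 1 1 = true
    · right; left
      have h12 : ¬ p 1 2 = true := fun h => h20 (hadd _ _ _ _ h11 h)
      have h21 : ¬ p 2 1 = true := fun h => h12 (hsw _ _ h)
      refine ⟨h11, fun a b => ?_⟩
      fin_cases a <;> fin_cases b <;> simp_all
    have h22 : ¬ p 2 2 = true := fun h => h11 (hadd _ _ _ _ h h)
    by_cases h12 : p 1 2 = true
    · right; right; left
      refine ⟨h12, fun a b => ?_⟩
      fin_cases a <;> fin_cases b <;> simp_all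
    have h21 : ¬ p 2 1 = true := fun h => h12 (hsw _ _ h)
    left
    intro a b
    fin_cases a <;> fin_cases b <;> simp_all
  have := key (fun a b => decide (Y F K a b)) (by simpa using Y_zero C)
    (by intro a b c d h1 h2; simpa using Y_add C (by simpa using h1) (by simpa using h2))
    (by intro a b h1; simpa using Y_swap C (by simpa using h1))
  simpa only [decide_eq_true_eq] using this

end

end Cfsg.Agent.SylowSp4.TwoY
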